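import Cfsg.Agent.Lib.SEBender.Outcome
import Cfsg.Agent.Lib.SEMain.Simple
import Cfsg.Agent.Lib.SU3Sylow.Embed
import Cfsg.Agent.Lib.Suzuki.Structure
import Cfsg.Agent.Lib.Suzuki.Minor
import Cfsg.Agent.Lib.Classical.TwoByTwo

/-!
# The orders and the involutions of the three Bender families
-/

set_option autoImplicit false
set_option linter.style.haveILetI false
set_option linter.unusedSectionVars false

namespace Cfsg.Agent.GoodInvol

open Subgroup

universe u v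

/-- `L` has field size `2 ^ r` and Sylow 2-subgroups of order `2 ^ (e * r)` with `2 ^ r` solutions of `x * x = 1`. -/
structure BenderParams (L : Type u) [Group L] (r e : ℕ) : Prop where
  two_le : 2 ≤ r
  dvd : (e = 1 ∧ Nat.card L ∣ 2 ^ r * (2 ^ (2 * r) - 1)) ∨
    (e = 2 ∧ Odd r ∧ Nat.card L ∣ (2 ^ r) ^ 2 * (((2 ^ r) ^ 2 + 1) * (2 ^ r - 1))) ∨
    (e = 3 ∧ Nat.card L ∣ (2 ^ r) ^ 3 * ((2 ^ (6 * r) - 1) * (2 ^ (2 * r) - 1)))
  sylow : ∀ P : Sylow 2 L, Nat.card P = 2 ^ (e * r) ∧ {x : L | x ∈ (P : Subgroup L) ∧ x * x = 1}.ncard = 2 ^ r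

theorem BenderParams.congr {L : Type u} {K : Type v} [Group L] [Group K] [Finite L] {r e : ℕ} (f : L ≃* K)
    (hK : BenderParams K r e) : BenderParams L r e where
  two_le := hK.two_le
  dvd := by rw [Nat.card_congr f.toEquiv]; exact hK.dvd
  sylow P := by
    obtain ⟨h1, h2⟩ := hK.sylow (P.mapSurjective (f := f.toMonoidHom) f.surjective)
    rw [show Nat.card (P.mapSurjective (f := f.toMonoidHom) f.surjective) = Nat.card P from
      card_map_of_injective f.injective] at h1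
    refine ⟨h1, ?_⟩
    rw [← h2, ← Set.ncard_image_of_injective _ f.injective]
    congr 1
    ext y
    constructor
    · rintro ⟨x, ⟨hxP, hx⟩, rfl⟩
      exact ⟨⟨x, hxP, rfl⟩, by rw [← map_mul, hx, map_one]⟩
    · rintro ⟨⟨x, hxP, rfl⟩, hx⟩
      exact ⟨x, ⟨hxP, f.injective ((map_mul f x x).trans (hx.trans (map_one f).symm))⟩, rfl⟩

theorem ncard_sq_eq_one {L : Type u} {H : Type v} [Group L] [Group H] (P : Subgroup L) (f : P ≃* H) :
    {x : L | x ∈ P ∧ x * x = 1}.ncard = {y : H | y * y = 1}.ncard := by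
  rw [← Set.ncard_image_of_injective {y : H | y * y = 1} (f := fun y => ((f.symm y : P) : L))
    (Subtype.val_injective.comp f.symm.injective)]
  congr 1
  ext x
  constructor
  · rintro ⟨hxP, hx⟩
    exact ⟨f ⟨x, hxP⟩, by show _ * _ = _; rw [← map_mul, show (⟨x, hxP⟩ : P) * ⟨x, hxP⟩ = 1 from Subtype.ext hx,
      map_one], congrArg Subtype.val (f.symm_apply_apply _)⟩
  · rintro ⟨y, hy, rfl⟩
    exact ⟨(f.symm y).2, congrArg Subtype.val (show f.symm y * f.symm y = 1 by rw [← map_mul, hy, map_one])⟩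

/-- The upper unitriangular matrices. -/
def upperHom (F : Type*) [Field F] : Multiplicative F →* Matrix.SpecialLinearGroup (Fin 2) F where
  toFun a := ⟨!![1, a.toAdd; 0, 1], by simp [Matrix.det_fin_two]⟩
  map_one' := by
    apply Subtype.ext
    ext i j
    fin_cases i <;> fin_cases j <;> simp
  map_mul' a b := by
    apply Subtype.ext
    show (!![1, (a * b).toAdd; 0, 1] : Matrix (Fin 2) (Fin 2) F) = !![1, a.toAdd; 0, 1] * !![1, b.toAdd; 0, 1]
    ext i j
    fin_cases i <;> fin_cases j <;> simp [Matrix.mul_apply, Fin.sum_univ_two, add_comm]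

theorem params_sl_two {F : Type} [Field F] [Fintype F] [CharP F 2] {r : ℕ} (hr : 2 ≤ r)
    (hF : Fintype.card F = 2 ^ r) : BenderParams (Matrix.SpecialLinearGroup (Fin 2) F) r 1 := by
  classical
  have hc : Nat.card (Matrix.SpecialLinearGroup (Fin 2) F) = 2 ^ r * ((2 ^ r) ^ 2 - 1) := by
    rw [TwoByTwo.card_sl_two, Nat.card_eq_fintype_card (α := F), hF]
  have hpow : 2 ^ (2 * r) = (2 ^ r) ^ 2 := by rw [← pow_mul, mul_comm]
  refine ⟨hr, Or.inl ⟨rfl, by rw [hc, hpow]⟩, fun P => ?_⟩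
  have hodd : Odd ((2 ^ r) ^ 2 - 1) := Nat.Even.sub_odd (Nat.one_le_pow _ _ (by positivity))
    (Nat.even_pow.2 ⟨Nat.even_pow.2 ⟨even_two, by omega⟩, two_ne_zero⟩) odd_one
  have hM : Nat.card (Multiplicative F) = 2 ^ r := by
    rw [Nat.card_congr Multiplicative.toAdd, Nat.card_eq_fintype_card, hF]
  obtain ⟨f⟩ := SU3Sylow.exists_equiv_sylow (upperHom F) (fun a b hab => Multiplicative.toAdd.injective (by
    exact congrFun (congrFun (congrArg Subtype.val hab) 0) 1)) hM hc hodd P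
  refine ⟨by rw [Nat.card_congr f.toEquiv, hM, one_mul], ?_⟩
  rw [ncard_sq_eq_one _ f, show {y : Multiplicative F | y * y = 1} = Set.univ from
    Set.eq_univ_iff_forall.2 fun y => CharTwo.add_self_eq_zero y.toAdd, Set.ncard_univ, hM]

theorem params_sz {F : Type} [Field F] [Fintype F] {m : ℕ} (h : Suzuki.SzField F m) :
    BenderParams (Cfsg.Sz F m) (2 * m + 1) 2 := by
  classical
  have h1 := h.one_le
  refine ⟨by omega, Or.inr (Or.inl ⟨rfl, ⟨m, rfl⟩, ?_⟩), fun P => ?_⟩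
  · rw [Suzuki.card_Sz h, mul_assoc]
  · obtain ⟨g, hg⟩ := Suzuki.exists_conj_sylow h P
    refine ⟨?_, ?_⟩
    · show Nat.card (P : Subgroup (Cfsg.Sz F m)) = _
      rw [hg, card_map_of_injective (MulEquiv.injective _), Suzuki.card_rootGroup, ← pow_mul]
      ring_nf
    · rw [← Suzuki.card_zGroup h,
        show Nat.card (Suzuki.zGroup h) = (Suzuki.zGroup h : Set (Cfsg.Sz F m)).ncard from Nat.card_coe_set_eq _,
        ← Set.ncard_image_of_injective (Suzuki.zGroup h : Set (Cfsg.Sz F m)) (MulAut.conj g).injective]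
      congr 1
      ext x
      constructor
      · rintro ⟨hxP, hx⟩
        rw [hg] at hxP
        obtain ⟨y, hy, rfl⟩ := hxP
        refine ⟨y, Suzuki.involution_in_rootGroup h hy ((MulAut.conj g).injective ?_), rfl⟩
        rw [map_mul, map_one]; exact hx
      · rintro ⟨y, hy, rfl⟩
        refine ⟨hg ▸ ⟨y, Suzuki.zGroup_le h hy, rfl⟩, ?_⟩
        obtain ⟨b, rfl⟩ := hy
        rw [← map_mul, Suzuki.T_sq, mul_zero, Suzuki.T_zero, map_one]

theorem params_psu {F : Type} [Field F] [Fintype F] {n : ℕ} (hn : 2 ≤ n)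
    (hF : Fintype.card F = (2 ^ n) ^ 2) : BenderParams (Cfsg.PSU 3 F (2 ^ n)) n 3 := by
  classical
  obtain ⟨_, σ, _, hne, hσ, hq⟩ := SU3Sylow.setup (by omega : 1 ≤ n) hF
  refine ⟨hn, Or.inr (Or.inr ⟨rfl, ?_⟩), fun P => ?_⟩
  · refine (Subgroup.card_quotient_dvd_card _).trans ?_
    rw [SU3Sylow.card_SU3 hne hσ hq, show 6 * n = n * 6 by ring, show 2 * n = n * 2 by ring, pow_mul, pow_mul,
      mul_comm (((2 : ℕ) ^ n) ^ 2 - 1)]
    generalize (2 : ℕ) ^ n = q
    refine mul_dvd_mul_left _ (mul_dvd_mul_right ?_ _)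
    rw [show q ^ 6 - 1 = (q ^ 3 + 1) * (q ^ 3 - 1) by
      rw [show q ^ 6 = (q ^ 3) ^ 2 by ring]; simpa using Nat.sq_sub_sq (q ^ 3) 1]
    exact dvd_mul_right _ _
  · obtain ⟨f⟩ := SU3Sylow.sylow_PSU_equiv hne (by omega) hσ hq P
    refine ⟨by rw [Nat.card_congr f.toEquiv, SU3Sylow.Heis.card_eq hne hq, ← pow_mul, mul_comm], ?_⟩
    rw [ncard_sq_eq_one _ f, ← hq]
    refine Eq.trans ?_ (Nat.card_coe_set_eq _).symm
    refine Set.ncard_congr (fun x _ => x.b)
      (fun x hx => SU3Sylow.Heis.b_fixed ((SU3Sylow.Heis.mul_self_eq_one_iff x).1 hx)) (fun x y hx hy e =>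
        SU3Sylow.Heis.ext (((SU3Sylow.Heis.mul_self_eq_one_iff x).1 hx).trans
          ((SU3Sylow.Heis.mul_self_eq_one_iff y).1 hy).symm) e)
      fun c hc => ⟨SU3Sylow.Heis.cen ⟨c, hc⟩, (SU3Sylow.Heis.mul_self_eq_one_iff _).2 rfl, rfl⟩

/-- Each Bender group has such parameters. -/
theorem exists_params {L : Type u} [Group L] [Finite L] (hL : SEBender.IsBender L) : ∃ r e, BenderParams L r e := by
  rcases hL with ⟨F, _, _, ⟨n, hn, hF⟩, ⟨f⟩⟩ | ⟨F, _, _, m, hm, hF, ⟨f⟩⟩ | ⟨F, _, _, n, hn, hF, ⟨f⟩⟩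
  · haveI : CharP F 2 := by
      haveI : Fact (Nat.Prime 2) := ⟨Nat.prime_two⟩
      exact charP_of_card_eq_prime_pow hF
    obtain ⟨g⟩ := SEMain.psl_equiv_sl (F := F)
    exact ⟨n, 1, (params_sl_two hn hF).congr (f.trans g)⟩
  · have h : Suzuki.SzField F m := ⟨hm, hF⟩
    exact ⟨2 * m + 1, 2, (params_sz h).congr (f.trans (Suzuki.minorEquiv h).symm)⟩
  · exact ⟨n, 3, (params_psu hn hF).congr f⟩

end Cfsg.Agent.GoodInvol
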