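import Cfsg.Agent.Lib.Involutions.Basic
import Cfsg.Agent.Lib.SEBrick.Basic
import Mathlib.GroupTheory.GroupAction.SubMulAction
import Mathlib.GroupTheory.QuotientGroup.Basic
import Mathlib.Algebra.BigOperators.Group.Finset.Basic
import Mathlib.Data.ZMod.Basic

/-!
# One-point involutions

A set `D` of involutions, each fixing at most one point, with commuting pairs having one-point products and
an odd number of members at each point. Members at different points have a product of odd order, so the
group they generate is transitive; the situation passes to centralisers and to quotients acting alike.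
-/

set_option autoImplicit false
set_option linter.style.haveILetI false
set_option linter.unusedSectionVars false

namespace Cfsg.Agent.GoodInvol

open Subgroup MulAction

universe u v

/-- A conjugation-invariant set of one-point involutions with one-point commuting products, odd at each
point. -/
structure Crit {G : Type u} [Group G] (D : Set G) (Ω : Type v) [MulAction G Ω] : Prop where
  invol : ∀ d ∈ D, orderOf d = 2
  conj : ∀ g : G, ∀ d ∈ D, g * d * g⁻¹ ∈ D
  unique : ∀ d ∈ D, ∀ x y : Ω, d • x = x → d • y = y → x = y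
  prod : ∀ d ∈ D, ∀ e ∈ D, d * e = e * d → d ≠ e →
    ∀ x y : Ω, (d * e) • x = x → (d * e) • y = y → x = y
  odd : ∀ x : Ω, Odd {d ∈ D | d • x = x}.ncard

/-- An involution without fixed points pairs off a finite set. -/
theorem even_ncard_of_invol {α : Type*} {s : Set α} (hs : s.Finite) (f : α → α) (hm : ∀ a ∈ s, f a ∈ s)
    (hi : ∀ a ∈ s, f (f a) = a) (hne : ∀ a ∈ s, f a ≠ a) : Even s.ncard := by
  classical
  rw [Set.ncard_eq_toFinset_card s hs, ← ZMod.natCast_eq_zero_iff_even,
    Finset.card_eq_sum_ones, Nat.cast_sum]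
  refine Finset.sum_involution (fun a _ => f a) (fun _ _ => by decide) (fun a ha _ => hne a ?_)
    (fun a ha => ?_) fun a ha => hi a ?_
  · exact hs.mem_toFinset.1 ha
  · exact hs.mem_toFinset.2 (hm a (hs.mem_toFinset.1 ha))
  · exact hs.mem_toFinset.1 ha

variable {G : Type u} [Group G] [Finite G] {D : Set G} {Ω : Type v} [MulAction G Ω]

/-- The half of an even product of two members is a product of two commuting members. -/
theorem Crit.half_split (h : Crit D Ω) {d e : G} (hd : d ∈ D) (he : e ∈ D) (hev : Even (orderOf (d * e))) :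
    ∃ w ∈ zpowers (d * e), orderOf w = 2 ∧ Commute w d ∧ Commute w e ∧ d * w ∈ D ∧ d * w ≠ d := by
  have hd2 := h.invol d hd
  have he2 := h.invol e he
  obtain ⟨hcd, hce⟩ := Invol.half_commute hd2 he2 hev
  refine ⟨_, pow_mem (mem_zpowers _) _, Invol.half_order hd2 he2 hev (orderOf_pos _), hcd, hce, ?_,
    (Invol.mul_half_spec hd2 he2 hev (orderOf_pos _)).2⟩
  by_cases h4 : 4 ∣ orderOf (d * e)
  · obtain ⟨g, -, hg⟩ := Invol.conj_mul_half_of_four_dvd hd2 he2 h4
    exact hg ▸ h.conj g d hd
  · obtain ⟨g, -, hg⟩ := Invol.conj_y_mul_half hd2 he2 hev h4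
    exact hg ▸ h.conj g e he

/-- The half of an even product of two members fixes one point at most. -/
theorem Crit.half_unique (h : Crit D Ω) {d w : G} (hd : d ∈ D) (hdw : d * w ∈ D) (hne : d * w ≠ d)
    (hc : Commute w d) {x y : Ω} (hx : w • x = x) (hy : w • y = y) : x = y := by
  have hcomm : d * (d * w) = d * w * d := by rw [mul_assoc, hc.eq]
  have hw : d * (d * w) = w := by rw [← mul_assoc, Invol.mul_self (h.invol d hd), one_mul]
  exact h.prod d hd (d * w) hdw hcomm hne.symm x y (hw.symm ▸ hx) (hw.symm ▸ hy)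

/-- Members at different points have a product of odd order. -/
theorem Crit.odd_product (h : Crit D Ω) {d e : G} (hd : d ∈ D) (he : e ∈ D) {x y : Ω} (hx : d • x = x)
    (hy : e • y = y) (hxy : x ≠ y) : Odd (orderOf (d * e)) := by
  rw [← Nat.not_even_iff_odd]
  intro hev
  obtain ⟨w, -, -, hcd, hce, hdw, hne⟩ := h.half_split hd he hev
  refine hxy (h.half_unique hd hdw hne hcd ?_ ?_)
  · exact h.unique d hd _ _ (by rw [← mul_smul, ← hcd.eq, mul_smul, hx]) hx
  · exact h.unique e he _ _ (by rw [← mul_smul, ← hce.eq, mul_smul, hy]) hy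

/-- Members at different points are conjugate in the subgroup they generate. -/
theorem Crit.exists_conj (h : Crit D Ω) {d e : G} (hd : d ∈ D) (he : e ∈ D) {x y : Ω} (hx : d • x = x)
    (hy : e • y = y) (hxy : x ≠ y) :
    ∃ g ∈ closure ({d, e} : Set G), g * d * g⁻¹ = e ∧ g • x = y := by
  obtain ⟨g, hg, hge⟩ := Invol.conj_of_odd (h.invol d hd) (h.invol e he) (h.odd_product hd he hx hy hxy)
  refine ⟨g, hg, hge, h.unique e he _ _ ?_ hy⟩
  rw [← hge, mul_smul, mul_smul, inv_smul_smul, hx]

theorem Crit.exists_at (h : Crit D Ω) (x : Ω) : ∃ d ∈ D, d • x = x :=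
  Set.nonempty_of_ncard_ne_zero (h.odd x).pos.ne'

/-- The group generated by `D` is transitive. -/
theorem Crit.exists_smul (h : Crit D Ω) (x y : Ω) : ∃ g ∈ closure D, g • x = y := by
  by_cases hxy : x = y
  · exact ⟨1, one_mem _, by rw [one_smul, hxy]⟩
  obtain ⟨d, hd, hdx⟩ := h.exists_at x
  obtain ⟨e, he, hey⟩ := h.exists_at y
  obtain ⟨g, hg, -, hgx⟩ := h.exists_conj hd he hdx hey hxy
  exact ⟨g, closure_mono (Set.insert_subset hd (Set.singleton_subset_iff.2 he)) hg, hgx⟩

/-- With a point there is an odd number of points, so every involution fixes one. -/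
theorem Crit.odd_card [Finite Ω] [Nonempty Ω] (h : Crit D Ω) : Odd (Nat.card Ω) := by
  classical
  obtain ⟨x⟩ := ‹Nonempty Ω›
  obtain ⟨d, hd, hdx⟩ := h.exists_at x
  have hp : ∀ y : Ω, d • d • y = y := fun y => by
    rw [← mul_smul, Invol.mul_self (h.invol d hd), one_smul]
  have hev := even_ncard_of_invol (s := ({x}ᶜ : Set Ω)) (Set.toFinite _) (fun y => d • y)
    (fun y hy e => hy (MulAction.injective d (e.trans hdx.symm))) (fun y _ => hp y)
    fun y hy e => hy (h.unique d hd y x e hdx)
  rw [← Set.ncard_add_ncard_compl ({x} : Set Ω), Set.ncard_singleton]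
  exact hev.one_add

/-- An even number of members is moved by an involution fixing the point, so one is fixed. -/
theorem Crit.odd_centralized (h : Crit D Ω) {u : G} (hu : orderOf u = 2) {x : Ω} (hx : u • x = x) :
    Odd {d ∈ D | d • x = x ∧ d * u = u * d}.ncard := by
  classical
  have hmap : ∀ d ∈ {d ∈ D | d • x = x}, u * d * u⁻¹ ∈ {d ∈ D | d • x = x} := fun d hd =>
    ⟨h.conj u d hd.1, by rw [mul_smul, mul_smul, inv_smul_eq_iff.2 hx.symm, hd.2, hx]⟩
  set A := {d ∈ D | d • x = x} with hA
  set B := {d ∈ D | d • x = x ∧ d * u = u * d} with hB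
  have hBA : B ⊆ A := fun d hd => ⟨hd.1, hd.2.1⟩
  have hev : Even (A \ B).ncard := by
    refine even_ncard_of_invol (Set.toFinite _) (fun d => u * d * u⁻¹) (fun d hd => ?_) (fun d _ => ?_)
      fun d hd e => hd.2 ⟨hd.1.1, hd.1.2, (mul_inv_eq_iff_eq_mul.1 e).symm⟩
    · refine ⟨hmap d hd.1, fun hb => hd.2 ⟨hd.1.1, hd.1.2, ?_⟩⟩
      have h1 := hb.2.2
      rw [inv_mul_cancel_right, ← mul_assoc, ← mul_assoc, Invol.mul_self hu, one_mul, Invol.inv_self hu] at h1
      exact h1.symm
    · show u * (u * d * u⁻¹) * u⁻¹ = d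
      rw [Invol.inv_self hu, ← mul_assoc, ← mul_assoc, Invol.mul_self hu, one_mul, mul_assoc,
        Invol.mul_self hu, mul_one]
  have hodd : Odd A.ncard := h.odd x
  rw [← Set.ncard_sdiff_add_ncard_of_subset hBA (Set.toFinite _)] at hodd
  exact (Nat.odd_add'.1 hodd).2 hev

/-- The points fixed by `u`, with its centraliser acting. -/
def fixSub (Ω : Type v) [MulAction G Ω] (u : G) : SubMulAction (centralizer ({u} : Set G)) Ω where
  carrier := {x | u • x = x}
  smul_mem' g x hx := by
    show u • (g : G) • x = (g : G) • x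
    rw [← mul_smul, ← mem_centralizer_singleton_iff.1 g.2, mul_smul, hx]

/-- The situation passes to the centraliser of an involution on its fixed points. -/
theorem Crit.centralizer (h : Crit D Ω) {u : G} (hu : orderOf u = 2) :
    Crit {d : Subgroup.centralizer ({u} : Set G) | (d : G) ∈ D} (fixSub Ω u) where
  invol d hd := by rw [← Subgroup.orderOf_coe]; exact h.invol _ hd
  conj g d hd := by
    show ((g * d * g⁻¹ : Subgroup.centralizer ({u} : Set G)) : G) ∈ D
    exact h.conj g _ hd
  unique d hd x y hx hy := Subtype.ext (h.unique _ hd _ _ (congrArg Subtype.val hx) (congrArg Subtype.val hy))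
  prod d hd e he hde hne x y hx hy := Subtype.ext (h.prod _ hd _ he (congrArg Subtype.val hde)
    (fun e' => hne (Subtype.ext e')) _ _ (congrArg Subtype.val hx) (congrArg Subtype.val hy))
  odd x := by
    have e : {d : Subgroup.centralizer ({u} : Set G) | (d : G) ∈ D ∧ d • x = x} =
        Subtype.val ⁻¹' {d ∈ D | d • (x : Ω) = x ∧ d * u = u * d} := by
      ext d
      exact ⟨fun hd => ⟨hd.1, congrArg Subtype.val hd.2, mem_centralizer_singleton_iff.1 d.2⟩,
        fun hd => ⟨hd.1, Subtype.ext hd.2.1⟩⟩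
    show Odd {d : Subgroup.centralizer ({u} : Set G) | (d : G) ∈ D ∧ d • x = x}.ncard
    rw [e, Set.ncard_preimage_of_injective_subset_range Subtype.val_injective
      (fun d hd => ⟨⟨d, mem_centralizer_singleton_iff.2 hd.2.2⟩, rfl⟩)]
    exact h.odd_centralized hu x.2

/-- The situation passes to a quotient by a subgroup acting trivially. -/
theorem Crit.quotient (h : Crit D Ω) (N : Subgroup G) [N.Normal] [MulAction (G ⧸ N) Ω]
    (hq : ∀ (g : G) (x : Ω), (g : G ⧸ N) • x = g • x) (h2 : ∃ x y : Ω, x ≠ y) :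
    Crit ((fun g : G => (g : G ⧸ N)) '' D) Ω := by
  have hN : ∀ g ∈ N, ∀ x : Ω, g • x = x := fun g hg x => by
    rw [← hq, (QuotientGroup.eq_one_iff g).2 hg, one_smul]
  have hgood : ∀ {d : G}, d ∈ D → d ∉ N := fun {d} hd hdN => by
    obtain ⟨x, y, hxy⟩ := h2
    exact hxy (h.unique d hd x y (hN d hdN x) (hN d hdN y))
  have hcong : ∀ {d e : G}, d ∈ D → e ∈ D → (d : G ⧸ N) = e → Odd (orderOf (d * e)) := by
    intro d e hd he hde
    rw [← Nat.not_even_iff_odd]
    intro hev
    obtain ⟨w, hw, -, hcd, -, hdw, hne⟩ := h.half_split hd he hev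
    obtain ⟨x, y, hxy⟩ := h2
    have hwN : w ∈ N := zpowers_le.2 (by
      have h1 := QuotientGroup.eq.1 hde
      rwa [Invol.inv_self (h.invol d hd)] at h1) hw
    exact hxy (h.half_unique hd hdw hne hcd (hN w hwN x) (hN w hwN y))
  refine ⟨?_, ?_, ?_, ?_, fun x => ?_⟩
  · rintro _ ⟨d, hd, rfl⟩
    exact Invol.order_two_of_sq (by
        rw [← QuotientGroup.mk_mul, Invol.mul_self (h.invol d hd), QuotientGroup.mk_one])
      fun e => hgood hd ((QuotientGroup.eq_one_iff d).1 e)
  · intro g
    induction g using QuotientGroup.induction_on with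
    | _ g => rintro _ ⟨d, hd, rfl⟩; exact ⟨_, h.conj g d hd, by simp⟩
  · rintro _ ⟨d, hd, rfl⟩ x y hx hy
    rw [hq] at hx hy
    exact h.unique d hd x y hx hy
  · rintro _ ⟨d, hd, rfl⟩ _ ⟨e, he, rfl⟩ hde hne x y hx hy
    have hd2 := h.invol d hd
    have he2 := h.invol e he
    have hev : Even (orderOf (d * e)) := by
      rw [← Nat.not_odd_iff_even]
      intro hodd
      obtain ⟨g, hg, hge⟩ := Invol.conj_of_odd hd2 he2 hodd
      refine hne ?_
      have h1 : ∀ k ∈ closure ({d, e} : Set G), ((k * d * k⁻¹ : G) : G ⧸ N) = d := by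
        intro k hk
        have hc : (k : G ⧸ N) * d = d * k := by
          induction hk using Subgroup.closure_induction with
          | mem z hz =>
            rcases hz with rfl | rfl
            · rfl
            · exact hde.symm
          | one => simp
          | mul a c _ _ ha hc => exact Commute.mul_left ha hc
          | inv a _ ha => exact Commute.inv_left ha
        rw [QuotientGroup.mk_mul, QuotientGroup.mk_mul, hc, QuotientGroup.mk_inv, mul_inv_cancel_right]
      show (d : G ⧸ N) = e
      rw [← h1 g hg, hge]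
    obtain ⟨w, hw, hw2, hcd, -, hdw, hne'⟩ := h.half_split hd he hev
    have hwde : (w : G ⧸ N) = ((d * e : G) : G ⧸ N) := by
      obtain ⟨i, rfl⟩ := mem_zpowers_iff.1 hw
      have h2' : ((d * e : G) : G ⧸ N) * (d * e : G) = 1 := by
        rw [QuotientGroup.mk_mul, mul_assoc, ← mul_assoc (e : G ⧸ N), ← hde, mul_assoc, ← mul_assoc (d : G ⧸ N),
          ← QuotientGroup.mk_mul, Invol.mul_self hd2, QuotientGroup.mk_one, one_mul, ← QuotientGroup.mk_mul,
          Invol.mul_self he2, QuotientGroup.mk_one]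
      rcases Int.even_or_odd i with ⟨j, rfl⟩ | ⟨j, rfl⟩
      · exfalso
        have h3 : (((d * e) ^ (j + j) : G) : G ⧸ N) = 1 := by
          rw [QuotientGroup.mk_zpow, zpow_add, ← Commute.mul_zpow (Commute.refl _), h2', one_zpow]
        obtain ⟨x', y', hxy'⟩ := h2
        exact hxy' (h.half_unique hd hdw hne' hcd (hN _ ((QuotientGroup.eq_one_iff _).1 h3) x')
          (hN _ ((QuotientGroup.eq_one_iff _).1 h3) y'))
      · rw [QuotientGroup.mk_zpow, zpow_add, two_mul, zpow_add, ← Commute.mul_zpow (Commute.refl _), h2',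
          one_zpow, one_mul, zpow_one]
    rw [← QuotientGroup.mk_mul, ← hwde, hq] at hx hy
    exact h.half_unique hd hdw hne' hcd hx hy
  · classical
    have hx := h.odd x
    set A := {d ∈ D | d • x = x}
    have e : {d ∈ (fun g : G => (g : G ⧸ N)) '' D | d • x = x} = (fun g : G => (g : G ⧸ N)) '' A := by
      ext z
      constructor
      · rintro ⟨⟨d, hd, rfl⟩, hz⟩
        exact ⟨d, ⟨hd, by rwa [hq] at hz⟩, rfl⟩
      · rintro ⟨d, hd, rfl⟩
        exact ⟨⟨d, hd.1, rfl⟩, by rw [hq]; exact hd.2⟩
    rw [e]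
    have hfib : ∀ d ∈ A, Odd {c ∈ A | (c : G ⧸ N) = d}.ncard := by
      intro d hd
      set B := {c ∈ A | (c : G ⧸ N) = d}
      have hd2 := h.invol d hd.1
      have hdB : d ∈ B := ⟨hd, rfl⟩
      rw [← Set.ncard_sdiff_singleton_add_one hdB (Set.toFinite _)]
      refine (even_ncard_of_invol (Set.toFinite _) (fun c => d * c * d⁻¹) (fun c hc => ?_)
        (fun c _ => ?_) fun c hc he => ?_).add_one
      · refine ⟨⟨⟨h.conj d c hc.1.1.1, by
          rw [mul_smul, mul_smul, inv_smul_eq_iff.2 hd.2.symm, hc.1.1.2, hd.2]⟩, ?_⟩, fun e' => hc.2 ?_⟩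
        · rw [QuotientGroup.mk_mul, QuotientGroup.mk_mul, hc.1.2, QuotientGroup.mk_inv, mul_inv_cancel_right]
        · exact mul_left_cancel ((mul_inv_eq_iff_eq_mul.1 e').trans (show d * d = d * d from rfl))
      · show d * (d * c * d⁻¹) * d⁻¹ = c
        rw [Invol.inv_self hd2, ← mul_assoc, ← mul_assoc, Invol.mul_self hd2, one_mul, mul_assoc,
          Invol.mul_self hd2, mul_one]
      · have hodd := hcong hd.1 hc.1.1.1 hc.1.2.symm
        have hcomm : d * c = c * d := mul_inv_eq_iff_eq_mul.1 he
        have h1 : d * c = 1 := Invol.eq_one_of_sq_of_odd hodd (by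
          rw [pow_two, mul_assoc, ← mul_assoc c, ← hcomm, mul_assoc, Invol.mul_self (h.invol c hc.1.1.1),
            mul_one, Invol.mul_self hd2])
        exact hc.2 (mul_left_cancel (h1.trans (Invol.mul_self hd2).symm))
    rw [← Nat.not_even_iff_odd] at hx ⊢
    intro hev
    refine hx ?_
    have hsum : A.toFinite.toFinset.card = ∑ z ∈ A.toFinite.toFinset.image (fun g : G => (g : G ⧸ N)),
        (A.toFinite.toFinset.filter fun c : G => (c : G ⧸ N) = z).card := by
      convert Finset.card_eq_sum_card_image (fun g : G => (g : G ⧸ N)) A.toFinite.toFinset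
    rw [Set.ncard_eq_toFinset_card A A.toFinite, hsum, Finset.even_sum_iff_even_card_odd,
      Finset.filter_true_of_mem fun z hz => ?_]
    · rw [← Set.ncard_coe_finset, Finset.coe_image, Set.Finite.coe_toFinset]
      exact hev
    · obtain ⟨d, hd, rfl⟩ := Finset.mem_image.1 hz
      have := hfib d (A.toFinite.mem_toFinset.1 hd)
      rw [← Set.ncard_coe_finset, Finset.coe_filter]
      simpa [Set.Finite.mem_toFinset] using this

end Cfsg.Agent.GoodInvol
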