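import Cfsg.Agent.Lib.GoodInvol.Basic
import Cfsg.Agent.Lib.BrauerSuzuki.ZStar
import Cfsg.Agent.Lib.Transfer.Basic

/-!
# Swappers

Two distinct points are swapped by exactly as many members as fix either of them; the products of two swappers
generate a group of odd order, normalised by the stabiliser of the pair and transitive on the members at one point.
-/

set_option autoImplicit false
set_option linter.style.haveILetI false
set_option linter.unusedSectionVars false

namespace Cfsg.Agent.GoodInvol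

open Subgroup MulAction

universe u v

variable {G : Type u} [Group G] {Ω : Type v} [MulAction G Ω] {D : Set G}

/-- The members at a point. -/
def dat (D : Set G) (x : Ω) : Set G := {d ∈ D | d • x = x}

/-- The members taking one point to another. -/
def swap (D : Set G) (x y : Ω) : Set G := {v ∈ D | v • x = y}

/-- The group generated by the products of two swappers of a pair. -/
def swapK (D : Set G) (x y : Ω) : Subgroup G :=
  closure {g | ∃ v ∈ swap D x y, ∃ v' ∈ swap D x y, g = v * v'}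

/-- The stabiliser of a pair as a set. -/
def pairSet (x y : Ω) : Subgroup G where
  carrier := {g | (g • x = x ∧ g • y = y) ∨ (g • x = y ∧ g • y = x)}
  one_mem' := Or.inl ⟨one_smul _ _, one_smul _ _⟩
  mul_mem' := fun {g h} hg hh => by
    rcases hg with ⟨g1, g2⟩ | ⟨g1, g2⟩ <;> rcases hh with ⟨h1, h2⟩ | ⟨h1, h2⟩ <;>
      simp [mul_smul, g1, g2, h1, h2]
  inv_mem' := fun {g} hg => by
    rcases hg with ⟨g1, g2⟩ | ⟨g1, g2⟩
    · exact Or.inl ⟨inv_smul_eq_iff.2 g1.symm, inv_smul_eq_iff.2 g2.symm⟩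
    · exact Or.inr ⟨inv_smul_eq_iff.2 g2.symm, inv_smul_eq_iff.2 g1.symm⟩

theorem stabilizer_le_pairSet (x y : Ω) : stabilizer G x ⊓ stabilizer G y ≤ pairSet x y := fun _ hg =>
  Or.inl ⟨(mem_inf.1 hg).1, (mem_inf.1 hg).2⟩

variable [Finite G]

namespace Crit

variable (h : Crit D Ω)
include h

theorem swap_back {v : G} {x y : Ω} (hv : v ∈ swap D x y) : v • y = x := by
  rw [← hv.2, ← mul_smul, Invol.mul_self (h.invol v hv.1), one_smul]

theorem swap_comm (x y : Ω) : swap D y x = swap D x y := by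
  ext v
  exact ⟨fun hv => ⟨hv.1, h.swap_back hv⟩, fun hv => ⟨hv.1, h.swap_back hv⟩⟩

theorem swap_subset_pairSet {x y : Ω} {v : G} (hv : v ∈ swap D x y) : v ∈ pairSet x y :=
  Or.inr ⟨hv.2, h.swap_back hv⟩

theorem mul_swap_fix {x y : Ω} {v v' : G} (hv : v ∈ swap D x y) (hv' : v' ∈ swap D x y) :
    (v * v') • x = x ∧ (v * v') • y = y := by
  refine ⟨?_, ?_⟩
  · rw [mul_smul, hv'.2, h.swap_back hv]
  · rw [mul_smul, h.swap_back hv', hv.2]

/-- A conjugate of a swapper by an element of the pair stabiliser is a swapper. -/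
theorem conj_swap {x y : Ω} {g v : G} (hg : g ∈ pairSet x y) (hv : v ∈ swap D x y) :
    g * v * g⁻¹ ∈ swap D x y := by
  refine ⟨h.conj g v hv.1, ?_⟩
  rcases hg with ⟨g1, g2⟩ | ⟨g1, g2⟩
  · rw [mul_smul, mul_smul, inv_smul_eq_iff.2 g1.symm, hv.2, g2]
  · rw [mul_smul, mul_smul, inv_smul_eq_iff.2 g2.symm, h.swap_back hv, g1]

/-- The product of two swappers has odd order. -/
theorem odd_mul_swap {x y : Ω} (hxy : x ≠ y) {v v' : G} (hv : v ∈ swap D x y) (hv' : v' ∈ swap D x y) :
    Odd (orderOf (v * v')) := by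
  rw [← Nat.not_even_iff_odd]
  intro hev
  obtain ⟨w, hw, -, hc, -, hdw, hne⟩ := h.half_split hv.1 hv'.1 hev
  obtain ⟨h1, h2⟩ := h.mul_swap_fix hv hv'
  have hle : zpowers (v * v') ≤ stabilizer G x ⊓ stabilizer G y :=
    zpowers_le.2 (mem_inf.2 ⟨mem_stabilizer_iff.2 h1, mem_stabilizer_iff.2 h2⟩)
  exact hxy (h.half_unique hv.1 hdw hne hc (mem_inf.1 (hle hw)).1 (mem_inf.1 (hle hw)).2)

/-- The product of two distinct swappers commutes with no member at the first point. -/
theorem not_commute_mul_swap {x y : Ω} (hxy : x ≠ y) {v v' d : G} (hv : v ∈ swap D x y) (hv' : v' ∈ swap D x y)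
    (hne : v ≠ v') (hd : d ∈ dat D x) : ¬ Commute d (v * v') := by
  intro hdk
  have h2v := h.invol v hv.1
  have h2v' := h.invol v' hv'.1
  set k := v * v' with hk
  have hsk : v * k * v⁻¹ = k⁻¹ := Invol.conj_mul h2v h2v'
  have hone : (v * d) * k * (v * d)⁻¹ = k⁻¹ := by
    rw [show v * d * k * (v * d)⁻¹ = v * (d * k * d⁻¹) * v⁻¹ by group, hdk.eq, mul_inv_cancel_right, hsk]
  have hpow : ∀ i : ℕ, (v * d) ^ (2 * i + 1) * k * ((v * d) ^ (2 * i + 1))⁻¹ = k⁻¹ := by
    intro i
    induction i with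
    | zero => simpa using hone
    | succ i ih =>
      rw [show 2 * (i + 1) + 1 = (2 * i + 1) + 1 + 1 by ring, pow_succ', pow_succ' _ (2 * i + 1)]
      generalize (v * d) ^ (2 * i + 1) = P at ih ⊢
      generalize v * d = s at hone ih ⊢
      calc _ = s * (s * (P * k * P⁻¹) * s⁻¹) * s⁻¹ := by group
        _ = s * (s * k * s⁻¹)⁻¹ * s⁻¹ := by rw [ih]; group
        _ = k⁻¹ := by rw [hone, inv_inv, hone]
  have hodd : Odd (orderOf (v * d)) := by
    by_cases hfix : ∃ c : Ω, v • c = c
    · obtain ⟨c, hc⟩ := hfix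
      exact h.odd_product hv.1 hd.1 hc hd.2 fun e => hxy (by rw [← hv.2, ← e, hc, e])
    · rw [← Nat.not_even_iff_odd]
      intro hev
      obtain ⟨w, -, -, hcv, hcd, hdw, hne'⟩ := h.half_split hv.1 hd.1 hev
      have hwx : w • x = x := h.unique d hd.1 _ _ (by rw [← mul_smul, ← hcd.eq, mul_smul, hd.2]) hd.2
      exact hxy (h.half_unique hv.1 hdw hne' hcv hwx
        (by rw [← hv.2, ← mul_smul, hcv.eq, mul_smul, hwx]))
  obtain ⟨n, hn⟩ := hodd
  have h1 := hpow n
  rw [← hn, pow_orderOf_eq_one, one_mul, inv_one, mul_one] at h1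
  have hk1 : k = 1 := Invol.eq_one_of_sq_of_odd (h.odd_mul_swap hxy hv hv')
    (by rw [pow_two]; nth_rw 2 [h1]; exact mul_inv_cancel k)
  exact hne (eq_of_mul_inv_eq_one (by rw [Invol.inv_self h2v']; exact hk1))

/-- The swapper is determined by the image of a member at the first point. -/
theorem swap_inj {x y : Ω} (hxy : x ≠ y) {v v' d : G} (hv : v ∈ swap D x y) (hv' : v' ∈ swap D x y)
    (hd : d ∈ dat D x) (he : v * d * v = v' * d * v') : v = v' := by
  by_contra hne
  refine h.not_commute_mul_swap hxy hv hv' hne hd ?_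
  show d * (v * v') = v * v' * d
  have hvv := Invol.mul_self (h.invol v hv.1)
  have hvv' := Invol.mul_self (h.invol v' hv'.1)
  calc d * (v * v') = v * v * d * v * v' := by rw [hvv]; group
    _ = v * (v * d * v) * v' := by group
    _ = v * v' * d * (v' * v') := by rw [he]; group
    _ = _ := by rw [hvv', mul_one]

/-- Members at two points are interchanged by a swapper in the group they generate. -/
theorem exists_between {x y : Ω} (hxy : x ≠ y) {d e : G} (hd : d ∈ dat D x) (he : e ∈ dat D y) :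
    ∃ v ∈ swap D x y, v * d * v = e ∧ v ∈ closure ({d, e} : Set G) := by
  have h2d := h.invol d hd.1
  have h2e := h.invol e he.1
  obtain ⟨m, hm⟩ := h.odd_product hd.1 he.1 hd.2 he.2 hxy
  set r := d * e with hr
  have hinv : d * r * d⁻¹ = r⁻¹ := Invol.conj_mul h2d h2e
  have hre : r ^ (2 * m) * d = e := by
    refine mul_left_cancel (a := r) ?_
    rw [← mul_assoc, ← pow_succ', show 2 * m + 1 = orderOf r from hm.symm, pow_orderOf_eq_one, one_mul, hr,
      mul_assoc, Invol.mul_self h2e, mul_one]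
  have hj : r ^ (2 * (m * (m + 1))) = r ^ m := by
    rw [show 2 * (m * (m + 1)) = (2 * m + 1) * m + m by ring, pow_add, pow_mul, ← hm, pow_orderOf_eq_one, one_pow,
      one_mul]
  have hw : r ^ m * d ∈ D := by
    have h1 := Invol.zpow_mul_conj hinv ((m * (m + 1) : ℕ) : ℤ)
    rw [show (2 : ℤ) * ((m * (m + 1) : ℕ) : ℤ) = ((2 * (m * (m + 1)) : ℕ) : ℤ) by push_cast; ring, zpow_natCast,
      zpow_natCast, hj] at h1
    exact h1 ▸ h.conj _ d hd.1
  have hwd : r ^ m * d * d * (r ^ m * d)⁻¹ = e := by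
    have h1 := Invol.zpow_mul_conj hinv ((m : ℕ) : ℤ)
    rw [show (2 : ℤ) * ((m : ℕ) : ℤ) = ((2 * m : ℕ) : ℤ) by push_cast; ring, zpow_natCast, zpow_natCast, hre] at h1
    rw [← h1]
    group
  have hdc : d ∈ closure ({d, e} : Set G) := subset_closure (Set.mem_insert _ _)
  have hec : e ∈ closure ({d, e} : Set G) := subset_closure (Set.mem_insert_of_mem _ rfl)
  refine ⟨r ^ m * d, ⟨hw, h.unique e he.1 _ _ ?_ he.2⟩, ?_, mul_mem (pow_mem (mul_mem hdc hec) m) hdc⟩
  · conv_lhs => rw [← hwd]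
    rw [← mul_smul, inv_mul_cancel_right, mul_smul, hd.2]
  · rwa [Invol.inv_self (h.invol _ hw)] at hwd

theorem conj_mem_dat {x y : Ω} {v d : G} (hv : v ∈ swap D x y) (hd : d ∈ dat D x) : v * d * v ∈ dat D y := by
  refine ⟨?_, by rw [mul_smul, mul_smul, h.swap_back hv, hd.2, hv.2]⟩
  have := h.conj v d hd.1
  rwa [Invol.inv_self (h.invol v hv.1)] at this

/-- A swapper lies in the group generated by a member at one point and its conjugate. -/
theorem swap_mem_closure {x y : Ω} (hxy : x ≠ y) {v d : G} (hv : v ∈ swap D x y) (hd : d ∈ dat D x) :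
    v ∈ closure ({d, v * d * v} : Set G) := by
  obtain ⟨w, hw, hwd, hc⟩ := h.exists_between hxy hd (h.conj_mem_dat hv hd)
  rwa [h.swap_inj hxy hw hv hd hwd] at hc

/-- Conjugating a member at the first point is a bijection from the swappers to the members at the second. -/
theorem bijOn_swap {x y : Ω} (hxy : x ≠ y) {d : G} (hd : d ∈ dat D x) :
    Set.BijOn (fun v => v * d * v) (swap D x y) (dat D y) := by
  refine ⟨fun v hv => h.conj_mem_dat hv hd, fun v hv v' hv' e => h.swap_inj hxy hv hv' hd e, fun e he => ?_⟩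
  obtain ⟨v, hv, hvd, -⟩ := h.exists_between hxy hd he
  exact ⟨v, hv, hvd⟩

theorem card_swap {x y : Ω} (hxy : x ≠ y) : (swap D x y).ncard = (dat D y).ncard := by
  obtain ⟨d, hd, hdx⟩ := h.exists_at x
  have hb := h.bijOn_swap hxy (d := d) ⟨hd, hdx⟩
  rw [← hb.image_eq, hb.injOn.ncard_image]

/-- All points have the same number of members. -/
theorem card_dat (x y : Ω) : (dat D x).ncard = (dat D y).ncard := by
  by_cases hxy : x = y
  · rw [hxy]
  · rw [← h.card_swap (Ne.symm hxy), h.swap_comm, h.card_swap hxy]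

theorem card_swap_eq {x y : Ω} (hxy : x ≠ y) (z : Ω) : (swap D x y).ncard = (dat D z).ncard := by
  rw [h.card_swap hxy, h.card_dat y z]

/-- The products of swappers fix both points. -/
theorem swapK_le (x y : Ω) : swapK D x y ≤ stabilizer G x ⊓ stabilizer G y := by
  refine (closure_le _).2 ?_
  rintro _ ⟨v, hv, v', hv', rfl⟩
  obtain ⟨h1, h2⟩ := h.mul_swap_fix hv hv'
  exact mem_inf.2 ⟨mem_stabilizer_iff.2 h1, mem_stabilizer_iff.2 h2⟩

/-- The stabiliser of the pair normalises the group of products. -/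
theorem pairSet_le_normalizer (x y : Ω) : pairSet x y ≤ normalizer (swapK D x y : Set G) := by
  intro g hg
  have key : ∀ g ∈ pairSet x y, ∀ a ∈ swapK D x y, g * a * g⁻¹ ∈ swapK D x y := by
    intro g hg
    have hle : swapK D x y ≤ (swapK D x y).comap (MulAut.conj g).toMonoidHom := by
      refine (closure_le _).2 ?_
      rintro _ ⟨v, hv, v', hv', rfl⟩
      exact subset_closure ⟨_, h.conj_swap hg hv, _, h.conj_swap hg hv', by simp [mul_assoc]⟩
    exact fun a ha => hle ha
  refine mem_normalizer_iff.2 fun a => ⟨key g hg a, fun ha => ?_⟩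
  have := key g⁻¹ (inv_mem hg) _ ha
  simpa [mul_assoc] using this

/-- The group of products is transitive on the members at a point of the pair. -/
theorem swapK_trans {x y : Ω} (hxy : x ≠ y) {d d' : G} (hd : d ∈ dat D x) (hd' : d' ∈ dat D x) :
    ∃ k ∈ swapK D x y, k * d * k⁻¹ = d' := by
  obtain ⟨e, he, hey⟩ := h.exists_at y
  obtain ⟨v, hv, h1, -⟩ := h.exists_between hxy hd ⟨he, hey⟩
  obtain ⟨w, hw, h2, -⟩ := h.exists_between hxy hd' ⟨he, hey⟩
  refine ⟨w * v, subset_closure ⟨w, hw, v, hv, rfl⟩, ?_⟩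
  have hvv := Invol.inv_self (h.invol v hv.1)
  have hww := Invol.inv_self (h.invol w hw.1)
  calc w * v * d * (w * v)⁻¹ = w * (v * d * v⁻¹) * w⁻¹ := by group
    _ = w * (w * d' * w) * w := by rw [hvv, h1, ← h2, hww]
    _ = (w * w) * d' * (w * w) := by group
    _ = d' := by rw [Invol.mul_self (h.invol w hw.1)]; group

/-- A swapper is isolated in the stabiliser of the pair. -/
theorem isolated_swap {x y : Ω} (hxy : x ≠ y) {v : G} (hv : v ∈ swap D x y) :
    Cfsg.IsIsolated (⟨v, h.swap_subset_pairSet hv⟩ : pairSet (G := G) x y) := fun g hc => by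
  by_contra hne
  have hr := h.conj_swap g.2 hv
  obtain ⟨h1, h2⟩ := h.mul_swap_fix hv hr
  exact hxy (h.prod v hv.1 _ hr.1 (congrArg Subtype.val hc.eq) (fun e => hne (Subtype.ext e.symm)) x y h1 h2)

/-- The products of swappers generate a group of odd order. -/
theorem swapK_odd {x y : Ω} (hxy : x ≠ y) : Odd (Nat.card (swapK D x y)) := by
  classical
  obtain ⟨d, hd, hdx⟩ := h.exists_at x
  obtain ⟨e, he, hey⟩ := h.exists_at y
  obtain ⟨v, hv, -, -⟩ := h.exists_between hxy (d := d) ⟨hd, hdx⟩ ⟨he, hey⟩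
  have hvo : orderOf (⟨v, h.swap_subset_pairSet hv⟩ : pairSet (G := G) x y) = 2 := by
    rw [← Subgroup.orderOf_coe]; exact h.invol v hv.1
  have hz := BrauerSuzuki.zStar _ _ hvo (h.isolated_swap hxy hv)
  set O : Subgroup G := (Cfsg.pPrimeCore 2 (pairSet (G := G) x y)).map (pairSet (G := G) x y).subtype with hO
  have hinO : ∀ w ∈ swap D x y, w * v ∈ O := by
    intro w hw
    obtain ⟨g, hg, hgv⟩ := Invol.conj_of_odd (h.invol v hv.1) (h.invol w hw.1) (h.odd_mul_swap hxy hv hw)
    have hgX : g ∈ pairSet (G := G) x y := (closure_le _).2 (by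
      rintro _ (rfl | rfl)
      exacts [h.swap_subset_pairSet hv, h.swap_subset_pairSet hw]) hg
    refine ⟨_, hz ⟨g, hgX⟩, ?_⟩
    simp [hgv, Invol.inv_self (h.invol v hv.1)]
  have hle : swapK D x y ≤ O := by
    refine (closure_le _).2 ?_
    rintro _ ⟨r, hr, w, hw, rfl⟩
    have h1 := mul_mem (hinO r hr) (inv_mem (hinO w hw))
    rwa [show r * v * (w * v)⁻¹ = r * w⁻¹ by group, Invol.inv_self (h.invol w hw.1)] at h1
  refine Odd.of_dvd_nat ?_ (card_dvd_of_le hle)
  rw [hO, card_map_of_injective (pairSet (G := G) x y).subtype_injective]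
  exact Nat.coprime_two_right.1 (PBasic.pPrimeCore_coprime 2 _)

end Crit

end Cfsg.Agent.GoodInvol
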