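import Mathlib.RingTheory.RootsOfUnity.EnoughRootsOfUnity
import Mathlib.RingTheory.RootsOfUnity.AlgebraicallyClosed
import Mathlib.GroupTheory.FiniteAbelian.Duality
import Mathlib.FieldTheory.IsAlgClosed.AlgebraicClosure
import Mathlib.Algebra.Module.ZMod
import Mathlib.GroupTheory.GroupAction.Basic
import Mathlib.LinearAlgebra.Dimension.Constructions
import Mathlib.LinearAlgebra.FiniteDimensional.Basic
import Mathlib.GroupTheory.Index
import Mathlib.Tactic

/-!
# Abelian groups and the fixed space of a large torus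

An abelian group of odd order normalised by a torus `K` stabilises the fixed space of `K`, as soon as every element of
`K` outside `K1` has no further fixed vector and the fixed space of `K1` is small against the index of `K1`.
-/

set_option autoImplicit false
set_option linter.style.haveILetI false
set_option linter.unusedSectionVars false

namespace Cfsg.Agent.GoodInvol.AbelianFix

open Subgroup

variable {G : Type*} [Group G] {X : Type*} [AddCommGroup X] [Finite X] [DistribMulAction G X]

/-- The field of values of the functionals. -/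
abbrev F : Type := AlgebraicClosure (ZMod 2)

theorem two_F (a : F) : a + a = 0 := CharTwo.add_self_eq_zero a

/-- An odd number is one in the field. -/
theorem odd_cast {n : ℕ} (hn : Odd n) : (n : F) = 1 := by
  obtain ⟨m, rfl⟩ := hn
  push_cast
  rw [two_mul, two_F, zero_add]

/-- The translate of a functional. -/
noncomputable def tw (a : G) (f : X →+ F) : X →+ F :=
  f.comp (DistribMulAction.toAddMonoidHom X a⁻¹)

@[simp] theorem tw_apply (a : G) (f : X →+ F) (x : X) : tw a f x = f (a⁻¹ • x) := rfl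

theorem tw_mul (a b : G) (f : X →+ F) : tw (a * b) f = tw a (tw b f) := by
  ext x; simp [mul_smul]

theorem tw_one (f : X →+ F) : tw (1 : G) f = f := by ext x; simp

theorem tw_sum (a : G) {ι : Type*} (s : Finset ι) (f : ι → X →+ F) :
    tw a (∑ i ∈ s, f i) = ∑ i ∈ s, tw a (f i) := by
  ext x; simp

theorem tw_smul (a : G) (c : F) (f : X →+ F) : tw a (c • f) = c • tw a f := by
  ext x; simp

theorem tw_injective (a : G) : Function.Injective (tw (X := X) a) := fun f g h => by
  rw [← tw_one (G := G) f, ← tw_one (G := G) g, ← inv_mul_cancel a, tw_mul, tw_mul, h]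

variable [Finite G] {P : Subgroup G}

/-- The component of a functional at a character. -/
noncomputable def comp (P : Subgroup G) [Fintype P] (χ : P →* Fˣ) (f : X →+ F) : X →+ F :=
  ∑ a : P, ((χ a)⁻¹ : Fˣ).val • tw (a : G) f

theorem tw_comp [Fintype P] (χ : P →* Fˣ) (f : X →+ F) (b : P) :
    tw (b : G) (comp P χ f) = ((χ b : Fˣ) : F) • comp P χ f := by
  rw [comp, tw_sum, Finset.smul_sum]
  refine Fintype.sum_equiv (Equiv.mulLeft b) _ _ fun a => ?_
  rw [tw_smul, ← tw_mul, Equiv.coe_mulLeft, smul_smul, map_mul, mul_inv_rev, Units.val_mul, mul_comm,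
    mul_assoc, ← Units.val_mul, inv_mul_cancel, Units.val_one, mul_one]
  rfl

variable [IsMulCommutative P]

theorem card_dual (hP : Odd (Nat.card P)) : Odd (Nat.card (P →* Fˣ)) ∧ ∀ a : P, a ≠ 1 → ∃ χ : P →* Fˣ, χ a ≠ 1 := by
  letI : CommGroup P := { mul_comm := fun a b => IsMulCommutative.is_comm.comm a b }
  haveI : NeZero (Monoid.exponent P : F) := ⟨by
    rw [odd_cast (Odd.of_dvd_nat hP Group.exponent_dvd_nat_card)]; exact one_ne_zero⟩
  haveI : HasEnoughRootsOfUnity F (Monoid.exponent P) := inferInstance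
  obtain ⟨e⟩ := CommGroup.monoidHom_mulEquiv_of_hasEnoughRootsOfUnity P F
  exact ⟨by rw [Nat.card_congr e.toEquiv]; exact hP,
    fun a ha => CommGroup.exists_apply_ne_one_of_hasEnoughRootsOfUnity P F ha⟩

/-- A functional is the sum of its components. -/
theorem sum_comp [Fintype P] (hP : Odd (Nat.card P)) [Fintype (P →* Fˣ)] (f : X →+ F) :
    ∑ χ : P →* Fˣ, comp P χ f = f := by
  classical
  obtain ⟨hodd, hsep⟩ := card_dual (P := P) hP
  have hsum : ∀ a : P, ∑ χ : P →* Fˣ, (((χ a)⁻¹ : Fˣ) : F) = if a = 1 then 1 else 0 := by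
    intro a
    split_ifs with ha
    · subst ha
      simp only [map_one, inv_one, Units.val_one, Finset.sum_const, Finset.card_univ, nsmul_eq_mul, mul_one]
      rw [← Nat.card_eq_fintype_card]
      exact odd_cast hodd
    · obtain ⟨χ0, h0⟩ := hsep a ha
      set S := ∑ χ : P →* Fˣ, (((χ a)⁻¹ : Fˣ) : F)
      have h1 : (((χ0 a)⁻¹ : Fˣ) : F) * S = S := by
        rw [Finset.mul_sum]
        refine Fintype.sum_equiv (Equiv.mulLeft χ0) _ _ fun χ => ?_
        simp [mul_comm]
      by_contra hS
      refine h0 (inv_eq_one.1 (Units.ext ?_))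
      exact mul_right_cancel₀ hS (h1.trans (one_mul S).symm)
  simp only [comp]
  rw [Finset.sum_comm]
  simp only [← Finset.sum_smul, hsum, ite_smul, one_smul, zero_smul, Finset.sum_ite_eq', Finset.mem_univ, if_true]
  exact tw_one f

/-- Components at different characters are independent. -/
theorem comp_indep [Fintype P] {s : ℕ} (χ : Fin s → (P →* Fˣ)) (hχ : Function.Injective χ) (v : Fin s → X →+ F)
    (hv : ∀ i, v i ≠ 0) (he : ∀ i (b : P), tw (b : G) (v i) = ((χ i b : Fˣ) : F) • v i) :
    LinearIndependent F v := by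
  classical
  let T : P → Module.End F (X →+ F) := fun b =>
    { toFun := tw (b : G)
      map_add' := fun f g => by ext x; simp
      map_smul' := fun c f => tw_smul _ c f }
  rw [Fintype.linearIndependent_iff]
  intro c hc
  suffices H : ∀ S : Finset (Fin s), ∑ i ∈ S, c i • v i = 0 → ∀ i ∈ S, c i = 0 from
    fun i => H Finset.univ hc i (Finset.mem_univ i)
  intro S
  clear hc
  induction S using Finset.strongInduction generalizing c with
  | H S ih =>
    intro hS i hi
    by_contra hci
    obtain ⟨j, hj, hji⟩ : ∃ j ∈ S, j ≠ i := by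
      by_contra hh
      push Not at hh
      rw [Finset.eq_singleton_iff_unique_mem.2 ⟨hi, hh⟩, Finset.sum_singleton] at hS
      exact (smul_eq_zero.1 hS).elim hci (hv i)
    obtain ⟨b, hb⟩ : ∃ b : P, χ j b ≠ χ i b := by
      by_contra hh
      push Not at hh
      exact hji (hχ (MonoidHom.ext hh))
    have h2 : ∑ k ∈ S.erase j, (c k * ((χ k b : F) - (χ j b : F))) • v k = 0 := by
      have h1 := congrArg (T b) hS
      rw [map_sum, map_zero] at h1
      simp only [map_smul, show ∀ k, T b (v k) = ((χ k b : Fˣ) : F) • v k from fun k => he k b] at h1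
      have h3 := congrArg (fun w => ((χ j b : Fˣ) : F) • w) hS
      simp only [Finset.smul_sum, smul_zero] at h3
      rw [Finset.sum_erase (a := j) (f := fun k => (c k * ((χ k b : F) - (χ j b : F))) • v k) S (by simp)]
      simp only [mul_sub, sub_smul, mul_smul, Finset.sum_sub_distrib]
      rw [h1]
      simp only [smul_comm (c _) ((χ j b : Fˣ) : F)]
      rw [h3, sub_zero]
    have := ih (S.erase j) (Finset.erase_ssubset hj) _ h2 i (Finset.mem_erase.2 ⟨Ne.symm hji, hi⟩)
    exact (mul_eq_zero.1 this).elim hci fun e => hb (Units.ext (sub_eq_zero.1 e).symm)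

variable {K K1 : Subgroup G}

/-- The average over an odd subgroup. -/
noncomputable def avg (K : Subgroup G) [Fintype K] (x : X) : X := ∑ k : K, (k : G) • x

theorem smul_avg [Fintype K] {k : G} (hk : k ∈ K) (x : X) : k • avg K x = avg K x := by
  rw [avg, Finset.smul_sum]
  exact Fintype.sum_equiv (Equiv.mulLeft ⟨k, hk⟩) _ _ fun a => (mul_smul _ _ _).symm

theorem apply_avg [Fintype K] (hK : Odd (Nat.card K)) {f : X →+ F} (hf : ∀ k ∈ K, tw k f = f) (x : X) :
    f (avg K x) = f x := by
  rw [avg, map_sum, Finset.sum_congr rfl (g := fun _ => f x) fun k _ => ?_, Finset.sum_const, Finset.card_univ,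
    nsmul_eq_mul, ← Nat.card_eq_fintype_card, odd_cast hK, one_mul]
  have h := congrArg (fun g : X →+ F => g x) (hf _ (inv_mem k.2))
  simpa using h

/-- An odd group has no more fixed functionals than fixed vectors. -/
theorem finrank_fixed (hX : ∀ x : X, x + x = 0) (hK1 : Odd (Nat.card K1)) {s n : ℕ}
    (hcard : Nat.card {x : X // ∀ k ∈ K1, k • x = x} < 2 ^ n) {v : Fin s → X →+ F}
    (hv : LinearIndependent F v) (hfix : ∀ i, ∀ k ∈ K1, tw k (v i) = v i) : s < n := by
  classical
  haveI : Fintype K1 := Fintype.ofFinite _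
  let C : AddSubgroup X :=
    { carrier := {x | ∀ k ∈ K1, k • x = x}
      zero_mem' := fun k _ => smul_zero k
      add_mem' := fun {a b} ha hb k hk => by rw [smul_add, ha k hk, hb k hk]
      neg_mem' := fun {a} ha k hk => by rw [smul_neg, ha k hk] }
  letI : Module (ZMod 2) C := AddCommGroup.zmodModule (n := 2) fun x => Subtype.ext (by
    simp [two_nsmul, hX])
  haveI : Module.Finite (ZMod 2) C := Module.Finite.of_finite
  let e := Module.finBasis (ZMod 2) C
  let R : (X →+ F) →ₗ[F] (Fin (Module.finrank (ZMod 2) C) → F) :=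
    { toFun := fun f i => f (e i : X)
      map_add' := fun _ _ => rfl
      map_smul' := fun _ _ => rfl }
  have hR : LinearIndependent F (R ∘ v) := by
    rw [Fintype.linearIndependent_iff] at hv ⊢
    intro c hc
    refine hv c ?_
    set f := ∑ i, c i • v i with hf
    have hff : ∀ k ∈ K1, tw k f = f := fun k hk => by
      rw [hf, tw_sum]
      exact Finset.sum_congr rfl fun i _ => by rw [tw_smul, hfix i k hk]
    have hzero : ∀ i, f (e i : X) = 0 := fun i => by
      have h1 := congrFun hc i
      simpa [hf, R] using h1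
    have hC : ∀ y : C, f (y : X) = 0 := by
      intro y
      have h2 : y ∈ Submodule.span (ZMod 2) (Set.range e) := by rw [e.span_eq]; trivial
      induction h2 using Submodule.span_induction with
      | mem z hz => obtain ⟨i, rfl⟩ := hz; exact hzero i
      | zero => simp
      | add a b _ _ ha hb => simp [ha, hb]
      | smul a z _ hz =>
        rcases (by decide : ∀ a : ZMod 2, a = 0 ∨ a = 1) a with rfl | rfl
        · simp
        · simpa using hz
    ext x
    rw [← apply_avg hK1 hff x]
    exact hC ⟨avg K1 x, fun k hk => smul_avg hk x⟩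
  have h3 := hR.fintype_card_le_finrank
  rw [Fintype.card_fin, Module.finrank_fin_fun] at h3
  have h4 : Nat.card C = 2 ^ Module.finrank (ZMod 2) C := by
    rw [Nat.card_congr e.equivFun.toEquiv, Nat.card_fun, Nat.card_zmod, Nat.card_fin]
  have h5 : Nat.card C < 2 ^ n := hcard
  rw [h4] at h5
  have := (Nat.pow_lt_pow_iff_right (by norm_num : 1 < 2)).1 h5
  omega

set_option maxHeartbeats 1000000 in
/-- The main lemma. -/
theorem stabilises (hX : ∀ x : X, x + x = 0) (hK : Odd (Nat.card K)) [IsMulCommutative K] (hK1 : K1 ≤ K)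
    (hcop : (Nat.card K1).Coprime (K1.relIndex K))
    (hfix : ∀ k ∈ K, k ∉ K1 → ∀ x : X, k • x = x → ∀ k' ∈ K, k' • x = x)
    (hsmall : Nat.card {x : X // ∀ k ∈ K1, k • x = x} < 2 ^ K1.relIndex K)
    (hP : Odd (Nat.card P)) (hPK : K ≤ normalizer (P : Set G))
    {a : G} (ha : a ∈ P) {j : X} (hj : ∀ k ∈ K, k • j = j) : ∀ k ∈ K, k • a • j = a • j := by
  classical
  set s := K1.relIndex K with hs
  haveI : Fintype K := Fintype.ofFinite _
  haveI : Fintype P := Fintype.ofFinite _
  haveI : Finite (P →* Fˣ) := Nat.finite_of_card_ne_zero (card_dual (P := P) hP).1.pos.ne'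
  haveI : Fintype (P →* Fˣ) := Fintype.ofFinite _
  have hcK : ∀ k ∈ K, ∀ l ∈ K, k * l = l * k := fun k hk l hl =>
    congrArg Subtype.val (IsMulCommutative.is_comm.comm (⟨k, hk⟩ : K) ⟨l, hl⟩)
  -- an element outside fixes no further functional
  have hdual : ∀ k ∈ K, k ∉ K1 → ∀ f : X →+ F, tw k f = f → ∀ l ∈ K, tw l f = f := by
    intro k hk hk1 f hf l hl
    haveI : Fintype (zpowers k) := Fintype.ofFinite _
    have hfz : ∀ b ∈ zpowers k, tw b f = f := by
      let St : Subgroup G :=
        { carrier := {b | tw b f = f}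
          one_mem' := tw_one f
          mul_mem' := fun {b c} hb hc => by show tw _ f = f; rw [tw_mul, hc, hb]
          inv_mem' := fun {b} hb => by
            show tw b⁻¹ f = f
            conv_lhs => rw [← (show tw b f = f from hb), ← tw_mul, inv_mul_cancel, tw_one] }
      exact fun b hb => (zpowers_le.2 (show k ∈ St from hf) : zpowers k ≤ St) hb
    have hodd : Odd (Nat.card (zpowers k)) := Odd.of_dvd_nat hK (card_dvd_of_le (zpowers_le.2 hk))
    ext x
    rw [tw_apply, ← apply_avg hodd hfz, ← apply_avg hodd hfz x]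
    congr 1
    have h1 : avg (zpowers k) (l⁻¹ • x) = l⁻¹ • avg (zpowers k) x := by
      rw [avg, avg, Finset.smul_sum]
      refine Finset.sum_congr rfl fun b _ => ?_
      rw [← mul_smul, ← mul_smul, hcK _ ((zpowers_le.2 hk) b.2) _ (inv_mem hl)]
    rw [h1]
    exact hfix k hk hk1 _ (smul_avg (mem_zpowers k) x) l⁻¹ (inv_mem hl)
  -- the action on characters
  let cj : K → P →* P := fun k => MonoidHom.mk' (fun b => ⟨(k : G)⁻¹ * b * k, by
      have := (mem_normalizer_iff.1 (hPK (inv_mem k.2)) (b : G)).1 b.2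
      simpa using this⟩) fun b c => Subtype.ext (by simp [mul_assoc])
  have hcc : ∀ (k : K) (χ : P →* Fˣ) (f : X →+ F), tw (k : G) (comp P χ f) = comp P (χ.comp (cj k)) (tw (k : G) f) := by
    intro k χ f
    rw [comp, comp, tw_sum]
    have hinj : Function.Injective (cj k) := fun b c e => Subtype.ext (by
      have := congrArg (fun d : P => (d : G)) e
      simpa [cj] using this)
    refine (Fintype.sum_equiv (Equiv.ofBijective _ (Finite.injective_iff_bijective.1 hinj)) _ _ fun b => ?_).symm
    rw [tw_smul, ← tw_mul, ← tw_mul]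
    congr 2
    simp [cj, mul_assoc]
  have hKfix : ∀ f : X →+ F, (∀ k ∈ K, tw k f = f) → ∀ χ : P →* Fˣ, comp P χ f ≠ 0 → ∀ k : K,
      χ.comp (cj k) = χ := by
    intro f hf χ hne
    let e : (P →* Fˣ) → X →+ F := fun ψ => comp P ψ f
    have he : ∀ (k : K) ψ, tw (k : G) (e ψ) = e (ψ.comp (cj k)) := fun k ψ => by
      show tw _ (comp P ψ f) = _
      rw [hcc, hf k k.2]
    have hene : ∀ k : K, e (χ.comp (cj k)) ≠ 0 := fun k h0 => hne (tw_injective (k : G) (by
      rw [show tw (k : G) (comp P χ f) = e (χ.comp (cj k)) from he k χ, h0]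
      ext x; simp))
    have heq : ∀ {ψ φ : P →* Fˣ}, e ψ = e φ → e ψ ≠ 0 → ψ = φ := by
      intro ψ φ h h0
      refine MonoidHom.ext fun b => Units.ext ?_
      have h1 := tw_comp ψ f b
      rw [show comp P ψ f = comp P φ f from h, tw_comp φ f b] at h1
      by_contra hne'
      rw [← sub_eq_zero, ← sub_smul, smul_eq_zero, sub_eq_zero] at h1
      exact h1.elim (fun e => hne' e.symm) fun e' => h0 (h.trans e')
    by_contra hmov
    push Not at hmov
    obtain ⟨k0, hk0⟩ := hmov
    have hstab : ∀ k : K, χ.comp (cj k) = χ → (k : G) ∈ K1 := by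
      intro k hk
      by_contra hk1
      refine hk0 (heq ?_ hne).symm
      rw [← he k0]
      exact (hdual k k.2 hk1 _ (by rw [he, hk]) _ k0.2).symm
    have hcomp : ∀ (k l : K) (ψ : P →* Fˣ), (ψ.comp (cj k)).comp (cj l) = ψ.comp (cj (k * l)) := fun k l ψ => by
      ext b
      refine congrArg (fun d => ((ψ d : Fˣ) : F)) (Subtype.ext ?_)
      show (k : G)⁻¹ * ((l : G)⁻¹ * b * l) * k = ((k : G) * l)⁻¹ * b * ((k : G) * l)
      rw [hcK k k.2 l l.2]; group
    -- an element of order dividing the index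
    have hcardK : Nat.card K = Nat.card K1 * s := by
      rw [← card_mul_index (K1.subgroupOf K), Nat.card_congr (subgroupOfEquivOfLe hK1).toEquiv]
      rfl
    obtain ⟨k, hk1, hks⟩ : ∃ k : K, (k : G) ∉ K1 ∧ k ^ s = 1 := by
      obtain ⟨y, hy⟩ : ∃ y : K, (y : G) ∉ K1 := by
        by_contra hall
        push Not at hall
        have hs1 : s = 1 := Subgroup.relIndex_eq_one.2 fun x hx => hall ⟨x, hx⟩
        obtain ⟨x, hx⟩ : ∃ x, f x ≠ 0 := by
          by_contra hh
          push Not at hh
          exact hne (by rw [show f = 0 from AddMonoidHom.ext hh]; ext x; simp [comp])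
        haveI : Fintype K1 := Fintype.ofFinite _
        rw [hs1, pow_one] at hsmall
        have hsub : Subsingleton {x : X // ∀ k ∈ K1, k • x = x} :=
          (Finite.card_le_one_iff_subsingleton).1 (by omega)
        have h0 : avg K1 x = 0 := congrArg Subtype.val (hsub.elim
          (⟨avg K1 x, fun k hk => smul_avg hk x⟩ : {x : X // ∀ k ∈ K1, k • x = x})
          ⟨0, fun k _ => smul_zero k⟩)
        rw [← apply_avg (Odd.of_dvd_nat hK (card_dvd_of_le hK1)) (fun k hk => hf k (hK1 hk)), h0, map_zero] at hx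
        exact hx rfl
      refine ⟨y ^ Nat.card K1, fun hm => hy ?_, by rw [← pow_mul, ← hcardK, pow_card_eq_one']⟩
      haveI : (K1.subgroupOf K).Normal := ⟨fun n hn g => by
        rw [IsMulCommutative.is_comm.comm g n, mul_inv_cancel_right]; exact hn⟩
      have h1 : (QuotientGroup.mk y : K ⧸ K1.subgroupOf K) ^ Nat.card K1 = 1 := by
        rw [← QuotientGroup.mk_pow, QuotientGroup.eq_one_iff, mem_subgroupOf]
        exact hm
      have h2 : (QuotientGroup.mk y : K ⧸ K1.subgroupOf K) ^ s = 1 := by
        rw [← QuotientGroup.mk_pow, QuotientGroup.eq_one_iff]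
        exact pow_index_mem _ y
      have h3 := pow_gcd_eq_one.2 ⟨h1, h2⟩
      rw [Nat.Coprime.gcd_eq_one hcop, pow_one, QuotientGroup.eq_one_iff] at h3
      exact h3
    haveI : Fintype (zpowers k) := Fintype.ofFinite _
    let O : Finset (P →* Fˣ) := Finset.univ.image fun b : zpowers k => χ.comp (cj b)
    have hperm : ∀ ψ ∈ O, ψ.comp (cj k) ∈ O := by
      intro ψ hψ
      obtain ⟨b, -, rfl⟩ := Finset.mem_image.1 hψ
      exact Finset.mem_image.2 ⟨b * ⟨k, mem_zpowers k⟩, Finset.mem_univ _, (hcomp _ _ _).symm⟩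
    have hcinj : ∀ ψ φ : P →* Fˣ, ψ.comp (cj k) = φ.comp (cj k) → ψ = φ := fun ψ φ h => by
      have h1 := congrArg (fun χ : P →* Fˣ => χ.comp (cj k⁻¹)) h
      simp only [hcomp, mul_inv_cancel] at h1
      have hone : ∀ θ : P →* Fˣ, θ.comp (cj 1) = θ := fun θ => MonoidHom.ext fun b =>
        congrArg θ (Subtype.ext (by simp [cj]))
      rwa [hone, hone] at h1
    have hksum : tw (k : G) (∑ ψ ∈ O, e ψ) = ∑ ψ ∈ O, e ψ := by
      rw [tw_sum]
      have him : O.image (fun ψ => ψ.comp (cj k)) = O := Finset.eq_of_subset_of_card_le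
        (fun ψ hψ => by obtain ⟨φ, hφ, rfl⟩ := Finset.mem_image.1 hψ; exact hperm φ hφ)
        (by rw [Finset.card_image_of_injective _ fun _ _ h => hcinj _ _ h])
      conv_rhs => rw [← him]
      rw [Finset.sum_image fun _ _ _ _ h => hcinj _ _ h]
      exact Finset.sum_congr rfl fun ψ _ => he k ψ
    have hsurj : ∀ l : K, χ.comp (cj l) ∈ O := by
      intro l
      by_contra hl
      have h1 := hdual k k.2 hk1 _ hksum l l.2
      rw [tw_sum, Finset.sum_congr rfl fun ψ _ => he l ψ] at h1
      -- apply the projector at the new character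
      have hproj : ∀ ψ φ : P →* Fˣ, comp P φ (e ψ) = if ψ = φ then e ψ else 0 := by
        intro ψ φ
        rw [comp]
        simp only [show ∀ b : P, tw (b : G) (e ψ) = ((ψ b : Fˣ) : F) • e ψ from tw_comp ψ f, smul_smul,
          ← Finset.sum_smul]
        split_ifs with hψ
        · subst hψ
          simp only [← Units.val_mul, inv_mul_cancel, Units.val_one, Finset.sum_const, Finset.card_univ, nsmul_eq_mul,
            mul_one]
          rw [← Nat.card_eq_fintype_card, odd_cast hP, one_smul]
        · obtain ⟨b0, hb0⟩ : ∃ b, ψ b ≠ φ b := by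
            by_contra hh
            push Not at hh
            exact hψ (MonoidHom.ext hh)
          set S := ∑ b : P, (((φ b)⁻¹ : Fˣ) : F) * ((ψ b : Fˣ) : F)
          have h2 : ((((φ b0)⁻¹ * ψ b0 : Fˣ)) : F) * S = S := by
            rw [Finset.mul_sum]
            refine Fintype.sum_equiv (Equiv.mulLeft b0) _ _ fun b => ?_
            simp only [Equiv.coe_mulLeft, map_mul, ← Units.val_mul, mul_inv_rev]
            congr 1
            rw [mul_mul_mul_comm, mul_comm (φ b)⁻¹ (φ b0)⁻¹]
          have hS : S = 0 := by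
            by_contra hS
            refine hb0 (inv_mul_eq_one.1 (Units.ext ?_)).symm
            exact mul_right_cancel₀ hS (h2.trans (one_mul S).symm)
          rw [hS, zero_smul]
      have hadd : ∀ (φ : P →* Fˣ) (g : (P →* Fˣ) → X →+ F) (T : Finset (P →* Fˣ)),
          comp P φ (∑ ψ ∈ T, g ψ) = ∑ ψ ∈ T, comp P φ (g ψ) := by
        intro φ g T
        simp only [comp, tw_sum, Finset.smul_sum]
        exact Finset.sum_comm
      have h3 := congrArg (comp P (χ.comp (cj l))) h1
      rw [hadd, hadd] at h3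
      have hlinj : ∀ ψ φ : P →* Fˣ, ψ.comp (cj l) = φ.comp (cj l) → ψ = φ := fun ψ φ h => by
        have h1 := congrArg (fun χ : P →* Fˣ => χ.comp (cj l⁻¹)) h
        simp only [hcomp, mul_inv_cancel] at h1
        have hone : ∀ θ : P →* Fˣ, θ.comp (cj 1) = θ := fun θ => MonoidHom.ext fun b =>
          congrArg θ (Subtype.ext (by simp [cj]))
        rwa [hone, hone] at h1
      simp only [hproj] at h3
      rw [Finset.sum_ite_eq' O (χ.comp (cj l)), if_neg hl,
        Finset.sum_eq_single_of_mem χ (Finset.mem_image.2 ⟨1, Finset.mem_univ _,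
          MonoidHom.ext fun b => congrArg χ (Subtype.ext (by simp [cj]))⟩)
          (fun ψ _ hψ => if_neg fun h => hψ (hlinj _ _ h)), if_pos rfl] at h3
      exact hene l h3
    -- the stabiliser is the whole of K1, so the orbit is long
    let St : Subgroup K :=
      { carrier := {l | χ.comp (cj l) = χ}
        one_mem' := MonoidHom.ext fun b => congrArg χ (Subtype.ext (by simp [cj]))
        mul_mem' := fun {l m} hl hm => by
          show χ.comp (cj (l * m)) = χ
          rw [← hcomp, hl, hm]
        inv_mem' := fun {l} hl => by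
          show χ.comp (cj l⁻¹) = χ
          conv_lhs => rw [← (show χ.comp (cj l) = χ from hl), hcomp, mul_inv_cancel]
          exact MonoidHom.ext fun b => congrArg χ (Subtype.ext (by simp [cj])) }
    have hgen : ∀ l : K, ∃ b ∈ zpowers k, b⁻¹ * l ∈ St := by
      intro l
      obtain ⟨b, -, hb⟩ := Finset.mem_image.1 (hsurj l)
      refine ⟨b, b.2, ?_⟩
      show χ.comp (cj ((b : K)⁻¹ * l)) = χ
      rw [IsMulCommutative.is_comm.comm (b : K)⁻¹ l, ← hcomp, ← hb, hcomp, mul_inv_cancel]
      exact MonoidHom.ext fun c => congrArg χ (Subtype.ext (by simp [cj]))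
    have hzk : Nat.card (zpowers k) ≤ s := by
      rw [Nat.card_zpowers]
      refine orderOf_le_of_pow_eq_one (Nat.pos_of_ne_zero fun h0 => ?_) hks
      have := Nat.card_pos (α := K)
      rw [hcardK, h0, mul_zero] at this
      omega
    have hSK1 : St.map K.subtype = K1 := by
      refine eq_of_le_of_card_ge (by rintro _ ⟨l, hl, rfl⟩; exact hstab l hl) ?_
      rw [card_map_of_injective K.subtype_injective]
      have hle : Nat.card K ≤ Nat.card (zpowers k) * Nat.card St := by
        rw [← Nat.card_prod]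
        refine Nat.card_le_card_of_surjective (fun p : zpowers k × St => (p.1 : K) * p.2) fun l => ?_
        obtain ⟨b, hb, hl⟩ := hgen l
        exact ⟨⟨⟨b, hb⟩, ⟨_, hl⟩⟩, mul_inv_cancel_left _ _⟩
      rw [hcardK, mul_comm] at hle
      refine Nat.le_of_mul_le_mul_left (hle.trans (Nat.mul_le_mul_right _ hzk)) (Nat.pos_of_ne_zero fun h0 => ?_)
      have := Nat.card_pos (α := K)
      rw [hcardK, h0, mul_zero] at this
      omega
    -- the long orbit
    have hOc : s ≤ O.card := by
      have hall : ∀ l : K, χ.comp (cj l) ∈ O := hsurj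
      by_contra hlt
      have h1 : Nat.card K ≤ Nat.card O * Nat.card St := by
        rw [← Nat.card_prod]
        have hrep : ∀ ψ : O, ∃ l : K, χ.comp (cj l) = ψ := fun ψ => by
          obtain ⟨b, -, hb⟩ := Finset.mem_image.1 ψ.2
          exact ⟨b, hb⟩
        choose r hr using hrep
        refine Nat.card_le_card_of_surjective (fun p : O × St => r p.1 * p.2) fun l => ?_
        refine ⟨⟨⟨_, hall l⟩, ⟨(r ⟨_, hall l⟩)⁻¹ * l, ?_⟩⟩, mul_inv_cancel_left _ _⟩
        show χ.comp (cj _) = χ
        rw [IsMulCommutative.is_comm.comm _ l, ← hcomp]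
        have h2 : χ.comp (cj (r ⟨_, hall l⟩)) = χ.comp (cj l) := hr ⟨_, hall l⟩
        generalize r ⟨_, hall l⟩ = r' at h2 ⊢
        rw [← h2, hcomp, mul_inv_cancel]
        exact MonoidHom.ext fun c => congrArg χ (Subtype.ext (by simp [cj]))
      rw [Nat.card_eq_finsetCard, hcardK,
        show Nat.card St = Nat.card (St.map K.subtype) from (card_map_of_injective K.subtype_injective).symm, hSK1,
        mul_comm] at h1
      exact hlt (Nat.le_of_mul_le_mul_right h1 (Nat.card_pos (α := K1)))
    let ψs : Fin O.card → (P →* Fˣ) := fun i => (O.equivFin.symm i : P →* Fˣ)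
    have hψinj : Function.Injective ψs := fun i j h => O.equivFin.symm.injective (Subtype.ext h)
    have hψne : ∀ i, e (ψs i) ≠ 0 := fun i => by
      obtain ⟨b, -, hb⟩ := Finset.mem_image.1 (O.equivFin.symm i).2
      exact (show χ.comp (cj b) = ψs i from hb) ▸ hene b
    have hψfix : ∀ i, ∀ l ∈ K1, tw l (e (ψs i)) = e (ψs i) := by
      intro i l hl
      obtain ⟨b, -, hb⟩ := Finset.mem_image.1 (O.equivFin.symm i).2
      have hlS : (⟨l, hK1 hl⟩ : K) ∈ St := by
        obtain ⟨l', hl', e'⟩ := hSK1.ge hl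
        exact (show l' = ⟨l, hK1 hl⟩ from Subtype.ext e') ▸ hl'
      rw [show tw l (e (ψs i)) = e ((ψs i).comp (cj ⟨l, hK1 hl⟩)) from he ⟨l, hK1 hl⟩ _,
        show ψs i = χ.comp (cj b) from hb.symm, hcomp, IsMulCommutative.is_comm.comm, ← hcomp,
        show χ.comp (cj ⟨l, hK1 hl⟩) = χ from hlS]
    have h := finrank_fixed hX (Odd.of_dvd_nat hK (card_dvd_of_le hK1)) hsmall
      (comp_indep ψs hψinj _ hψne fun i b => tw_comp (ψs i) f b) hψfix
    omega
  -- the commutators fix every fixed functional
  let P0 : Subgroup G :=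
    { carrier := {b | b ∈ P ∧ ∀ f : X →+ F, (∀ k ∈ K, tw k f = f) → tw b f = f}
      one_mem' := ⟨one_mem _, fun f _ => tw_one f⟩
      mul_mem' := fun {b c} hb hc => ⟨mul_mem hb.1 hc.1, fun f hf => by rw [tw_mul, hc.2 f hf, hb.2 f hf]⟩
      inv_mem' := fun {b} hb => ⟨inv_mem hb.1, fun f hf => by
        conv_lhs => rw [← hb.2 f hf, ← tw_mul, inv_mul_cancel, tw_one]⟩ }
  haveI : Fintype P0 := Fintype.ofFinite _
  have hmem : ∀ k ∈ K, a⁻¹ * k * a * k⁻¹ ∈ P0 := by
    intro k hk
    have hmemP : a⁻¹ * k * a * k⁻¹ ∈ P := by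
      rw [show a⁻¹ * k * a * k⁻¹ = a⁻¹ * (k * a * k⁻¹) by group]
      exact mul_mem (inv_mem ha) ((mem_normalizer_iff.1 (hPK hk) a).1 ha)
    refine ⟨hmemP, fun f hf => ?_⟩
    set n : P := ⟨a⁻¹ * k * a * k⁻¹, hmemP⟩ with hn
    conv_lhs => rw [← sum_comp hP f, tw_sum]
    conv_rhs => rw [← sum_comp hP f]
    refine Finset.sum_congr rfl fun χ _ => ?_
    by_cases h0 : comp P χ f = 0
    · rw [h0]; ext x; simp
    · rw [show tw (a⁻¹ * k * a * k⁻¹) (comp P χ f) = _ from tw_comp χ f n]
      have h1 : χ n = 1 := by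
        have h2 := DFunLike.congr_fun (hKfix f hf χ h0 ⟨k⁻¹, inv_mem hk⟩) ⟨a, ha⟩
        rw [show n = (⟨a, ha⟩ : P)⁻¹ * cj ⟨k⁻¹, inv_mem hk⟩ ⟨a, ha⟩ from Subtype.ext (by
          simp [cj, hn, mul_assoc]), map_mul, map_inv]
        rw [MonoidHom.comp_apply] at h2
        rw [h2, inv_mul_cancel]
      rw [h1, Units.val_one, one_smul]
  -- the fixed vector is fixed by the commutators
  have hconj : ∀ k ∈ K, ∀ b ∈ P0, k * b * k⁻¹ ∈ P0 := fun k hk b hb =>
    ⟨(mem_normalizer_iff.1 (hPK hk) b).1 hb.1, fun f hf => by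
      rw [tw_mul, tw_mul, hf _ (inv_mem hk), hb.2 f hf, hf k hk]⟩
  have hodd0 : Odd (Nat.card P0) := Odd.of_dvd_nat hP (card_dvd_of_le fun b hb => hb.1)
  have hjfix : avg P0 j = j := by
    set y := j - avg P0 j with hy
    have hyK : ∀ k ∈ K, k • y = y := by
      intro k hk
      rw [hy, smul_sub, hj k hk]
      congr 1
      rw [avg, Finset.smul_sum]
      refine Fintype.sum_bijective (fun b : P0 => (⟨k * b * k⁻¹, hconj k hk b b.2⟩ : P0))
        (Finite.injective_iff_bijective.1 fun b c e => Subtype.ext (by simpa using congrArg Subtype.val e)) _ _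
        fun b => ?_
      show k • (b : G) • j = (k * b * k⁻¹) • j
      rw [mul_smul, mul_smul, hj _ (inv_mem hk)]
    refine (sub_eq_zero.1 ?_).symm
    show y = 0
    by_contra hy0
    letI : Module (ZMod 2) X := AddCommGroup.zmodModule (n := 2) fun x => by rw [two_nsmul]; exact hX x
    obtain ⟨φ, hφ⟩ := Module.Projective.exists_dual_ne_zero (ZMod 2) hy0
    let f0 : X →+ F := ((algebraMap (ZMod 2) F).toAddMonoidHom).comp φ.toAddMonoidHom
    have hf0 : f0 y ≠ 0 := fun h => hφ ((algebraMap (ZMod 2) F).injective (h.trans (map_zero _).symm))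
    let f : X →+ F := ∑ k : K, tw (k : G) f0
    have hfK : ∀ k ∈ K, tw k f = f := fun k hk => by
      rw [tw_sum]
      exact Fintype.sum_equiv (Equiv.mulLeft ⟨k, hk⟩) _ _ fun b => (tw_mul _ _ _).symm
    have hfy : f y = f0 y := by
      rw [AddMonoidHom.finsetSum_apply, Finset.sum_congr rfl (g := fun _ => f0 y) fun b _ => by
        rw [tw_apply, hyK _ (inv_mem b.2)], Finset.sum_const, Finset.card_univ, nsmul_eq_mul,
        ← Nat.card_eq_fintype_card, odd_cast hK, one_mul]
    refine hf0 (hfy ▸ ?_)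
    rw [hy, map_sub, apply_avg hodd0 (fun b hb => hb.2 f hfK), sub_self]
  intro k hk
  calc k • a • j = a • ((a⁻¹ * k * a * k⁻¹) • (k • j)) := by
        rw [← mul_smul, ← mul_smul, ← mul_smul]; group
    _ = a • j := by rw [hj k hk, ← hjfix, smul_avg (hmem k hk)]

end Cfsg.Agent.GoodInvol.AbelianFix
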