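import Cfsg.Agent.Lib.GoodInvol.NoPair
import Cfsg.Agent.Lib.GateCons.Bridge

/-!
# The gate from the remaining cases

Case A: two commuting involutions with one fixed point set.  Case B beyond type L2: no such pair, and the fixed
points of an involution with least `|E| * (f - 1)` at a point are not a projective line.  Both being impossible,
no involution of the group generated by the members fixes two points, and the gate follows.
-/

set_option autoImplicit false
set_option linter.style.haveILetI false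
set_option linter.unusedSectionVars false

namespace Cfsg.Agent.GoodInvol

open Subgroup MulAction

universe u

/-- Case A is impossible. -/
def CaseAStmt : Prop :=
  ∀ (G : Type u) [Group G] [Finite G] (D : Set G) (Ω : Type u) [MulAction G Ω] [Finite Ω] [FaithfulSMul G Ω],
    Below.{u} (Nat.card G) → Crit D Ω → closure D = ⊤ → ∀ w v : G, FourPair Ω w v → False

/-- Case B with an involution not of type L2 is impossible. -/
def CaseBStmt : Prop :=
  ∀ (G : Type u) [Group G] [Finite G] (D : Set G) (Ω : Type u) [MulAction G Ω] [Finite Ω] [FaithfulSMul G Ω],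
    Below.{u} (Nat.card G) → Crit D Ω → closure D = ⊤ → NoPairs G Ω →
    ∀ (w : G) (a : Ω) (T : Sylow 2 (ptC w a)) (E : Subgroup G), orderOf w = 2 → ¬ OneFix Ω w → w • a = a →
      ESet D w a ((T : Subgroup (ptC w a)).map (ptC w a).subtype) E →
      (fixSet Ω w).ncard ≠ Nat.card E + 1 →
      (∀ v : G, orderOf v = 2 → ¬ OneFix Ω v → v • a = a → ∀ (T' : Sylow 2 (ptC v a)) (E' : Subgroup G),
        ESet D v a ((T' : Subgroup (ptC v a)).map (ptC v a).subtype) E' →
        Nat.card E * ((fixSet Ω w).ncard - 1) ≤ Nat.card E' * ((fixSet Ω v).ncard - 1)) → False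

variable {G : Type u} [Group G] [Finite G] {D : Set G} {Ω : Type u} [MulAction G Ω] [Finite Ω] [FaithfulSMul G Ω]

/-- An involution fixing two points with least `|E| * (f - 1)`. -/
theorem Crit.exists_least (h : Crit D Ω) (hB : Below.{u} (Nat.card G)) (hgen : closure D = ⊤) {w : G}
    (hw : orderOf w = 2) (hbad : ¬ OneFix Ω w) {a : Ω} (ha : w • a = a) :
    ∃ (w : G) (a : Ω) (T : Sylow 2 (ptC w a)) (E : Subgroup G), orderOf w = 2 ∧ ¬ OneFix Ω w ∧ w • a = a ∧
      ESet D w a ((T : Subgroup (ptC w a)).map (ptC w a).subtype) E ∧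
      ∀ v : G, orderOf v = 2 → ¬ OneFix Ω v → v • a = a → ∀ (T' : Sylow 2 (ptC v a)) (E' : Subgroup G),
        ESet D v a ((T' : Subgroup (ptC v a)).map (ptC v a).subtype) E' →
        Nat.card E * ((fixSet Ω w).ncard - 1) ≤ Nat.card E' * ((fixSet Ω v).ncard - 1) := by
  classical
  haveI : Fact (Nat.Prime 2) := ⟨Nat.prime_two⟩
  let P : ℕ → Prop := fun n => ∃ (w : G) (a : Ω) (T : Sylow 2 (ptC w a)) (E : Subgroup G), orderOf w = 2 ∧
    ¬ OneFix Ω w ∧ w • a = a ∧ ESet D w a ((T : Subgroup (ptC w a)).map (ptC w a).subtype) E ∧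
      Nat.card E * ((fixSet Ω w).ncard - 1) = n
  have hex : ∃ n, P n := by
    obtain ⟨T⟩ : Nonempty (Sylow 2 (ptC w a)) := inferInstance
    obtain ⟨E, hE⟩ := h.exists_eset hB hgen hw hbad ha T
    exact ⟨_, w, a, T, E, hw, hbad, ha, hE, rfl⟩
  obtain ⟨w', a', T, E, h1, h2, h3, h4, h5⟩ := Nat.find_spec hex
  exact ⟨w', a', T, E, h1, h2, h3, h4, fun v hv hvb hva T' E' hE' =>
    h5 ▸ Nat.find_min' hex ⟨v, a', T', E', hv, hvb, hva, hE', rfl⟩⟩

/-- The inductive step. -/
theorem step_of (hA : CaseAStmt.{u}) (hBc : CaseBStmt.{u}) (h : Crit D Ω) (hB : Below.{u} (Nat.card G))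
    (hgen : closure D = ⊤) {w : G} (hw : orderOf w = 2) {x y : Ω} (hx : w • x = x) (hy : w • y = y) (hxy : x ≠ y) :
    False := by
  by_cases hpair : ∃ u v : G, FourPair Ω u v
  · obtain ⟨u, v, P⟩ := hpair
    exact hA G D Ω hB h hgen u v P
  push Not at hpair
  have hno := h.noPairs_of_not hB hgen hpair
  obtain ⟨w', a, T, E, hw', hbad', ha, hE, hmin⟩ :=
    h.exists_least hB hgen hw (fun hone => hxy (hone x y hx hy)) hx
  by_cases hf : (fixSet Ω w').ncard = Nat.card E + 1
  · exact h.line_false_of_noPairs hB hgen hno hw' hbad' ha T hE hf (h.dvd_orbit_of_least hB hgen hw' hbad' ha hE hmin)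
  · exact hBc G D Ω hB h hgen hno w' a T E hw' hbad' ha hE hf hmin

/-- The statement for all groups. -/
theorem goal_of (hA : CaseAStmt.{u}) (hBc : CaseBStmt.{u}) : ∀ n, Below.{u} n :=
  goal_of_step fun _ _ _ _ _ _ _ _ hB h hgen _ hw _ _ hx hy hxy => step_of hA hBc h hB hgen hw hx hy hxy

/-- The gate from the two cases. -/
theorem gate_of (hA : CaseAStmt.{u}) (hBc : CaseBStmt.{u}) : GateCons.Gate.{u} :=
  GateCons.gate_of_crit fun G _ _ D Ω _ _ h w hwD hw2 hmove x y hx hy => by
    by_contra hxy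
    obtain ⟨z, hz⟩ := hmove
    exact hz (goal_of hA hBc (Nat.card G + 1) G D Ω (Nat.lt_succ_self _) h w hwD hw2 x y hx hy hxy z)

end Cfsg.Agent.GoodInvol
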