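import Cfsg.Agent.Lib.SixInv.Count
import Cfsg.Agent.Lib.SixInv.Basic
import Cfsg.Agent.Lib.GoodInvol.Basic

/-!
# A transfer criterion for a class meeting the centre of a Sylow subgroup once

Let `z` be central in a Sylow 2-subgroup `S`, conjugate to no other central element of `S`, with its class generating
the group. Then no index-two subgroup of `S` contains `z` and avoids the conjugates of an involution of `S`.
-/

set_option autoImplicit false
set_option linter.style.haveILetI false
set_option linter.unusedSectionVars false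

namespace Cfsg.Agent.GoodInvol

open Subgroup MulAction

universe u

variable {G : Type u} [Group G] [Finite G]

/-- The transfer of a sign-valued homomorphism counts the fixed cosets of value minus one. -/
theorem transfer_sign {H : Subgroup G} (φ : H →* ℤˣ) {x : G} (hx : x * x = 1) :
    MonoidHom.transfer φ x = (-1) ^ (SixInv.fixOf H (SixInv.valSet φ (-1)) x).ncard := by
  classical
  haveI : Fintype (G ⧸ H) := Fintype.ofFinite _
  set N := SixInv.fixOf H (SixInv.valSet φ (-1)) x with hN
  have hval : ∀ c : G ⧸ H, SixInv.fixVal φ x c = if c ∈ N then -1 else 1 := by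
    intro c
    show _ = if c.out⁻¹ * x * c.out ∈ SixInv.valSet φ (-1) then -1 else 1
    by_cases hc : c.out⁻¹ * x * c.out ∈ H
    · rw [SixInv.fixVal, dif_pos hc]
      rcases Int.units_eq_one_or (φ ⟨_, hc⟩) with h | h
      · rw [h, if_neg]
        rintro ⟨hc', hv⟩
        exact absurd (h.symm.trans hv) (by decide)
      · rw [h, if_pos ⟨hc, h⟩]
    · rw [SixInv.fixVal, dif_neg hc, if_neg]
      exact fun h => hc h.1
  rw [SixInv.transfer_eq_prod φ hx, Finset.prod_congr rfl fun c _ => hval c, Finset.prod_ite, Finset.prod_const,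
    Finset.prod_const_one, mul_one]
  congr 1
  rw [← Set.ncard_coe_finset]
  congr 1
  ext c
  simp

/-- A hom to signs from a subgroup with the product of two outside elements inside. -/
noncomputable def signHom {S : Type u} [Group S] (K : Subgroup S)
    (hK : ∀ a b : S, a ∉ K → b ∉ K → a * b ∈ K) : S →* ℤˣ where
  toFun s := open scoped Classical in if s ∈ K then 1 else -1
  map_one' := by rw [if_pos (one_mem K)]
  map_mul' a b := by
    by_cases ha : a ∈ K <;> by_cases hb : b ∈ K
    · rw [if_pos ha, if_pos hb, if_pos (mul_mem ha hb), mul_one]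
    · rw [if_pos ha, if_neg hb, if_neg fun h => hb ((mul_mem_cancel_left ha).1 h), one_mul]
    · rw [if_neg ha, if_pos hb, if_neg fun h => ha ((mul_mem_cancel_right hb).1 h), mul_one]
    · rw [if_neg ha, if_neg hb, if_pos (hK a b ha hb)]
      decide

theorem signHom_eq_one {S : Type u} [Group S] {K : Subgroup S} (hK : ∀ a b : S, a ∉ K → b ∉ K → a * b ∈ K)
    {a : S} (ha : a ∈ K) : signHom K hK a = 1 := if_pos ha

theorem signHom_eq_neg {S : Type u} [Group S] {K : Subgroup S} (hK : ∀ a b : S, a ∉ K → b ∉ K → a * b ∈ K)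
    {a : S} (ha : a ∉ K) : signHom K hK a = -1 := if_neg ha

/-- No subgroup of index two of a Sylow subgroup contains the central member and avoids the conjugates of an
involution. -/
theorem false_of_central_transfer {D : Set G} (hgen : closure D = ⊤) (S : Sylow 2 G) {z : G}
    (hzS : z ∈ (S : Subgroup G)) (hzc : ∀ s ∈ (S : Subgroup G), Commute s z) (hz2 : z * z = 1)
    (hone : ∀ d ∈ D, IsConj z d)
    (huniq : ∀ c ∈ (S : Subgroup G), IsConj z c → (∀ s ∈ (S : Subgroup G), Commute s c) → c = z)
    {v : G} (hv : v * v = 1) (K : Subgroup (S : Subgroup G))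
    (hK : ∀ a b : (S : Subgroup G), a ∉ K → b ∉ K → a * b ∈ K) (hzK : (⟨z, hzS⟩ : (S : Subgroup G)) ∈ K)
    (hvK : ∀ c : (S : Subgroup G), IsConj v (c : G) → c ∉ K) : False := by
  classical
  haveI : Fact (Nat.Prime 2) := ⟨Nat.prime_two⟩
  set φ := signHom K hK with hφ
  set τ := MonoidHom.transfer φ with hτ
  have hzero : τ z = 1 := by
    rw [hτ, transfer_sign φ hz2]
    refine Even.neg_one_pow ?_
    set P := SixInv.valSet φ (-1) with hP
    have hcount := SixInv.card_fixOf_mul (x := z) (SixInv.inv_valSet φ (-1))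
    rw [← hP, Nat.card_coe_set_eq, Nat.card_coe_set_eq] at hcount
    have hev : 2 ∣ (SixInv.conjOf P z).ncard := by
      refine SixInv.dvd_card_of_orb (H := (S : Subgroup G)) fun y hy => ⟨?_, ?_⟩
      · rintro _ ⟨s, hs, rfl⟩
        refine ⟨hy.1.trans (isConj_iff.2 ⟨s, rfl⟩), ?_⟩
        have := (SixInv.inv_valSet φ (-1) s⁻¹ (inv_mem hs) y).2 hy.2
        rwa [inv_inv] at this
      · obtain ⟨hyS, hyv⟩ := hy.2
        have hne : (SixInv.orb (S : Subgroup G) y).ncard ≠ 1 := by
          intro h1
          obtain ⟨w, hw⟩ := Set.ncard_eq_one.1 h1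
          have hfix : ∀ s ∈ (S : Subgroup G), Commute s y := by
            intro s hs
            have a : y ∈ ({w} : Set G) := hw ▸ SixInv.mem_orb_self _ y
            have b : s * y * s⁻¹ ∈ ({w} : Set G) := hw ▸ ⟨s, hs, rfl⟩
            exact mul_inv_eq_iff_eq_mul.1 (b.trans a.symm)
          have hyz := huniq y hyS hy.1 hfix
          subst hyz
          rw [signHom_eq_one hK hzK] at hyv
          exact absurd hyv (by decide)
        obtain ⟨s, hs⟩ := IsPGroup.iff_card.1 S.2
        have hdvd : (SixInv.orb (S : Subgroup G) y).ncard ∣ 2 ^ s :=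
          hs ▸ Dvd.intro _ (SixInv.orb_card (S : Subgroup G) y)
        obtain ⟨i, -, hi⟩ := (Nat.dvd_prime_pow Nat.prime_two).1 hdvd
        rcases i with _ | i
        · exact absurd hi hne
        · exact ⟨2 ^ i, by rw [hi, pow_succ']⟩
    have hdvd : Nat.card (S : Subgroup G) ∣ Nat.card (centralizer ({z} : Set G)) :=
      card_dvd_of_le fun s hs => mem_centralizer_singleton_iff.2 (hzc s hs).eq
    obtain ⟨k, hk⟩ := hdvd
    obtain ⟨j, hj⟩ := hev
    rw [hk, hj, show 2 * j * (Nat.card (S : Subgroup G) * k) = 2 * (j * k) * Nat.card (S : Subgroup G) by ring]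
      at hcount
    rw [Nat.eq_of_mul_eq_mul_right Nat.card_pos hcount]
    exact even_two_mul _
  have hker : ∀ g : G, τ g = 1 := by
    have hle : closure D ≤ τ.ker := (closure_le _).2 fun d hd => by
      obtain ⟨g, rfl⟩ := isConj_iff.1 (hone d hd)
      show τ (g * z * g⁻¹) = 1
      rw [map_mul, map_mul, hzero, mul_one, ← map_mul, mul_inv_cancel, map_one]
    exact fun g => hle (hgen ▸ mem_top g)
  have hone' := hker v
  rw [hτ, transfer_sign φ hv] at hone'
  have heq : SixInv.fixOf (S : Subgroup G) (SixInv.valSet φ (-1)) v =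
      {c : G ⧸ (S : Subgroup G) | v • c = c} := by
    ext c
    rw [Set.mem_ofPred_eq, SixInv.out_mem_iff]
    refine ⟨fun h => h.1, fun h => ⟨h, signHom_eq_neg hK (hvK ⟨_, h⟩ (isConj_iff.2 ⟨c.out⁻¹, ?_⟩))⟩⟩
    rw [inv_inv]
  rw [heq] at hone'
  have hodd : Odd (Set.univ : Set (G ⧸ (S : Subgroup G))).ncard := by
    rw [Set.ncard_univ, ← index_eq_card, ← Nat.not_even_iff_odd, even_iff_two_dvd]
    exact S.not_dvd_index
  have hsplit := Set.ncard_sdiff_add_ncard_of_subset
    (Set.subset_univ {c : G ⧸ (S : Subgroup G) | v • c = c}) (Set.toFinite _)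
  rw [← hsplit] at hodd
  have hevc : Even (Set.univ \ {c : G ⧸ (S : Subgroup G) | v • c = c}).ncard :=
    even_ncard_of_invol (Set.toFinite _) (fun c => v • c)
      (fun c hc => ⟨trivial, fun h => hc.2 (MulAction.injective v h)⟩)
      (fun c _ => by rw [← mul_smul, hv, one_smul]) fun c hc h => hc.2 h
  rw [((Nat.odd_add'.1 hodd).2 hevc).neg_one_pow] at hone'
  exact absurd hone' (by decide)

end Cfsg.Agent.GoodInvol
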