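import Cfsg.Agent.Lib.GoodInvol.Half
import Cfsg.Agent.Lib.GoodInvol.CentralTransfer
import Cfsg.Agent.Lib.LocalEven.KleinGammaRank
import Cfsg.Agent.Lib.BrauerSuzuki.Isolated
import Cfsg.Agent.Lib.BrauerSuzuki.ZStar

/-!
# An involution fixing two points centralises a commuting pair of members

Otherwise a transfer on a normal four-group of a Sylow 2-subgroup, or on a dihedral or semidihedral one, leaves a
member outside the centre which is a square in the centraliser of another member.
-/

set_option autoImplicit false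
set_option linter.style.haveILetI false
set_option linter.unusedSectionVars false

namespace Cfsg.Agent.GoodInvol

open Subgroup MulAction

universe u v

variable {G : Type u} [Group G] {Ω : Type v} [MulAction G Ω] {D : Set G}

/-- At most one fixed point. -/
def OneFix (Ω : Type v) [MulAction G Ω] (g : G) : Prop := ∀ p q : Ω, g • p = p → g • q = q → p = q

/-- An involution fixing two points which centralises no commuting pair of members. -/
structure LoneBad (D : Set G) (Ω : Type v) [MulAction G Ω] (v : G) : Prop where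
  order : orderOf v = 2
  bad : ¬ OneFix Ω v
  lone : ∀ d ∈ D, ∀ e ∈ D, Commute d v → Commute e v → Commute d e → d = e

/-- What is known about the centraliser of an involution fixing two points: its one-point involutions are
members, and its members at one point generating a 2-group commute. -/
structure BadCent (D : Set G) (Ω : Type v) [MulAction G Ω] : Prop where
  mem : ∀ u g : G, orderOf u = 2 → ¬ OneFix Ω u → orderOf g = 2 → Commute g u → OneFix Ω g → g ∈ D
  comm : ∀ u : G, orderOf u = 2 → ¬ OneFix Ω u → ∀ d ∈ D, ∀ e ∈ D, Commute d u → Commute e u →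
    ∀ x : Ω, d • x = x → e • x = x → (∃ k, orderOf (d * e) = 2 ^ k) → Commute d e

variable [Finite G] (h : Crit D Ω)
include h

namespace Crit

theorem oneFix_of_mem {d : G} (hd : d ∈ D) : OneFix Ω d := fun p q => h.unique d hd p q

theorem oneFix_mul {d e : G} (hd : d ∈ D) (he : e ∈ D) (hc : Commute d e) (hne : d ≠ e) :
    OneFix Ω (d * e) := fun p q => h.prod d hd e he hc hne p q

theorem loneBad_conj {v c : G} (hv : LoneBad D Ω v) (hc : IsConj v c) : LoneBad D Ω c := by
  obtain ⟨g, rfl⟩ := isConj_iff.1 hc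
  refine ⟨(Invol.order_conj g v).trans hv.order, fun hone => hv.bad fun p q hp hq => ?_,
    fun d hd e he hdv hev hde => ?_⟩
  · refine MulAction.injective g (hone _ _ ?_ ?_)
    · rw [mul_smul, mul_smul, inv_smul_smul, hp]
    · rw [mul_smul, mul_smul, inv_smul_smul, hq]
  · have hback : ∀ w : G, Commute w (g * v * g⁻¹) → Commute (g⁻¹ * w * g⁻¹⁻¹) v := fun w hw => by
      have := hw.map (MulAut.conj g⁻¹)
      simpa [mul_assoc] using this
    have := hv.lone _ (h.conj g⁻¹ d hd) _ (h.conj g⁻¹ e he) (hback d hdv) (hback e hev)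
      (by simpa [mul_assoc] using hde.map (MulAut.conj g⁻¹))
    exact mul_left_cancel (mul_right_cancel this)

/-- The members form one class as soon as there are two points. -/
theorem isConj_of_two_points [Finite Ω] {x y : Ω} (hxy : x ≠ y) {d e : G} (hd : d ∈ D) (he : e ∈ D) :
    IsConj d e := by
  haveI : Nonempty Ω := ⟨x⟩
  have key : ∀ {d e : G}, d ∈ D → e ∈ D → ∀ {p q : Ω}, d • p = p → e • q = q → p ≠ q → IsConj d e :=
    fun hd he _ _ hp hq hpq => by
      obtain ⟨g, -, hg, -⟩ := h.exists_conj hd he hp hq hpq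
      exact isConj_iff.2 ⟨g, hg⟩
  obtain ⟨p, hp⟩ := h.exists_fix (h.invol d hd)
  obtain ⟨q, hq⟩ := h.exists_fix (h.invol e he)
  by_cases hpq : p = q
  · subst hpq
    obtain ⟨r, hr⟩ : ∃ r : Ω, r ≠ p := by
      by_cases hxp : x = p
      · exact ⟨y, fun e => hxy (hxp.trans e.symm)⟩
      · exact ⟨x, hxp⟩
    obtain ⟨f, hf, hfr⟩ := h.exists_at r
    exact (key hd hf hp hfr (Ne.symm hr)).trans (key hf he hfr hq hr)
  · exact key hd he hp hq hpq

end Crit

/-- The setting: a Sylow 2-subgroup containing a lone bad involution, fixing `a`, with the member `z` at `a` in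
its centre. -/
structure LoneFrame (D : Set G) (Ω : Type v) [MulAction G Ω] (S : Sylow 2 G) (z v : G) (a : Ω) : Prop where
  zD : z ∈ D
  zS : z ∈ (S : Subgroup G)
  zc : ∀ s ∈ (S : Subgroup G), Commute s z
  fix : ∀ s ∈ (S : Subgroup G), s • a = a
  vS : v ∈ (S : Subgroup G)
  lone : LoneBad D Ω v
  gen : closure D = ⊤
  one : ∀ d ∈ D, IsConj z d
  sec : BadCent D Ω

namespace LoneFrame

variable {S : Sylow 2 G} {z v : G} {a : Ω} (F : LoneFrame D Ω S z v a)
include F

/-- A one-point involution of the Sylow subgroup commuting with a lone bad one is `z`. -/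
theorem eq_z {w g : G} (hw : LoneBad D Ω w) (hwS : w ∈ (S : Subgroup G)) (hgS : g ∈ (S : Subgroup G))
    (hg : orderOf g = 2) (hone : OneFix Ω g) (hc : Commute g w) : g = z :=
  hw.lone g (F.sec.mem w g hw.order hw.bad hg hc hone) z F.zD hc (F.zc w hwS).symm (F.zc g hgS)

/-- A subgroup of index two of the Sylow subgroup containing `z` meets the class of `v`. -/
theorem transfer_false (K : Subgroup (S : Subgroup G)) (hK : ∀ b c : (S : Subgroup G), b ∉ K → c ∉ K → b * c ∈ K)
    (hzK : (⟨z, F.zS⟩ : (S : Subgroup G)) ∈ K)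
    (hvK : ∀ c : (S : Subgroup G), LoneBad D Ω (c : G) → c ∉ K) : False := by
  have hD : ∀ c, IsConj z c → c ∈ D := fun c hc => by
    obtain ⟨g, rfl⟩ := isConj_iff.1 hc
    exact h.conj g z F.zD
  refine false_of_central_transfer F.gen S F.zS F.zc (Invol.mul_self (h.invol z F.zD)) F.one ?_
    (Invol.mul_self F.lone.order) K hK hzK fun c hc => hvK c (h.loneBad_conj F.lone hc)
  intro c hcS hzc hcen
  exact F.lone.lone c (hD c hzc) z F.zD (hcen v F.vS).symm (F.zc v F.vS).symm (F.zc c hcS)

/-- No one-point involution other than `z` has its conjugates under the Sylow subgroup in its coset of `z`. -/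
theorem four_good_false {g : G} (hgS : g ∈ (S : Subgroup G)) (hg : orderOf g = 2) (hgz : g ≠ z)
    (hone : OneFix Ω g) (hconj : ∀ s ∈ (S : Subgroup G), s * g * s⁻¹ = g ∨ s * g * s⁻¹ = g * z) : False := by
  set K := (centralizer ({g} : Set G)).subgroupOf (S : Subgroup G) with hKdef
  have hmemK : ∀ b : (S : Subgroup G), b ∈ K ↔ (b : G) * g * (b : G)⁻¹ = g := fun b =>
    mem_subgroupOf.trans (mem_centralizer_singleton_iff.trans mul_inv_eq_iff_eq_mul.symm)
  refine F.transfer_false h K (fun b c hb hc => ?_) ?_ fun c hc hcK => ?_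
  · have hb' := (hconj b b.2).resolve_left fun e => hb ((hmemK b).2 e)
    have hc' := (hconj c c.2).resolve_left fun e => hc ((hmemK c).2 e)
    rw [hmemK, Subgroup.coe_mul]
    have hzb : (b : G) * z * (b : G)⁻¹ = z := by rw [(F.zc b b.2).eq, mul_inv_cancel_right]
    calc (b : G) * c * g * ((b : G) * c)⁻¹ = b * (c * g * (c : G)⁻¹) * (b : G)⁻¹ := by group
      _ = (b * g * (b : G)⁻¹) * (b * z * (b : G)⁻¹) := by rw [hc']; group
      _ = g := by rw [hb', hzb, mul_assoc, Invol.mul_self (h.invol z F.zD), mul_one]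
  · rw [hmemK]
    show z * g * z⁻¹ = g
    rw [← (F.zc g hgS).eq, mul_inv_cancel_right]
  · exact hgz (F.eq_z h hc c.2 hgS hg hone ((mul_inv_eq_iff_eq_mul.1 ((hmemK c).1 hcK)).symm : Commute g (c : G)))

/-- The Sylow subgroup has a member outside its centre. -/
theorem exists_member : ∃ e ∈ D, e ∈ (S : Subgroup G) ∧ e ≠ z := by
  by_contra! hno
  have hz2 := h.invol z F.zD
  have hiso := BrauerSuzuki.isIsolated_of_sylow hz2 F.zS fun g hg => hno _ (h.conj g z F.zD) hg
  have hN := BrauerSuzuki.zStar G z hz2 hiso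
  haveI hOn : (Cfsg.pPrimeCore 2 G).Normal := Cfsg.Agent.FittingCores.pPrimeCore_normal 2
  set O := Cfsg.pPrimeCore 2 G
  set π := QuotientGroup.mk' O
  have hgen : ∀ g : G, π g = 1 ∨ π g = π z := by
    have hcl : ∀ g ∈ closure D, π g = 1 ∨ π g = π z := by
      intro g hg
      have hzz : π z * π z = 1 := by rw [← map_mul, Invol.mul_self hz2, map_one]
      induction hg using Subgroup.closure_induction with
      | mem d hd =>
        obtain ⟨c, rfl⟩ := isConj_iff.1 (F.one d hd)
        right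
        refine mul_inv_eq_one.1 ?_
        rw [← map_inv, ← map_mul]
        exact (QuotientGroup.eq_one_iff _).2 (hN c)
      | one => exact Or.inl (map_one π)
      | mul b c _ _ hb hc =>
        rw [map_mul]
        rcases hb with hb | hb <;> rcases hc with hc | hc <;> simp [hb, hc, hzz]
      | inv b _ hb =>
        rw [map_inv]
        rcases hb with hb | hb <;> rw [hb]
        · exact Or.inl inv_one
        · exact Or.inr (inv_eq_of_mul_eq_one_right hzz)
    exact fun g => hcl g (F.gen ▸ mem_top g)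
  have hodd : ∀ g ∈ O, Odd (orderOf g) := fun g hg =>
    Odd.of_dvd_nat (Nat.coprime_two_right.1 (PBasic.pPrimeCore_coprime 2 G))
      (Subgroup.orderOf_coe ⟨g, hg⟩ ▸ orderOf_dvd_natCard _)
  rcases hgen v with hv | hv
  · exact Nat.not_even_iff_odd.2 (hodd v ((QuotientGroup.eq_one_iff v).1 hv)) (F.lone.order ▸ even_two)
  · have hmem : v * z ∈ O := by
      refine (QuotientGroup.eq_one_iff _).1 ?_
      show π (v * z) = 1
      rw [map_mul, hv, ← map_mul, Invol.mul_self hz2, map_one]
    obtain ⟨c, -, hc⟩ := Invol.conj_of_odd F.lone.order hz2 (hodd _ hmem)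
    refine F.lone.bad (h.oneFix_of_mem ?_)
    rw [show v = c⁻¹ * z * c⁻¹⁻¹ by rw [← hc]; group]
    exact h.conj c⁻¹ z F.zD

/-- A normal four-group with `z` gives a contradiction. -/
theorem four_false {g : G} (hgS : g ∈ (S : Subgroup G)) (hg : orderOf g = 2) (hgz : g ≠ z)
    (hconj : ∀ s ∈ (S : Subgroup G), s * g * s⁻¹ = g ∨ s * g * s⁻¹ = g * z) : False := by
  haveI : Fact (Nat.Prime 2) := ⟨Nat.prime_two⟩
  by_cases hone : OneFix Ω g
  · exact F.four_good_false h hgS hg hgz hone hconj
  have hz2 := h.invol z F.zD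
  have hzz := Invol.mul_self hz2
  have hgg := Invol.mul_self hg
  have hgzc : Commute g z := F.zc g hgS
  have hpow : ∀ b ∈ (S : Subgroup G), ∃ k, orderOf b = 2 ^ k := fun b hb => by
    obtain ⟨k, hk⟩ := IsPGroup.iff_orderOf.1 S.2 ⟨b, hb⟩
    exact ⟨k, by rw [← hk, Subgroup.orderOf_mk]⟩
  -- the members commuting with g form an elementary group with one
  have hcomm : ∀ d e : G, d ∈ D → e ∈ D → d ∈ (S : Subgroup G) → e ∈ (S : Subgroup G) → Commute d g →
      Commute e g → Commute d e := fun d e hd he hdS heS hdg heg =>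
    F.sec.comm g hg hone d hd e he hdg heg a (F.fix d hdS) (F.fix e heS) (hpow _ (mul_mem hdS heS))
  have hprod : ∀ d e : G, d ∈ D → e ∈ D → Commute d e → d ≠ e → Commute (d * e) g → d * e ∈ D := by
    intro d e hd he hde hne hc
    refine F.sec.mem g _ hg hone (Invol.order_two_of_sq ?_ fun h1 => hne ?_) hc (h.oneFix_mul hd he hde hne)
    · rw [mul_assoc, ← mul_assoc e, ← hde.eq, mul_assoc d e e, Invol.mul_self (h.invol e he), mul_one,
        Invol.mul_self (h.invol d hd)]
    · rw [eq_inv_of_mul_eq_one_left h1, Invol.inv_self (h.invol e he)]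
  -- only z among them
  have honly : ∀ d ∈ D, d ∈ (S : Subgroup G) → Commute d g → d = z := by
    intro d hd hdS hdg
    by_contra hdz
    have hstep : ∀ b : G, b ∈ D → b ∈ (S : Subgroup G) → Commute b g → b ≠ z → v * b * v⁻¹ = b * z := by
      intro b hb hbS hbg hbz
      have hb' : v * b * v⁻¹ ∈ D := h.conj v b hb
      have hb'S : v * b * v⁻¹ ∈ (S : Subgroup G) := mul_mem (mul_mem F.vS hbS) (inv_mem F.vS)
      have hb'g : Commute (v * b * v⁻¹) g := by
        have e1 : Commute (v * b * v⁻¹) (v * g * v⁻¹) := by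
          simpa [mul_assoc] using hbg.map (MulAut.conj v)
        rcases hconj v F.vS with e2 | e2
        · rwa [e2] at e1
        · rw [e2] at e1
          have := e1.mul_right (F.zc _ hb'S)
          rwa [mul_assoc g z z, hzz, mul_one] at this
      have hne : b ≠ v * b * v⁻¹ := fun e => hbz (F.lone.lone b hb z F.zD
        ((mul_inv_eq_iff_eq_mul.1 e.symm).symm : Commute b v) (F.zc v F.vS).symm (F.zc b hbS))
      have hcb := hcomm b _ hb hb' hbS hb'S hbg hb'g
      have hw := hprod b _ hb hb' hcb hne (hbg.mul_left hb'g)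
      have hwv : Commute (b * (v * b * v⁻¹)) v := by
        show b * (v * b * v⁻¹) * v = v * (b * (v * b * v⁻¹))
        calc b * (v * b * v⁻¹) * v = (v * b * v⁻¹) * b * v := by rw [hcb.eq]
          _ = v * (b * (v * b * v⁻¹)) := by rw [Invol.inv_self F.lone.order]; group
      have hwz := F.lone.lone _ hw z F.zD hwv (F.zc v F.vS).symm (F.zc _ (mul_mem hbS hb'S))
      calc v * b * v⁻¹ = (b * b) * (v * b * v⁻¹) := by rw [Invol.mul_self (h.invol b hb), one_mul]
        _ = b * z := by rw [mul_assoc, hwz]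
    refine F.four_good_false h hdS (h.invol d hd) hdz (h.oneFix_of_mem hd) fun s hs => ?_
    set b := s * d * s⁻¹ with hbdef
    have hb : b ∈ D := h.conj s d hd
    have hbS : b ∈ (S : Subgroup G) := mul_mem (mul_mem hs hdS) (inv_mem hs)
    have hbg : Commute b g := by
      have e1 : Commute b (s * g * s⁻¹) := by simpa [hbdef, mul_assoc] using hdg.map (MulAut.conj s)
      rcases hconj s hs with e2 | e2
      · rwa [e2] at e1
      · rw [e2] at e1
        have := e1.mul_right (F.zc _ hbS)
        rwa [mul_assoc g z z, hzz, mul_one] at this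
    have hbz : b ≠ z := fun e => hdz (by
      calc d = s⁻¹ * b * s := by rw [hbdef]; group
        _ = z := by rw [e, mul_assoc, ← (F.zc s hs).eq, inv_mul_cancel_left])
    by_cases hbd : b = d
    · exact Or.inl hbd
    right
    have hcb := hcomm d b hd hb hdS hbS hdg hbg
    have hw := hprod d b hd hb hcb (Ne.symm hbd) (hdg.mul_left hbg)
    have hwv : Commute (d * b) v := by
      have e1 := hstep d hd hdS hdg hdz
      have e2 := hstep b hb hbS hbg hbz
      have e3 : v * (d * b) * v⁻¹ = d * b := by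
        calc v * (d * b) * v⁻¹ = (v * d * v⁻¹) * (v * b * v⁻¹) := by group
          _ = d * (z * b) * z := by rw [e1, e2]; group
          _ = d * b * (z * z) := by rw [← (F.zc b hbS).eq]; group
          _ = d * b := by rw [hzz, mul_one]
      exact (mul_inv_eq_iff_eq_mul.1 e3).symm
    have hwz := F.lone.lone _ hw z F.zD hwv (F.zc v F.vS).symm (F.zc _ (mul_mem hdS hbS))
    calc b = (d * d) * b := by rw [Invol.mul_self (h.invol d hd), one_mul]
      _ = d * z := by rw [mul_assoc, hwz]
  -- g flips every other member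
  have hflip : ∀ e ∈ D, e ∈ (S : Subgroup G) → e ≠ z → g * e * g = e * z ∧ e * g * e = g * z := by
    intro e he heS hez
    have hee := Invol.mul_self (h.invol e he)
    have e1 : e * g * e⁻¹ = g * z :=
      (hconj e heS).resolve_left fun e' => hez (honly e he heS (mul_inv_eq_iff_eq_mul.1 e'))
    rw [Invol.inv_self (h.invol e he)] at e1
    refine ⟨?_, e1⟩
    calc g * e * g = (e * e) * g * e * g := by rw [hee, one_mul]
      _ = e * (e * g * e) * g := by group
      _ = e * (g * (z * g)) := by rw [e1]; group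
      _ = e * z := by rw [← hgzc.eq, ← mul_assoc g, hgg, one_mul]
  have hflipD : ∀ e ∈ D, e ∈ (S : Subgroup G) → e ≠ z → e * z ∈ D ∧ e * z ∈ (S : Subgroup G) := by
    intro e he heS hez
    refine ⟨?_, mul_mem heS F.zS⟩
    have := h.conj g e he
    rwa [Invol.inv_self hg, (hflip e he heS hez).1] at this
  -- commuting ones form pairs
  have hpair : ∀ e ∈ D, e ∈ (S : Subgroup G) → e ≠ z → ∀ d ∈ D, d ∈ (S : Subgroup G) → Commute e d →
      d = z ∨ d = e ∨ d = e * z := by
    intro e he heS hez d hd hdS hed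
    by_cases hdz : d = z
    · exact Or.inl hdz
    by_cases hde : d = e
    · exact Or.inr (Or.inl hde)
    right; right
    have hwg : Commute (e * d) g := by
      have e3 : g * (e * d) * g⁻¹ = e * d := by
        rw [Invol.inv_self hg]
        calc g * (e * d) * g = (g * e * g) * (g * d * g) := by
              rw [show g * e * g * (g * d * g) = g * e * (g * g) * d * g by group, hgg]; group
          _ = e * (z * d) * z := by rw [(hflip e he heS hez).1, (hflip d hd hdS hdz).1]; group
          _ = e * d * (z * z) := by rw [← (F.zc d hdS).eq]; group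
          _ = e * d := by rw [hzz, mul_one]
      exact (mul_inv_eq_iff_eq_mul.1 e3).symm
    have hw := honly _ (hprod e d he hd hed (Ne.symm hde) hwg) (mul_mem heS hdS) hwg
    calc d = (e * e) * d := by rw [Invol.mul_self (h.invol e he), one_mul]
      _ = e * z := by rw [mul_assoc, hw]
  -- a member of largest centraliser
  obtain ⟨e0, he0, he0S, he0z⟩ := F.exists_member h
  obtain ⟨e, ⟨he, heS, hez⟩, hmax⟩ := Set.exists_max_image {e : G | e ∈ D ∧ e ∈ (S : Subgroup G) ∧ e ≠ z}
    (fun e => Nat.card ↥((S : Subgroup G) ⊓ centralizer ({e} : Set G))) (Set.toFinite _) ⟨e0, he0, he0S, he0z⟩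
  have h2e := h.invol e he
  have hee := Invol.mul_self h2e
  -- some member does not commute with it
  obtain ⟨d, hd, hdS, hdc⟩ : ∃ d ∈ D, d ∈ (S : Subgroup G) ∧ ¬ Commute e d := by
    by_contra! hall
    refine F.four_good_false h heS h2e hez (h.oneFix_of_mem he) fun s hs => ?_
    rcases hpair e he heS hez _ (h.conj s e he) (mul_mem (mul_mem hs heS) (inv_mem hs))
      (hall _ (h.conj s e he) (mul_mem (mul_mem hs heS) (inv_mem hs))) with e1 | e1 | e1
    · refine absurd ?_ hez
      calc e = s⁻¹ * (s * e * s⁻¹) * s := by group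
        _ = z := by rw [e1, mul_assoc, ← (F.zc s hs).eq, inv_mul_cancel_left]
    · exact Or.inl e1
    · exact Or.inr e1
  have hdz : d ≠ z := fun e' => hdc (e' ▸ F.zc e heS)
  set t := e * d with ht
  obtain ⟨k, hk⟩ := hpow t (mul_mem heS hdS)
  have hkk : 2 ≤ k := by
    by_contra hk2
    refine hdc ?_
    have htt : t * t = 1 := by
      rw [← pow_two]
      exact orderOf_dvd_iff_pow_eq_one.1 (hk ▸ by interval_cases k <;> norm_num)
    show e * d = d * e
    have := inv_eq_of_mul_eq_one_right htt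
    rw [ht, mul_inv_rev, Invol.inv_self (h.invol d hd), Invol.inv_self h2e] at this
    exact this.symm
  obtain ⟨k, rfl⟩ := Nat.exists_eq_add_of_le hkk
  set t0 := t ^ (2 ^ k) with ht0
  have hgt : Commute g t := by
    show g * t = t * g
    have e1 : g * t * g⁻¹ = t := by
      rw [Invol.inv_self hg, ht]
      calc g * (e * d) * g = (g * e * g) * (g * d * g) := by
            rw [show g * e * g * (g * d * g) = g * e * (g * g) * d * g by group, hgg]; group
        _ = e * (z * d) * z := by rw [(hflip e he heS hez).1, (hflip d hd hdS hdz).1]; group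
        _ = e * d * (z * z) := by rw [← (F.zc d hdS).eq]; group
        _ = e * d := by rw [hzz, mul_one]
    exact mul_inv_eq_iff_eq_mul.1 e1
  -- the half is z
  have hhalf : t0 * t0 = z := by
    have hev : Even (orderOf t) := by
      rw [hk, Nat.pow_add, even_iff_two_dvd]
      exact Dvd.dvd.mul_right (by norm_num) _
    have hw : t0 * t0 = t ^ (orderOf t / 2) := by
      rw [ht0, ← pow_add, hk]
      congr 1
      rw [show 2 ^ (2 + k) = 2 * (2 ^ k + 2 ^ k) by rw [pow_add]; ring, Nat.mul_div_cancel_left _ two_pos]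
    rw [hw]
    set w := t ^ (orderOf t / 2) with hwdef
    obtain ⟨hwe, -⟩ := Invol.half_commute h2e (h.invol d hd) hev
    have h4 : 4 ∣ orderOf t := by rw [hk, pow_add]; exact dvd_mul_right _ _
    obtain ⟨c, -, hc⟩ := Invol.conj_mul_half_of_four_dvd h2e (h.invol d hd) h4
    have hewD : e * w ∈ D := hc ▸ h.conj c e he
    have hwS : w ∈ (S : Subgroup G) := pow_mem (mul_mem heS hdS) _
    have hw1 : w ≠ 1 := Invol.ne_one (Invol.half_order h2e (h.invol d hd) hev (orderOf_pos _))
    have hew : Commute e (e * w) := (Commute.refl e).mul_right (hwe.symm : Commute e w)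
    rcases hpair e he heS hez _ hewD (mul_mem heS hwS) hew with e1 | e1 | e1
    · exfalso
      have hwez : w = e * z := by rw [← e1, ← mul_assoc, hee, one_mul]
      have hc1 : Commute g (e * z) := hwez ▸ (hgt.pow_right _ : Commute g w)
      refine hez (honly e he heS ?_)
      have := hc1.mul_right hgzc
      rw [mul_assoc, hzz, mul_one] at this
      exact this.symm
    · exact absurd (mul_eq_left.1 e1) hw1
    · exact mul_left_cancel e1
  have hinv : e * t0 * e = t0 * z := by
    have e1 : e * t0 * e⁻¹ = t0⁻¹ :=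
      Invol.conj_pow (x := e) (a := t) (Invol.conj_mul h2e (h.invol d hd)) _
    rw [Invol.inv_self h2e] at e1
    rw [e1]
    refine inv_eq_of_mul_eq_one_right ?_
    rw [← mul_assoc, hhalf, hzz]
  set c := g * t0 with hcdef
  have hcS : c ∈ (S : Subgroup G) := mul_mem hgS (pow_mem (mul_mem heS hdS) _)
  have hgt0 : Commute g t0 := hgt.pow_right _
  have hc2 : c * c = z := by
    calc c * c = g * (t0 * g) * t0 := by rw [hcdef]; group
      _ = (g * g) * (t0 * t0) := by rw [← hgt0.eq]; group
      _ = z := by rw [hgg, one_mul, hhalf]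
  have hce : Commute c e := by
    have e1 : e * c * e⁻¹ = c := by
      rw [Invol.inv_self h2e, hcdef]
      calc e * (g * t0) * e = (e * g * e) * (e * t0 * e) := by
            rw [show e * g * e * (e * t0 * e) = e * g * (e * e) * t0 * e by group, hee]; group
        _ = g * (z * t0) * z := by rw [(hflip e he heS hez).2, hinv]; group
        _ = g * t0 * (z * z) := by rw [← (F.zc t0 (pow_mem (mul_mem heS hdS) _)).eq]; group
        _ = g * t0 := by rw [hzz, mul_one]
    exact (mul_inv_eq_iff_eq_mul.1 e1).symm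
  -- R is a Sylow subgroup of the centraliser of z and e, but not of e
  set R := (S : Subgroup G) ⊓ centralizer ({e} : Set G) with hR
  have hmaxR : ∀ P : Subgroup G, IsPGroup 2 P → R ≤ P → P ≤ centralizer ({e} : Set G) →
      P ≤ centralizer ({z} : Set G) → Nat.card P ≤ Nat.card R := by
    intro P hP hRP hPe hPz
    obtain ⟨T, hT⟩ := (hP.comap_of_injective (centralizer ({z} : Set G)).subtype
      (subtype_injective _)).exists_le_sylow
    let S1 : Sylow 2 (centralizer ({z} : Set G)) :=
      S.subtype fun s hs => mem_centralizer_singleton_iff.2 (F.zc s hs).eq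
    obtain ⟨γ, hγ⟩ := MulAction.exists_smul_eq (centralizer ({z} : Set G)) T S1
    have hγz : Commute (γ : G) z := mem_centralizer_singleton_iff.1 γ.2
    have hmv : ∀ p ∈ P, (γ : G) * p * (γ : G)⁻¹ ∈ (S : Subgroup G) := by
      intro p hp
      have h1 : γ * (⟨p, hPz hp⟩ : centralizer ({z} : Set G)) * γ⁻¹ ∈ γ • T := by
        show _ ∈ ((γ • T : Sylow 2 (centralizer ({z} : Set G))) : Subgroup (centralizer ({z} : Set G)))
        rw [Sylow.coe_subgroup_smul, Subgroup.mem_pointwise_smul_iff_inv_smul_mem, ← map_inv,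
          MulAut.smul_def, MulAut.conj_apply]
        rw [show γ⁻¹ * (γ * (⟨p, hPz hp⟩ : centralizer ({z} : Set G)) * γ⁻¹) * γ⁻¹⁻¹ = ⟨p, hPz hp⟩ by group]
        exact hT hp
      rw [hγ] at h1
      exact h1
    set e' := (γ : G) * e * (γ : G)⁻¹ with he'def
    have he'S : e' ∈ (S : Subgroup G) := hmv e (hRP ⟨heS, mem_centralizer_singleton_iff.2 rfl⟩)
    have he'z : e' ≠ z := fun e1 => hez (by
      calc e = (γ : G)⁻¹ * e' * γ := by rw [he'def]; group
        _ = z := by rw [e1, mul_assoc, ← hγz.eq, inv_mul_cancel_left])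
    refine le_trans ?_ (hmax e' ⟨h.conj _ e he, he'S, he'z⟩)
    refine Nat.card_le_card_of_injective
      (fun p : P => (⟨(γ : G) * p * (γ : G)⁻¹, hmv p p.2, mem_centralizer_singleton_iff.2 ?_⟩ :
        ↥((S : Subgroup G) ⊓ centralizer ({e'} : Set G)))) fun p q hpq => ?_
    · have := mem_centralizer_singleton_iff.1 (hPe p.2)
      calc (γ : G) * p * (γ : G)⁻¹ * e' = γ * ((p : G) * e) * (γ : G)⁻¹ := by rw [he'def]; group
        _ = e' * ((γ : G) * p * (γ : G)⁻¹) := by rw [he'def, this]; group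
    · exact Subtype.ext (mul_left_cancel (mul_right_cancel (congrArg Subtype.val hpq)))
  obtain ⟨κ, hκ⟩ := isConj_iff.1 (F.one e he)
  set S' : Subgroup G := (S : Subgroup G).map (MulAut.conj κ).toMonoidHom with hS'
  have hS'e : S' ≤ centralizer ({e} : Set G) := by
    rintro _ ⟨s, hs, rfl⟩
    refine mem_centralizer_singleton_iff.2 ?_
    show κ * s * κ⁻¹ * e = e * (κ * s * κ⁻¹)
    rw [← hκ]
    calc κ * s * κ⁻¹ * (κ * z * κ⁻¹) = κ * (s * z) * κ⁻¹ := by group
      _ = _ := by rw [(F.zc s hs).eq]; group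
  obtain ⟨T, hT⟩ := ((S.2.to_le (inf_le_left : R ≤ S)).comap_of_injective (centralizer ({e} : Set G)).subtype
    (subtype_injective _)).exists_le_sylow
  obtain ⟨Te, hTe⟩ := ((S.2.map (MulAut.conj κ).toMonoidHom : IsPGroup 2 S').comap_of_injective
    (centralizer ({e} : Set G)).subtype (subtype_injective _)).exists_le_sylow
  set P := (T : Subgroup (centralizer ({e} : Set G))).map (centralizer ({e} : Set G)).subtype with hP
  have hP2 : IsPGroup 2 P := T.2.map _
  have hRP : R ≤ P := fun r hr => ⟨⟨r, hr.2⟩, hT hr, rfl⟩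
  have hlt : R < P := by
    refine lt_of_le_of_ne hRP fun e1 => ?_
    have c1 : Nat.card P = Nat.card Te := by
      rw [hP, card_map_of_injective (subtype_injective _)]
      exact Nat.card_congr (T.equiv Te).toEquiv
    have c2 : Nat.card (S : Subgroup G) ≤ Nat.card Te := by
      rw [← card_map_of_injective (f := (MulAut.conj κ).toMonoidHom) (MulAut.conj κ).injective (K := (S : Subgroup G)),
        ← hS', ← Nat.card_congr (subgroupOfEquivOfLe hS'e).toEquiv]
      exact Nat.card_le_card_of_injective _ (Subgroup.inclusion_injective hTe)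
    have c3 : R < (S : Subgroup G) := by
      refine lt_of_le_of_ne inf_le_left fun e2 => ?_
      have hge : Commute g e := (mem_centralizer_singleton_iff.1 (e2 ▸ hgS : g ∈ R).2)
      exact hez (honly e he heS hge.symm)
    have := c1.symm.trans (congrArg (fun K : Subgroup G => Nat.card K) e1.symm)
    exact absurd c3 fun hlt' => hlt'.ne (eq_of_le_of_card_ge hlt'.le (c2.trans this.le))
  obtain ⟨s, hsP, hsR, hsnorm⟩ : ∃ s ∈ P, s ∉ R ∧ ∀ r ∈ R, s * r * s⁻¹ ∈ R := by
    obtain ⟨s, hs, hsR⟩ := SetLike.exists_of_lt (Fusion.lt_inf_normalizer hP2.isNilpotent hlt)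
    exact ⟨s, hs.1, hsR, fun r hr => (mem_normalizer_iff.1 hs.2 r).1 hr⟩
  have hse : Commute s e := by
    obtain ⟨s', -, rfl⟩ := hsP
    exact mem_centralizer_singleton_iff.1 s'.2
  have hzR : z ∈ R := ⟨F.zS, mem_centralizer_singleton_iff.2 (F.zc e heS).symm.eq⟩
  have hcR : c ∈ R := ⟨hcS, mem_centralizer_singleton_iff.2 hce.eq⟩
  have hsz : ¬ Commute s z := by
    intro hsz
    refine hsR ?_
    have hle : R ⊔ zpowers s ≤ P := sup_le hRP (zpowers_le.2 hsP)
    have h1 := hmaxR (R ⊔ zpowers s) (hP2.to_le hle) le_sup_left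
      (sup_le inf_le_right (zpowers_le.2 (mem_centralizer_singleton_iff.2 hse.eq)))
      (sup_le (fun r hr => mem_centralizer_singleton_iff.2 (F.zc r hr.1).eq)
        (zpowers_le.2 (mem_centralizer_singleton_iff.2 hsz.eq)))
    have h2 := eq_of_le_of_card_ge (le_sup_left : R ≤ R ⊔ zpowers s) h1
    rw [h2]
    exact le_sup_right (a := R) (mem_zpowers s)
  set z' := s * z * s⁻¹ with hz'
  have hz'R : z' ∈ R := hsnorm z hzR
  have hz'D : z' ∈ D := h.conj s z F.zD
  have hez' : Commute e z' := (mem_centralizer_singleton_iff.1 hz'R.2).symm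
  rcases hpair e he heS hez z' hz'D hz'R.1 hez' with e1 | e1 | e1
  · exact hsz (mul_inv_eq_iff_eq_mul.1 e1)
  · refine hez ?_
    calc e = s⁻¹ * (e * s) := by rw [← hse.eq, inv_mul_cancel_left]
      _ = s⁻¹ * z' * s := by rw [e1, mul_assoc]
      _ = z := by rw [hz']; group
  · -- a square of the Sylow subgroup centralises g
    set r := s * c * s⁻¹ with hr
    have hrS : r ∈ (S : Subgroup G) := (hsnorm c hcR).1
    have hrr : r * r = e * z := by
      rw [← e1, hz', ← hc2, hr]; group
    have hrg : Commute (r * r) g := by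
      have e2 : (r * r) * g * (r * r)⁻¹ = g := by
        rcases hconj r hrS with e3 | e3
        · calc (r * r) * g * (r * r)⁻¹ = r * (r * g * r⁻¹) * r⁻¹ := by group
            _ = g := by rw [e3, e3]
        · calc (r * r) * g * (r * r)⁻¹ = r * (r * g * r⁻¹) * r⁻¹ := by group
            _ = r * (g * z) * r⁻¹ := by rw [e3]
            _ = (r * g * r⁻¹) * (r * z * r⁻¹) := by group
            _ = g * z * z := by rw [e3, (F.zc r hrS).eq, mul_inv_cancel_right]
            _ = g := by rw [mul_assoc, hzz, mul_one]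
      exact mul_inv_eq_iff_eq_mul.1 e2
    rw [hrr] at hrg
    refine hez (honly e he heS ?_)
    have := hrg.mul_left hgzc.symm
    rwa [mul_assoc, hzz, mul_one] at this

/-- Without such a four-group the Sylow subgroup has a cyclic subgroup of index two. -/
theorem no_four_false
    (hno : ∀ g ∈ (S : Subgroup G), orderOf g = 2 → g ≠ z →
      ∃ s ∈ (S : Subgroup G), s * g * s⁻¹ ≠ g ∧ s * g * s⁻¹ ≠ g * z) : False := by
  haveI : Fact (Nat.Prime 2) := ⟨Nat.prime_two⟩
  obtain ⟨e, he, heS, hez⟩ := F.exists_member h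
  set T : Subgroup G := (S : Subgroup G)
  set zT : T := ⟨z, F.zS⟩
  set eT : T := ⟨e, heS⟩
  have hz2 := h.invol z F.zD
  have h2e := h.invol e he
  have hzc : ∀ b : T, b * zT = zT * b := fun b => Subtype.ext (F.zc b b.2).eq
  have oz : orderOf zT = 2 := by rw [← Subgroup.orderOf_coe]; exact hz2
  have oe : orderOf eT = 2 := by rw [← Subgroup.orderOf_coe]; exact h2e
  have hne : eT ≠ zT := fun e1 => hez (congrArg Subtype.val e1)
  have hnoV : ∀ V : Subgroup T, V.Normal → V ≤ (⊤ : Subgroup T) → Nat.card V = 4 →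
      (∀ b ∈ V, b * b = 1) → False := by
    intro V hV _ h4 hVV
    haveI := hV
    obtain ⟨w, hw, how, hwc⟩ := NormalFour.exists_central_mem S.2
      (N := V) fun e1 => by rw [e1, card_bot] at h4; omega
    by_cases hwz : w = zT
    · subst hwz
      obtain ⟨g, hg, hg1, hgz⟩ : ∃ g ∈ V, g ≠ 1 ∧ g ≠ zT := by
        by_contra! hall
        have hle : V ≤ zpowers zT := fun b hb => by
          by_cases hb1 : b = 1
          · rw [hb1]; exact one_mem _
          · rw [hall b hb hb1]; exact mem_zpowers _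
        have := card_le_of_le hle
        rw [Nat.card_zpowers, oz, h4] at this
        omega
      obtain ⟨s, hs, hs1, hs2⟩ := hno g g.2 (by
        rw [Subgroup.orderOf_coe]; exact Invol.order_two_of_sq (hVV g hg) hg1)
        (fun e1 => hgz (Subtype.ext e1))
      have hsgV := hV.conj_mem g hg ⟨s, hs⟩
      rcases KleinGammaRank.mem_four h4 hw hg (Invol.ne_one oz) hg1 hgz (hVV _ hw) hsgV with e1 | e1 | e1 | e1
      · exact hg1 (conj_eq_one_iff.1 e1)
      · refine hgz ?_
        calc g = (⟨s, hs⟩ : T)⁻¹ * (⟨s, hs⟩ * g * (⟨s, hs⟩ : T)⁻¹) * ⟨s, hs⟩ := by group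
          _ = zT := by rw [e1, mul_assoc, ← hzc, inv_mul_cancel_left]
      · exact hs1 (congrArg Subtype.val e1)
      · rw [← hzc] at e1
        exact hs2 (congrArg Subtype.val e1)
    · obtain ⟨s, hs, hs1, -⟩ := hno w w.2 (by rw [Subgroup.orderOf_coe]; exact how) fun e1 => hwz (Subtype.ext e1)
      refine hs1 (congrArg Subtype.val (?_ : (⟨s, hs⟩ : T) * w * (⟨s, hs⟩ : T)⁻¹ = w))
      rw [mem_center_iff.1 hwc, mul_inv_cancel_right]
  have huniq : ∀ {c b d : T}, b ∈ zpowers c → d ∈ zpowers c → orderOf b = 2 → orderOf d = 2 → b = d :=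
    fun {c b d} hb hd ob od => (Invol.eq_half ob hb).2.trans (Invol.eq_half od hd).2.symm
  rcases KleinGammaRank.structure_of_no_normal_four S.2 (⊤ : Subgroup T) hnoV with
    ⟨a', ha'⟩ | ⟨a', n, -, hAn, hao, hcos, hinv⟩
  · exact hne (huniq (ha' ▸ mem_top eT) (ha' ▸ mem_top zT) oe oz)
  have hz_in : zT ∈ zpowers a' := by
    by_contra hz'
    have h1 := hinv zT (mem_top _) hz'
    rw [← hzc (a' ^ 2 ^ n), mul_inv_cancel_right, eq_inv_iff_mul_eq_one, ← pow_add, ← two_mul] at h1
    have h2 := Nat.le_of_dvd (by positivity) (orderOf_dvd_of_pow_eq_one h1)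
    rw [hao, show 2 ^ (n + 2) = 2 * (2 * 2 ^ n) by ring] at h2
    have : 0 < 2 ^ n := by positivity
    omega
  have he_out : eT ∉ zpowers a' := fun hin => hne (huniq hin hz_in oe oz)
  obtain ⟨r, hr⟩ := hAn.conj_mem a' (mem_zpowers a') eT
  simp only at hr
  have hr4 : (4 : ℤ) ∣ r + 1 := by
    have h1 := hinv eT (mem_top _) he_out
    rw [← _root_.conj_pow, ← hr, ← zpow_natCast (a' ^ r), ← zpow_mul, ← zpow_natCast a', ← zpow_neg] at h1
    have h2 : (orderOf a' : ℤ) ∣ r * ((2 ^ n : ℕ) : ℤ) + ((2 ^ n : ℕ) : ℤ) := by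
      rw [orderOf_dvd_iff_zpow_eq_one, zpow_add, h1, zpow_neg, inv_mul_cancel]
    rw [hao] at h2
    push_cast at h2
    rw [pow_add, show r * 2 ^ n + 2 ^ n = 2 ^ n * (r + 1) by ring] at h2
    exact (mul_dvd_mul_iff_left (pow_ne_zero n (by norm_num : (2 : ℤ) ≠ 0))).1 (by simpa using h2)
  obtain ⟨c4, hc4⟩ := hr4
  have hee : eT * eT = 1 := Invol.mul_self oe
  have hmove : ∀ i : ℤ, a' ^ i * eT = eT * a' ^ (r * i) := by
    intro i
    have e1 : eT * a' ^ i * eT⁻¹ = a' ^ (r * i) := by rw [← conj_zpow, ← hr, ← zpow_mul]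
    rw [← e1, Invol.inv_self oe, ← mul_assoc, ← mul_assoc, hee, one_mul]
  have hshape : ∀ b : T, (∃ i : ℤ, b = a' ^ i) ∨ ∃ i : ℤ, b = eT * a' ^ i := by
    intro b
    by_cases hb : b ∈ zpowers a'
    · obtain ⟨i, hi⟩ := hb
      exact Or.inl ⟨i, hi.symm⟩
    · obtain ⟨i, hi⟩ := hcos eT (mem_top _) he_out b (mem_top _) hb
      simp only at hi
      exact Or.inr ⟨i, by rw [hi, mul_inv_cancel_left]⟩
  let K : Subgroup T :=
    { carrier := {b | ∃ j : ℤ, b = a' ^ (2 * j) ∨ b = eT * a' ^ (2 * j)}
      one_mem' := ⟨0, Or.inl (by simp)⟩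
      mul_mem' := by
        rintro b c ⟨i, rfl | rfl⟩ ⟨j, rfl | rfl⟩
        · exact ⟨i + j, Or.inl (by rw [mul_add, zpow_add])⟩
        · exact ⟨r * i + j, Or.inr (by rw [← mul_assoc, hmove, mul_assoc, ← zpow_add]; ring_nf)⟩
        · exact ⟨i + j, Or.inr (by rw [mul_assoc, mul_add, zpow_add])⟩
        · exact ⟨r * i + j, Or.inl (by
            rw [mul_assoc, ← mul_assoc (a' ^ (2 * i)), hmove, mul_assoc eT, ← zpow_add, ← mul_assoc, hee, one_mul]
            ring_nf)⟩
      inv_mem' := by
        rintro b ⟨i, rfl | rfl⟩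
        · exact ⟨-i, Or.inl (by rw [mul_neg, zpow_neg])⟩
        · exact ⟨-(r * i), Or.inr (by rw [mul_inv_rev, Invol.inv_self oe, ← zpow_neg, hmove]; ring_nf)⟩ }
  have hKmem : ∀ b : T, b ∈ K ↔ ∃ j : ℤ, b = a' ^ (2 * j) ∨ b = eT * a' ^ (2 * j) := fun b => Iff.rfl
  have hout : ∀ b : T, b ∉ K → ∃ i : ℤ, b = a' ^ (2 * i + 1) ∨ b = eT * a' ^ (2 * i + 1) := by
    intro b hb
    rcases hshape b with ⟨i, rfl⟩ | ⟨i, rfl⟩ <;> obtain ⟨j, rfl | rfl⟩ := Int.even_or_odd' i
    · exact absurd ((hKmem _).2 ⟨j, Or.inl rfl⟩) hb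
    · exact ⟨j, Or.inl rfl⟩
    · exact absurd ((hKmem _).2 ⟨j, Or.inr rfl⟩) hb
    · exact ⟨j, Or.inr rfl⟩
  refine F.transfer_false h K (fun b c hb hc => ?_) ?_ fun c hc hcK => ?_
  · obtain ⟨i, hi⟩ := hout b hb
    obtain ⟨j, hj⟩ := hout c hc
    rcases hi with rfl | rfl <;> rcases hj with rfl | rfl
    · exact ⟨i + j + 1, Or.inl (by rw [← zpow_add]; ring_nf)⟩
    · exact ⟨r * i + j + 2 * c4, Or.inr (by
        rw [← mul_assoc, hmove, mul_assoc, ← zpow_add, show r * (2 * i + 1) + (2 * j + 1) =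
          2 * (r * i + j + 2 * c4) by linarith])⟩
    · exact ⟨i + j + 1, Or.inr (by rw [mul_assoc, ← zpow_add]; ring_nf)⟩
    · exact ⟨r * i + j + 2 * c4, Or.inl (by
        rw [mul_assoc, ← mul_assoc (a' ^ (2 * i + 1)), hmove, mul_assoc eT, ← zpow_add, ← mul_assoc, hee, one_mul,
          show r * (2 * i + 1) + (2 * j + 1) = 2 * (r * i + j + 2 * c4) by linarith])⟩
  · obtain ⟨i, hi⟩ := hz_in
    simp only at hi
    rcases Int.even_or_odd' i with ⟨j, rfl | rfl⟩
    · exact ⟨j, Or.inl hi.symm⟩
    · exfalso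
      have h1 : a' ^ ((2 * j + 1) + (2 * j + 1)) = 1 := by rw [zpow_add, hi]; exact Invol.mul_self oz
      rw [← orderOf_dvd_iff_zpow_eq_one, hao] at h1
      have h2 : (4 : ℤ) ∣ (2 * j + 1) + (2 * j + 1) := by
        refine dvd_trans ?_ h1
        exact_mod_cast (pow_dvd_pow 2 (by omega) : 2 ^ 2 ∣ 2 ^ (n + 2))
      omega
  · have oc : orderOf c = 2 := by rw [← Subgroup.orderOf_coe]; exact hc.order
    have hcz : c ≠ zT := fun e1 => hc.bad (by rw [e1]; exact h.oneFix_of_mem F.zD)
    have hc_out : c ∉ zpowers a' := fun hin => hcz (huniq hin hz_in oc oz)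
    obtain ⟨j, rfl | hj⟩ := (hKmem c).1 hcK
    · exact hc_out (zpow_mem (mem_zpowers a') _)
    refine hc.bad (h.oneFix_of_mem ?_)
    obtain ⟨α, β, hαβ⟩ : IsCoprime (2 * c4 - 1) ((2 : ℤ) ^ (n + 2)) :=
      IsCoprime.pow_right ⟨-1, c4, by ring⟩
    have hk : a' ^ (α * j) * eT * (a' ^ (α * j))⁻¹ = c := by
      rw [hmove, mul_assoc, ← zpow_neg, ← zpow_add, hj]
      congr 1
      rw [← orderOf_dvd_sub_iff_zpow_eq_zpow, hao]
      refine ⟨-(2 * j * β), ?_⟩
      push_cast
      linear_combination (α * j) * hc4 + (2 * j) * hαβ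
    rw [← hk, Subgroup.coe_mul, Subgroup.coe_mul, Subgroup.coe_inv]
    exact h.conj _ e he

end LoneFrame

/-- An involution fixing two points centralises two distinct commuting members. -/
theorem Crit.exists_pair_centralized [Finite Ω] (hgen : closure D = ⊤) (hsec : BadCent D Ω) {u : G}
    (hu : orderOf u = 2) {x y : Ω} (hx : u • x = x) (hy : u • y = y) (hxy : x ≠ y) :
    ∃ d ∈ D, ∃ e ∈ D, d ≠ e ∧ Commute d e ∧ Commute d u ∧ Commute e u := by
  by_contra hno
  push Not at hno
  haveI : Fact (Nat.Prime 2) := ⟨Nat.prime_two⟩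
  haveI : Nonempty Ω := ⟨x⟩
  have hlone : LoneBad D Ω u := ⟨hu, fun hone => hxy (hone x y hx hy),
    fun d hd e he hdu heu hde => by
      by_contra hne
      exact hno d hd e he hne hde hdu heu⟩
  obtain ⟨S, hS⟩ := (IsPGroup.of_card (n := 1) (by rw [Nat.card_zpowers, hu, pow_one]) :
    IsPGroup 2 (zpowers u)).exists_le_sylow
  obtain ⟨a, ha⟩ := h.exists_fix_of_pGroup S.2
  obtain ⟨z, hz, hzc⟩ := h.exists_centralized S.2 ha
  have hzS : z ∈ (S : Subgroup G) := by
    have hz2 : IsPGroup 2 (zpowers z) := IsPGroup.of_card (n := 1) (by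
      rw [Nat.card_zpowers, h.invol z hz.1, pow_one])
    have hP := IsPGroup.to_sup_of_normal_left' S.2 hz2 (zpowers_le.2
      (centralizer_le_normalizer _ (mem_centralizer_iff.2 fun s hs => (hzc s hs).eq)))
    have := S.3 hP le_sup_left
    rw [← this]
    exact le_sup_right (a := (S : Subgroup G)) (mem_zpowers z)
  have F : LoneFrame D Ω S z u a := ⟨hz.1, hzS, hzc, ha, hS (mem_zpowers u), hlone, hgen,
    fun d hd => h.isConj_of_two_points hxy hz.1 hd, hsec⟩
  by_cases hg : ∃ g ∈ (S : Subgroup G), orderOf g = 2 ∧ g ≠ z ∧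
      ∀ s ∈ (S : Subgroup G), s * g * s⁻¹ = g ∨ s * g * s⁻¹ = g * z
  · obtain ⟨g, hgS, hg2, hgz, hconj⟩ := hg
    exact F.four_false h hgS hg2 hgz hconj
  · push Not at hg
    exact F.no_four_false h hg

end Cfsg.Agent.GoodInvol
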