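import Cfsg.Agent.Lib.GoodInvol.Induct
import Cfsg.Agent.Lib.GoodInvol.NoLone

/-!
# The centraliser of an involution fixing two points

One-point involutions are members, products of a member with a commuting involution fixing two points fix two
points, and members at one point generating a 2-group in such a centraliser commute.
-/

set_option autoImplicit false
set_option linter.style.haveILetI false
set_option linter.unusedSectionVars false

namespace Cfsg.Agent.GoodInvol

open Subgroup MulAction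

universe u v

section Elementary

variable {G : Type u} [Group G] [Finite G] {Ω : Type v} [MulAction G Ω] [Finite Ω] [FaithfulSMul G Ω]
  {D : Set G}

/-- An involution fixing two points times a commuting member fixes two points. -/
theorem Crit.not_oneFix_mul (h : Crit D Ω) {w d : G} (hw : orderOf w = 2) (hbad : ¬ OneFix Ω w) (hd : d ∈ D)
    (hc : Commute d w) : ¬ OneFix Ω (w * d) := by
  have hb := hbad
  unfold OneFix at hb
  push Not at hb
  obtain ⟨p, q, hp, hq, hpq⟩ := hb
  haveI : Nonempty Ω := ⟨p⟩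
  obtain ⟨x, hx⟩ : ∃ x : Ω, w • x ≠ x := by
    by_contra! hall
    exact Invol.ne_one hw (FaithfulSMul.eq_of_smul_eq_smul (α := Ω) fun z => by rw [hall z, one_smul])
  obtain ⟨f, hf, hfx⟩ := h.exists_at x
  obtain ⟨d0, hd0, hd0w, hd0x, -, -, hcx, -⟩ :=
    h.exists_partner hw (fun hwD => hbad (h.oneFix_of_mem hwD)) hf hfx hx
  obtain ⟨r, hr⟩ := h.exists_fix (h.invol d0 hd0)
  have hcr : (w * d0) • r = r := by
    refine h.unique d0 hd0 _ _ ?_ hr
    rw [← mul_smul, show d0 * (w * d0) = w * d0 * d0 by rw [← mul_assoc, hd0w], mul_smul, hr]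
  have hrx : r ≠ x := fun e => hx (by rw [← hd0x, ← e, hr])
  have hC := h.centralizer (Ω := Ω) hw
  obtain ⟨g, hg⟩ := isConj_iff.1 (hC.isConj_of_two_points (x := (⟨p, hp⟩ : fixSub Ω w)) (y := ⟨q, hq⟩)
    (fun e => hpq (congrArg Subtype.val e))
    (d := ⟨d0, mem_centralizer_singleton_iff.2 hd0w⟩) (e := ⟨d, mem_centralizer_singleton_iff.2 hc.eq⟩) hd0 hd)
  have hgd : (g : G) * d0 * (g : G)⁻¹ = d := congrArg Subtype.val hg
  have hwd : w * d = (g : G) * (w * d0) * (g : G)⁻¹ := by
    rw [← hgd]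
    calc w * ((g : G) * d0 * (g : G)⁻¹) = (w * g) * d0 * (g : G)⁻¹ := by group
      _ = ((g : G) * w) * d0 * (g : G)⁻¹ := by rw [mem_centralizer_singleton_iff.1 g.2]
      _ = _ := by group
  intro hone
  refine hrx (MulAction.injective (g : G) (hone _ _ ?_ ?_))
  · rw [hwd, mul_smul, mul_smul, inv_smul_smul, hcr]
  · rw [hwd, mul_smul, mul_smul, inv_smul_smul, hcx]

/-- A one-point involution is a member. -/
theorem Crit.mem_of_oneFix (h : Crit D Ω) (h2 : ∃ x y : Ω, x ≠ y) {g : G} (hg : orderOf g = 2)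
    (hone : OneFix Ω g) : g ∈ D := by
  classical
  obtain ⟨x, y, hxy⟩ := h2
  haveI : Nonempty Ω := ⟨x⟩
  obtain ⟨a, ha⟩ := h.exists_fix hg
  obtain ⟨b, hb⟩ : ∃ b : Ω, g • b ≠ b := by
    by_contra! hall
    exact hxy (hone x y (hall x) (hall y))
  have hgg := Invol.mul_self hg
  have hpair : g ∈ pairSet (G := G) b (g • b) := Or.inr ⟨rfl, by rw [← mul_smul, hgg, one_smul]⟩
  set A := swap D b (g • b) with hA
  obtain ⟨v, hv, hvg⟩ : ∃ v ∈ A, g * v * g⁻¹ = v := by
    by_contra! hall
    refine Nat.not_even_iff_odd.2 ?_ (even_ncard_of_invol (s := A) (Set.toFinite _) (fun v => g * v * g⁻¹)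
      (fun v hv => h.conj_swap hpair hv) (fun v _ => ?_) hall)
    · rw [hA, h.card_swap_eq (Ne.symm hb) a]
      exact h.odd a
    · rw [Invol.inv_self hg]
      calc g * (g * v * g) * g = (g * g) * v * (g * g) := by group
        _ = v := by rw [hgg, one_mul, mul_one]
  have hvc : Commute v g := (mul_inv_eq_iff_eq_mul.1 hvg).symm
  obtain ⟨p, hp⟩ := h.exists_fix (h.invol v hv.1)
  have hpa : p = a := by
    refine hone p a ?_ ha
    exact h.unique v hv.1 _ _ (by rw [← mul_smul, hvc.eq, mul_smul, hp]) hp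
  have hgva : (g * v) • a = a := by rw [mul_smul, ← hpa, hp, hpa, ha]
  have hgvb : (g * v) • b = b := by rw [mul_smul, hv.2, ← mul_smul, hgg, one_smul]
  have hab : a ≠ b := fun e => hb (e ▸ ha)
  by_cases h1 : g * v = 1
  · rw [eq_inv_of_mul_eq_one_left h1, Invol.inv_self (h.invol v hv.1)]
    exact hv.1
  have hvv := Invol.mul_self (h.invol v hv.1)
  have hw : orderOf (g * v) = 2 := Invol.order_two_of_sq (by
    rw [mul_assoc, ← mul_assoc v, hvc.eq, mul_assoc g v v, hvv, mul_one, hgg]) h1
  refine absurd (fun s t hs ht => ?_) (h.not_oneFix_mul hw (fun hw1 => hab (hw1 a b hgva hgvb)) hv.1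
    (hvc.mul_right (Commute.refl v)))
  rw [mul_assoc, hvv, mul_one] at hs ht
  exact hone s t hs ht

end Elementary

variable {G : Type u} [Group G] [Finite G] {Ω : Type u} [MulAction G Ω] [Finite Ω] [FaithfulSMul G Ω] {D : Set G}

/-- From the induction hypothesis: the facts on centralisers of involutions fixing two points. -/
theorem Crit.badCent (h : Crit D Ω) (hB : Below.{u} (Nat.card G)) (hgen : closure D = ⊤) : BadCent D Ω := by
  refine ⟨fun w g _ hbad hg _ hone => ?_, fun w hw hbad d hd e he hdw hew x hdx hex hk => ?_⟩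
  · unfold OneFix at hbad
    push Not at hbad
    obtain ⟨p, q, -, -, hpq⟩ := hbad
    exact h.mem_of_oneFix ⟨p, q, hpq⟩ hg hone
  have hb := hbad
  unfold OneFix at hb
  push Not at hb
  obtain ⟨p, q, hp, hq, hpq⟩ := hb
  by_contra hne
  obtain ⟨k, hk⟩ := hk
  have hd2 := h.invol d hd
  have he2 := h.invol e he
  have hk2 : 2 ≤ k := by
    by_contra hk2
    refine hne ?_
    have htt : d * e * (d * e) = 1 := by
      rw [← pow_two]
      exact orderOf_dvd_iff_pow_eq_one.1 (hk ▸ by interval_cases k <;> norm_num)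
    have := inv_eq_of_mul_eq_one_right htt
    rw [mul_inv_rev, Invol.inv_self hd2, Invol.inv_self he2] at this
    exact this.symm
  obtain ⟨j, rfl⟩ := Nat.exists_eq_add_of_le hk2
  have h4 : 4 ∣ orderOf (d * e) := by rw [hk, pow_add]; exact dvd_mul_right _ _
  have hev : Even (orderOf (d * e)) := even_iff_two_dvd.2 (dvd_trans (by norm_num) h4)
  obtain ⟨t, ht, ht2, htd, -, hdt, hdtne⟩ := h.half_split hd he hev
  -- the situation on the fixed points
  set C := Subgroup.centralizer ({w} : Set G) with hC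
  set D' := {c : C | (c : G) ∈ D} with hD'
  have hGoal : Goal D' (fixSub Ω w) := goal_centralizer hB h hgen hw hp
  have hCrit : Crit D' (fixSub Ω w) := h.centralizer hw
  set dC : C := ⟨d, mem_centralizer_singleton_iff.2 hdw.eq⟩ with hdC
  set eC : C := ⟨e, mem_centralizer_singleton_iff.2 hew.eq⟩ with heC
  have hwx : w • x = x := h.unique d hd _ _ (by rw [← mul_smul, hdw.eq, mul_smul, hdx]) hdx
  set a : fixSub Ω w := ⟨x, hwx⟩
  obtain ⟨b, hab⟩ : ∃ b : fixSub Ω w, a ≠ b := by
    by_cases hxp : x = p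
    · exact ⟨⟨q, hq⟩, fun e1 => hpq (hxp.symm.trans (congrArg Subtype.val e1))⟩
    · exact ⟨⟨p, hp⟩, fun e1 => hxp (congrArg Subtype.val e1)⟩
  obtain ⟨hse, hcore⟩ := se_induced hCrit hGoal hab
  set I := induced D' (fixSub Ω w)
  set π := toPermHom C (fixSub Ω w) with hπ
  have hI : ∀ c ∈ D', π c ∈ I := fun c hc => mem_map_of_mem _ (subset_closure hc)
  have hord : ∀ c (hc : c ∈ D'), orderOf (⟨π c, hI c hc⟩ : I) = 2 := by
    intro c hc
    refine Invol.order_two_of_sq (Subtype.ext ?_) fun h1 => ?_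
    · show π c * π c = 1
      rw [← map_mul, Invol.mul_self (hCrit.invol c hc), map_one]
    · have h1' : π c = 1 := congrArg Subtype.val h1
      have hfix : ∀ z : fixSub Ω w, c • z = z := fun z => by
        show π c z = z
        rw [h1', Equiv.Perm.one_apply]
      exact hab (hCrit.unique c hc a b (hfix a) (hfix b))
  -- the half fixes all these points
  suffices hfix : ∃ tC : C, (tC : G) = t ∧ ∀ z : fixSub Ω w, tC • z = z by
    obtain ⟨tC, htC, hz⟩ := hfix
    have e1 := congrArg Subtype.val (hz a)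
    have e2 := congrArg Subtype.val (hz b)
    change (tC : G) • (a : Ω) = a at e1
    change (tC : G) • (b : Ω) = b at e2
    rw [htC] at e1 e2
    exact hab (Subtype.ext (h.half_unique hd hdt hdtne htd e1 e2))
  have htw : Commute t w := by
    have htC : t ∈ C := zpowers_le.2 (mul_mem dC.2 eC.2) ht
    exact mem_centralizer_singleton_iff.1 htC
  by_cases hR : BrauerSuzuki.RankOne I
  · set fC : C := ⟨d * t, mem_centralizer_singleton_iff.2 (hdw.mul_left htw).eq⟩ with hfC
    have hcomm : Commute (⟨π dC, hI dC hd⟩ : I) ⟨π fC, hI fC hdt⟩ := by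
      have hdf : dC * fC = fC * dC := Subtype.ext (by
        show d * (d * t) = d * t * d
        rw [mul_assoc, htd.eq])
      refine Subtype.ext ?_
      show π dC * π fC = π fC * π dC
      rw [← map_mul, hdf, map_mul]
    have heq := congrArg Subtype.val (hR _ _ (hord dC hd) (hord fC hdt) hcomm)
    change π dC = π fC at heq
    refine ⟨dC⁻¹ * fC, ?_, fun z => ?_⟩
    · show d⁻¹ * (d * t) = t
      rw [inv_mul_cancel_left]
    · show π (dC⁻¹ * fC) z = z
      rw [map_mul, ← heq, ← map_mul, inv_mul_cancel, map_one, Equiv.Perm.one_apply]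
  obtain ⟨hcomm, -⟩ := SEMain.stmt I (stabilizer I a) hse hcore (SEMain.exists_pair hse hR).exists_four
  have hds : (⟨π dC, hI dC hd⟩ : I) ∈ stabilizer I a := mem_stabilizer_iff.2 (Subtype.ext hdx)
  have hes : (⟨π eC, hI eC he⟩ : I) ∈ stabilizer I a := mem_stabilizer_iff.2 (Subtype.ext hex)
  have hde := congrArg Subtype.val (hcomm _ _ hds hes (hord dC hd) (hord eC he))
  change π dC * π eC = π eC * π dC at hde
  have hsq : π ((dC * eC) ^ 2) = 1 := by
    rw [pow_two, map_mul, map_mul]
    nth_rw 2 [hde]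
    rw [mul_assoc, ← mul_assoc (π eC) (π eC), ← map_mul π eC eC, Invol.mul_self (hCrit.invol eC he), map_one,
      one_mul, ← map_mul, Invol.mul_self (hCrit.invol dC hd), map_one]
  have hhalf : t = ((d * e) ^ 2) ^ (2 ^ j) := by
    rw [(Invol.eq_half ht2 ht).2, ← pow_mul, hk]
    congr 1
    rw [show 2 ^ (2 + j) = 2 * (2 * 2 ^ j) by rw [pow_add]; ring, Nat.mul_div_cancel_left _ two_pos]
  refine ⟨((dC * eC) ^ 2) ^ (2 ^ j), ?_, fun z => ?_⟩
  · rw [hhalf]; simp [hdC, heC]
  · show π (((dC * eC) ^ 2) ^ (2 ^ j)) z = z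
    rw [map_pow, hsq, one_pow, Equiv.Perm.one_apply]

/-- In the minimal situation an involution fixing two points centralises two distinct commuting members. -/
theorem Crit.exists_pair_of_below (h : Crit D Ω) (hB : Below.{u} (Nat.card G)) (hgen : closure D = ⊤) {w : G}
    (hw : orderOf w = 2) {x y : Ω} (hx : w • x = x) (hy : w • y = y) (hxy : x ≠ y) :
    ∃ d ∈ D, ∃ e ∈ D, d ≠ e ∧ Commute d e ∧ Commute d w ∧ Commute e w :=
  h.exists_pair_centralized hgen (h.badCent hB hgen) hw hx hy hxy

end Cfsg.Agent.GoodInvol
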