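import Cfsg.Agent.Lib.GoodInvol.BenderCard
import Cfsg.Agent.Lib.TorusCentral.Models

/-!
# The normalisers of the Sylow 2-subgroups of the Bender groups

In the three families a Sylow 2-subgroup contains the commutators of its normaliser, and its involutions are central
in it.
-/

set_option autoImplicit false
set_option linter.style.haveILetI false
set_option linter.unusedSectionVars false

namespace Cfsg.Agent.GoodInvol

open Subgroup

universe u v

/-- Abelian normaliser quotient and central involutions, for every Sylow 2-subgroup. -/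
structure BorelFacts (L : Type u) [Group L] : Prop where
  comm : ∀ P : Sylow 2 L, ∀ x ∈ normalizer ((P : Subgroup L) : Set L), ∀ y ∈ normalizer ((P : Subgroup L) : Set L),
    x * y * x⁻¹ * y⁻¹ ∈ (P : Subgroup L)
  central : ∀ P : Sylow 2 L, ∀ x ∈ (P : Subgroup L), x * x = 1 → ∀ y ∈ (P : Subgroup L), Commute x y

/-- One Sylow 2-subgroup suffices. -/
theorem BorelFacts.of_one {L : Type u} [Group L] [Finite L] (P : Sylow 2 L)
    (hc : ∀ x ∈ normalizer ((P : Subgroup L) : Set L), ∀ y ∈ normalizer ((P : Subgroup L) : Set L),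
      x * y * x⁻¹ * y⁻¹ ∈ (P : Subgroup L))
    (hz : ∀ x ∈ (P : Subgroup L), x * x = 1 → ∀ y ∈ (P : Subgroup L), Commute x y) : BorelFacts L := by
  haveI : Fact (Nat.Prime 2) := ⟨Nat.prime_two⟩
  have key : ∀ Q : Sylow 2 L, ∃ g : L, ∀ x, x ∈ (Q : Subgroup L) ↔ g * x * g⁻¹ ∈ (P : Subgroup L) := fun Q => by
    obtain ⟨g, hg⟩ := MulAction.exists_smul_eq L Q P
    refine ⟨g, fun x => ?_⟩
    rw [← hg, Sylow.coe_subgroup_smul, Subgroup.mem_pointwise_smul_iff_inv_smul_mem, ← map_inv, MulAut.smul_def,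
      MulAut.conj_apply, inv_inv, show g⁻¹ * (g * x * g⁻¹) * g = x by group]
  refine ⟨fun Q x hx y hy => ?_, fun Q x hx hx2 y hy => ?_⟩
  · obtain ⟨g, hg⟩ := key Q
    have hN : ∀ x ∈ normalizer ((Q : Subgroup L) : Set L), g * x * g⁻¹ ∈ normalizer ((P : Subgroup L) : Set L) := by
      intro x hx
      refine mem_normalizer_iff.2 fun z => ?_
      rw [show z = g * (g⁻¹ * z * g) * g⁻¹ by group, ← hg, mem_normalizer_iff.1 hx, hg]
      group
    rw [hg]
    have := hc _ (hN x hx) _ (hN y hy)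
    rwa [show g * (x * y * x⁻¹ * y⁻¹) * g⁻¹ =
      (g * x * g⁻¹) * (g * y * g⁻¹) * (g * x * g⁻¹)⁻¹ * (g * y * g⁻¹)⁻¹ by group]
  · obtain ⟨g, hg⟩ := key Q
    have h := hz _ ((hg x).1 hx) (by rw [show g * x * g⁻¹ * (g * x * g⁻¹) = g * (x * x) * g⁻¹ by group, hx2]; group)
      _ ((hg y).1 hy)
    simpa [mul_assoc] using h.map (MulAut.conj g⁻¹)

theorem BorelFacts.congr {L : Type u} {K : Type v} [Group L] [Group K] [Finite L] (f : L ≃* K)
    (hK : BorelFacts K) : BorelFacts L where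
  comm P x hx y hy := by
    set P' := P.mapSurjective (f := f.toMonoidHom) f.surjective
    have hmem : ∀ z, f z ∈ (P' : Subgroup K) ↔ z ∈ (P : Subgroup L) := fun z =>
      ⟨fun ⟨w, hw, e⟩ => f.injective e ▸ hw, fun hz => ⟨z, hz, rfl⟩⟩
    have hN : ∀ x ∈ normalizer ((P : Subgroup L) : Set L), f x ∈ normalizer ((P' : Subgroup K) : Set K) := by
      intro x hx
      refine mem_normalizer_iff.2 fun z => ?_
      obtain ⟨z, rfl⟩ := f.surjective z
      rw [← map_inv, ← map_mul, ← map_mul, hmem, hmem]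
      exact mem_normalizer_iff.1 hx z
    refine (hmem _).1 ?_
    rw [map_mul, map_mul, map_mul, map_inv, map_inv]
    exact hK.comm P' _ (hN x hx) _ (hN y hy)
  central P x hx hx2 y hy := by
    have := hK.central (P.mapSurjective (f := f.toMonoidHom) f.surjective) _ ⟨x, hx, rfl⟩
      (by show f x * f x = 1; rw [← map_mul, hx2, map_one]) _ ⟨y, hy, rfl⟩
    exact f.injective (by rw [map_mul, map_mul]; exact this.eq)

theorem borel_sl_two {F : Type} [Field F] [Fintype F] [CharP F 2] {r : ℕ} (hr : 2 ≤ r)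
    (hF : Fintype.card F = 2 ^ r) : BorelFacts (Matrix.SpecialLinearGroup (Fin 2) F) := by
  classical
  haveI : Fact (Nat.Prime 2) := ⟨Nat.prime_two⟩
  set U : Subgroup (Matrix.SpecialLinearGroup (Fin 2) F) := (upperHom F).range with hU
  have hinj : Function.Injective (upperHom F) := fun a b hab => Multiplicative.toAdd.injective
    (congrFun (congrFun (congrArg Subtype.val hab) 0) 1)
  have hM : Nat.card (Multiplicative F) = 2 ^ r := by
    rw [Nat.card_congr Multiplicative.toAdd, Nat.card_eq_fintype_card, hF]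
  have hUc : Nat.card U = 2 ^ r := by rw [← hM, hU, Nat.card_congr (MonoidHom.ofInjective hinj).symm.toEquiv]
  obtain ⟨P, hP⟩ := (IsPGroup.of_card hUc).exists_le_sylow
  have hPU : (P : Subgroup (Matrix.SpecialLinearGroup (Fin 2) F)) = U :=
    (eq_of_le_of_card_ge hP (by rw [((params_sl_two hr hF).sylow P).1, hUc, one_mul])).symm
  have hmemU : ∀ g : Matrix.SpecialLinearGroup (Fin 2) F, g ∈ U ↔ g.1 0 0 = 1 ∧ g.1 1 0 = 0 ∧ g.1 1 1 = 1 := by
    intro g
    refine ⟨?_, fun ⟨h00, h10, h11⟩ => ⟨Multiplicative.ofAdd (g.1 0 1), Subtype.ext ?_⟩⟩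
    · rintro ⟨a, rfl⟩
      show (!![1, a.toAdd; 0, 1] : Matrix (Fin 2) (Fin 2) F) 0 0 = 1 ∧
        (!![1, a.toAdd; 0, 1] : Matrix (Fin 2) (Fin 2) F) 1 0 = 0 ∧
        (!![1, a.toAdd; 0, 1] : Matrix (Fin 2) (Fin 2) F) 1 1 = 1
      simp
    · show (!![1, g.1 0 1; 0, 1] : Matrix (Fin 2) (Fin 2) F) = g.1
      ext i j
      fin_cases i <;> fin_cases j <;> simp [h00, h10, h11]
  have hdet : ∀ g : Matrix.SpecialLinearGroup (Fin 2) F, g.1 0 0 * g.1 1 1 - g.1 0 1 * g.1 1 0 = 1 := fun g => by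
    rw [← Matrix.det_fin_two]; exact g.2
  refine BorelFacts.of_one P (fun x hx y hy => ?_) fun x hx _ y hy => ?_
  · have hB : ∀ g : Matrix.SpecialLinearGroup (Fin 2) F, g ∈ normalizer
        ((P : Subgroup (Matrix.SpecialLinearGroup (Fin 2) F)) : Set (Matrix.SpecialLinearGroup (Fin 2) F)) →
        g.1 1 0 = 0 := by
      intro g hg
      have h1 : g * upperHom F (Multiplicative.ofAdd 1) * g⁻¹ ∈ U := by
        rw [← hPU]
        exact (mem_normalizer_iff.1 hg _).1 (by rw [hPU]; exact ⟨_, rfl⟩)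
      have h2 := ((hmemU _).1 h1).2.1
      rw [Matrix.SpecialLinearGroup.coe_mul, Matrix.SpecialLinearGroup.coe_mul,
        Matrix.SpecialLinearGroup.coe_inv, Matrix.adjugate_fin_two] at h2
      rw [show (upperHom F (Multiplicative.ofAdd 1)).1 = !![1, 1; 0, 1] from rfl] at h2
      simp [Matrix.mul_apply, Fin.sum_univ_two] at h2
      have h3 : g.1 1 0 * g.1 1 0 = 0 := by linear_combination -h2
      simpa using h3
    rw [hPU, hmemU]
    have hx0 := hB x hx
    have hy0 := hB y hy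
    have dx := hdet x
    have dy := hdet y
    rw [hx0, mul_zero, sub_zero] at dx
    rw [hy0, mul_zero, sub_zero] at dy
    simp only [Matrix.SpecialLinearGroup.coe_mul, Matrix.SpecialLinearGroup.coe_inv, Matrix.adjugate_fin_two]
    simp [Matrix.mul_apply, Fin.sum_univ_two, hx0, hy0]
    constructor
    · linear_combination (y.1 0 0 * y.1 1 1) * dx + dy
    · linear_combination (y.1 0 0 * y.1 1 1) * dx + dy
  · rw [hPU] at hx hy
    obtain ⟨a, rfl⟩ := hx
    obtain ⟨b, rfl⟩ := hy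
    exact (Commute.all a b).map (upperHom F)

theorem sz_central {F : Type} [Field F] [Fintype F] {m : ℕ} (h : Suzuki.SzField F m) {z g : Cfsg.Sz F m}
    (hz : z ∈ Suzuki.zGroup h) (hg : g ∈ Suzuki.rootGroup h) : g * z = z * g := by
  obtain ⟨b, rfl⟩ := hz
  obtain ⟨c, d, rfl⟩ := hg
  exact (Suzuki.T_zero_central h b c d).symm

theorem borel_sz {F : Type} [Field F] [Fintype F] {m : ℕ} (h : Suzuki.SzField F m) :
    BorelFacts (Cfsg.Sz F m) := by
  refine BorelFacts.of_one (Suzuki.rootSylow h) (fun x hx y hy => ?_) fun x hx hx2 y hy => ?_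
  · rw [Suzuki.rootSylow_coe, Suzuki.normalizer_rootGroup h] at hx hy
    rw [Suzuki.rootSylow_coe]
    have hn : ∀ k : Fˣ, ∀ z ∈ Suzuki.rootGroup h, Suzuki.H h k * z * (Suzuki.H h k)⁻¹ ∈ Suzuki.rootGroup h :=
      fun k z hz => (mem_normalizer_iff.1 (Suzuki.borel_le_normalizer h (Suzuki.H_mem_borel h k)) z).1 hz
    obtain ⟨a, b, k, rfl⟩ := Suzuki.borel_form h hx
    obtain ⟨c, d, l, rfl⟩ := Suzuki.borel_form h hy
    have ht : Suzuki.T h a b ∈ Suzuki.rootGroup h := ⟨a, b, rfl⟩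
    have ht' : Suzuki.T h c d ∈ Suzuki.rootGroup h := ⟨c, d, rfl⟩
    have hc : Suzuki.H h k * Suzuki.H h l = Suzuki.H h l * Suzuki.H h k := by
      rw [← Suzuki.H_mul, ← Suzuki.H_mul, mul_comm]
    have key : Suzuki.T h a b * Suzuki.H h k * (Suzuki.T h c d * Suzuki.H h l) * (Suzuki.T h a b * Suzuki.H h k)⁻¹ *
        (Suzuki.T h c d * Suzuki.H h l)⁻¹ = Suzuki.T h a b * (Suzuki.H h k * Suzuki.T h c d * (Suzuki.H h k)⁻¹) *
        (Suzuki.H h l * (Suzuki.T h a b)⁻¹ * (Suzuki.H h l)⁻¹) * (Suzuki.T h c d)⁻¹ := by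
      calc _ = Suzuki.T h a b * (Suzuki.H h k * Suzuki.T h c d * (Suzuki.H h k)⁻¹) *
            ((Suzuki.H h k * Suzuki.H h l) * (Suzuki.H h k)⁻¹) * (Suzuki.T h a b)⁻¹ * (Suzuki.H h l)⁻¹ *
            (Suzuki.T h c d)⁻¹ := by group
        _ = _ := by rw [hc]; group
    rw [key]
    exact mul_mem (mul_mem (mul_mem ht (hn k _ ht')) (hn l _ (inv_mem ht))) (inv_mem ht')
  · rw [Suzuki.rootSylow_coe] at hx hy
    exact (sz_central h (Suzuki.involution_in_rootGroup h hx hx2) hy).symm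

theorem borel_psu {F : Type} [Field F] [Fintype F] {n : ℕ} (hn : 2 ≤ n)
    (hF : Fintype.card F = (2 ^ n) ^ 2) : BorelFacts (Cfsg.PSU 3 F (2 ^ n)) := by
  classical
  haveI : Fact (Nat.Prime 2) := ⟨Nat.prime_two⟩
  obtain ⟨C⟩ := PSU3Index.exists_ctx hF
  obtain ⟨_, σ, _, hne, hσ, hq⟩ := SU3Sylow.setup (by omega : 1 ≤ n) hF
  set π : Cfsg.SU 3 F (2 ^ n) →* Cfsg.PSU 3 F (2 ^ n) :=
    QuotientGroup.mk' (Subgroup.center (Cfsg.SU 3 F (2 ^ n))) with hπ
  have hrad : IsPGroup 2 (PSU3Index.rad C) := PSU3Index.isPGroup_rad C (a := n) rfl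
  have hZodd : Odd (Nat.card (Subgroup.center (Cfsg.SU 3 F (2 ^ n)))) := by
    rw [HermSU.card_center_SU hne SU3Sylow.Inv2.inv2 hσ (by norm_num) hq]
    exact Odd.of_dvd_nat (by decide) (Nat.gcd_dvd_left 3 _)
  have hone : ∀ u z : Cfsg.SU 3 F (2 ^ n), u ∈ PSU3Index.rad C → z ∈ Subgroup.center (Cfsg.SU 3 F (2 ^ n)) →
      (∃ k : ℕ, (u * z) ^ 2 ^ k = 1) → z = 1 := by
    rintro u z hu hz ⟨k, hk⟩
    obtain ⟨j, hj⟩ := hrad ⟨u, hu⟩
    have hj' : u ^ 2 ^ j = 1 := congrArg Subtype.val hj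
    have h1 : (u * z) ^ 2 ^ (j + k) = 1 := by rw [pow_add, mul_comm, pow_mul, hk, one_pow]
    have hcz : Commute u z := Subgroup.mem_center_iff.1 hz u
    rw [hcz.mul_pow, pow_add, pow_mul, hj', one_pow, one_mul, ← pow_add] at h1
    refine orderOf_eq_one_iff.1 (Nat.eq_one_of_dvd_coprimes (Nat.Coprime.pow_left (j + k)
      (Nat.coprime_two_left.2 hZodd)) ?_ (Subgroup.orderOf_dvd_natCard _ hz))
    exact orderOf_dvd_of_pow_eq_one h1
  have hinj : Nat.card ((PSU3Index.rad C).map π) = (2 ^ n) ^ 3 := by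
    have hf : Function.Injective (π.comp (PSU3Index.rad C).subtype) := by
      rw [← MonoidHom.ker_eq_bot_iff, eq_bot_iff]
      intro u hu
      have hu' : (u : Cfsg.SU 3 F (2 ^ n)) ∈ Subgroup.center (Cfsg.SU 3 F (2 ^ n)) :=
        (QuotientGroup.eq_one_iff _).1 hu
      obtain ⟨j, hj⟩ := hrad u
      refine Subgroup.mem_bot.2 (Subtype.ext (hone 1 u (one_mem _) hu' ⟨j, ?_⟩))
      rw [one_mul]
      exact congrArg Subtype.val hj
    have e : (PSU3Index.rad C).map π = (π.comp (PSU3Index.rad C).subtype).range := by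
      rw [MonoidHom.range_comp, Subgroup.range_subtype]
    rw [e, Nat.card_congr (MonoidHom.ofInjective hf).symm.toEquiv, PSU3Index.card_rad]
  obtain ⟨P, hP⟩ := (IsPGroup.of_card (n := n * 3) (by rw [hinj, pow_mul]) :
    IsPGroup 2 ((PSU3Index.rad C).map π)).exists_le_sylow
  have hPr : (P : Subgroup (Cfsg.PSU 3 F (2 ^ n))) = (PSU3Index.rad C).map π := by
    refine (eq_of_le_of_card_ge hP ?_).symm
    rw [((params_psu hn hF).sylow P).1, hinj, ← pow_mul, mul_comm n 3]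
  refine BorelFacts.of_one P (fun x hx y hy => ?_) fun x hx hx2 y hy => ?_
  · obtain ⟨x, rfl⟩ := QuotientGroup.mk'_surjective _ x
    obtain ⟨y, rfl⟩ := QuotientGroup.mk'_surjective _ y
    have hB : ∀ g : Cfsg.SU 3 F (2 ^ n), π g ∈ normalizer ((P : Subgroup (Cfsg.PSU 3 F (2 ^ n))) : Set (Cfsg.PSU 3 F (2 ^ n))) →
        g ∈ PSU3Index.borel C := by
      intro g hg
      rw [← TorusCentral.normalizer_rad C]
      have hconj : ∀ u ∈ PSU3Index.rad C, g * u * g⁻¹ ∈ PSU3Index.rad C := by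
        intro u hu
        have h1 : π (g * u * g⁻¹) ∈ (P : Subgroup (Cfsg.PSU 3 F (2 ^ n))) := by
          rw [map_mul, map_mul, map_inv]
          exact (mem_normalizer_iff.1 hg _).1 (by rw [hPr]; exact ⟨u, hu, rfl⟩)
        rw [hPr] at h1
        obtain ⟨u', hu', e⟩ := h1
        have hz : u'⁻¹ * (g * u * g⁻¹) ∈ Subgroup.center (Cfsg.SU 3 F (2 ^ n)) := QuotientGroup.eq.1 e
        obtain ⟨j, hj⟩ := hrad ⟨u, hu⟩
        have hz1 := hone u' _ hu' hz ⟨j, by
          rw [mul_inv_cancel_left, conj_pow, show u ^ 2 ^ j = 1 from congrArg Subtype.val hj]; group⟩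
        rw [inv_mul_eq_one] at hz1
        exact hz1 ▸ hu'
      refine mem_normalizer_iff.2 fun u => ⟨hconj u, fun hu => ?_⟩
      set f : PSU3Index.rad C → PSU3Index.rad C := fun w => ⟨g * w * g⁻¹, hconj w w.2⟩
      have hf : Function.Surjective f := Finite.surjective_of_injective fun w w' e =>
        Subtype.ext (mul_left_cancel (mul_right_cancel (congrArg Subtype.val e)))
      obtain ⟨w, hw⟩ := hf ⟨_, hu⟩
      have h2 : g * (w : Cfsg.SU 3 F (2 ^ n)) * g⁻¹ = g * u * g⁻¹ := congrArg Subtype.val hw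
      rw [← mul_left_cancel (mul_right_cancel h2)]
      exact w.2
    have hx' := hB x hx
    have hy' := hB y hy
    rw [hPr, ← map_inv, ← map_inv, ← map_mul, ← map_mul, ← map_mul]
    refine mem_map_of_mem _ ⟨mul_mem (mul_mem (mul_mem hx' hy') (inv_mem hx')) (inv_mem hy'), ?_⟩
    have e1 := congrArg (PSU3Index.lam C) (show (⟨x, hx'⟩ : PSU3Index.borel C) * ⟨x, hx'⟩⁻¹ = 1 from mul_inv_cancel _)
    have e2 := congrArg (PSU3Index.lam C) (show (⟨y, hy'⟩ : PSU3Index.borel C) * ⟨y, hy'⟩⁻¹ = 1 from mul_inv_cancel _)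
    rw [map_mul, map_one] at e1 e2
    show PSU3Index.lam C (⟨x, hx'⟩ * ⟨y, hy'⟩ * ⟨x, hx'⟩⁻¹ * ⟨y, hy'⟩⁻¹) = 1
    rw [map_mul, map_mul, map_mul]
    linear_combination (PSU3Index.lam C ⟨y, hy'⟩ * PSU3Index.lam C ⟨y, hy'⟩⁻¹) * e1 + e2
  · obtain ⟨f⟩ := SU3Sylow.sylow_PSU_equiv hne (by omega) hσ hq P
    have hc : (f ⟨x, hx⟩) ∈ Subgroup.center (SU3Sylow.Heis σ) := by
      rw [SU3Sylow.Heis.mem_center_iff hne, ← SU3Sylow.Heis.mul_self_eq_one_iff, ← map_mul,
        show (⟨x, hx⟩ : (P : Subgroup (Cfsg.PSU 3 F (2 ^ n)))) * ⟨x, hx⟩ = 1 from Subtype.ext hx2, map_one]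
    have h1 := Subgroup.mem_center_iff.1 hc (f ⟨y, hy⟩)
    rw [← map_mul, ← map_mul] at h1
    exact (congrArg Subtype.val (f.injective h1)).symm

/-- The three families. -/
theorem borelFacts {L : Type u} [Group L] [Finite L] (hL : SEBender.IsBender L) : BorelFacts L := by
  rcases hL with ⟨F, _, _, ⟨n, hn, hF⟩, ⟨f⟩⟩ | ⟨F, _, _, m, hm, hF, ⟨f⟩⟩ | ⟨F, _, _, n, hn, hF, ⟨f⟩⟩
  · haveI : CharP F 2 := by
      haveI : Fact (Nat.Prime 2) := ⟨Nat.prime_two⟩
      exact charP_of_card_eq_prime_pow hF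
    obtain ⟨g⟩ := SEMain.psl_equiv_sl (F := F)
    exact (borel_sl_two hn hF).congr (f.trans g)
  · have h : Suzuki.SzField F m := ⟨hm, hF⟩
    exact (borel_sz h).congr (f.trans (Suzuki.minorEquiv h).symm)
  · exact (borel_psu hn hF).congr f

end Cfsg.Agent.GoodInvol
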