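import Cfsg.Agent.Lib.GoodInvol.BenderBorel
import Cfsg.Agent.Lib.ThreePrime.Frame

/-!
# The torus in the normaliser of a Sylow 2-subgroup of a Bender group

Cyclicity modulo the Sylow subgroup, the fixed point free action on its involutions and on its quotient by them, the
order for the unitary family and the automorphisms fixing the involutions for the Suzuki family.
-/

set_option autoImplicit false
set_option linter.style.haveILetI false
set_option linter.unusedSectionVars false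

namespace Cfsg.Agent.GoodInvol

open Subgroup

universe u v

/-- The facts about one subgroup `P`. -/
structure TorusAt {L : Type u} [Group L] (P : Subgroup L) (r e : ℕ) : Prop where
  cyclic : ∃ g ∈ normalizer (P : Set L), ∀ x ∈ normalizer (P : Set L), ∃ i : ℕ, (g ^ i)⁻¹ * x ∈ P
  sq : ∀ x ∈ P, x * x * (x * x) = 1
  comm2 : ∀ x ∈ P, ∀ y ∈ P, x * y * x⁻¹ * y⁻¹ * (x * y * x⁻¹ * y⁻¹) = 1
  fpf : ∀ x ∈ normalizer (P : Set L), ∀ z ∈ P, z ≠ 1 → z * z = 1 → Commute x z →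
    (e = 3 → x ^ (2 ^ r - 1) ∈ P) → x ∈ P
  fpfQ : ∀ x ∈ normalizer (P : Set L), ∀ y ∈ P, y * y ≠ 1 →
    x * y * x⁻¹ * y⁻¹ * (x * y * x⁻¹ * y⁻¹) = 1 → x ∈ P
  norm_card : e = 3 → ∃ g : ℕ, g ∣ 3 ∧
    Nat.card (normalizer (P : Set L)) * g = 2 ^ (3 * r) * (2 ^ (2 * r) - 1)
  aut : e = 2 → ∀ α : MulAut L, (∀ z ∈ P, z * z = 1 → α z = z) → ∃ v ∈ P, α = MulAut.conj v
  center : e ≠ 3 → ∀ y ∈ P, (∀ z ∈ P, Commute y z) → y * y = 1
  comm_sq : e = 2 → ∀ y ∈ P, ∀ z ∈ P, y * y ≠ 1 → z * z ≠ 1 → Commute y z → y * y = z * z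
  comm3 : e = 3 → ∀ y ∈ P, y * y ≠ 1 → (∃ z ∈ P, ¬ Commute y z) ∧
    ∀ z ∈ P, ∀ w ∈ P, Commute y z → Commute y w → Commute z w

/-- The facts transport along isomorphisms. -/
theorem TorusAt.congr {L : Type u} {K : Type v} [Group L] [Group K] (f : L ≃* K) {P : Subgroup L} {P' : Subgroup K}
    (hmem : ∀ x, f x ∈ P' ↔ x ∈ P) {r e : ℕ} (hK : TorusAt P' r e) : TorusAt P r e := by
  have hN : ∀ x, f x ∈ normalizer (P' : Set K) ↔ x ∈ normalizer (P : Set L) := fun x => by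
    rw [mem_normalizer_iff, mem_normalizer_iff]
    refine ⟨fun h z => ?_, fun h z => ?_⟩
    · have := h (f z)
      rwa [← map_inv, ← map_mul, ← map_mul, hmem, hmem] at this
    · obtain ⟨z, rfl⟩ := f.surjective z
      rw [← map_inv, ← map_mul, ← map_mul, hmem, hmem]
      exact h z
  have hc : ∀ x y : L, f (x * y * x⁻¹ * y⁻¹) = f x * f y * (f x)⁻¹ * (f y)⁻¹ := fun x y => by simp
  refine ⟨?_, fun x hx => f.injective ?_, fun x hx y hy => f.injective ?_, fun x hx z hz hz1 hz2 hxz he => ?_,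
    fun x hx y hy hy1 hxy => ?_, fun he => ?_, fun he α hα => ?_, fun he y hy hyc => f.injective ?_,
    fun he y hy z hz hy1 hz1 hyz => f.injective ?_, fun he y hy hy1 => ?_⟩
  · obtain ⟨g, hg, hgen⟩ := hK.cyclic
    obtain ⟨g, rfl⟩ := f.surjective g
    refine ⟨g, (hN g).1 hg, fun x hx => ?_⟩
    obtain ⟨i, hi⟩ := hgen (f x) ((hN x).2 hx)
    exact ⟨i, (hmem _).1 (by rwa [map_mul, map_inv, map_pow])⟩
  · rw [map_one, map_mul, map_mul]
    exact hK.sq _ ((hmem x).2 hx)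
  · rw [map_one, map_mul, hc]
    exact hK.comm2 _ ((hmem x).2 hx) _ ((hmem y).2 hy)
  · exact (hmem x).1 (hK.fpf _ ((hN x).2 hx) _ ((hmem z).2 hz) (fun e1 => hz1 (f.injective (e1.trans (map_one f).symm)))
      (by rw [← map_mul, hz2, map_one]) (hxz.map f) fun h3 => by rw [← map_pow]; exact (hmem _).2 (he h3))
  · refine (hmem x).1 (hK.fpfQ _ ((hN x).2 hx) _ ((hmem y).2 hy) (fun e1 => hy1 (f.injective ?_)) ?_)
    · rw [map_mul, map_one]; exact e1
    · rw [← hc, ← map_mul, hxy, map_one]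
  · obtain ⟨g, hg, hgc⟩ := hK.norm_card he
    refine ⟨g, hg, ?_⟩
    rw [← hgc]
    congr 1
    exact Nat.card_congr (f.toEquiv.subtypeEquiv fun x => (hN x).symm)
  · obtain ⟨v, hv, hαv⟩ := hK.aut he ((f.symm.trans α).trans f) fun z hz hz2 => by
      obtain ⟨z, rfl⟩ := f.surjective z
      show f (α (f.symm (f z))) = f z
      rw [f.symm_apply_apply, hα z ((hmem z).1 hz) (f.injective (by rw [map_mul, map_one]; exact hz2))]
    obtain ⟨v, rfl⟩ := f.surjective v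
    refine ⟨v, (hmem v).1 hv, MulEquiv.ext fun y => f.injective ?_⟩
    have := MulEquiv.ext_iff.1 hαv (f y)
    change f (α (f.symm (f y))) = f v * f y * (f v)⁻¹ at this
    rw [f.symm_apply_apply] at this
    rw [this, MulAut.conj_apply]
    simp
  · rw [map_mul, map_one]
    refine hK.center he _ ((hmem y).2 hy) fun z hz => ?_
    obtain ⟨z, rfl⟩ := f.surjective z
    exact (hyc z ((hmem z).1 hz)).map f
  · rw [map_mul, map_mul]
    exact hK.comm_sq he _ ((hmem y).2 hy) _ ((hmem z).2 hz)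
      (fun e1 => hy1 (f.injective (by rw [map_mul, e1, map_one])))
      (fun e1 => hz1 (f.injective (by rw [map_mul, e1, map_one]))) (hyz.map f)
  · obtain ⟨⟨z, hz, hyz⟩, htr⟩ := hK.comm3 he _ ((hmem y).2 hy)
      (fun e1 => hy1 (f.injective (by rw [map_mul, e1, map_one])))
    refine ⟨?_, fun z hz w hw h1 h2 => ?_⟩
    · obtain ⟨z, rfl⟩ := f.surjective z
      exact ⟨z, (hmem z).1 hz, fun h1 => hyz (h1.map f)⟩
    · have h3 := htr _ ((hmem z).2 hz) _ ((hmem w).2 hw) (h1.map f) (h2.map f)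
      exact f.injective (by rw [map_mul, map_mul]; exact h3.eq)

/-- The facts at every Sylow 2-subgroup. -/
def TorusFacts (L : Type u) [Group L] (r e : ℕ) : Prop := ∀ P : Sylow 2 L, TorusAt (P : Subgroup L) r e

theorem TorusFacts.of_one {L : Type u} [Group L] [Finite L] {r e : ℕ} (P : Sylow 2 L)
    (hP : TorusAt (P : Subgroup L) r e) : TorusFacts L r e := fun Q => by
  haveI : Fact (Nat.Prime 2) := ⟨Nat.prime_two⟩
  obtain ⟨g, hg⟩ := MulAction.exists_smul_eq L Q P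
  refine hP.congr (MulAut.conj g) fun x => ?_
  rw [← hg, Sylow.coe_subgroup_smul, Subgroup.mem_pointwise_smul_iff_inv_smul_mem, ← map_inv, MulAut.smul_def,
    MulAut.conj_apply, MulAut.conj_apply, inv_inv, show g⁻¹ * (g * x * g⁻¹) * g = x by group]

theorem TorusFacts.congr {L : Type u} {K : Type v} [Group L] [Group K] [Finite L] (f : L ≃* K) {r e : ℕ}
    (hK : TorusFacts K r e) : TorusFacts L r e := fun P =>
  TorusAt.congr (P := (P : Subgroup L)) f
    (fun x => show f x ∈ (P : Subgroup L).map f.toMonoidHom ↔ x ∈ (P : Subgroup L) from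
      ⟨fun ⟨w, hw, e⟩ => f.injective e ▸ hw, fun hz => ⟨x, hz, rfl⟩⟩)
    (hK (P.mapSurjective (f := f.toMonoidHom) f.surjective))

/-- A homomorphism to a finite field with kernel in `P` makes the quotient cyclic. -/
theorem exists_gen {L : Type u} [Group L] [Finite L] {F : Type} [Field F] [Finite F] {N P : Subgroup L} (φ : N →* F)
    (hφ : ∀ x : N, φ x = 1 → (x : L) ∈ P) : ∃ g ∈ N, ∀ x ∈ N, ∃ i : ℕ, (g ^ i)⁻¹ * x ∈ P := by
  obtain ⟨⟨_, g, rfl⟩, hgen⟩ := (inferInstance : IsCyclic (φ.toHomUnits).range).exists_generator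
  refine ⟨g, g.2, fun x hx => ?_⟩
  obtain ⟨i, hi⟩ := (isOfFinOrder_of_finite _).mem_powers_iff_mem_zpowers.2 (hgen ⟨_, ⟨x, hx⟩, rfl⟩)
  refine ⟨i, ?_⟩
  have h1 : φ.toHomUnits g ^ i = φ.toHomUnits ⟨x, hx⟩ := congrArg Subtype.val hi
  have h2 := hφ ((g ^ i)⁻¹ * ⟨x, hx⟩) (by
    rw [← MonoidHom.coe_toHomUnits φ, map_mul, map_inv, map_pow, h1, inv_mul_cancel, Units.val_one])
  simpa using h2

theorem torus_sl_two {F : Type} [Field F] [Fintype F] [CharP F 2] {r : ℕ} (hr : 2 ≤ r)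
    (hF : Fintype.card F = 2 ^ r) : TorusFacts (Matrix.SpecialLinearGroup (Fin 2) F) r 1 := by
  classical
  haveI : Fact (Nat.Prime 2) := ⟨Nat.prime_two⟩
  set U : Subgroup (Matrix.SpecialLinearGroup (Fin 2) F) := (upperHom F).range with hU
  have hinj : Function.Injective (upperHom F) := fun a b hab => Multiplicative.toAdd.injective
    (congrFun (congrFun (congrArg Subtype.val hab) 0) 1)
  have hM : Nat.card (Multiplicative F) = 2 ^ r := by
    rw [Nat.card_congr Multiplicative.toAdd, Nat.card_eq_fintype_card, hF]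
  have hUc : Nat.card U = 2 ^ r := by rw [← hM, hU, Nat.card_congr (MonoidHom.ofInjective hinj).symm.toEquiv]
  obtain ⟨P, hP⟩ := (IsPGroup.of_card hUc).exists_le_sylow
  have hPU : (P : Subgroup (Matrix.SpecialLinearGroup (Fin 2) F)) = U :=
    (eq_of_le_of_card_ge hP (by rw [((params_sl_two hr hF).sylow P).1, hUc, one_mul])).symm
  refine TorusFacts.of_one P ?_
  rw [hPU]
  have hdet : ∀ g : Matrix.SpecialLinearGroup (Fin 2) F, g.1 0 0 * g.1 1 1 - g.1 0 1 * g.1 1 0 = 1 := fun g => by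
    rw [← Matrix.det_fin_two]; exact g.2
  have hmemU : ∀ g : Matrix.SpecialLinearGroup (Fin 2) F, g.1 0 0 = 1 → g.1 1 0 = 0 → g ∈ U := by
    intro g h00 h10
    refine ⟨Multiplicative.ofAdd (g.1 0 1), Subtype.ext ?_⟩
    have h11 := hdet g
    rw [h00, h10, one_mul, mul_zero, sub_zero] at h11
    show (!![1, g.1 0 1; 0, 1] : Matrix (Fin 2) (Fin 2) F) = g.1
    ext i j
    fin_cases i <;> fin_cases j <;> simp [h00, h10, h11]
  have hB : ∀ g ∈ normalizer (U : Set (Matrix.SpecialLinearGroup (Fin 2) F)), g.1 1 0 = 0 := by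
    intro g hg
    obtain ⟨a, ha⟩ := (mem_normalizer_iff.1 hg (upperHom F (Multiplicative.ofAdd 1))).1 ⟨_, rfl⟩
    have h2 := congrFun (congrFun (congrArg Subtype.val ha) 1) 0
    rw [Matrix.SpecialLinearGroup.coe_mul, Matrix.SpecialLinearGroup.coe_mul, Matrix.SpecialLinearGroup.coe_inv,
      Matrix.adjugate_fin_two, show (upperHom F (Multiplicative.ofAdd 1)).1 = !![1, 1; 0, 1] from rfl,
      show (upperHom F a).1 = !![1, a.toAdd; 0, 1] from rfl] at h2
    simp [Matrix.mul_apply, Fin.sum_univ_two] at h2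
    have h3 : g.1 1 0 * g.1 1 0 = 0 := by linear_combination h2
    simpa using h3
  have hUU : ∀ x ∈ U, x * x = 1 := by
    rintro _ ⟨a, rfl⟩
    rw [← map_mul, show a * a = 1 from CharTwo.add_self_eq_zero a.toAdd, map_one]
  refine ⟨?_, fun x hx => by rw [hUU x hx, one_mul], ?_, ?_, fun x _ y hy hy1 => absurd (hUU y hy) hy1,
    fun he => by omega, fun he => by omega, fun _ y hy _ => hUU y hy, fun he => by omega, fun he => by omega⟩
  · let φ : normalizer (U : Set (Matrix.SpecialLinearGroup (Fin 2) F)) →* F :=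
      { toFun := fun g => g.1.1 0 0
        map_one' := by simp
        map_mul' := fun g g' => by
          show (g.1 * g'.1).1 0 0 = _
          rw [Matrix.SpecialLinearGroup.coe_mul, Matrix.mul_apply, Fin.sum_univ_two, hB _ g'.2, mul_zero, add_zero] }
    exact exists_gen φ fun g hg => hmemU _ hg (hB _ g.2)
  · intro x hx y hy
    refine hUU _ (mul_mem (mul_mem (mul_mem hx hy) (inv_mem hx)) (inv_mem hy))
  · rintro x hx _ ⟨a, rfl⟩ ha1 _ hc -
    have ha : a.toAdd ≠ 0 := fun e => ha1 (by rw [show a = 1 from Multiplicative.toAdd.injective e, map_one])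
    have h1 := congrFun (congrFun (congrArg Subtype.val hc.eq) 0) 1
    rw [Matrix.SpecialLinearGroup.coe_mul, Matrix.SpecialLinearGroup.coe_mul,
      show (upperHom F a).1 = !![1, a.toAdd; 0, 1] from rfl] at h1
    simp [Matrix.mul_apply, Fin.sum_univ_two] at h1
    have h2 : (x.1 0 0 - x.1 1 1) * a.toAdd = 0 := by linear_combination h1
    have h3 : x.1 0 0 = x.1 1 1 := sub_eq_zero.1 ((mul_eq_zero.1 h2).resolve_right ha)
    have h4 := hdet x
    rw [hB x hx, mul_zero, sub_zero, ← h3] at h4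
    refine hmemU x ?_ (hB x hx)
    rcases mul_self_eq_one_iff.1 h4 with h5 | h5
    · exact h5
    · rw [h5, CharTwo.neg_eq]

theorem torus_sz {F : Type} [Field F] [Fintype F] {m : ℕ} (h : Suzuki.SzField F m) :
    TorusFacts (Cfsg.Sz F m) (2 * m + 1) 2 := by
  refine TorusFacts.of_one (Suzuki.rootSylow h) ?_
  rw [Suzuki.rootSylow_coe]
  have hN := Suzuki.normalizer_rootGroup h
  have hroot : ∀ a b, Suzuki.T h a b ∈ Suzuki.rootGroup h := fun a b => ⟨a, b, rfl⟩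
  refine ⟨?_, ?_, ?_, ?_, ?_, fun he => by omega, fun _ α hα => ?_, fun _ y hy hyc => ?_,
    fun _ y hy z hz hy1 hz1 hyz => ?_, fun he => by omega⟩
  · obtain ⟨k0, hk0⟩ := (inferInstance : IsCyclic Fˣ).exists_generator
    refine ⟨Suzuki.H h k0, by rw [hN]; exact Suzuki.H_mem_borel h k0, fun x hx => ?_⟩
    rw [hN] at hx
    obtain ⟨a, b, k, rfl⟩ := Suzuki.borel_form h hx
    obtain ⟨i, hi⟩ := (isOfFinOrder_of_finite k0).mem_powers_iff_mem_zpowers.2 (hk0 k)
    refine ⟨i, ?_⟩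
    have hp : ∀ j : ℕ, Suzuki.H h k0 ^ j = Suzuki.H h (k0 ^ j) := fun j => by
      induction j with
      | zero => rw [pow_zero, pow_zero, Suzuki.H_one]
      | succ j ih => rw [pow_succ, pow_succ, Suzuki.H_mul, ih]
    rw [hp, show k0 ^ i = k from hi, ← mul_assoc,
      show (Suzuki.H h k)⁻¹ * Suzuki.T h a b * Suzuki.H h k =
        (Suzuki.H h k)⁻¹ * Suzuki.T h a b * (Suzuki.H h k)⁻¹⁻¹ by rw [inv_inv]]
    refine (mem_normalizer_iff.1 ?_ _).1 (hroot a b)
    rw [hN]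
    exact inv_mem (Suzuki.H_mem_borel h k)
  · rintro _ ⟨a, b, rfl⟩
    rw [Suzuki.T_sq, Suzuki.T_sq, mul_zero, Suzuki.T_zero]
  · rintro _ ⟨a, b, rfl⟩ _ ⟨c, d, rfl⟩
    rw [Suzuki.T_comm h a b c d,
      show Suzuki.T h 0 (Suzuki.θ m a * c + Suzuki.θ m c * a) * (Suzuki.T h c d * Suzuki.T h a b) *
        (Suzuki.T h a b)⁻¹ * (Suzuki.T h c d)⁻¹ = Suzuki.T h 0 (Suzuki.θ m a * c + Suzuki.θ m c * a) by group,
      Suzuki.T_sq, mul_zero, Suzuki.T_zero]
  · intro x hx z hz hz1 hz2 hc _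
    rw [hN] at hx
    obtain ⟨b0, rfl⟩ := Suzuki.involution_in_rootGroup h hz hz2
    obtain ⟨a, b, k, rfl⟩ := Suzuki.borel_form h hx
    have h1 := Suzuki.TH_conj_zero h a b k b0
    rw [mul_inv_eq_iff_eq_mul.2 hc.eq] at h1
    have h2 := (Suzuki.T_injective h h1).2
    have hb0 : b0 ≠ 0 := fun e => hz1 (by rw [e, Suzuki.T_zero])
    have h3 : Suzuki.θ m (k : F) * k = 1 := mul_right_cancel₀ hb0 (by rw [one_mul]; exact h2.symm)
    have hk : k = 1 := Units.ext (h.θ_mul_self_injective k.ne_zero one_ne_zero (by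
      rw [Units.val_one, Suzuki.θ_one, mul_one]; exact h3))
    rw [hk, Suzuki.H_one, mul_one]
    exact hroot a b
  · intro x hx y hy hy1 hxy
    rw [hN] at hx
    obtain ⟨c, d, rfl⟩ := hy
    obtain ⟨a, b, k, rfl⟩ := Suzuki.borel_form h hx
    rw [Suzuki.TH_conj] at hxy
    rw [Suzuki.T_inv, Suzuki.T_mul, Suzuki.T_sq] at hxy
    have hc0 : c ≠ 0 := fun e => hy1 (by rw [Suzuki.T_sq, e, mul_zero, Suzuki.T_zero])
    have h2 := ((Suzuki.eq_one_iff_T h).1 hxy).2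
    have h3 : (k : F) * c + c = 0 := by
      rcases mul_eq_zero.1 h2 with e | e
      · exact h.θ_eq_zero.1 e
      · exact e
    have h4 : (k : F) * c = 1 * c := by rw [one_mul]; exact (h.eq_iff_add_eq_zero _ _).2 h3
    have hk : k = 1 := Units.ext (mul_right_cancel₀ hc0 h4)
    rw [hk, Suzuki.H_one, mul_one]
    exact hroot a b
  · exact ThreePrime.exists_root_of_fix_zGroup h α fun z hz => hα z (Suzuki.zGroup_le h hz) (by
      obtain ⟨b, rfl⟩ := hz
      rw [Suzuki.T_sq, mul_zero, Suzuki.T_zero])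
  · obtain ⟨a, b, rfl⟩ := hy
    suffices ha : a = 0 by rw [Suzuki.T_sq, ha, mul_zero, Suzuki.T_zero]
    by_contra ha
    obtain ⟨c, hc⟩ := h.exists_θ_ne
    have h1 := Suzuki.T_comm h a b (a * c) 0
    rw [(hyc _ (hroot (a * c) 0)).eq] at h1
    have h2 := ((Suzuki.eq_one_iff_T h).1 (right_eq_mul.1 h1)).2
    rw [Suzuki.θ_mul] at h2
    refine hc ((h.eq_iff_add_eq_zero _ _).2 ?_)
    have h3 : Suzuki.θ m a * a * (Suzuki.θ m c + c) = 0 := by linear_combination h2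
    exact (mul_eq_zero.1 h3).resolve_left (mul_ne_zero (fun e => ha (h.θ_eq_zero.1 e)) ha)
  · obtain ⟨a, b, rfl⟩ := hy
    obtain ⟨c, d, rfl⟩ := hz
    have ha : a ≠ 0 := fun e => hy1 (by rw [Suzuki.T_sq, e, mul_zero, Suzuki.T_zero])
    have hc : c ≠ 0 := fun e => hz1 (by rw [Suzuki.T_sq, e, mul_zero, Suzuki.T_zero])
    have h1 := Suzuki.T_comm h a b c d
    rw [hyz.eq] at h1
    have h2 := ((Suzuki.eq_one_iff_T h).1 (right_eq_mul.1 h1)).2
    obtain ⟨l, rfl⟩ : ∃ l, c = a * l := ⟨c / a, (mul_div_cancel₀ c ha).symm⟩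
    rw [Suzuki.θ_mul] at h2
    have h3 : Suzuki.θ m a * a * (Suzuki.θ m l + l) = 0 := by linear_combination h2
    have h4 := (h.eq_iff_add_eq_zero _ _).2
      ((mul_eq_zero.1 h3).resolve_left (mul_ne_zero (fun e => ha (h.θ_eq_zero.1 e)) ha))
    rcases h.θ_eq_self h4 with rfl | rfl
    · exact absurd (mul_zero a) hc
    · rw [Suzuki.T_sq, Suzuki.T_sq, mul_one]

theorem torus_psu {F : Type} [Field F] [Fintype F] {n : ℕ} (hn : 2 ≤ n)
    (hF : Fintype.card F = (2 ^ n) ^ 2) : TorusFacts (Cfsg.PSU 3 F (2 ^ n)) n 3 := by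
  classical
  haveI : Fact (Nat.Prime 2) := ⟨Nat.prime_two⟩
  obtain ⟨C⟩ := PSU3Index.exists_ctx hF
  obtain ⟨_, σ, _, hne, hσ, hq⟩ := SU3Sylow.setup (by omega : 1 ≤ n) hF
  set π : Cfsg.SU 3 F (2 ^ n) →* Cfsg.PSU 3 F (2 ^ n) :=
    QuotientGroup.mk' (Subgroup.center (Cfsg.SU 3 F (2 ^ n))) with hπ
  have hrad : IsPGroup 2 (PSU3Index.rad C) := PSU3Index.isPGroup_rad C (a := n) rfl
  have hZc : Nat.card (Subgroup.center (Cfsg.SU 3 F (2 ^ n))) = Nat.gcd 3 (2 ^ n + 1) :=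
    HermSU.card_center_SU hne SU3Sylow.Inv2.inv2 hσ (by norm_num) hq
  have hZodd : Odd (Nat.card (Subgroup.center (Cfsg.SU 3 F (2 ^ n)))) := by
    rw [hZc]
    exact Odd.of_dvd_nat (by decide) (Nat.gcd_dvd_left 3 _)
  have hone : ∀ z ∈ PSU3Index.rad C, z ∈ Subgroup.center (Cfsg.SU 3 F (2 ^ n)) → z = 1 := by
    intro z hz hzc
    obtain ⟨j, hj⟩ := hrad ⟨z, hz⟩
    exact orderOf_eq_one_iff.1 (Nat.eq_one_of_dvd_coprimes (Nat.Coprime.pow_left j
      (Nat.coprime_two_left.2 hZodd)) (orderOf_dvd_of_pow_eq_one (congrArg Subtype.val hj))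
      (Subgroup.orderOf_dvd_natCard _ hzc))
  have hinjπ : ∀ u ∈ PSU3Index.rad C, ∀ v ∈ PSU3Index.rad C, π u = π v → u = v := fun u hu v hv e =>
    inv_mul_eq_one.1 (hone _ (mul_mem (inv_mem hu) hv) (QuotientGroup.eq.1 e))
  have hinj : Nat.card ((PSU3Index.rad C).map π) = (2 ^ n) ^ 3 := by
    rw [← PSU3Index.card_rad C]
    refine (Nat.card_eq_of_bijective (fun u : PSU3Index.rad C => (⟨π u, mem_map_of_mem π u.2⟩ :
      (PSU3Index.rad C).map π)) ⟨fun u v e => Subtype.ext (hinjπ u u.2 v v.2 (congrArg Subtype.val e)), ?_⟩).symm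
    rintro ⟨_, u, hu, rfl⟩
    exact ⟨⟨u, hu⟩, rfl⟩
  obtain ⟨P, hP⟩ := (IsPGroup.of_card (n := n * 3) (by rw [hinj, pow_mul]) :
    IsPGroup 2 ((PSU3Index.rad C).map π)).exists_le_sylow
  have hPr : (P : Subgroup (Cfsg.PSU 3 F (2 ^ n))) = (PSU3Index.rad C).map π :=
    (eq_of_le_of_card_ge hP (by rw [((params_psu hn hF).sylow P).1, hinj, ← pow_mul, mul_comm n 3])).symm
  obtain ⟨fH⟩ := SU3Sylow.sylow_PSU_equiv hne (by omega) hσ hq P
  refine TorusFacts.of_one P ?_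
  -- the preimage of the normaliser
  have hB : ∀ g : Cfsg.SU 3 F (2 ^ n), π g ∈ normalizer ((P : Subgroup (Cfsg.PSU 3 F (2 ^ n))) :
      Set (Cfsg.PSU 3 F (2 ^ n))) → g ∈ PSU3Index.borel C := by
    intro g hg
    obtain ⟨u, hu, hu1⟩ : ∃ u ∈ PSU3Index.rad C, u ≠ 1 := by
      haveI : Nontrivial (PSU3Index.rad C) := (Finite.one_lt_card_iff_nontrivial).1 (by
        rw [PSU3Index.card_rad]
        exact Nat.one_lt_pow three_ne_zero (PSU3Index.q_two_le C))
      obtain ⟨u, hu⟩ := exists_ne (1 : PSU3Index.rad C)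
      exact ⟨u, u.2, fun e => hu (Subtype.ext e)⟩
    by_contra hgB
    have h1 : π (g * u * g⁻¹) ∈ (P : Subgroup (Cfsg.PSU 3 F (2 ^ n))) := by
      rw [map_mul, map_mul, map_inv]
      exact (mem_normalizer_iff.1 hg _).1 (by rw [hPr]; exact mem_map_of_mem π hu)
    rw [hPr] at h1
    obtain ⟨u', hu', e⟩ := h1
    have h2 : g * u * g⁻¹ ∈ PSU3Index.borel C := by
      have := mul_mem hu'.1 (PSU3Index.center_le_borel C (QuotientGroup.eq.1 e))
      rwa [mul_inv_cancel_left] at this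
    refine hu1 (PSU3Index.rad_eq_one C hu (x := g⁻¹ • PSU3Index.base C) (fun e => hgB ?_) ?_)
    · simpa using inv_mem ((PSU3Index.smul_base_eq_iff C).1 e)
    · rw [eq_inv_smul_iff, ← mul_smul, ← mul_smul]
      exact (PSU3Index.smul_base_eq_iff C).2 h2
  have hBN : ∀ g ∈ PSU3Index.borel C, π g ∈ normalizer ((P : Subgroup (Cfsg.PSU 3 F (2 ^ n))) :
      Set (Cfsg.PSU 3 F (2 ^ n))) := by
    intro g hg
    refine mem_normalizer_iff.2 fun z => ?_
    rw [hPr]
    refine ⟨?_, ?_⟩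
    · rintro ⟨u, hu, rfl⟩
      exact ⟨g * u * g⁻¹, PSU3Index.rad_conj C hg hu, by simp⟩
    · rintro ⟨u, hu, e⟩
      refine ⟨g⁻¹ * u * g⁻¹⁻¹, PSU3Index.rad_conj C (inv_mem hg) hu, ?_⟩
      simp only [map_mul, map_inv, e]
      group
  have hlift : ∀ x ∈ normalizer ((P : Subgroup (Cfsg.PSU 3 F (2 ^ n))) : Set (Cfsg.PSU 3 F (2 ^ n))),
      ∃ g ∈ PSU3Index.borel C, π g = x := fun x hx => by
    obtain ⟨g, rfl⟩ := QuotientGroup.mk'_surjective _ x
    exact ⟨g, hB g hx, rfl⟩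
  -- elements with a diagonal entry a cube root of unity
  have hcube : ∀ g (hg : g ∈ PSU3Index.borel C), PSU3Index.lam C ⟨g, hg⟩ ^ 3 = 1 →
      PSU3Index.lam C ⟨g, hg⟩ ^ (2 ^ n + 1) = 1 → π g ∈ (P : Subgroup (Cfsg.PSU 3 F (2 ^ n))) := by
    intro g hg h3 hq1
    rw [hPr]
    by_cases h31 : Nat.gcd 3 (2 ^ n + 1) = 1
    · exact mem_map_of_mem π ⟨hg, by
        have := pow_gcd_eq_one.2 ⟨h3, hq1⟩
        rwa [h31, pow_one] at this⟩
    have hg3 : Nat.gcd 3 (2 ^ n + 1) = 3 :=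
      ((Nat.dvd_prime Nat.prime_three).1 (Nat.gcd_dvd_left _ _)).resolve_left h31
    haveI : Fact (Nat.Prime 3) := ⟨Nat.prime_three⟩
    obtain ⟨c, hc, hc1⟩ : ∃ c ∈ Subgroup.center (Cfsg.SU 3 F (2 ^ n)), c ≠ 1 := by
      haveI : Nontrivial (Subgroup.center (Cfsg.SU 3 F (2 ^ n))) := (Finite.one_lt_card_iff_nontrivial).1 (by
        rw [hZc, hg3]; norm_num)
      obtain ⟨c, hc⟩ := exists_ne (1 : Subgroup.center (Cfsg.SU 3 F (2 ^ n)))
      exact ⟨c, c.2, fun e => hc (Subtype.ext e)⟩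
    set z := PSU3Index.lam C ⟨c, PSU3Index.center_le_borel C hc⟩ with hz
    have hz1 : z ≠ 1 := fun e => hc1 (hone c ⟨PSU3Index.center_le_borel C hc, e⟩ hc)
    have hz3 : z ^ 3 = 1 := by
      rw [hz, ← map_pow]
      have h := pow_card_eq_one' (x := (⟨c, hc⟩ : Subgroup.center (Cfsg.SU 3 F (2 ^ n))))
      rw [hZc, hg3] at h
      rw [show (⟨c, PSU3Index.center_le_borel C hc⟩ : PSU3Index.borel C) ^ 3 = 1 from
        Subtype.ext (congrArg (fun w : Subgroup.center (Cfsg.SU 3 F (2 ^ n)) => (w : Cfsg.SU 3 F (2 ^ n))) h), map_one]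
    have hprim : IsPrimitiveRoot z 3 := IsPrimitiveRoot.iff_orderOf.2 (orderOf_eq_prime hz3 hz1)
    obtain ⟨i, -, hi⟩ := hprim.eq_pow_of_pow_eq_one h3
    refine ⟨g * (c ^ i)⁻¹, ⟨mul_mem hg (inv_mem (pow_mem (PSU3Index.center_le_borel C hc) i)), ?_⟩, ?_⟩
    · show PSU3Index.lam C (⟨g, hg⟩ * ((⟨c, PSU3Index.center_le_borel C hc⟩ : PSU3Index.borel C) ^ i)⁻¹) = 1
      rw [map_mul, ← hi, hz, ← map_pow, ← map_mul, mul_inv_cancel, map_one]
    · rw [map_mul, map_inv, map_pow, show π c = 1 from (QuotientGroup.eq_one_iff c).2 hc, one_pow, inv_one, mul_one]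
  -- the sum of the matrix facts
  have hform : ∀ g ∈ PSU3Index.borel C, ∀ u ∈ PSU3Index.rad C, ∀ v ∈ PSU3Index.rad C,
      v * v = 1 → g * u = v * u * g →
      ∃ (a b l : F) (hl : l ≠ 0), (∃ hab : b + C.σ b + a * C.σ a = 0, u = PSU3Index.uEl C a b hab) ∧
        (∀ hg : g ∈ PSU3Index.borel C, PSU3Index.lam C ⟨g, hg⟩ = l) ∧
        PSU3Index.mu C l * a = a ∧ (a = 0 → v = 1 → PSU3Index.nu C l * b = b) := by
    intro g hg u hu v hv hv2 he
    obtain ⟨a, b, hab, rfl⟩ := PSU3Index.rad_form C hu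
    obtain ⟨a1, b1, hab1, rfl⟩ := PSU3Index.rad_form C hv
    obtain ⟨a0, b0, l, hl, hab0, rfl, hl'⟩ := PSU3Index.borel_form C hg
    have ha1 : a1 = 0 := by
      have h1 := congrArg (PSU3Index.mat C) hv2
      rw [PSU3Index.mat_mul, PSU3Index.mat_uEl, PSU3Index.mat_one, PSU3Index.uu_mul] at h1
      have h02 := congrFun (congrFun h1 0) 2
      have h11 := congrFun (congrFun h1 1) 2
      simp [SU3Root.uu] at h02 h11
      have hab1' := hab1
      have h2 : a1 * C.σ a1 = 0 := by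
        haveI : CharP F 2 := ‹CharP F 2›
        have e2 : (2 : F) = 0 := CharTwo.two_eq_zero
        linear_combination (-1 : F) * h02 + b1 * e2
      rcases mul_eq_zero.1 h2 with e | e
      · exact e
      · exact (map_eq_zero C.σ).1 e
    subst ha1
    have h2 := congrArg (PSU3Index.mat C) he
    simp only [PSU3Index.mat_mul, PSU3Index.mat_uEl, PSU3Index.mat_dEl, Matrix.mul_assoc,
      PSU3Index.dd_uu C hl] at h2
    simp only [← Matrix.mul_assoc] at h2
    simp only [PSU3Index.uu_mul] at h2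
    simp only [PSU3Index.uu_dd_apply] at h2
    have hσl : C.σ l ≠ 0 := (map_ne_zero C.σ).2 hl
    have h12 := congrFun (congrFun h2 1) 2
    have h02 := congrFun (congrFun h2 0) 2
    simp [hσl] at h12 h02
    refine ⟨a, b, l, hl, ⟨hab, rfl⟩, fun _ => hl'.symm, ?_, ?_⟩
    · linear_combination h12
    · intro ha hv1
      have hb1 : b1 = 0 := by
        have h3 := congrArg (PSU3Index.mat C) hv1
        rw [PSU3Index.mat_uEl, PSU3Index.mat_one] at h3
        have := congrFun (congrFun h3 0) 2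
        simpa [SU3Root.uu] using this
      subst ha
      subst hb1
      simp at h02
      linear_combination h02
  refine ⟨?_, fun x hx => ?_, fun x hx y hy => ?_, fun x hx z hz hz1 hz2 hc he => ?_,
    fun x hx y hy hy1 hxy => ?_, fun _ => ?_, fun he => by omega, fun he => absurd rfl he,
    fun he => by omega, fun _ y hy hy1 => ?_⟩
  · obtain ⟨g, hg, hgen⟩ := exists_gen (P := PSU3Index.rad C) (PSU3Index.lam C) fun x hx => ⟨x.2, hx⟩
    refine ⟨π g, hBN g hg, fun x hx => ?_⟩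
    obtain ⟨w, hw, rfl⟩ := hlift x hx
    obtain ⟨i, hi⟩ := hgen w hw
    exact ⟨i, by rw [hPr, ← map_pow, ← map_inv, ← map_mul]; exact mem_map_of_mem π hi⟩
  · exact congrArg Subtype.val (fH.injective (by
      rw [map_mul, map_mul, SU3Sylow.Heis.mul_self (fH ⟨x, hx⟩), map_one, SU3Sylow.Heis.mul_self_eq_one_iff]
      rfl) : (⟨x, hx⟩ * ⟨x, hx⟩ * (⟨x, hx⟩ * ⟨x, hx⟩) : (P : Subgroup (Cfsg.PSU 3 F (2 ^ n)))) = 1)
  · exact congrArg Subtype.val (fH.injective (by
      rw [map_one, map_mul, SU3Sylow.Heis.mul_self_eq_one_iff]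
      simp only [map_mul, map_inv, SU3Sylow.Heis.mul_a, SU3Sylow.Heis.inv_a]
      linear_combination ((fH ⟨x, hx⟩).a + (fH ⟨y, hy⟩).a) * (CharTwo.two_eq_zero (R := F))) :
      (⟨x, hx⟩ * ⟨y, hy⟩ * ⟨x, hx⟩⁻¹ * ⟨y, hy⟩⁻¹ * (⟨x, hx⟩ * ⟨y, hy⟩ * ⟨x, hx⟩⁻¹ * ⟨y, hy⟩⁻¹) :
        (P : Subgroup (Cfsg.PSU 3 F (2 ^ n)))) = 1)
  · obtain ⟨g, hg, rfl⟩ := hlift x hx
    rw [hPr] at hz
    obtain ⟨u, hu, rfl⟩ := hz
    have hu2 : u * u = 1 := hinjπ _ (mul_mem hu hu) _ (one_mem _) (by rw [map_mul, map_one]; exact hz2)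
    have hgu : g * u = u * g := mul_inv_eq_iff_eq_mul.1 (hinjπ _ (PSU3Index.rad_conj C hg hu) _ hu (by
      rw [map_mul, map_mul, map_inv]; exact mul_inv_eq_iff_eq_mul.2 hc.eq))
    obtain ⟨a, b, l, hl, ⟨hab, rfl⟩, hlam, -, hnu⟩ := hform g hg u hu 1 (one_mem _) (one_mul 1) (by rw [one_mul, hgu])
    have ha : a = 0 := by
      have h1 := congrArg (PSU3Index.mat C) hu2
      rw [PSU3Index.mat_mul, PSU3Index.mat_uEl, PSU3Index.mat_one, PSU3Index.uu_mul] at h1
      have h02 := congrFun (congrFun h1 0) 2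
      simp [SU3Root.uu] at h02
      have h2 : a * C.σ a = 0 := by
        have e2 : (2 : F) = 0 := CharTwo.two_eq_zero
        linear_combination (-1 : F) * h02 + b * e2
      rcases mul_eq_zero.1 h2 with e | e
      · exact e
      · exact (map_eq_zero C.σ).1 e
    have hb : b ≠ 0 := fun e => hz1 (by
      subst ha e
      rw [show PSU3Index.uEl C 0 0 hab = 1 from PSU3Index.mat_inj C (by
        rw [PSU3Index.mat_uEl, PSU3Index.mat_one]
        ext i j
        fin_cases i <;> fin_cases j <;> simp [SU3Root.uu]), map_one])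
    have hl1 : l ^ (2 ^ n + 1) = 1 := by
      have h2 : PSU3Index.nu C l = 1 := mul_right_cancel₀ hb (by rw [one_mul]; exact hnu ha rfl)
      rw [pow_succ', ← C.hσ l]; exact h2
    have he' := he rfl
    rw [← map_pow, hPr] at he'
    obtain ⟨u', hu', e'⟩ := he'
    have hcen := QuotientGroup.eq.1 e'
    have h3 : l ^ (3 * (2 ^ n - 1)) = 1 := by
      have h4 := pow_card_eq_one' (x := (⟨_, hcen⟩ : Subgroup.center (Cfsg.SU 3 F (2 ^ n))))
      have h5 : (u'⁻¹ * g ^ (2 ^ n - 1)) ^ 3 = 1 := by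
        exact orderOf_dvd_iff_pow_eq_one.1 ((orderOf_dvd_of_pow_eq_one (show (u'⁻¹ * g ^ (2 ^ n - 1)) ^
          Nat.card (Subgroup.center (Cfsg.SU 3 F (2 ^ n))) = 1 from congrArg Subtype.val h4)).trans
          (hZc ▸ Nat.gcd_dvd_left _ _))
      have h6 : PSU3Index.lam C (((⟨u', hu'.1⟩ : PSU3Index.borel C)⁻¹ * ⟨g, hg⟩ ^ (2 ^ n - 1)) ^ 3) = 1 := by
        rw [show (((⟨u', hu'.1⟩ : PSU3Index.borel C)⁻¹ * ⟨g, hg⟩ ^ (2 ^ n - 1)) ^ 3) = 1 from
          Subtype.ext (by simpa using h5), map_one]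
      have h7 : PSU3Index.lam C (⟨u', hu'.1⟩ : PSU3Index.borel C)⁻¹ = 1 := (inv_mem hu' : u'⁻¹ ∈ PSU3Index.rad C).2
      rw [map_pow, map_mul, map_pow, h7, one_mul, hlam hg, ← pow_mul, mul_comm] at h6
      exact h6
    refine hcube g hg ?_ (by rw [hlam hg]; exact hl1)
    rw [hlam hg]
    have h8 := pow_gcd_eq_one.2 ⟨h3, hl1⟩
    obtain ⟨k, hk⟩ : Nat.gcd (3 * (2 ^ n - 1)) (2 ^ n + 1) ∣ 3 := by
      have hco : Nat.Coprime (Nat.gcd (3 * (2 ^ n - 1)) (2 ^ n + 1)) (2 ^ n - 1) := by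
        refine Nat.Coprime.coprime_dvd_left (Nat.gcd_dvd_right _ _) ?_
        have h1 := Nat.one_le_two_pow (n := n)
        rw [show 2 ^ n + 1 = 2 + (2 ^ n - 1) by omega, Nat.coprime_add_self_left]
        exact Nat.coprime_two_left.2 (Nat.Even.sub_odd h1 (Nat.even_pow.2 ⟨even_two, by omega⟩) odd_one)
      exact hco.dvd_of_dvd_mul_right (Nat.gcd_dvd_left _ _)
    rw [hk, pow_mul, h8, one_pow]
  · obtain ⟨g, hg, rfl⟩ := hlift x hx
    rw [hPr] at hy
    obtain ⟨u, hu, rfl⟩ := hy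
    set v := g * u * g⁻¹ * u⁻¹ with hv
    have hvr : v ∈ PSU3Index.rad C := mul_mem (PSU3Index.rad_conj C hg hu) (inv_mem hu)
    have hv2 : v * v = 1 := hinjπ _ (mul_mem hvr hvr) _ (one_mem _) (by
      simp only [hv, map_mul, map_inv, map_one]; exact hxy)
    obtain ⟨a, b, l, hl, ⟨hab, rfl⟩, hlam, hmu, -⟩ := hform g hg u hu v hvr hv2 (by rw [hv]; group)
    have ha : a ≠ 0 := fun e => hy1 (by
      subst e
      rw [← map_mul, show PSU3Index.uEl C 0 b hab * PSU3Index.uEl C 0 b hab = 1 from PSU3Index.mat_inj C (by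
        rw [PSU3Index.mat_mul, PSU3Index.mat_uEl, PSU3Index.mat_one, PSU3Index.uu_mul]
        ext i j
        fin_cases i <;> fin_cases j <;> simp [SU3Root.uu, CharTwo.add_self_eq_zero]), map_one])
    have hmu1 : PSU3Index.mu C l = 1 := mul_right_cancel₀ ha (by rw [one_mul]; exact hmu)
    have h1 : C.σ l * C.σ l = l := by
      rw [PSU3Index.mu, div_eq_one_iff_eq hl] at hmu1
      exact hmu1
    have h2 : l * l = C.σ l := by
      have := congrArg C.σ h1
      rwa [map_mul, C.hinv] at this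
    have h3 : l ^ 3 = 1 := by
      refine mul_right_cancel₀ hl ?_
      rw [one_mul]
      calc l ^ 3 * l = (l * l) * (l * l) := by ring
        _ = l := by rw [h2, h1]
    refine hcube g hg (by rw [hlam hg]; exact h3) ?_
    rw [hlam hg, pow_succ', ← C.hσ l, ← h2, ← h3]
    ring
  · refine ⟨Nat.card (Subgroup.center (Cfsg.SU 3 F (2 ^ n))), hZc ▸ Nat.gcd_dvd_left _ _, ?_⟩
    have hN : normalizer ((P : Subgroup (Cfsg.PSU 3 F (2 ^ n))) : Set (Cfsg.PSU 3 F (2 ^ n))) =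
        (PSU3Index.borel C).map π :=
      le_antisymm (fun x hx => (hlift x hx).elim fun g hg => ⟨g, hg.1, hg.2⟩)
        (fun x ⟨g, hg, e⟩ => e ▸ hBN g hg)
    rw [hN]
    have hc := Nat.card_congr (QuotientGroup.quotientKerEquivRange (π.comp (PSU3Index.borel C).subtype)).toEquiv
    rw [MonoidHom.range_comp, Subgroup.range_subtype] at hc
    have hk : Nat.card (π.comp (PSU3Index.borel C).subtype).ker =
        Nat.card (Subgroup.center (Cfsg.SU 3 F (2 ^ n))) := by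
      refine Nat.card_congr ⟨fun x => ⟨_, (QuotientGroup.eq_one_iff _).1 x.2⟩,
        fun c => ⟨⟨c, PSU3Index.center_le_borel C c.2⟩, (QuotientGroup.eq_one_iff _).2 c.2⟩, fun _ => rfl,
        fun _ => rfl⟩
    rw [← hc, ← hk, ← Subgroup.card_eq_card_quotient_mul_card_subgroup, PSU3Index.card_borel,
      show 3 * n = n * 3 by ring, show 2 * n = n * 2 by ring, pow_mul, pow_mul]
  · have hya : (fH ⟨y, hy⟩).a ≠ 0 := fun e => hy1 (congrArg Subtype.val (fH.injective (by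
      rw [map_mul, map_one, SU3Sylow.Heis.mul_self_eq_one_iff]; exact e) :
      (⟨y, hy⟩ * ⟨y, hy⟩ : (P : Subgroup (Cfsg.PSU 3 F (2 ^ n)))) = 1))
    have hcm : ∀ v w : (P : Subgroup (Cfsg.PSU 3 F (2 ^ n))), Commute (v : Cfsg.PSU 3 F (2 ^ n)) w →
        σ (fH v).a * (fH w).a = σ (fH w).a * (fH v).a := fun v w e =>
      (SU3Sylow.Heis.comm_iff (fH v) (fH w)).1 ((Commute.map (show Commute v w from Subtype.ext e.eq) fH).eq)
    refine ⟨?_, fun z hz w hw h1 h2 => ?_⟩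
    · have h1 : fH ⟨y, hy⟩ ∉ Subgroup.center (SU3Sylow.Heis σ) := fun e =>
        hya ((SU3Sylow.Heis.mem_center_iff hne _).1 e)
      rw [Subgroup.mem_center_iff] at h1
      push Not at h1
      obtain ⟨z', hz'⟩ := h1
      obtain ⟨z, rfl⟩ := fH.surjective z'
      exact ⟨z, z.2, fun e => hz' ((Commute.map (show Commute (⟨y, hy⟩ :
        (P : Subgroup (Cfsg.PSU 3 F (2 ^ n)))) z from Subtype.ext e.eq) fH).eq).symm⟩
    · have e1 := hcm ⟨y, hy⟩ ⟨z, hz⟩ h1
      have e2 := hcm ⟨y, hy⟩ ⟨w, hw⟩ h2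
      have e3 : fH ⟨z, hz⟩ * fH ⟨w, hw⟩ = fH ⟨w, hw⟩ * fH ⟨z, hz⟩ := (SU3Sylow.Heis.comm_iff _ _).2
        (mul_left_cancel₀ hya (by linear_combination (fH ⟨z, hz⟩).a * e2 - (fH ⟨w, hw⟩).a * e1))
      rw [← map_mul, ← map_mul] at e3
      exact congrArg Subtype.val (fH.injective e3)

/-- Parameters with the torus facts. -/
theorem exists_torus_facts {L : Type u} [Group L] [Finite L] (hL : SEBender.IsBender L) :
    ∃ r e, BenderParams L r e ∧ TorusFacts L r e := by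
  rcases hL with ⟨F, _, _, ⟨n, hn, hF⟩, ⟨f⟩⟩ | ⟨F, _, _, m, hm, hF, ⟨f⟩⟩ | ⟨F, _, _, n, hn, hF, ⟨f⟩⟩
  · haveI : CharP F 2 := by
      haveI : Fact (Nat.Prime 2) := ⟨Nat.prime_two⟩
      exact charP_of_card_eq_prime_pow hF
    obtain ⟨g⟩ := SEMain.psl_equiv_sl (F := F)
    exact ⟨n, 1, (params_sl_two hn hF).congr (f.trans g), (torus_sl_two hn hF).congr (f.trans g)⟩
  · have h : Suzuki.SzField F m := ⟨hm, hF⟩
    exact ⟨2 * m + 1, 2, (params_sz h).congr (f.trans (Suzuki.minorEquiv h).symm),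
      (torus_sz h).congr (f.trans (Suzuki.minorEquiv h).symm)⟩
  · exact ⟨n, 3, (params_psu hn hF).congr f, (torus_psu hn hF).congr f⟩

/-- The parameters are unique. -/
theorem BenderParams.unique {L : Type u} [Group L] [Finite L] {r e r' e' : ℕ} (h : BenderParams L r e)
    (h' : BenderParams L r' e') : r = r' ∧ e = e' := by
  obtain ⟨P⟩ := (inferInstance : Nonempty (Sylow 2 L))
  obtain ⟨h1, h2⟩ := h.sylow P
  obtain ⟨h1', h2'⟩ := h'.sylow P
  have hr : r = r' := Nat.pow_right_injective le_rfl (h2.symm.trans h2')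
  subst hr
  exact ⟨rfl, Nat.eq_of_mul_eq_mul_right (by have := h.two_le; omega)
    (Nat.pow_right_injective le_rfl (h1.symm.trans h1'))⟩

end Cfsg.Agent.GoodInvol
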