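import Cfsg.Agent.Lib.GoodInvol.AbelianFix
import Mathlib.GroupTheory.Solvable
import Mathlib.GroupTheory.GroupAction.Quotient
import Mathlib.GroupTheory.Perm.Cycle.Type

/-!
# One block

A soluble group faithful and transitive on a set, with a large subgroup fixing one point and semiregular elsewhere, has
a regular normal elementary subgroup; acting on an elementary two-group it needs a large one.
-/

set_option autoImplicit false
set_option linter.style.haveILetI false
set_option linter.unusedSectionVars false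

namespace Cfsg.Agent.GoodInvol.BlockFix

open Subgroup MulAction
open scoped Pointwise commutatorElement

/-- A group without point stabilisers divides the set. -/
theorem card_dvd_of_free {K : Type*} [Group K] [Finite K] {T : Type*} [MulAction K T] [Finite T]
    (hfree : ∀ (k : K) (x : T), k • x = x → k = 1) : Nat.card K ∣ Nat.card T := by
  classical
  haveI : Fintype (Quotient (MulAction.orbitRel K T)) := Fintype.ofFinite _
  rw [Nat.card_congr (MulAction.selfEquivSigmaOrbits K T), Nat.card_sigma]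
  refine Finset.dvd_sum fun ω _ => ?_
  have hinj : Function.Injective fun k : K => k • ω.out := fun a b e => by
    have h1 := hfree (b⁻¹ * a) ω.out (by rw [mul_smul]; exact inv_smul_eq_iff.2 e)
    exact (inv_mul_eq_one.1 h1).symm
  rw [show Nat.card (MulAction.orbit K ω.out) = Nat.card K from Nat.card_range_of_injective hinj]

theorem exists_ne_of {H : Type*} [Group H] {P : Subgroup H} (hne : P ≠ ⊥) : ∃ a ∈ P, a ≠ 1 := by
  by_contra hh
  push Not at hh
  exact hne ((eq_bot_iff_forall _).2 hh)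

/-- A soluble group has an abelian normal subgroup. -/
theorem exists_abelian_normal {H : Type*} [Group H] [Group.IsSolvable H] [Nontrivial H] :
    ∃ A : Subgroup H, A.Normal ∧ A ≠ ⊥ ∧ ∀ a ∈ A, ∀ b ∈ A, a * b = b * a := by
  obtain ⟨n, hn⟩ := (Group.isSolvable_def (G := H)).1 inferInstance
  induction n with
  | zero => exact absurd hn (by rw [derivedSeries_zero]; exact top_ne_bot)
  | succ n ih =>
    by_cases hb : derivedSeries H n = ⊥
    · exact ih hb
    · refine ⟨derivedSeries H n, derivedSeries_normal H n, hb, fun a ha b hb => ?_⟩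
      have : ⁅a, b⁆ ∈ derivedSeries H (n + 1) := by
        rw [derivedSeries_succ]; exact Subgroup.commutator_mem_commutator ha hb
      rw [hn, mem_bot] at this
      exact commutatorElement_eq_one_iff_mul_comm.1 this

variable {H : Type*} [Group H] [Finite H] {B : Type*} [MulAction H B]

/-- A normal subgroup's orbits are permuted. -/
theorem smul_orbit {P : Subgroup H} [hP : P.Normal] (g : H) (b : B) :
    g • MulAction.orbit P b = MulAction.orbit P (g • b) := by
  ext x
  constructor
  · rintro ⟨_, ⟨a, rfl⟩, rfl⟩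
    refine ⟨⟨g * a * g⁻¹, hP.conj_mem _ a.2 g⟩, ?_⟩
    show (g * a * g⁻¹) • g • b = g • (a : H) • b
    rw [← mul_smul, ← mul_smul, inv_mul_cancel_right]
  · rintro ⟨a, rfl⟩
    refine ⟨(g⁻¹ * a * g) • b, ⟨⟨g⁻¹ * a * g⁻¹⁻¹, hP.conj_mem _ a.2 g⁻¹⟩, ?_⟩, ?_⟩
    · show (g⁻¹ * (a : H) * g⁻¹⁻¹) • b = _
      rw [inv_inv]
    · show g • (g⁻¹ * (a : H) * g) • b = (a : H) • g • b
      rw [← mul_smul, ← mul_smul, mul_assoc g⁻¹, mul_inv_cancel_left]

variable [Finite B] [FaithfulSMul H B]

/-- A non-trivial normal subgroup is transitive. -/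
theorem normal_transitive (htr : ∀ a b : B, ∃ g : H, g • a = b) {J : B} {K : Subgroup H}
    (hKJ : ∀ k ∈ K, k • J = J) (hsemi : ∀ k ∈ K, ∀ b : B, b ≠ J → k • b = b → k = 1)
    (hsize : Nat.card B < (1 + Nat.card K) ^ 2) {P : Subgroup H} [hP : P.Normal] (hne : P ≠ ⊥) :
    ∀ b : B, b ∈ MulAction.orbit P J := by
  classical
  set Δ := MulAction.orbit P J with hΔ
  set d := Nat.card Δ with hd
  let Y := MulAction.orbit H Δ
  have horb : ∀ b : B, MulAction.orbit P b ∈ Y := fun b => by
    obtain ⟨g, hg⟩ := htr J b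
    exact ⟨g, by show g • Δ = _; rw [hΔ, smul_orbit, hg]⟩
  have hcard : ∀ y : Y, Nat.card (y : Set B) = d := by
    rintro ⟨_, g, rfl⟩
    rw [hd]
    exact Nat.card_congr (Equiv.Set.image _ Δ (MulAction.injective g)).symm
  have hmul : Nat.card B = Nat.card Y * d := by
    haveI : Fintype Y := Fintype.ofFinite _
    rw [← Nat.card_congr (Equiv.sigmaFiberEquiv fun b : B => (⟨_, horb b⟩ : Y)), Nat.card_sigma,
      Finset.sum_congr rfl (g := fun _ => d) fun y _ => ?_, Finset.sum_const, Finset.card_univ, smul_eq_mul,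
      Nat.card_eq_fintype_card]
    rw [← hcard y]
    obtain ⟨_, g, rfl⟩ := y
    refine Nat.card_congr (Equiv.subtypeEquivRight fun b => ?_)
    rw [Subtype.ext_iff]
    show MulAction.orbit P b = g • Δ ↔ b ∈ g • Δ
    rw [hΔ, smul_orbit]
    exact MulAction.orbit_eq_iff
  have hd1 : 1 < d := by
    obtain ⟨a, haP, ha⟩ := exists_ne_of hne
    obtain ⟨b, hb⟩ : ∃ b : B, a • b ≠ b := by
      by_contra hh
      push Not at hh
      exact ha (eq_of_smul_eq_smul fun b => by rw [hh b, one_smul])
    rw [← hcard ⟨_, horb b⟩, Nat.card_coe_set_eq, Set.one_lt_ncard (Set.toFinite _)]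
    exact ⟨b, MulAction.mem_orbit_self b, a • b, MulAction.mem_orbit b (⟨a, haP⟩ : P), hb.symm⟩
  have hKΔ : ∀ k ∈ K, k • Δ = Δ := fun k hk => by rw [hΔ, smul_orbit, hKJ k hk]
  -- on the orbit of the fixed point
  have hdiv : Nat.card K ∣ d - 1 := by
    let T : SubMulAction K B :=
      { carrier := Δ \ {J}
        smul_mem' := fun k x hx => ⟨by
          have : (k : H) • x ∈ (k : H) • Δ := Set.smul_mem_smul_set hx.1
          rwa [hKΔ k k.2] at this, fun e => hx.2 (MulAction.injective (k : H) (e.trans (hKJ k k.2).symm))⟩ }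
    have h1 := card_dvd_of_free (K := K) (T := T) fun k x e =>
      Subtype.ext (hsemi k k.2 x x.2.2 (congrArg Subtype.val e))
    have h2 : Nat.card T = d - 1 := by
      rw [hd, Nat.card_coe_set_eq]
      exact (Nat.card_coe_set_eq (Δ \ {J})).trans (Set.ncard_sdiff_singleton_of_mem (MulAction.mem_orbit_self J))
    rwa [h2] at h1
  -- on the other orbits
  have hfree : ∀ k ∈ K, ∀ b : B, b ∉ Δ → k • b ∈ MulAction.orbit P b → k = 1 := by
    intro k hk b hb hkb
    have hfix : k • MulAction.orbit P b = MulAction.orbit P b := by rw [smul_orbit]; exact MulAction.orbit_eq_iff.2 hkb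
    have hz : ∀ j ∈ zpowers k, j • MulAction.orbit P b = MulAction.orbit P b := fun j hj =>
      (zpowers_le.2 (show k ∈ MulAction.stabilizer H (MulAction.orbit P b) from hfix)) hj
    let T : SubMulAction (zpowers k) B :=
      { carrier := MulAction.orbit P b
        smul_mem' := fun j x hx => by
          have : (j : H) • x ∈ (j : H) • MulAction.orbit P b := Set.smul_mem_smul_set hx
          rwa [hz j j.2] at this }
    have hJ : ∀ x ∈ MulAction.orbit P b, x ≠ J := fun x hx e => hb (by
      subst e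
      exact MulAction.mem_orbit_symm.1 hx)
    have h1 := card_dvd_of_free (K := zpowers k) (T := T) fun j x e =>
      Subtype.ext (hsemi j ((zpowers_le.2 hk) j.2) x (hJ x x.2) (congrArg Subtype.val e))
    have h2 : Nat.card T = d := hcard ⟨_, horb b⟩
    rw [h2, Nat.card_zpowers] at h1
    have h3 : orderOf k ∣ d - 1 := ((Subgroup.orderOf_dvd_natCard K hk).trans hdiv)
    have h4 : orderOf k ∣ 1 := by
      have := Nat.dvd_sub h1 h3
      rwa [show d - (d - 1) = 1 by omega] at this
    exact orderOf_eq_one_iff.1 (Nat.dvd_one.1 h4)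
  have hdivY : Nat.card K ∣ Nat.card Y - 1 := by
    let T : SubMulAction K (Set B) :=
      { carrier := Y \ {Δ}
        smul_mem' := fun k y hy => ⟨MulAction.mem_orbit_of_mem_orbit (k : H) hy.1,
          fun e => hy.2 (MulAction.injective (k : H) (e.trans (hKΔ k k.2).symm))⟩ }
    have h1 := card_dvd_of_free (K := K) (T := T) fun k y e => by
      obtain ⟨_, ⟨g, rfl⟩, hne'⟩ := y
      refine Subtype.ext (hfree k k.2 (g • J) (fun h => hne' ?_) ?_)
      · show g • Δ = Δ
        rw [hΔ, smul_orbit]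
        exact MulAction.orbit_eq_iff.2 h
      · have e' : (k : H) • g • Δ = g • Δ := congrArg Subtype.val e
        rw [hΔ, smul_orbit, smul_orbit] at e'
        exact MulAction.orbit_eq_iff.1 e'
    have h2 : Nat.card T = Nat.card Y - 1 := by
      rw [Nat.card_coe_set_eq Y]
      exact (Nat.card_coe_set_eq (Y \ {Δ})).trans (Set.ncard_sdiff_singleton_of_mem (MulAction.mem_orbit_self Δ))
    rwa [h2] at h1
  intro b
  by_contra hb
  have hY1 : 1 < Nat.card Y := by
    rw [Nat.card_coe_set_eq, Set.one_lt_ncard (Set.toFinite _)]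
    exact ⟨_, horb b, Δ, MulAction.mem_orbit_self Δ, fun e => hb (e ▸ MulAction.mem_orbit_self b)⟩
  have e1 := Nat.le_of_dvd (by omega) hdiv
  have e2 := Nat.le_of_dvd (by omega) hdivY
  have : (1 + Nat.card K) ^ 2 ≤ Nat.card Y * d := by
    rw [pow_two]; exact Nat.mul_le_mul (by omega) (by omega)
  omega

variable {X : Type*} [AddCommGroup X] [Finite X] [DistribMulAction H X]

/-- A soluble group with a large semiregular subgroup has one point, a two-power of them, or needs a large module. -/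
theorem one_block [Group.IsSolvable H] (htr : ∀ a b : B, ∃ g : H, g • a = b) {J : B} {K : Subgroup H}
    (hKJ : ∀ k ∈ K, k • J = J) (hsemi : ∀ k ∈ K, ∀ b : B, b ≠ J → k • b = b → k = 1)
    (hsize : Nat.card B < (1 + Nat.card K) ^ 2) (hX : ∀ x : X, x + x = 0)
    (hfaith : ∀ g : H, (∀ x : X, g • x = x) → g = 1) :
    Nat.card B = 1 ∨ 2 ^ Nat.card K ≤ Nat.card X ∨ ∃ n, Nat.card B = 2 ^ n := by
  classical
  by_cases hH : ∀ g : H, g = 1
  · left
    rw [Nat.card_eq_one_iff_unique]
    exact ⟨⟨fun a b => by obtain ⟨g, rfl⟩ := htr a b; rw [hH g, one_smul]⟩, ⟨J⟩⟩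
  -- a non-trivial abelian normal subgroup
  obtain ⟨A, hAn, hA1, hAc⟩ : ∃ A : Subgroup H, A.Normal ∧ A ≠ ⊥ ∧ ∀ a ∈ A, ∀ b ∈ A, a * b = b * a := by
    haveI : Nontrivial H := by
      push Not at hH
      obtain ⟨g, hg⟩ := hH
      exact ⟨⟨g, 1, hg⟩⟩
    exact exists_abelian_normal
  obtain ⟨a, haA, ha⟩ := exists_ne_of hA1
  obtain ⟨p, hp, hpd⟩ := Nat.exists_prime_and_dvd (mt orderOf_eq_one_iff.1 ha)
  haveI := Fact.mk hp
  let P : Subgroup H :=
    { carrier := {g | g ∈ A ∧ g ^ p = 1}
      one_mem' := ⟨one_mem _, one_pow _⟩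
      mul_mem' := fun {g h} hg hh => ⟨mul_mem hg.1 hh.1, by
        rw [(show Commute g h from hAc g hg.1 h hh.1).mul_pow, hg.2, hh.2, one_mul]⟩
      inv_mem' := fun {g} hg => ⟨inv_mem hg.1, by rw [inv_pow, hg.2, inv_one]⟩ }
  haveI hPn : P.Normal := ⟨fun g hg c => ⟨hAn.conj_mem g hg.1 c, by rw [conj_pow, hg.2]; group⟩⟩
  have hPne : P ≠ ⊥ := fun e => by
    have hm : a ^ (orderOf a / p) ∈ P := ⟨pow_mem haA _, by
      rw [← pow_mul, Nat.div_mul_cancel hpd, pow_orderOf_eq_one]⟩
    rw [e, mem_bot] at hm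
    have h1 := Nat.le_of_dvd (Nat.div_pos (Nat.le_of_dvd (orderOf_pos a) hpd) hp.pos) (orderOf_dvd_of_pow_eq_one hm)
    exact absurd h1 (not_le.2 (Nat.div_lt_self (orderOf_pos a) hp.one_lt))
  haveI : IsMulCommutative P := ⟨⟨fun g h => Subtype.ext (hAc g g.2.1 h h.2.1)⟩⟩
  have htrP := normal_transitive htr hKJ hsemi hsize hPne
  have hreg : Function.Bijective fun g : P => (g : H) • J := by
    refine ⟨fun g h e => Subtype.ext ?_, fun b => htrP b⟩
    refine eq_of_smul_eq_smul fun b : B => ?_
    obtain ⟨c, rfl⟩ := htrP b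
    show (g : H) • (c : H) • J = (h : H) • (c : H) • J
    rw [← mul_smul, ← mul_smul, hAc g g.2.1 c c.2.1, hAc h h.2.1 c c.2.1, mul_smul, mul_smul]
    exact congrArg _ e
  have hPp : IsPGroup p P := fun g => ⟨1, Subtype.ext (by simpa using g.2.2)⟩
  obtain ⟨n, hn⟩ := hPp.exists_card_eq
  have hBn : Nat.card B = p ^ n := (Nat.card_eq_of_bijective _ hreg).symm.trans hn
  by_cases hp2 : p = 2
  · exact Or.inr (Or.inr ⟨n, hp2 ▸ hBn⟩)
  have hodd : Odd (Nat.card P) := hn ▸ (hp.odd_of_ne_two hp2).pow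
  refine Or.inr (Or.inl ?_)
  by_contra hlt
  push Not at hlt
  haveI : Fintype P := Fintype.ofFinite _
  haveI : Finite (P →* AbelianFix.Fˣ) := Nat.finite_of_card_ne_zero (AbelianFix.card_dual (P := P) hodd).1.pos.ne'
  haveI : Fintype (P →* AbelianFix.Fˣ) := Fintype.ofFinite _
  letI : Module (ZMod 2) X := AddCommGroup.zmodModule (n := 2) fun x => by rw [two_nsmul]; exact hX x
  -- a component at a non-trivial character
  obtain ⟨f, χ, hf, hχ⟩ : ∃ (f : X →+ AbelianFix.F) (χ : P →* AbelianFix.Fˣ),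
      AbelianFix.comp P χ f ≠ 0 ∧ χ ≠ 1 := by
    by_contra hall
    push Not at hall
    obtain ⟨g, hgP, hg⟩ := exists_ne_of hPne
    refine hg (hfaith g fun x => ?_)
    by_contra hne
    obtain ⟨φ, hφ⟩ := Module.Projective.exists_dual_ne_zero (ZMod 2) (sub_ne_zero.2 hne)
    let f : X →+ AbelianFix.F := ((algebraMap (ZMod 2) AbelianFix.F).toAddMonoidHom).comp φ.toAddMonoidHom
    have hfix : AbelianFix.tw (g⁻¹ : H) f = f := by
      conv_lhs => rw [← AbelianFix.sum_comp hodd f, AbelianFix.tw_sum]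
      conv_rhs => rw [← AbelianFix.sum_comp hodd f]
      refine Finset.sum_congr rfl fun χ _ => ?_
      by_cases h0 : AbelianFix.comp P χ f = 0
      · rw [h0]; ext y; simp
      · rw [show AbelianFix.tw (g⁻¹ : H) (AbelianFix.comp P χ f) = _ from
          AbelianFix.tw_comp χ f (⟨g⁻¹, inv_mem hgP⟩ : P), hall f χ h0, MonoidHom.one_apply, Units.val_one, one_smul]
    have h1 : f (g • x) = f x := by
      conv_rhs => rw [← hfix]
      simp
    refine hφ ((algebraMap (ZMod 2) AbelianFix.F).injective ?_)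
    rw [map_zero, map_sub, map_sub, sub_eq_zero]
    exact h1
  let cj : H → P →* P := fun k => MonoidHom.mk' (fun b => ⟨k⁻¹ * b * k⁻¹⁻¹, hPn.conj_mem _ b.2 k⁻¹⟩)
    fun b c => Subtype.ext (by simp [mul_assoc])
  have hcc : ∀ (k : H) (ψ : P →* AbelianFix.Fˣ) (f : X →+ AbelianFix.F),
      AbelianFix.tw k (AbelianFix.comp P ψ f) = AbelianFix.comp P (ψ.comp (cj k)) (AbelianFix.tw k f) := by
    intro k ψ f
    rw [AbelianFix.comp, AbelianFix.comp, AbelianFix.tw_sum]
    have hinj : Function.Injective (cj k) := fun b c e => Subtype.ext (by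
      simpa [cj] using congrArg Subtype.val e)
    refine (Fintype.sum_equiv (Equiv.ofBijective _ (Finite.injective_iff_bijective.1 hinj)) _ _ fun b => ?_).symm
    rw [AbelianFix.tw_smul, ← AbelianFix.tw_mul, ← AbelianFix.tw_mul]
    congr 2
    simp [cj, mul_assoc]
  -- the characters in the orbit are distinct
  have hdist : ∀ k l : K, χ.comp (cj k) = χ.comp (cj l) → k = l := by
    intro k l e
    by_contra hkl
    set j : H := (k : H)⁻¹ * (l : H) with hj
    have hjK : j ∈ K := mul_mem (inv_mem k.2) l.2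
    have hfixχ : χ.comp (cj j) = χ := by
      refine MonoidHom.ext fun b => ?_
      have h1 := DFunLike.congr_fun e (⟨(k : H) * b * (k : H)⁻¹, hPn.conj_mem _ b.2 k⟩ : P)
      simp only [MonoidHom.comp_apply] at h1 ⊢
      rw [show cj j b = cj l ⟨(k : H) * b * (k : H)⁻¹, hPn.conj_mem _ b.2 k⟩ from Subtype.ext (by
        simp [cj, hj, mul_assoc]), ← h1]
      exact congrArg χ (Subtype.ext (by simp [cj, mul_assoc]))
    let θ : P →* P := MonoidHom.mk' (fun b => b⁻¹ * cj j b) fun b c => by
      rw [mul_inv_rev, map_mul, IsMulCommutative.is_comm.comm c⁻¹ b⁻¹]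
      exact Commute.mul_mul_mul_comm (IsMulCommutative.is_comm.comm c⁻¹ (cj j b)) _ _
    have hθ : Function.Injective θ := by
      rw [injective_iff_map_eq_one]
      intro b hb
      by_contra hb1
      have h1 : (b : H) = j⁻¹ * b * j := by
        simpa [cj] using congrArg Subtype.val (inv_mul_eq_one.1 hb)
      have h2 : j • (b : H) • J = (b : H) • J := by
        have h3 : j * (b : H) = (b : H) * j := by
          clear_value j
          conv_lhs => rw [h1]
          group
        rw [← mul_smul, h3, mul_smul, hKJ j hjK]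
      have hne : (b : H) • J ≠ J := fun h => hb1 (hreg.1 (by simpa using h))
      exact hkl (Subtype.ext (inv_mul_eq_one.1 (hsemi j hjK _ hne h2)))
    refine hχ (MonoidHom.ext fun b => ?_)
    obtain ⟨c, rfl⟩ := (Finite.injective_iff_surjective.1 hθ) b
    show χ (c⁻¹ * cj j c) = 1
    rw [map_mul, map_inv, ← MonoidHom.comp_apply χ (cj j), hfixχ, inv_mul_cancel]
  let e := Finite.equivFin K
  have hind := AbelianFix.comp_indep (P := P) (fun i => χ.comp (cj ((e.symm i : K) : H)))
    (fun i j h => e.symm.injective (hdist _ _ h))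
    (fun i => AbelianFix.tw ((e.symm i : K) : H) (AbelianFix.comp P χ f))
    (fun i h0 => hf (AbelianFix.tw_injective ((e.symm i : K) : H) (by rw [h0]; ext x; simp)))
    (fun i b => by rw [hcc]; exact AbelianFix.tw_comp _ _ b)
  have := AbelianFix.finrank_fixed (K1 := (⊥ : Subgroup H)) hX (by rw [Subgroup.card_bot]; exact odd_one)
    (n := Nat.card K) (lt_of_le_of_lt (Finite.card_subtype_le _) hlt) hind
    (fun i k hk => by rw [mem_bot] at hk; rw [hk, AbelianFix.tw_one])
  omega

/-- With an odd number of blocks. -/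
theorem one_block_odd [Group.IsSolvable H] (htr : ∀ a b : B, ∃ g : H, g • a = b) {J : B} {K : Subgroup H}
    (hKJ : ∀ k ∈ K, k • J = J) (hsemi : ∀ k ∈ K, ∀ b : B, b ≠ J → k • b = b → k = 1)
    (hsize : Nat.card B < (1 + Nat.card K) ^ 2) (hX : ∀ x : X, x + x = 0)
    (hfaith : ∀ g : H, (∀ x : X, g • x = x) → g = 1) (hB : Odd (Nat.card B)) :
    Nat.card B = 1 ∨ 2 ^ Nat.card K ≤ Nat.card X := by
  rcases one_block htr hKJ hsemi hsize hX hfaith with h | h | ⟨n, hn⟩
  · exact Or.inl h
  · exact Or.inr h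
  · rcases Nat.eq_zero_or_pos n with h0 | h0
    · exact Or.inl (by rw [hn, h0, pow_zero])
    · rw [hn] at hB
      exact absurd (Nat.even_pow.2 ⟨even_two, by omega⟩) (Nat.not_even_iff_odd.2 hB)

end Cfsg.Agent.GoodInvol.BlockFix
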