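import Cfsg.Agent.Lib.GoodInvol.Induct
import Cfsg.Agent.S2602
import Cfsg.Agent.S2603
import Cfsg.Agent.S2126
import Mathlib.GroupTheory.Subgroup.Centralizer

/-!
# Two involutions fixing the same two points

If the group induced on the points is a Bender group, two commuting elements acting as involutions and fixing
the same two points act equally, because the outer automorphism group has cyclic Sylow 2-subgroups.
-/

set_option autoImplicit false
set_option linter.style.haveILetI false
set_option linter.unusedSectionVars false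

namespace Cfsg.Agent.GoodInvol

open Subgroup MulAction

universe u v

/-- Of two commuting involutory automorphisms one, or their product, is inner. -/
def OneOuter (L : Type u) [Group L] : Prop :=
  ∀ a b : MulAut L, a * a = 1 → b * b = 1 → a * b = b * a → a ∈ Inn L ∨ b ∈ Inn L ∨ a * b ∈ Inn L

theorem oneOuter_of_hom {L : Type u} [Group L] {m : ℕ} [NeZero m] (φ : Out L →* Multiplicative (ZMod m))
    (hker : Odd (Nat.card φ.ker)) : OneOuter L := by
  classical
  intro a b ha hb hab
  have hsq : ∀ x : MulAut L, x * x = 1 → φ (x : Out L) ^ 2 = 1 := fun x hx => by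
    rw [pow_two, ← map_mul, ← QuotientGroup.mk_mul, hx, QuotientGroup.mk_one, map_one]
  have hin : ∀ x : MulAut L, x * x = 1 → φ (x : Out L) = 1 → x ∈ Inn L := fun x hx h => by
    haveI : Finite φ.ker := Nat.finite_of_card_ne_zero hker.pos.ne'
    have h2 : orderOf (⟨(x : Out L), h⟩ : φ.ker) ∣ 2 := orderOf_dvd_of_pow_eq_one (Subtype.ext (by
      show (x : Out L) ^ 2 = 1
      rw [pow_two, ← QuotientGroup.mk_mul, hx, QuotientGroup.mk_one]))
    exact (QuotientGroup.eq_one_iff x).1 (congrArg Subtype.val (orderOf_eq_one_iff.1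
      (Nat.eq_one_of_dvd_coprimes (Nat.coprime_two_left.2 hker) h2 (orderOf_dvd_natCard _))))
  by_cases h1 : φ (a : Out L) = 1
  · exact Or.inl (hin a ha h1)
  by_cases h2 : φ (b : Out L) = 1
  · exact Or.inr (Or.inl (hin b hb h2))
  have h3 : φ (a : Out L) = φ (b : Out L) := by
    by_contra hne
    have hsub : ({1, φ (a : Out L), φ (b : Out L)} : Finset (Multiplicative (ZMod m))) ⊆
        Finset.univ.filter fun z => z ^ 2 = 1 := by
      intro z hz
      simp only [Finset.mem_insert, Finset.mem_singleton] at hz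
      rcases hz with rfl | rfl | rfl <;>
        simp only [Finset.mem_filter, Finset.mem_univ, true_and, one_pow, hsq a ha, hsq b hb]
    have := (Finset.card_le_card hsub).trans (IsCyclic.card_pow_eq_one_le (by norm_num : 0 < 2))
    rw [Finset.card_eq_three.2 ⟨_, _, _, Ne.symm h1, Ne.symm h2, hne, rfl⟩] at this
    omega
  refine Or.inr (Or.inr (hin (a * b) ?_ ?_))
  · rw [mul_assoc, ← mul_assoc b, ← hab, mul_assoc, hb, mul_one, ha]
  · rw [QuotientGroup.mk_mul, map_mul, h3, ← pow_two]
    exact hsq b hb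

theorem oneOuter_congr {L : Type u} {K : Type v} [Group L] [Group K] (e : L ≃* K) (hK : OneOuter K) :
    OneOuter L := by
  intro a b ha hb hab
  have hinn : ∀ x : MulAut L, MulAut.congr e x ∈ Inn K → x ∈ Inn L := by
    rintro x ⟨k, hk⟩
    refine ⟨e.symm k, MulEquiv.ext fun z => ?_⟩
    have h := congrArg (fun f : MulAut K => e.symm (f (e z))) hk
    simp only [MulAut.conj_apply, map_mul, map_inv, MulEquiv.symm_apply_apply] at h
    rw [MulAut.conj_apply, h]
    simp [MulAut.congr]
  have he : ∀ x : MulAut L, x * x = 1 → MulAut.congr e x * MulAut.congr e x = 1 := fun x hx => by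
    rw [← map_mul, hx, map_one]
  rcases hK _ _ (he a ha) (he b hb) (by rw [← map_mul, ← map_mul, hab]) with h | h | h
  · exact Or.inl (hinn a h)
  · exact Or.inr (Or.inl (hinn b h))
  · exact Or.inr (Or.inr (hinn _ (by rwa [map_mul])))

/-- The three families. -/
theorem oneOuter_bender {L : Type u} [Group L] (hL : SEBender.IsBender L) : OneOuter L := by
  haveI : Fact (Nat.Prime 2) := ⟨Nat.prime_two⟩
  rcases hL with ⟨F, _, _, ⟨n, hn, hF⟩, ⟨e⟩⟩ | ⟨F, _, _, m, hm, hF, ⟨e⟩⟩ | ⟨F, _, _, n, hn, hF, ⟨e⟩⟩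
  · refine oneOuter_congr e ?_
    have h4 : 4 ≤ 2 ^ n := (Nat.pow_le_pow_right (by norm_num : 0 < 2) hn : 2 ^ 2 ≤ 2 ^ n)
    obtain ⟨φ, -, -, hk⟩ := S2602.result (F := F) (by omega : 1 ≤ n) hF h4
    haveI : NeZero n := ⟨by omega⟩
    refine oneOuter_of_hom φ ?_
    rw [hk]
    have h2 : 2 ∣ 2 ^ n := dvd_pow_self 2 (by omega)
    exact Odd.of_dvd_nat (by rw [Nat.odd_iff]; omega) (Nat.gcd_dvd_right _ _)
  · refine oneOuter_congr e ?_
    refine oneOuter_of_hom (m := 1) 1 ?_
    rw [MonoidHom.ker_one, Subgroup.card_top, S2126.result hm hF]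
    exact ⟨m, rfl⟩
  · refine oneOuter_congr e ?_
    obtain ⟨φ, -, -, hk⟩ := S2603.result (K := F) (p := 2) (f := n) (q := 2 ^ n) (n := 3) (by omega) rfl hF
      le_rfl (fun h => by
        have := (Nat.pow_le_pow_right (by norm_num : 0 < 2) hn : 2 ^ 2 ≤ 2 ^ n)
        omega)
    haveI : NeZero (2 * n) := ⟨by omega⟩
    refine oneOuter_of_hom φ ?_
    rw [hk]
    exact Odd.of_dvd_nat (by decide : Odd 3) (Nat.gcd_dvd_left _ _)

variable {G : Type u} [Group G] [Finite G] {D : Set G} {Ω : Type u} [MulAction G Ω] [Finite Ω]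

/-- A permutation commuting with the induced group is trivial. -/
theorem eq_one_of_comm (h : Crit D Ω) (hG : Goal D Ω) {a b : Ω} (hab : a ≠ b) {c : Equiv.Perm Ω}
    (hc : ∀ i ∈ induced D Ω, c * i = i * c) : c = 1 := by
  refine Equiv.ext fun z => ?_
  obtain ⟨x, hzx⟩ : ∃ x, z ≠ x := by
    by_cases hza : z = a
    · exact ⟨b, hza ▸ hab⟩
    · exact ⟨a, hza⟩
  obtain ⟨⟨-, hev, hodd⟩, -⟩ := se_induced h hG hzx
  obtain ⟨g, hg, hgz⟩ := h.exists_smul z (c z)
  set g' : induced D Ω := ⟨_, mem_map_of_mem (toPermHom G Ω) hg⟩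
  have hg' : g' • z = c z := hgz
  show c z = z
  by_contra hne
  have hnm : g' ∉ stabilizer (induced D Ω) z := fun e => hne (hg'.symm.trans (mem_stabilizer_iff.1 e))
  have hle : stabilizer (induced D Ω) z ≤
      (stabilizer (induced D Ω) z).map (MulAut.conj g').toMonoidHom := by
    rw [← stabilizer_smul_eq_stabilizer_map_conj, hg']
    intro i hi
    refine mem_stabilizer_iff.2 ?_
    have h1 := Equiv.congr_fun (hc i i.2) z
    show (i : Equiv.Perm Ω) (c z) = c z
    exact h1.symm.trans (congrArg c (mem_stabilizer_iff.1 hi))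
  have h2 := hodd g' hnm
  rw [inf_eq_left.2 hle] at h2
  exact Nat.not_even_iff_odd.2 h2 hev

/-- Two commuting elements acting as involutions, with two common fixed points, act equally or one trivially. -/
theorem outer_pair (h : Crit D Ω) (hG : Goal D Ω) (hB : SEBender.IsBender (induced D Ω)) {u v : G}
    (huv : ∀ z : Ω, u • v • z = v • u • z) (hu : ∀ z : Ω, u • u • z = z) (hv : ∀ z : Ω, v • v • z = z)
    {x y : Ω} (hxy : x ≠ y) (hux : u • x = x) (huy : u • y = y) (hvx : v • x = x) (hvy : v • y = y) :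
    (∀ z : Ω, u • z = z) ∨ (∀ z : Ω, v • z = z) ∨ ∀ z : Ω, u • z = v • z := by
  set I := induced D Ω with hI
  have hmemN : ∀ g : G, toPermHom G Ω g ∈ normalizer (I : Set (Equiv.Perm Ω)) := by
    intro g
    have hcl : ∀ g : G, ∀ k ∈ closure D, g * k * g⁻¹ ∈ closure D := by
      intro g k hk
      induction hk using Subgroup.closure_induction with
      | mem d hd => exact subset_closure (h.conj g d hd)
      | one => simp
      | mul c e _ _ ihc ihe => simpa [mul_assoc] using mul_mem ihc ihe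
      | inv c _ ihc => simpa [mul_assoc] using inv_mem ihc
    refine mem_normalizer_iff.2 fun i => ⟨?_, fun hi => ?_⟩
    · rintro ⟨k, hk, rfl⟩
      exact ⟨g * k * g⁻¹, hcl g k hk, by simp only [map_mul, map_inv]⟩
    · obtain ⟨k, hk, e⟩ := hi
      refine ⟨g⁻¹ * k * g⁻¹⁻¹, hcl g⁻¹ k hk, ?_⟩
      simp only [map_mul, map_inv, e]
      group
  set U : normalizer (I : Set (Equiv.Perm Ω)) := ⟨_, hmemN u⟩ with hU
  set V : normalizer (I : Set (Equiv.Perm Ω)) := ⟨_, hmemN v⟩ with hV
  have hUV : U * V = V * U := Subtype.ext (Equiv.ext fun z => huv z)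
  have hUU : U * U = 1 := Subtype.ext (Equiv.ext fun z => hu z)
  have hVV : V * V = 1 := Subtype.ext (Equiv.ext fun z => hv z)
  -- an element inducing an inner automorphism lies in the induced group
  have hin : ∀ g : normalizer (I : Set (Equiv.Perm Ω)), I.normalizerMonoidHom g ∈ Inn I →
      (g : Equiv.Perm Ω) ∈ I := by
    rintro g ⟨k, hk⟩
    have h1 : (k : Equiv.Perm Ω)⁻¹ * g = 1 := eq_one_of_comm h hG hxy fun i hi => by
      have h2 : (k : Equiv.Perm Ω) * i * (k : Equiv.Perm Ω)⁻¹ = g * i * (g : Equiv.Perm Ω)⁻¹ :=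
        congrArg (fun f : MulAut I => ((f ⟨i, hi⟩ : I) : Equiv.Perm Ω)) hk
      calc (k : Equiv.Perm Ω)⁻¹ * g * i = (k : Equiv.Perm Ω)⁻¹ * (g * i * (g : Equiv.Perm Ω)⁻¹) * g := by group
        _ = i * ((k : Equiv.Perm Ω)⁻¹ * g) := by rw [← h2]; group
    rw [← inv_mul_eq_one.1 h1]
    exact k.2
  -- an element of the induced group fixing two points with trivial square is trivial
  have hgoal : ∀ g : G, toPermHom G Ω g ∈ I → (∀ z : Ω, g • g • z = z) → g • x = x → g • y = y →
      ∀ z : Ω, g • z = z := by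
    rintro g ⟨k, hk, hkg⟩ hg2 hgx hgy z
    have e : ∀ z : Ω, k • z = g • z := fun z => Equiv.congr_fun hkg z
    rw [← e]
    exact hG k hk (fun w => by rw [e, e]; exact hg2 w) x y (by rw [e, hgx]) (by rw [e, hgy]) hxy z
  rcases oneOuter_bender hB (I.normalizerMonoidHom U) (I.normalizerMonoidHom V)
      (by rw [← map_mul, hUU, map_one]) (by rw [← map_mul, hVV, map_one])
      (by rw [← map_mul, ← map_mul, hUV]) with hc | hc | hc
  · exact Or.inl (hgoal u (hin U hc) hu hux huy)
  · exact Or.inr (Or.inl (hgoal v (hin V hc) hv hvx hvy))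
  · rw [← map_mul] at hc
    have h1 : toPermHom G Ω (u * v) ∈ I := by
      rw [map_mul]
      exact hin _ hc
    have h2 := hgoal (u * v) h1 (fun z => by rw [mul_smul, mul_smul, ← huv (v • z), hu, hv])
      (by rw [mul_smul, hvx, hux]) (by rw [mul_smul, hvy, huy])
    refine Or.inr (Or.inr fun z => ?_)
    have h3 := h2 z
    rw [mul_smul] at h3
    calc u • z = u • u • v • z := by rw [h3]
      _ = v • z := hu _

end Cfsg.Agent.GoodInvol
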