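import Cfsg.Agent.Lib.GoodInvol.BadCent

/-!
# The situation passes to every subgroup

On the points carrying a member in a subgroup `H` the members in `H` satisfy the criterion for `H`: a Sylow
2-subgroup of a point stabiliser in `H` containing a member has one in its centre.
-/

set_option autoImplicit false
set_option linter.style.haveILetI false
set_option linter.unusedSectionVars false

namespace Cfsg.Agent.GoodInvol

open Subgroup MulAction

universe u v

variable {G : Type u} [Group G] {Ω : Type v} [MulAction G Ω] {D : Set G}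

/-- The points fixed by a member in `H`. -/
def memSub (h : Crit D Ω) (H : Subgroup G) : SubMulAction H Ω where
  carrier := {x | ∃ d ∈ D, d ∈ H ∧ d • x = x}
  smul_mem' g x := by
    rintro ⟨d, hd, hdH, hdx⟩
    refine ⟨(g : G) * d * (g : G)⁻¹, h.conj _ d hd, mul_mem (mul_mem g.2 hdH) (inv_mem g.2), ?_⟩
    show ((g : G) * d * (g : G)⁻¹) • (g : G) • x = (g : G) • x
    rw [mul_smul, mul_smul, inv_smul_smul, hdx]

theorem mem_memSub {h : Crit D Ω} {H : Subgroup G} {x : Ω} :
    x ∈ memSub h H ↔ ∃ d ∈ D, d ∈ H ∧ d • x = x := Iff.rfl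

variable [Finite G] [Finite Ω] [FaithfulSMul G Ω]

namespace Crit

variable (h : Crit D Ω) (h2 : ∃ x y : Ω, x ≠ y)
include h h2

/-- The product of two commuting members is a member. -/
theorem mul_mem_of_commute {d e : G} (hd : d ∈ D) (he : e ∈ D) (hc : Commute d e) (hne : d ≠ e) : d * e ∈ D := by
  refine h.mem_of_oneFix h2 (Invol.order_two_of_sq ?_ fun h1 => hne ?_) (h.oneFix_mul hd he hc hne)
  · rw [mul_assoc, ← mul_assoc e, ← hc.eq, mul_assoc d e e, Invol.mul_self (h.invol _ he), mul_one,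
      Invol.mul_self (h.invol _ hd)]
  · rw [eq_inv_of_mul_eq_one_left h1, Invol.inv_self (h.invol _ he)]

/-- A set of pairwise commuting members closed under products has odd size. -/
theorem odd_ncard_of_mul_closed {A : Set G} (hA : A.Nonempty) (hD : A ⊆ D)
    (hm : ∀ d ∈ A, ∀ e ∈ A, d ≠ e → d * e ∈ A) : Odd A.ncard := by
  obtain ⟨d, hd⟩ := hA
  have hdd := Invol.mul_self (h.invol d (hD hd))
  rw [← Set.ncard_sdiff_singleton_add_one hd (Set.toFinite _)]
  refine (even_ncard_of_invol (Set.toFinite _) (fun e => d * e) (fun e he => ?_) (fun e _ => ?_)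
    fun e _ e1 => Invol.ne_one (h.invol d (hD hd)) (mul_eq_right.1 (show d * e = e from e1))).add_one
  · exact ⟨hm d hd e he.1 (Ne.symm he.2), fun e1 =>
      Invol.ne_one (h.invol e (hD he.1)) (mul_eq_left.1 (show d * e = d from e1))⟩
  · show d * (d * e) = e
    rw [← mul_assoc, hdd, one_mul]

/-- The members of `H` at a point of `memSub` are odd in number. -/
theorem odd_sub (hsec : BadCent D Ω) (H : Subgroup G) {x : Ω} (hx : x ∈ memSub h H) :
    Odd {d ∈ D | d ∈ H ∧ d • x = x}.ncard := by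
  classical
  haveI : Fact (Nat.Prime 2) := ⟨Nat.prime_two⟩
  set Hx := H ⊓ stabilizer G x with hHx
  obtain ⟨d0, hd0, hd0H, hd0x⟩ := mem_memSub.1 hx
  obtain ⟨P0, hP0⟩ := (IsPGroup.of_card (n := 1) (by
      rw [Nat.card_zpowers, ← Subgroup.orderOf_coe, h.invol d0 hd0, pow_one]) :
    IsPGroup 2 (zpowers (⟨d0, hd0H, hd0x⟩ : Hx))).exists_le_sylow
  set P : Subgroup G := (P0 : Subgroup Hx).map Hx.subtype with hPdef
  have hPle : P ≤ Hx := map_subtype_le _
  have hP2 : IsPGroup 2 P := P0.2.map _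
  have hPmax : ∀ c ∈ Hx, orderOf c = 2 → (∀ p ∈ P, Commute c p) → c ∈ P := by
    intro c hc hc2 hcc
    have hP' := IsPGroup.to_sup_of_normal_left' P0.2 (IsPGroup.of_card (n := 1) (by
        rw [Nat.card_zpowers, ← Subgroup.orderOf_coe, hc2, pow_one]) : IsPGroup 2 (zpowers (⟨c, hc⟩ : Hx)))
      (zpowers_le.2 (centralizer_le_normalizer _ (mem_centralizer_iff.2 fun p hp =>
        Subtype.ext (hcc p ⟨p, hp, rfl⟩).symm.eq)))
    refine ⟨⟨c, hc⟩, ?_, rfl⟩
    rw [← P0.3 hP' le_sup_left]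
    exact mem_sup_right (mem_zpowers _)
  have hd0P : d0 ∈ P := ⟨⟨d0, hd0H, hd0x⟩, hP0 (mem_zpowers _), rfl⟩
  have hfix : ∀ p ∈ P, p • x = x := fun p hp => (hPle hp).2
  set A := {d ∈ D | d ∈ H ∧ d • x = x} with hA
  set B := {d ∈ D | d ∈ P ∧ ∀ p ∈ P, Commute d p} with hB
  have hconjP : ∀ p ∈ P, ∀ c : G, p * c * p⁻¹ = c → Commute c p := fun p _ c e =>
    (mul_inv_eq_iff_eq_mul.1 e : Commute p c).symm
  -- the centre of `P` meets `D`
  have hBne : B.Nonempty := by
    haveI : Nontrivial P := (nontrivial_iff_ne_bot P).2 fun e => Invol.ne_one (h.invol d0 hd0)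
      (mem_bot.1 (e ▸ hd0P))
    haveI := hP2.center_nontrivial
    obtain ⟨n, hn⟩ := IsPGroup.iff_card.1 (hP2.to_subgroup (center P))
    obtain ⟨c, hc⟩ := exists_prime_orderOf_dvd_card' (G := center P) 2 (by
      rcases n with _ | n
      · exact absurd hn (by simpa using (Finite.one_lt_card (α := center P)).ne')
      · rw [hn, pow_succ]; exact dvd_mul_left _ _)
    have hcz : ∀ p ∈ P, Commute ((c : P) : G) p := fun p hp =>
      (congrArg Subtype.val (mem_center_iff.1 c.2 ⟨p, hp⟩)).symm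
    have hc2 : orderOf ((c : P) : G) = 2 := by rw [Subgroup.orderOf_coe, Subgroup.orderOf_coe, hc]
    by_cases hcD : ((c : P) : G) ∈ D
    · exact ⟨_, hcD, (c : P).2, hcz⟩
    have hbad : ¬ OneFix Ω ((c : P) : G) := fun hone => hcD (h.mem_of_oneFix h2 hc2 hone)
    set Y := {d ∈ D | d ∈ P} with hY
    have hYc : ∀ d ∈ Y, ∀ e ∈ Y, Commute d e := fun d hd e he => by
      obtain ⟨k, hk⟩ := IsPGroup.iff_orderOf.1 hP2 ⟨_, mul_mem hd.2 he.2⟩
      exact hsec.comm _ hc2 hbad d hd.1 e he.1 (hcz d hd.2).symm (hcz e he.2).symm x (hfix d hd.2)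
        (hfix e he.2) ⟨k, by rwa [Subgroup.orderOf_mk] at hk⟩
    have hYodd := h.odd_ncard_of_mul_closed h2 (A := Y) ⟨d0, hd0, hd0P⟩ (fun d hd => hd.1)
      fun d hd e he hne => ⟨h.mul_mem_of_commute h2 hd.1 he.1 (hYc d hd e he) hne, mul_mem hd.2 he.2⟩
    letI : MulAction P Y :=
      { smul := fun p d => ⟨(p : G) * d * (p : G)⁻¹, h.conj p d d.2.1, mul_mem (mul_mem p.2 d.2.2) (inv_mem p.2)⟩
        one_smul := fun d => Subtype.ext (show (1 : G) * d * (1 : G)⁻¹ = d by group)
        mul_smul := fun p r d => Subtype.ext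
          (show (p : G) * r * d * ((p : G) * r)⁻¹ = p * ((r : G) * d * (r : G)⁻¹) * (p : G)⁻¹ by group) }
    obtain ⟨d, hd⟩ := hP2.nonempty_fixed_point_of_prime_not_dvd_card Y fun hdiv => by
      rw [Nat.card_coe_set_eq] at hdiv
      exact Nat.not_even_iff_odd.2 hYodd (even_iff_two_dvd.2 hdiv)
    exact ⟨d, d.2.1, d.2.2, fun p hp => hconjP p hp _ (congrArg Subtype.val (hd ⟨p, hp⟩))⟩
  have hBodd : Odd B.ncard := h.odd_ncard_of_mul_closed h2 hBne (fun d hd => hd.1)
    fun d hd e he hne => ⟨h.mul_mem_of_commute h2 hd.1 he.1 (hd.2.2 e he.2.1) hne, mul_mem hd.2.1 he.2.1,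
      fun p hp => (hd.2.2 p hp).mul_left (he.2.2 p hp)⟩
  -- `P` permutes the members, fixing those of its centre
  letI : MulAction P A :=
    { smul := fun p d => ⟨(p : G) * d * (p : G)⁻¹, h.conj p d d.2.1,
        mul_mem (mul_mem (hPle p.2).1 d.2.2.1) (inv_mem (hPle p.2).1), by
          rw [mul_smul, mul_smul, inv_smul_eq_iff.2 (hfix p p.2).symm, d.2.2.2, hfix p p.2]⟩
      one_smul := fun d => Subtype.ext (show (1 : G) * d * (1 : G)⁻¹ = d by group)
      mul_smul := fun p r d => Subtype.ext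
        (show (p : G) * r * d * ((p : G) * r)⁻¹ = p * ((r : G) * d * (r : G)⁻¹) * (p : G)⁻¹ by group) }
  have hfixset : (Subtype.val '' (fixedPoints P A)) = B := by
    ext d
    constructor
    · rintro ⟨d, hd, rfl⟩
      have hc : ∀ p ∈ P, Commute (d : G) p := fun p hp => hconjP p hp _ (congrArg Subtype.val (hd ⟨p, hp⟩))
      exact ⟨d.2.1, hPmax d ⟨d.2.2.1, d.2.2.2⟩ (h.invol d d.2.1) hc, hc⟩
    · rintro ⟨hd, hdP, hdc⟩
      refine ⟨⟨d, hd, (hPle hdP).1, hfix d hdP⟩, fun p => Subtype.ext ?_, rfl⟩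
      show (p : G) * d * (p : G)⁻¹ = d
      rw [← (hdc p p.2).eq, mul_inv_cancel_right]
  have hmod := hP2.card_modEq_card_fixedPoints A
  rw [Nat.card_coe_set_eq, Nat.card_coe_set_eq, ← Set.ncard_image_of_injective _ Subtype.val_injective,
    hfixset] at hmod
  rw [Nat.odd_iff] at hBodd ⊢
  rw [hmod, hBodd]

/-- The criterion for a subgroup on the points carrying its members. -/
theorem sub (hsec : BadCent D Ω) (H : Subgroup G) : Crit {d : H | (d : G) ∈ D} (memSub h H) where
  invol d hd := by rw [← Subgroup.orderOf_coe]; exact h.invol _ hd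
  conj g d hd := h.conj g _ hd
  unique d hd x y hx hy := Subtype.ext (h.unique _ hd _ _ (congrArg Subtype.val hx) (congrArg Subtype.val hy))
  prod d hd e he hde hne x y hx hy := Subtype.ext (h.prod _ hd _ he (congrArg Subtype.val hde)
    (fun e' => hne (Subtype.ext e')) _ _ (congrArg Subtype.val hx) (congrArg Subtype.val hy))
  odd x := by
    have e : {d ∈ {d : H | (d : G) ∈ D} | d • x = x} =
        Subtype.val ⁻¹' {d ∈ D | d ∈ H ∧ d • (x : Ω) = x} := by
      ext d
      exact ⟨fun hd => ⟨hd.1, d.2, congrArg Subtype.val hd.2⟩, fun hd => ⟨hd.1, Subtype.ext hd.2.2⟩⟩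
    rw [e, Set.ncard_preimage_of_injective_subset_range Subtype.val_injective
      (fun d hd => ⟨⟨d, hd.2.1⟩, rfl⟩)]
    exact h.odd_sub h2 hsec H x.2

end Crit

section

variable {Ω : Type u} [MulAction G Ω] [Finite Ω] [FaithfulSMul G Ω]

/-- In the minimal situation the statement holds for every proper subgroup. -/
theorem Crit.goal_sub (h : Crit D Ω) (h2 : ∃ x y : Ω, x ≠ y) (hB : Below.{u} (Nat.card G))
    (hgen : closure D = ⊤) {H : Subgroup G} (hH : H ≠ ⊤) :
    Goal {d : H | (d : G) ∈ D} (memSub h H) :=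
  hB H _ _ (lt_of_le_of_ne (card_le_card_group H) fun e => hH (eq_top_of_card_eq _ e))
    (h.sub h2 (h.badCent hB hgen) H)

end

end Cfsg.Agent.GoodInvol
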