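import Cfsg.Agent.Lib.GoodInvol.CaseATorusData
import Cfsg.Agent.Lib.GoodInvol.Outer
import Cfsg.Agent.Lib.GoodInvol.Sub
import Cfsg.Agent.Lib.GoodInvol.BlockFix

/-!
# Case A: one block at a point

When no block is normalised by an involution of a pair outside it, the group induced on the blocks at a point is in the
situation of the induction; its regular 2-subgroup would be elementary and too small, so there is one block: the
involutions of pairs at a point commute.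
-/

set_option autoImplicit false
set_option linter.style.haveILetI false
set_option linter.unusedSectionVars false

namespace Cfsg.Agent.GoodInvol

open Subgroup MulAction

universe u v

variable {G : Type u} [Group G] [Finite G] {Ω : Type u} [MulAction G Ω] [Finite Ω] [FaithfulSMul G Ω]

/-- The blocks at a point. -/
def AtBlock (D : Set G) (Ω : Type u) [MulAction G Ω] (a : Ω) : Type u :=
  {A : Subgroup G // ∃ w ∈ pairBad G Ω, w • a = a ∧ aSub D a w = A}

instance (D : Set G) (a : Ω) : Finite (AtBlock D Ω a) :=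
  Subtype.finite

namespace CaseA

variable {D : Set G} {r e : ℕ} (hA : CaseA D Ω r e)
include hA

omit [Finite G] [Finite Ω] [FaithfulSMul G Ω] hA in
theorem mem_conj_map {A : Subgroup G} {g x : G} : x ∈ A.map (MulAut.conj g).toMonoidHom ↔ g⁻¹ * x * g ∈ A := by
  constructor
  · rintro ⟨y, hy, rfl⟩
    show g⁻¹ * (g * y * g⁻¹) * g ∈ A
    rwa [show g⁻¹ * (g * y * g⁻¹) * g = y by group]
  · intro h
    exact ⟨_, h, show g * (g⁻¹ * x * g) * g⁻¹ = x by group⟩

theorem map_aSub {a : Ω} {g w : G} (hw : w ∈ pairBad G Ω) (ha : w • a = a) (hg : g • a = a) :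
    (aSub D a w).map (MulAut.conj g).toMonoidHom = aSub D a (g * w * g⁻¹) := by
  ext x
  rw [mem_conj_map, ← hA.conj_aSub hw ha hg, show g * (g⁻¹ * x * g) * g⁻¹ = x by group]

/-- The stabiliser of a point permutes its blocks. -/
@[reducible] def blockAct (a : Ω) : MulAction (stabilizer G a) (AtBlock D Ω a) where
  smul g A := ⟨A.1.map (MulAut.conj (g : G)).toMonoidHom, by
    obtain ⟨w, hw, ha, he⟩ := A.2
    refine ⟨(g : G) * w * (g : G)⁻¹, hA.conj_pairBad _ hw, ?_, ?_⟩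
    · rw [mul_smul, mul_smul, inv_smul_eq_iff.2 g.2.symm, ha]; exact g.2
    · rw [← he, hA.map_aSub hw ha g.2]⟩
  one_smul A := Subtype.ext (Subgroup.ext fun x => by
    show x ∈ A.1.map (MulAut.conj ((1 : stabilizer G a) : G)).toMonoidHom ↔ x ∈ A.1
    rw [mem_conj_map]; simp)
  mul_smul g g' A := Subtype.ext (Subgroup.ext fun x => by
    show x ∈ A.1.map (MulAut.conj ((g * g' : stabilizer G a) : G)).toMonoidHom ↔
      x ∈ (A.1.map (MulAut.conj (g' : G)).toMonoidHom).map (MulAut.conj (g : G)).toMonoidHom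
    rw [mem_conj_map, mem_conj_map, mem_conj_map]
    simp [mul_assoc])

theorem card_aSub_le {w : G} (hw : w ∈ pairBad G Ω) {a : Ω} (ha : w • a = a) :
    Nat.card (aSub D a w) ≤ 2 ^ r * 2 ^ r := by
  classical
  obtain ⟨v, P⟩ := hw
  have hw : w ∈ pairBad G Ω := ⟨v, P⟩
  obtain ⟨x, T, Q, K, K1, -, -, hT, hE, -⟩ := hA.exists_data hw ha
  have hF := P.card_fixFour_le hA.crit hA.below hA.gen ha hT hE
  rw [hA.card_eSub] at hF
  set W : Set G := insert 1 (fixFour Ω w) with hWdef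
  have hW : W.ncard ≤ 2 ^ r := by
    have h1 := Set.ncard_insert_le 1 (fixFour Ω w)
    have := hA.four_le_q
    rw [← hWdef] at h1
    omega
  have hsub : (aSub D a w : Set G) ⊆ (fun p : G × G => p.1 * p.2) '' (W ×ˢ (eSub D a : Set G)) := by
    intro g hg
    obtain ⟨hgR, h2⟩ := (hA.mem_aSub hw ha).1 hg
    obtain ⟨δ, c, hδ, hδw, hc, rfl⟩ := hA.rSub_invol hw ha hgR h2
    refine ⟨(δ, c), ⟨?_, hc⟩, rfl⟩
    rcases hA.fixStab_cases hw hδ hδw with h | h
    · exact Or.inl h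
    · exact Or.inr h
  rw [← SetLike.coe_sort_coe, Nat.card_coe_set_eq]
  refine (Set.ncard_le_ncard hsub (Set.toFinite _)).trans ((Set.ncard_image_le (Set.toFinite _)).trans ?_)
  rw [Set.ncard_prod, ← Nat.card_coe_set_eq (eSub D a : Set G), SetLike.coe_sort_coe, hA.card_eSub]
  exact Nat.mul_le_mul_right _ hW

/-- Squaring separates the cosets of the elementary subgroup in the regular subgroup. -/
theorem qSub_facts {w : G} (hw : w ∈ pairBad G Ω) {a : Ω} (ha : w • a = a) {K : Subgroup G}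
    (hK : IsTorus D a w K r) {y0 : G} (hy0 : y0 ∈ qSub D a w) (hy0E : y0 ∉ eSub D a) :
    (∀ k ∈ K, ∀ k' ∈ K, k * y0 * k⁻¹ * (k' * y0 * k'⁻¹)⁻¹ ∈ eSub D a → k = k') ∧
      ∀ z ∈ qSub D a w, z ∉ eSub D a → ∃ k ∈ K, ∃ c ∈ eSub D a, z = k * y0 * k⁻¹ * c := by
  classical
  have hinj : ∀ k ∈ K, ∀ k' ∈ K, k * y0 * k⁻¹ * (k' * y0 * k'⁻¹)⁻¹ ∈ eSub D a → k = k' := by
    intro k hk k' hk' h
    have hm : k'⁻¹ * k ∈ K := mul_mem (inv_mem hk') hk
    have h2 : k'⁻¹ * k * y0 * (k'⁻¹ * k)⁻¹ * y0⁻¹ ∈ eSub D a := by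
      have h3 := (hA.conj_eSub_iff (g := k'⁻¹) (inv_smul_eq_iff.2 (hK.fix k' hk').symm)).2 h
      rwa [show k'⁻¹ * (k * y0 * k⁻¹ * (k' * y0 * k'⁻¹)⁻¹) * k'⁻¹⁻¹ =
        k'⁻¹ * k * y0 * (k'⁻¹ * k)⁻¹ * y0⁻¹ by group] at h3
    exact (inv_mul_eq_one.1 (hK.fpfQ _ hm y0 hy0 hy0E h2)).symm
  refine ⟨hinj, ?_⟩
  have hmemQ : ∀ p : K × eSub D a, (p.1 : G) * y0 * (p.1 : G)⁻¹ * p.2 ∈ (qSub D a w : Set G) \ eSub D a :=
    fun p => ⟨mul_mem (hK.normQ _ p.1.2 _ hy0) (hA.eSub_le_qSub hw ha p.2.2), fun h => hy0E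
      ((hA.conj_eSub_iff (hK.fix _ p.1.2)).1 ((Subgroup.mul_mem_cancel_right _ p.2.2).1 h))⟩
  let f : K × eSub D a → ((qSub D a w : Set G) \ eSub D a : Set G) := fun p => ⟨_, hmemQ p⟩
  have hf : Function.Injective f := by
    rintro ⟨k, c⟩ ⟨k', c'⟩ he
    have he' : (k : G) * y0 * (k : G)⁻¹ * c = (k' : G) * y0 * (k' : G)⁻¹ * c' := congrArg Subtype.val he
    have hkk : k = k' := by
      refine Subtype.ext (hinj _ k.2 _ k'.2 ?_)
      have hq : (k : G) * y0 * (k : G)⁻¹ * ((k' : G) * y0 * (k' : G)⁻¹)⁻¹ =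
          (k' : G) * y0 * (k' : G)⁻¹ * ((c' : G) * (c : G)⁻¹) * ((k' : G) * y0 * (k' : G)⁻¹)⁻¹ := by
        rw [show (k : G) * y0 * (k : G)⁻¹ = (k' : G) * y0 * (k' : G)⁻¹ * c' * (c : G)⁻¹ by
          rw [← he', mul_inv_cancel_right]]
        group
      rw [hq]
      exact (hA.conj_eSub_iff (mem_cenA.1 (mem_qSub.1 (hK.normQ _ k'.2 _ hy0)).1).1).2
        (mul_mem c'.2 (inv_mem c.2))
    subst hkk
    exact Prod.ext rfl (Subtype.ext (mul_left_cancel he'))
  have hle := Nat.card_le_card_of_injective f hf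
  have hq4 := hA.four_le_q
  have hcount : Nat.card ((qSub D a w : Set G) \ eSub D a : Set G) = 2 ^ (e * r) - 2 ^ r := by
    rw [Nat.card_coe_set_eq, Set.ncard_sdiff (show (eSub D a : Set G) ⊆ qSub D a w from hA.eSub_le_qSub hw ha),
      ← Nat.card_coe_set_eq, ← Nat.card_coe_set_eq, SetLike.coe_sort_coe, SetLike.coe_sort_coe, hA.card_qSub hw ha,
      hA.card_eSub]
  have hbij : Function.Bijective f := by
    refine (Nat.bijective_iff_injective_and_card f).2 ⟨hf, le_antisymm hle ?_⟩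
    rw [hcount, Nat.card_prod, hK.card, hA.card_eSub]
    rcases hA.e_cases with he | he <;> rw [he]
    · simp
    · rw [mul_comm 2 r, pow_mul, pow_two, Nat.sub_mul, one_mul]
  intro z hz hzE
  obtain ⟨⟨k, c⟩, hkc⟩ := hbij.2 ⟨z, hz, hzE⟩
  exact ⟨k, k.2, c, c.2, (congrArg Subtype.val hkc).symm⟩

/-- Equal squares lie in one coset. -/
theorem qSub_sq_inj {w : G} (hw : w ∈ pairBad G Ω) {a : Ω} (ha : w • a = a) {z z' : G} (hz : z ∈ qSub D a w)
    (hz' : z' ∈ qSub D a w) (h : z * z = z' * z') : z⁻¹ * z' ∈ eSub D a := by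
  classical
  obtain ⟨K, hK⟩ := hA.exists_torus hw ha
  by_cases hzE : z ∈ eSub D a
  · exact mul_mem (inv_mem hzE) (hA.qSub_invol hw ha hz' (by rw [← h, hA.eSub_sq hzE]))
  obtain ⟨-, hall⟩ := hA.qSub_facts hw ha hK hz hzE
  by_cases hz'E : z' ∈ eSub D a
  · exact absurd (hA.qSub_invol hw ha hz (by rw [h, hA.eSub_sq hz'E])) hzE
  obtain ⟨k, hk, c, hc, rfl⟩ := hall z' hz' hz'E
  have hkz := hK.normQ k hk z hz
  have hc1 : Commute (k * z * k⁻¹) c := hA.commute_cenA (mem_qSub.1 hkz).1 hc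
  rw [mul_sq_of_commute hc1, hA.eSub_sq hc, mul_one, show k * z * k⁻¹ * (k * z * k⁻¹) = k * (z * z) * k⁻¹ by group] at h
  -- the torus is regular on the elementary subgroup
  have hz2 : z * z ∈ eSub D a := hA.qSub_sq hw ha hz
  have hz21 : z * z ≠ 1 := fun h1 => hzE (hA.qSub_invol hw ha hz h1)
  let f : K → ((eSub D a : Set G) \ {1} : Set G) := fun l => ⟨(l : G) * (z * z) * (l : G)⁻¹,
    (hA.conj_eSub_iff (hK.fix _ l.2)).2 hz2, fun e1 => hz21 (by
      rw [Set.mem_singleton_iff, mul_inv_eq_one] at e1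
      exact mul_left_cancel (a := (l : G)) (e1.trans (mul_one _).symm))⟩
  have hf : Function.Surjective f := by
    rintro ⟨c', hc', hc'1⟩
    obtain ⟨l, hl, he⟩ := hK.trans _ hz2 c' hc' hz21 hc'1
    exact ⟨⟨l, hl⟩, Subtype.ext he⟩
  have hcard : Nat.card K = Nat.card ((eSub D a : Set G) \ {1} : Set G) := by
    rw [hK.card, Nat.card_coe_set_eq, Set.ncard_sdiff_singleton_of_mem (SetLike.mem_coe.2 (one_mem _)),
      ← Nat.card_coe_set_eq, SetLike.coe_sort_coe, hA.card_eSub]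
  have hk1 : k = 1 := congrArg Subtype.val (((Nat.bijective_iff_surjective_and_card f).2 ⟨hf, hcard⟩).1
    (a₁ := (⟨k, hk⟩ : K)) (a₂ := 1) (Subtype.ext (by
      show k * (z * z) * k⁻¹ = ((1 : K) : G) * (z * z) * ((1 : K) : G)⁻¹
      rw [← h, OneMemClass.coe_one, one_mul, inv_one, mul_one])))
  rw [hk1, one_mul, inv_one, mul_one, inv_mul_cancel_left]
  exact hc

/-- The involutions of pairs at one point are in one block. -/
theorem one_block
    (hnp : ∀ {a : Ω} {u w : G}, u ∈ pairBad G Ω → u • a = a → w ∈ pairBad G Ω → w • a = a →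
      (∀ x ∈ aSub D a u, w * x * w⁻¹ ∈ aSub D a u) → w ∈ aSub D a u)
    {a : Ω} {u w : G} (hu : u ∈ pairBad G Ω) (hua : u • a = a) (hw : w ∈ pairBad G Ω) (hwa : w • a = a) :
    w ∈ aSub D a u := by
  classical
  by_contra hcon
  letI := hA.blockAct a
  set C := cenA D a with hC
  let ι : C →* stabilizer G a := inclusion (inf_le_left : cenA D a ≤ stabilizer G a)
  let π : C →* Equiv.Perm (AtBlock D Ω a) := (toPermHom (stabilizer G a) (AtBlock D Ω a)).comp ι
  set H := π.range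
  have hHsmul : ∀ (c : C) (A : AtBlock D Ω a), (⟨π c, c, rfl⟩ : H) • A = π c A := fun _ _ => rfl
  have hsmul : ∀ (c : C) (A : AtBlock D Ω a), (π c A).1 = A.1.map (MulAut.conj (c : G)).toMonoidHom :=
    fun _ _ => rfl
  -- the elements of a block act as the identity or fix it only
  have hrep : ∀ {g : G}, g ∈ pairBad G Ω → g • a = a → ∃ A : AtBlock D Ω a, A.1 = aSub D a g :=
    fun hg hga => ⟨⟨_, _, hg, hga, rfl⟩, rfl⟩
  have hfix : ∀ (g : C), (g : G) ∈ pairBad G Ω → ∀ A : AtBlock D Ω a, π g A = A ↔ (g : G) ∈ A.1 := by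
    intro g hg A
    have hga : (g : G) • a = a := (mem_cenA.1 g.2).1
    obtain ⟨v, hv, hva, hvA⟩ := A.2
    refine Subtype.ext_iff.trans ?_
    rw [hsmul, ← hvA]
    constructor
    · intro h
      refine hnp hv hva hg hga fun x hx => ?_
      rw [← h, mem_conj_map]
      rwa [show (g : G)⁻¹ * ((g : G) * x * (g : G)⁻¹) * (g : G) = x by group]
    · intro h
      rw [hA.map_aSub hv hva hga]
      have hgv : Commute (g : G) v := hA.rSub_commute_invol hv hva ((hA.mem_aSub hv hva).1 h).1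
        (hA.self_mem_rSub hv hva) ((hA.mem_aSub hv hva).1 h).2
      rw [hgv.eq, mul_inv_cancel_right]
  have hblk : ∀ {g : G} (A : AtBlock D Ω a), g ∈ A.1 → g ∉ eSub D a →
      g ∈ pairBad G Ω ∧ g • a = a ∧ aSub D a g = A.1 := by
    intro g A hg hgE
    obtain ⟨v, hv, hva, hvA⟩ := A.2
    rw [← hvA] at hg ⊢
    exact ⟨hA.pairBad_of_aSub hv hva hg hgE, hA.aSub_smul hv hva hg, hA.aSub_eq hv hva hg hgE⟩
  have hmemC : ∀ {g : G}, g ∈ pairBad G Ω → g • a = a → g ∈ C := fun hg hga => hA.mem_cenA_of_pairBad hg hga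
  have heq : ∀ (g : C), (g : G) ∈ eSub D a → π g = 1 := by
    intro g hg
    refine Equiv.ext fun A => Subtype.ext ?_
    obtain ⟨v, hv, hva, hvA⟩ := A.2
    show (π g A).1 = A.1
    rw [hsmul, ← hvA, hA.map_aSub hv hva (mem_cenA.1 g.2).1, ← (hA.commute_eSub hv hva hg).eq, mul_inv_cancel_right]
  obtain ⟨A1, hA1⟩ := hrep hu hua
  obtain ⟨A2, hA2⟩ := hrep hw hwa
  have h12 : A1 ≠ A2 := fun h => hcon (by rw [← hA1, h, hA2]; exact hA.self_mem_aSub hw hwa)
  have hne1 : ∀ (g : C), (g : G) ∈ pairBad G Ω → π g ≠ 1 := fun g hg h1 => by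
    obtain ⟨hp, -, hA'⟩ := hblk A1 ((hfix g hg A1).1 (by rw [h1]; rfl)) (hA.not_mem_eSub hg a)
    obtain ⟨-, -, hA''⟩ := hblk A2 ((hfix g hg A2).1 (by rw [h1]; rfl)) (hA.not_mem_eSub hg a)
    exact h12 (Subtype.ext (hA'.symm.trans hA''))
  have huniq : ∀ (g : C), (g : G) ∈ pairBad G Ω → ∀ A A' : AtBlock D Ω a, π g A = A → π g A' = A' → A = A' := by
    intro g hg A A' h h'
    have hgE := hA.not_mem_eSub hg a
    exact Subtype.ext ((hblk A ((hfix g hg A).1 h) hgE).2.2.symm.trans (hblk A' ((hfix g hg A').1 h') hgE).2.2)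
  set D' : Set H := {p | ∃ g : C, (g : G) ∈ pairBad G Ω ∧ (p : Equiv.Perm (AtBlock D Ω a)) = π g} with hD'
  -- two elements of one block acting equally differ by an element of `E`
  have hsame : ∀ (A : AtBlock D Ω a) (g g' : C), (g : G) ∈ A.1 → (g' : G) ∈ A.1 → π g = π g' →
      (g : G)⁻¹ * g' ∈ eSub D a := by
    intro A g g' hg hg' h
    by_contra hne
    obtain ⟨hp, -, -⟩ := hblk A (mul_mem (inv_mem hg) hg') hne
    exact hne1 (g⁻¹ * g') hp (by rw [map_mul, map_inv, h, inv_mul_cancel])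
  have hCrit : Crit D' (AtBlock D Ω a) := by
    refine ⟨?_, ?_, ?_, ?_, ?_⟩
    · rintro p ⟨g, hg, hp⟩
      refine Invol.order_two_of_sq (Subtype.ext ?_) fun e1 => hne1 g hg (hp ▸ congrArg Subtype.val e1)
      show (p : Equiv.Perm (AtBlock D Ω a)) * p = 1
      rw [hp, ← map_mul, show g * g = 1 from Subtype.ext (Invol.mul_self (hA.order_two hg)), map_one]
    · rintro ⟨_, c, rfl⟩ p ⟨g, hg, hp⟩
      refine ⟨c * g * c⁻¹, hA.conj_pairBad _ hg, ?_⟩
      show π c * (p : Equiv.Perm (AtBlock D Ω a)) * (π c)⁻¹ = _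
      rw [hp, map_mul, map_mul, map_inv]
    · rintro p ⟨g, hg, hp⟩ A A' h h'
      exact huniq g hg A A' (hp ▸ h) (hp ▸ h')
    · rintro p ⟨g, hg, hp⟩ q ⟨g', hg', hq⟩ hc hne A A' h h'
      obtain ⟨B, hB⟩ := hrep hg (mem_cenA.1 g.2).1
      have hgB : π g B = B := (hfix g hg B).2 (hB ▸ hA.self_mem_aSub hg (mem_cenA.1 g.2).1)
      have hc' : π g * π g' = π g' * π g := by rw [← hp, ← hq]; exact congrArg Subtype.val hc
      have hg'B : π g' B = B := by
        refine huniq g hg _ _ ?_ hgB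
        show (π g * π g') B = _
        rw [hc', Equiv.Perm.mul_apply, hgB]
      have hgg : (g' : G) ∈ B.1 := (hfix g' hg' B).1 hg'B
      have hgB' : (g : G) ∈ B.1 := (hfix g hg B).1 hgB
      by_cases hE : ((g * g' : C) : G) ∈ eSub D a
      · refine absurd (Subtype.ext ?_) hne
        have h2 := heq _ hE
        have hgg1 : π g * π g = 1 := by
          rw [← map_mul, show g * g = 1 from Subtype.ext (Invol.mul_self (hA.order_two hg)), map_one]
        rw [hp, hq]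
        rw [map_mul, ← hgg1] at h2
        exact (mul_left_cancel h2).symm
      · obtain ⟨hp', -, -⟩ := hblk B (mul_mem hgB' hgg) hE
        refine huniq (g * g') hp' A A' ?_ ?_ <;> rw [map_mul, ← hp, ← hq]
        exacts [h, h']
    · intro A
      obtain ⟨v, hv, hva, hvA⟩ := A.2
      have hle : A.1 ≤ C := fun x hx => by
        rw [← hvA] at hx
        exact (mem_rSub.1 ((hA.mem_aSub hv hva).1 hx).1).1
      let P0 : Subgroup C := A.1.subgroupOf C
      let f : P0 →* Equiv.Perm (AtBlock D Ω a) := π.comp P0.subtype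
      have hset : Subtype.val '' {p ∈ D' | p • A = A} = (f.range : Set (Equiv.Perm (AtBlock D Ω a))) \ {1} := by
        ext x
        constructor
        · rintro ⟨p, ⟨⟨g, hg, hp⟩, hpA⟩, rfl⟩
          exact ⟨⟨⟨g, mem_subgroupOf.2 ((hfix g hg A).1 (hp ▸ hpA))⟩, hp.symm⟩, fun e1 => hne1 g hg (hp ▸ e1)⟩
        · rintro ⟨⟨⟨g, hgA⟩, rfl⟩, hne⟩
          have hgE : (g : G) ∉ eSub D a := fun hE => hne (heq g hE)
          obtain ⟨hgp, -, -⟩ := hblk A (mem_subgroupOf.1 hgA) hgE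
          exact ⟨⟨π g, g, rfl⟩, ⟨⟨g, hgp, rfl⟩, (hfix g hgp A).2 (mem_subgroupOf.1 hgA)⟩, rfl⟩
      have h2 : ∀ x : f.range, x * x = 1 := by
        rintro ⟨_, ⟨g, hgA⟩, rfl⟩
        refine Subtype.ext ?_
        show π g * π g = 1
        rw [← map_mul]
        refine (congrArg π (Subtype.ext ?_)).trans (map_one π)
        show (g : G) * g = 1
        have hg : (g : G) ∈ aSub D a v := hvA ▸ mem_subgroupOf.1 hgA
        exact ((hA.mem_aSub hv hva).1 hg).2
      haveI : Fact (Nat.Prime 2) := ⟨Nat.prime_two⟩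
      obtain ⟨m, hm⟩ := IsPGroup.iff_card.1 (show IsPGroup 2 f.range from fun x =>
        ⟨1, by rw [pow_one, pow_two]; exact h2 x⟩)
      rw [← Set.ncard_image_of_injective _ Subtype.val_injective, hset,
        Set.ncard_sdiff_singleton_of_mem (SetLike.mem_coe.2 (one_mem f.range)), ← Nat.card_coe_set_eq,
        SetLike.coe_sort_coe, hm]
      have hm1 : m ≠ 0 := fun h0 => by
        rw [h0, pow_zero] at hm
        have hvA1 : v ∈ A.1 := by rw [← hvA]; exact hA.self_mem_aSub hv hva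
        have hmem : π ⟨v, hle hvA1⟩ ∈ f.range := ⟨⟨⟨v, hle hvA1⟩, mem_subgroupOf.2 hvA1⟩, rfl⟩
        rw [Subgroup.card_eq_one.1 hm, mem_bot] at hmem
        exact hne1 _ hv hmem
      exact Nat.Even.sub_odd Nat.one_le_two_pow (Nat.even_pow.2 ⟨even_two, hm1⟩) odd_one
  obtain ⟨x0, hx0, hax0⟩ := hA.exists_other hu a
  have h2p : ∃ x y : Ω, x ≠ y := ⟨a, x0, hax0⟩
  have hlt : Nat.card H < Nat.card G := by
    have h1 : Nat.card H ≤ Nat.card C := Nat.card_le_card_of_surjective π.rangeRestrict π.rangeRestrict_surjective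
    refine h1.trans_lt (lt_of_le_of_ne (card_le_card_group _) fun e1 => hax0 ?_)
    obtain ⟨g, -, hg⟩ := hA.crit.exists_smul a x0
    have htop : C = ⊤ := eq_top_of_card_eq _ e1
    exact ((mem_cenA.1 (htop ▸ mem_top g : g ∈ C)).1.symm.trans hg)
  have hGoal : Goal D' (AtBlock D Ω a) := hA.below H D' (AtBlock D Ω a) hlt hCrit
  have hind : ∀ p ∈ induced D' (AtBlock D Ω a), ∃ c : C, p = π c := by
    rintro _ ⟨⟨_, c, rfl⟩, -, rfl⟩
    exact ⟨c, rfl⟩
  have hmI : ∀ g : C, (g : G) ∈ pairBad G Ω → π g ∈ induced D' (AtBlock D Ω a) := fun g hg =>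
    ⟨⟨π g, g, rfl⟩, subset_closure ⟨g, hg, rfl⟩, rfl⟩
  set I := induced D' (AtBlock D Ω a)
  rcases induced_outcome hCrit hGoal h12 with ⟨hR, -⟩ | ⟨hBen, P, hP⟩
  · obtain ⟨v, FP⟩ := hu
    have hu : u ∈ pairBad G Ω := ⟨v, FP⟩
    have hv : v ∈ fixFour Ω u := FP.mem_fixFour_right hA.crit
    have hvp := hA.pairBad_of_fixFour hu hv
    set U : C := ⟨u, hmemC hu hua⟩
    set V : C := ⟨v, hmemC hvp (hv.1.2 a hua)⟩
    have hUU : π U * π U = 1 := by
      rw [← map_mul, show U * U = 1 from Subtype.ext (Invol.mul_self FP.ou), map_one]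
    have hVV : π V * π V = 1 := by
      rw [← map_mul, show V * V = 1 from Subtype.ext (Invol.mul_self FP.ov), map_one]
    have heq' := hR ⟨π U, hmI U hu⟩ ⟨π V, hmI V hvp⟩
      (Invol.order_two_of_sq (Subtype.ext hUU) fun e1 => hne1 U hu (congrArg Subtype.val e1))
      (Invol.order_two_of_sq (Subtype.ext hVV) fun e1 => hne1 V hvp (congrArg Subtype.val e1))
      (Subtype.ext (by
        show π U * π V = π V * π U
        rw [← map_mul, ← map_mul, show U * V = V * U from Subtype.ext FP.comm.eq]))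
    have hvA : v ∈ A1.1 := hA1 ▸ hA.mem_aSub_of_commute hu hvp hua (hv.1.2 a hua) FP.comm
    have huA : u ∈ A1.1 := hA1 ▸ hA.self_mem_aSub hu hua
    have h3 := hsame A1 U V huA hvA (congrArg Subtype.val heq')
    have h4 : u⁻¹ * v = 1 := by
      refine hA.genC_inf_fixStab hu (hA.eSub_le_genC hu hua h3) ?_
      exact (fixStab Ω u).mul_mem ((fixStab Ω u).inv_mem fun z hz => hz) hv.1.2
    exact FP.ne (inv_mul_eq_one.1 h4)
  -- the regular 2-subgroup on the other blocks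
  have hIsmul : ∀ (p : I) (A : AtBlock D Ω a), p • A = (p : Equiv.Perm (AtBlock D Ω a)) A := fun _ _ => rfl
  have htrI : ∀ A A' : AtBlock D Ω a, ∃ p : I, p • A = A' := fun A A' => by
    obtain ⟨g, hg, hgA⟩ := hCrit.exists_smul A A'
    exact ⟨⟨_, mem_map_of_mem _ hg⟩, hgA⟩
  have hPfix : ∀ p ∈ P, p • A1 = A1 := fun p hp => mem_stabilizer_iff.1 (hP.le hp)
  have hPfree : ∀ p ∈ P, ∀ A : AtBlock D Ω a, A ≠ A1 → p • A = A → p = 1 := by
    intro p hp A hAne hpA
    obtain ⟨g, rfl⟩ := htrI A1 A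
    refine hP.reg g (fun hg => hAne (mem_stabilizer_iff.1 hg)) p hp (mem_stabilizer_iff.2 ?_)
    rw [mul_smul, mul_smul, hpA, inv_smul_smul]
  have hPcard : Nat.card (AtBlock D Ω a) - 1 = Nat.card P := by
    have hbij : Function.Bijective (fun p : P => (⟨(p : I) • A2, fun h => h12 (MulAction.injective (p : I)
        ((hPfix _ p.2).trans h.symm))⟩ : {A : AtBlock D Ω a // A ≠ A1})) := by
      refine ⟨fun p p' h => Subtype.ext ?_, ?_⟩
      · have h1 : ((p' : I)⁻¹ * (p : I)) • A2 = A2 := by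
          rw [mul_smul]; exact inv_smul_eq_iff.2 (congrArg Subtype.val h)
        exact (inv_mul_eq_one.1 (hPfree _ (P.mul_mem (P.inv_mem p'.2) p.2) A2 h12.symm h1)).symm
      · rintro ⟨A, hAne⟩
        obtain ⟨g1, hg1⟩ := htrI A1 A2
        obtain ⟨g2, hg2⟩ := htrI A1 A
        obtain ⟨p, hp, hpg⟩ := hP.trans g1 g2
          (fun h => h12 (hg1 ▸ (mem_stabilizer_iff.1 h).symm))
          (fun h => hAne (hg2 ▸ mem_stabilizer_iff.1 h))
        refine ⟨⟨p, hp⟩, Subtype.ext ?_⟩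
        have := mem_stabilizer_iff.1 hpg
        rw [mul_smul, mul_smul, hg1, inv_smul_eq_iff, hg2] at this
        exact this
    rw [Nat.card_eq_of_bijective _ hbij]
    haveI : Fintype (AtBlock D Ω a) := Fintype.ofFinite _
    rw [Nat.card_eq_fintype_card, Nat.card_eq_fintype_card, Fintype.card_subtype_compl, Fintype.card_subtype_eq]
  have hq4 := hA.four_le_q
  have hN2 : 2 ≤ Nat.card (AtBlock D Ω a) := Finite.one_lt_card_iff_nontrivial.2 ⟨⟨A1, A2, h12⟩⟩
  haveI : Fact (Nat.Prime 2) := ⟨Nat.prime_two⟩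
  obtain ⟨iP, hiP⟩ := IsPGroup.iff_card.1 hP.two
  -- each line of a block is in a second one
  by_cases hone : ∃ g, g ∈ pairBad G Ω ∧ g • a = a ∧
      ∀ A : AtBlock D Ω a, (∃ g' ∈ A.1, g' ∉ eSub D a ∧ fixSet Ω g' = fixSet Ω g) → A.1 = aSub D a g
  · obtain ⟨g, hg, hga, hgone⟩ := hone
    obtain ⟨K, hK⟩ := hA.exists_torus hg hga
    obtain ⟨A0, hA0⟩ := hrep hg hga
    have hKst : ∀ k ∈ K, k ∈ stabilizer G a := fun k hk => hK.fix k hk
    have hfixA0 : ∀ (k : G) (hk : k ∈ K), (⟨k, hKst k hk⟩ : stabilizer G a) • A0 = A0 := by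
      intro k hk
      refine Subtype.ext ?_
      show A0.1.map (MulAut.conj k).toMonoidHom = A0.1
      rw [hA0, hA.map_aSub hg hga (hK.fix k hk), (commute_of_genC (hK.le hk)).eq, mul_inv_cancel_right]
    letI : MulAction K {A : AtBlock D Ω a // A ≠ A0} :=
      { smul := fun k A => ⟨(⟨(k : G), hKst k k.2⟩ : stabilizer G a) • A.1, fun h =>
          A.2 (MulAction.injective (⟨(k : G), hKst k k.2⟩ : stabilizer G a) (h.trans (hfixA0 k k.2).symm))⟩
        one_smul := fun A => Subtype.ext (one_smul (stabilizer G a) A.1)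
        mul_smul := fun k k' A => Subtype.ext (mul_smul (⟨(k : G), hKst k k.2⟩ : stabilizer G a)
          ⟨(k' : G), hKst k' k'.2⟩ A.1) }
    have hdvd := BlockFix.card_dvd_of_free (K := K) (T := {A : AtBlock D Ω a // A ≠ A0}) fun k A hkA => by
      by_contra hk1
      obtain ⟨v, hv, hva, hvA⟩ := A.1.2
      have h1 : (k : G) * v * (k : G)⁻¹ ∈ aSub D a v := by
        have h2 : A.1.1.map (MulAut.conj (k : G)).toMonoidHom = A.1.1 := congrArg Subtype.val (congrArg Subtype.val hkA)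
        rw [← hvA] at h2
        rw [← h2, mem_conj_map, show (k : G)⁻¹ * ((k : G) * v * (k : G)⁻¹) * k = v by group]
        exact hA.self_mem_aSub hv hva
      obtain ⟨g', hg', hg'E, hFg'⟩ := hA.torus_block_line hg hK hga k.2
        (fun e1 => hk1 (Subtype.ext e1)) hv hva h1
      exact A.2 (Subtype.ext ((hgone A.1 ⟨g', hvA ▸ hg', hg'E, hFg'⟩).trans hA0.symm))
    haveI : Fintype (AtBlock D Ω a) := Fintype.ofFinite _
    rw [hK.card, Nat.card_eq_fintype_card, Fintype.card_subtype_compl, Fintype.card_subtype_eq,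
      ← Nat.card_eq_fintype_card, hPcard, hiP] at hdvd
    have hodd : Odd (2 ^ r - 1) :=
      Nat.Even.sub_odd Nat.one_le_two_pow (Nat.even_pow.2 ⟨even_two, by have := hA.two_le; omega⟩) odd_one
    have := Nat.Coprime.eq_one_of_dvd (Nat.Coprime.pow_right _ (Nat.coprime_two_right.2 hodd)) hdvd
    omega
  push Not at hone
  -- blocks through the lines of the first one
  have hlines : ∀ c : eSub D a, ∃ B B' : AtBlock D Ω a, B ≠ B' ∧ B.1 ≠ aSub D a u ∧ B'.1 ≠ aSub D a u ∧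
      (∃ g ∈ B.1, g ∉ eSub D a ∧ fixSet Ω g = fixSet Ω (u * c)) ∧
      ∃ g ∈ B'.1, g ∉ eSub D a ∧ fixSet Ω g = fixSet Ω (u * c) := by
    intro c
    have hg := hA.mul_eSub_pairBad hu hua c.2
    have hga := hA.mul_eSub_smul hua c.2
    have hgA : aSub D a (u * c) = aSub D a u := hA.aSub_eq hu hua
      (mul_mem (hA.self_mem_aSub hu hua) (hA.eSub_le_aSub hu hua c.2)) (hA.not_mem_eSub hg a)
    obtain ⟨B, ⟨g', hg'B, hg'E, hFg'⟩, hBne⟩ := hone _ hg hga
    set γ : C := ⟨u * c, hmemC hg hga⟩ with hγ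
    refine ⟨B, π γ B, fun h => ?_, hgA ▸ hBne, fun h => hBne ?_, ⟨g', hg'B, hg'E, hFg'⟩,
      (γ : G) * g' * (γ : G)⁻¹, ?_, fun h => hg'E ((hA.conj_eSub_iff hga).1 h), ?_⟩
    · exact hBne (hblk B ((hfix γ hg B).1 h.symm) (hA.not_mem_eSub hg a)).2.2.symm
    · obtain ⟨A0, hA0⟩ := hrep hg hga
      have hAA : π γ B = A0 := Subtype.ext (h.trans (hgA.symm.trans hA0.symm))
      have hfA : π γ A0 = A0 := (hfix γ hg A0).2 (hA0 ▸ hA.self_mem_aSub hg hga)
      rw [← hA0, (π γ).injective (hAA.trans hfA.symm)]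
    · show (γ : G) * g' * (γ : G)⁻¹ ∈ (π γ B).1
      rw [hsmul, mem_conj_map]
      rwa [show (γ : G)⁻¹ * ((γ : G) * g' * (γ : G)⁻¹) * γ = g' by group]
    · show fixSet Ω ((u * c) * g' * (u * c)⁻¹) = fixSet Ω (u * c)
      ext z
      show ((u * c) * g' * (u * c)⁻¹) • z = z ↔ (u * c) • z = z
      have key : ∀ y : Ω, g' • y = y ↔ (u * c) • y = y := fun y => Set.ext_iff.1 hFg' y
      rw [mul_smul, mul_smul, smul_eq_iff_eq_inv_smul, key, smul_inv_smul]
      exact eq_inv_smul_iff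
  choose B B' hBB hBu hB'u hBl hB'l using hlines
  have hshare : ∀ (A : AtBlock D Ω a) (c c' : eSub D a), A.1 ≠ aSub D a u →
      (∃ g ∈ A.1, g ∉ eSub D a ∧ fixSet Ω g = fixSet Ω (u * c)) →
      (∃ g ∈ A.1, g ∉ eSub D a ∧ fixSet Ω g = fixSet Ω (u * c')) → c = c' := by
    rintro A c c' hAne ⟨g, hg, hgE, hFg⟩ ⟨g', hg', hg'E, hFg'⟩
    by_contra hne
    obtain ⟨hgp, hga, hgA⟩ := hblk A hg hgE
    obtain ⟨d, hd, hFd⟩ := hA.exists_line hgp hga (hgA ▸ hg') hg'E
    have hw1 := hA.mul_eSub_pairBad hu hua c.2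
    have hw1a := hA.mul_eSub_smul hua c.2
    have hcc : (c : G) * c' ∈ eSub D a := mul_mem c.2 c'.2
    have hcc1 : (c : G) * c' ≠ 1 := fun e1 => hne (Subtype.ext (by
      rw [eq_inv_of_mul_eq_one_left e1]; exact inv_eq_of_mul_eq_one_right (hA.eSub_sq c'.2)))
    have hline : fixSet Ω (u * c * ((c : G) * c')) = fixSet Ω (g * d) := by
      rw [← hFd, hFg', ← mul_assoc, mul_assoc u (c : G) c, hA.eSub_sq c.2, mul_one]
    have hcomm := hA.commute_of_two_lines hw1 hgp hw1a hFg.symm hcc hd hcc1 hline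
    refine hAne ?_
    rw [← hgA, hA.aSub_eq hw1 hw1a (hA.mem_aSub_of_commute hw1 hgp hw1a hga hcomm) (hA.not_mem_eSub hgp a)]
    exact hA.aSub_eq hu hua (mul_mem (hA.self_mem_aSub hu hua) (hA.eSub_le_aSub hu hua c.2))
      (hA.not_mem_eSub hw1 a)
  have hN : 2 * 2 ^ r ≤ Nat.card (AtBlock D Ω a) - 1 := by
    haveI : Fintype (AtBlock D Ω a) := Fintype.ofFinite _
    rw [← hA.card_eSub a, mul_comm, ← Fintype.card_bool, ← Nat.card_eq_fintype_card (α := Bool), ← Nat.card_prod,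
      show Nat.card (AtBlock D Ω a) - 1 = Nat.card {A : AtBlock D Ω a // A ≠ A1} by
        rw [Nat.card_eq_fintype_card, Nat.card_eq_fintype_card, Fintype.card_subtype_compl, Fintype.card_subtype_eq]]
    refine Nat.card_le_card_of_injective (fun p : eSub D a × Bool =>
      (⟨bif p.2 then B p.1 else B' p.1, ?_⟩ : {A : AtBlock D Ω a // A ≠ A1})) ?_
    · cases p.2
      · exact fun h => hB'u p.1 (by rw [← hA1, ← h]; rfl)
      · exact fun h => hBu p.1 (by rw [← hA1, ← h]; rfl)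
    · rintro ⟨c, b⟩ ⟨c', b'⟩ h
      have h' : (bif b then B c else B' c) = bif b' then B c' else B' c' := congrArg Subtype.val h
      have hcc : c = c' := by
        refine hshare (bif b then B c else B' c) c c' ?_ ?_ ?_
        · cases b
          exacts [hB'u c, hBu c]
        · cases b
          exacts [hB'l c, hBl c]
        · rw [h']
          cases b'
          exacts [hB'l c', hBl c']
      subst hcc
      cases b <;> cases b'
      exacts [rfl, absurd h' (hBB c).symm, absurd h' (hBB c), rfl]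
  -- the regular subgroup of a line's involution is trivial on the blocks
  have hQtriv : ∀ {g : G}, g ∈ pairBad G Ω → g • a = a → ∀ y : C, (y : G) ∈ qSub D a g → π y = 1 := by
    intro g hg hga
    obtain ⟨A0, hA0⟩ := hrep hg hga
    obtain ⟨B0, ⟨g', hg'B, hg'E, hFg'⟩, hB0⟩ := hone g hg hga
    obtain ⟨hg'p, hg'a, hg'A⟩ := hblk B0 hg'B hg'E
    have hAB : A0 ≠ B0 := fun h => hB0 (by rw [← h]; exact hA0)
    have hfix2 : ∀ y : C, (y : G) ∈ qSub D a g → π y A0 = A0 ∧ π y B0 = B0 := by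
      intro y hy
      have hy1 : Commute (y : G) g := commute_of_genC (mem_qSub.1 hy).2
      have hy2 : Commute (y : G) g' := (hA.qSub_fixStab hg hy fun z hz => (Set.ext_iff.1 hFg' z).2 hz).symm
      constructor <;> refine Subtype.ext ?_ <;> rw [hsmul]
      · rw [hA0, hA.map_aSub hg hga (mem_cenA.1 y.2).1, hy1.eq, mul_inv_cancel_right]
      · rw [← hg'A, hA.map_aSub hg'p hg'a (mem_cenA.1 y.2).1, hy2.eq, mul_inv_cancel_right]
    have hpair : ∀ y y' : C, (y : G) ∈ qSub D a g → (y' : G) ∈ qSub D a g → π y = 1 ∨ π y' = 1 ∨ π y = π y' := by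
      intro y y' hy hy'
      have hsq : ∀ z : C, (z : G) ∈ qSub D a g → π z * π z = 1 := fun z hz => by
        rw [← map_mul]; exact heq _ (hA.qSub_sq hg hga hz)
      have hcomm : π y * π y' = π y' * π y := by
        have h1 := heq (y * y' * y⁻¹ * y'⁻¹) (hA.qSub_comm hg hga hy hy')
        rw [map_mul, map_mul, map_mul, map_inv, map_inv] at h1
        exact mul_inv_eq_iff_eq_mul.1 (mul_inv_eq_one.1 h1)
      rcases outer_pair hCrit hGoal hBen (u := (⟨π y, y, rfl⟩ : H)) (v := (⟨π y', y', rfl⟩ : H))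
        (fun z => Equiv.congr_fun hcomm z) (fun z => Equiv.congr_fun (hsq y hy) z)
        (fun z => Equiv.congr_fun (hsq y' hy') z) hAB (hfix2 y hy).1 (hfix2 y hy).2 (hfix2 y' hy').1
        (hfix2 y' hy').2 with h | h | h
      · exact Or.inl (Equiv.ext h)
      · exact Or.inr (Or.inl (Equiv.ext h))
      · exact Or.inr (Or.inr (Equiv.ext h))
    intro y hy
    by_contra hy1
    have hyE : (y : G) ∉ eSub D a := fun h => hy1 (heq y h)
    obtain ⟨K, hK⟩ := hA.exists_torus hg hga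
    -- the elements acting trivially are invariant under the torus
    have hconj : ∀ k ∈ K, ∀ z : C, π z = 1 → ∀ hz' : k * (z : G) * k⁻¹ ∈ C, π ⟨_, hz'⟩ = 1 := by
      intro k hk z hz hz'
      set k' : stabilizer G a := ⟨k, hK.fix k hk⟩
      have hι : ι ⟨_, hz'⟩ = k' * ι z * k'⁻¹ := rfl
      show toPermHom _ (AtBlock D Ω a) (ι ⟨_, hz'⟩) = 1
      rw [hι, map_mul, map_mul, show toPermHom _ (AtBlock D Ω a) (ι z) = 1 from hz, mul_one, map_inv, mul_inv_cancel]
    have hall : ∀ z0 : C, (z0 : G) ∈ qSub D a g → (z0 : G) ∉ eSub D a → π z0 = 1 → False := by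
      intro z0 hz0 hz0E hz01
      obtain ⟨k, hk, c, hc, hyk⟩ := (hA.qSub_facts hg hga hK hz0 hz0E).2 y hy hyE
      have hkz : k * (z0 : G) * k⁻¹ ∈ C := hA.conj_cenA_mem (hK.fix k hk) z0.2
      refine hy1 ?_
      rw [show y = ⟨_, hkz⟩ * ⟨c, hA.eSub_le_cenA a hc⟩ from Subtype.ext hyk, map_mul, hconj k hk z0 hz01 hkz,
        heq _ hc, one_mul]
    obtain ⟨k, hk, hk1⟩ : ∃ k ∈ K, k ≠ 1 := by
      by_contra! hno
      have hc := hK.card
      rw [(eq_bot_iff_forall K).2 hno, card_bot] at hc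
      omega
    set y' : C := ⟨k * (y : G) * k⁻¹, hA.conj_cenA_mem (hK.fix k hk) y.2⟩ with hy'
    have hy'Q : (y' : G) ∈ qSub D a g := hK.normQ k hk _ hy
    rcases hpair y y' hy hy'Q with h | h | h
    · exact hy1 h
    · exact hall y' hy'Q (fun hE => hyE ((hA.conj_eSub_iff (hK.fix k hk)).1 hE)) h
    · refine hall (y * y'⁻¹) (mul_mem hy (inv_mem hy'Q)) (fun hE => hk1 ?_) (by
        rw [map_mul, map_inv, h, mul_inv_cancel])
      refine ((hA.qSub_facts hg hga hK hy hyE).1 1 (one_mem K) k hk ?_).symm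
      rw [one_mul, inv_one, mul_one]; exact hE
  -- every element of the regular subgroup acts as an element of the block
  set V0 : Set (Equiv.Perm (AtBlock D Ω a)) := π '' {g : C | (g : G) ∈ A1.1} with hV0
  have hD'mem : ∀ p ∈ P, orderOf p = 2 → ∃ g : C, (g : G) ∈ pairBad G Ω ∧ (p : Equiv.Perm (AtBlock D Ω a)) = π g ∧
      (g : G) ∈ A1.1 := by
    intro p hp hord
    obtain ⟨c, hc⟩ := hind p p.2
    set p' : H := ⟨π c, c, rfl⟩
    have hp'2 : p' * p' = 1 := Subtype.ext (by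
      show π c * π c = 1
      rw [← hc]; exact congrArg Subtype.val (Invol.mul_self hord))
    have hp'1 : p' ≠ 1 := fun e1 => Invol.ne_one hord (Subtype.ext (hc.trans (congrArg Subtype.val e1)))
    have hfixA : ∀ A : AtBlock D Ω a, p' • A = A → A = A1 := fun A hA' => by
      by_contra hne
      exact Invol.ne_one hord (hPfree p hp A hne (by rw [hIsmul, hc]; exact hA'))
    obtain ⟨g, hg, hpg⟩ := hCrit.mem_of_oneFix ⟨A1, A2, h12⟩ (Invol.order_two_of_sq hp'2 hp'1)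
      (fun A A' hA' hA'' => (hfixA A hA').trans (hfixA A' hA'').symm)
    refine ⟨g, hg, hc.trans hpg, (hfix g hg A1).1 ?_⟩
    rw [← hpg]
    show π c A1 = A1
    rw [← hc]
    exact hPfix p hp
  have hPntriv : Nontrivial P := Finite.one_lt_card_iff_nontrivial.1 (by rw [← hPcard]; omega)
  haveI := hP.two.center_nontrivial
  obtain ⟨p0, hp0⟩ : ∃ p0 : P, p0 ∈ center P ∧ orderOf p0 = 2 := by
    have hdvd : 2 ∣ Nat.card (center P) := by
      obtain ⟨n, hn0, hn⟩ := (hP.two.to_subgroup (center P)).nontrivial_iff_card.1 inferInstance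
      rw [hn]; exact dvd_pow_self 2 hn0.ne'
    obtain ⟨z, hz⟩ := exists_prime_orderOf_dvd_card' 2 hdvd
    exact ⟨z, z.2, by rw [Subgroup.orderOf_coe]; exact hz⟩
  obtain ⟨g0, hg0, hp0g, hg0A⟩ := hD'mem p0 p0.2 (by rw [Subgroup.orderOf_coe]; exact hp0.2)
  obtain ⟨-, hg0a, hg0A'⟩ := hblk A1 hg0A (hA.not_mem_eSub hg0 a)
  have hsq : ∀ p ∈ P, p * p = 1 := by
    intro p hp
    obtain ⟨x, hx⟩ := hind p p.2
    have hcomm : π x * π g0 = π g0 * π x := by
      rw [← hx, ← hp0g]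
      exact congrArg (fun z : P => ((z : I) : Equiv.Perm (AtBlock D Ω a))) (mem_center_iff.1 hp0.1 ⟨p, hp⟩)
    have hxA : π x A1 = A1 := hx ▸ hPfix p hp
    have hxg : ((x * g0 * x⁻¹ : C) : G) ∈ A1.1 := by
      have h1 : (π x A1).1 = A1.1 := congrArg Subtype.val hxA
      rw [← h1, hsmul, mem_conj_map]
      show (x : G)⁻¹ * ((x : G) * g0 * (x : G)⁻¹) * x ∈ A1.1
      rwa [show (x : G)⁻¹ * ((x : G) * g0 * (x : G)⁻¹) * x = g0 by group]
    have hσ : ((g0⁻¹ * (x * g0 * x⁻¹) : C) : G) ∈ eSub D a := hsame A1 g0 (x * g0 * x⁻¹) hg0A hxg (by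
      rw [map_mul, map_mul, map_inv, hcomm, mul_inv_cancel_right])
    set g1 : G := (g0 : G) with hg1
    set x1 : G := (x : G) with hx1
    set σ : G := g1⁻¹ * (x1 * g1 * x1⁻¹) with hσdef
    have hxu : x1 * g1 * x1⁻¹ = g1 * σ := by rw [hσdef, mul_inv_cancel_left]
    have hσ' : σ ∈ eSub D a := hσ
    have hxσ : x1 * σ * x1⁻¹ = σ := by
      rw [(hA.commute_cenA x.2 hσ').eq, mul_inv_cancel_right]
    have hR : x1 * x1 ∈ rSub D a g1 := mem_rSub.2 ⟨mul_mem x.2 x.2, mul_inv_eq_iff_eq_mul.1 (by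
      calc x1 * x1 * g1 * (x1 * x1)⁻¹ = x1 * (x1 * g1 * x1⁻¹) * x1⁻¹ := by group
        _ = x1 * (g1 * σ) * x1⁻¹ := by rw [hxu]
        _ = x1 * g1 * x1⁻¹ * (x1 * σ * x1⁻¹) := by group
        _ = g1 * (σ * σ) := by rw [hxσ, hxu]; group
        _ = g1 := by rw [hA.eSub_sq hσ', mul_one])⟩
    obtain ⟨δ, y, hδ, hδw, hy, hxy⟩ := hA.rSub_decomp hg0 hg0a hR
    have hδR := hA.mem_rSub_of_fixStab hg0 hg0a hδ hδw
    have hδC : δ ∈ C := (mem_rSub.1 hδR).1
    have hyC : y ∈ C := (mem_qSub.1 hy).1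
    have hδA : δ ∈ A1.1 := hg0A' ▸ (hA.mem_aSub hg0 hg0a).2 ⟨hδR, hA.fixStab_sq hg0 hδ hδw⟩
    have hπ : π (x * x) = π ⟨δ, hδC⟩ := by
      rw [show x * x = ⟨δ, hδC⟩ * ⟨y, hyC⟩ from Subtype.ext hxy, map_mul, hQtriv hg0 hg0a ⟨y, hyC⟩ hy, mul_one]
    -- the conjugation by `x` is trivial on the regular subgroup modulo `E`
    have hyE : y ∈ eSub D a := by
      obtain ⟨x0', T, Q, K, K1, -, -, hT, -, hL⟩ := hA.exists_data hg0 hg0a
      have hQ := hA.Q_eq_qSub hg0 hT hL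
      refine hL.center hA.e_ne y (hQ.symm ▸ hy) fun z hz => ?_
      have hzQ : z ∈ qSub D a g1 := hQ ▸ hz
      have hzC : z ∈ C := (mem_qSub.1 hzQ).1
      have hzR : x1 * z * x1⁻¹ ∈ rSub D a g1 := by
        have h1 := (hA.conj_rSub (mem_cenA.1 x.2).1).2 (qSub_le_rSub D a g1 hzQ)
        rwa [hxu, hA.rSub_mul_eSub hσ'] at h1
      obtain ⟨δ', y', hδ', hδw', hy', hz'⟩ := hA.rSub_decomp hg0 hg0a hzR
      have hsq2 : y' * y' = z * z := by
        rw [← hA.rSub_sq_eq hg0 hδ' hδw' hy', ← hz', show x1 * z * x1⁻¹ * (x1 * z * x1⁻¹) = x1 * (z * z) * x1⁻¹ by group,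
          (hA.commute_cenA x.2 (hA.qSub_sq hg0 hg0a hzQ)).eq, mul_inv_cancel_right]
      have hc : z⁻¹ * y' ∈ eSub D a := hA.qSub_sq_inj hg0 hg0a hzQ hy' hsq2.symm
      set c := z⁻¹ * y' with hcdef
      have hδ'C : δ' ∈ C := (mem_rSub.1 (hA.mem_rSub_of_fixStab hg0 hg0a hδ' hδw')).1
      have hδ'1 : δ' = 1 := by
        have hπz : π (x * ⟨z, hzC⟩ * x⁻¹) = 1 := by
          rw [map_mul, map_mul, map_inv, hQtriv hg0 hg0a ⟨z, hzC⟩ hzQ, mul_one, mul_inv_cancel]
        rw [show x * ⟨z, hzC⟩ * x⁻¹ = ⟨δ', hδ'C⟩ * ⟨y', (mem_qSub.1 hy').1⟩ from Subtype.ext hz', map_mul,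
          hQtriv hg0 hg0a ⟨y', _⟩ hy', mul_one] at hπz
        rcases hA.fixStab_cases hg0 hδ' hδw' with h | h
        · exact h
        · exact absurd hπz (hne1 ⟨δ', hδ'C⟩ (hA.pairBad_of_fixFour hg0 h))
      have hxz : x1 * z * x1⁻¹ = z * c := by rw [hz', hδ'1, one_mul, hcdef, mul_inv_cancel_left]
      have hxc : x1 * c * x1⁻¹ = c := by rw [(hA.commute_cenA x.2 hc).eq, mul_inv_cancel_right]
      have hcomm2 : Commute (x1 * x1) z := mul_inv_eq_iff_eq_mul.1 (by
        calc x1 * x1 * z * (x1 * x1)⁻¹ = x1 * (x1 * z * x1⁻¹) * x1⁻¹ := by group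
          _ = x1 * (z * c) * x1⁻¹ := by rw [hxz]
          _ = x1 * z * x1⁻¹ * (x1 * c * x1⁻¹) := by group
          _ = z * (c * c) := by rw [hxc, hxz]; group
          _ = z := by rw [hA.eSub_sq hc, mul_one])
      rw [show y = δ⁻¹ * (x1 * x1) by rw [hxy, inv_mul_cancel_left]]
      exact ((hA.qSub_fixStab hg0 hzQ hδ).inv_left).mul_left hcomm2
    have hδ1 : δ = 1 := by
      rcases hA.fixStab_cases hg0 hδ hδw with h | h
      · exact h
      exfalso
      have hgA : x1 * x1 ∈ aSub D a g1 := by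
        rw [hxy]
        exact mul_mem ((hA.mem_aSub hg0 hg0a).2 ⟨hδR, hA.fixStab_sq hg0 hδ hδw⟩) (hA.eSub_le_aSub hg0 hg0a hyE)
      have hgE : x1 * x1 ∉ eSub D a := by
        rw [hxy]
        exact fun hE => hA.not_mem_eSub (hA.pairBad_of_fixFour hg0 h) a
          ((Subgroup.mul_mem_cancel_right _ hyE).1 hE)
      have hxR : x1 ∈ rSub D a g1 := by
        rw [← hA.rSub_eq hg0 hg0a hgA hgE]
        exact mem_rSub.2 ⟨x.2, (Commute.refl x1).mul_right (Commute.refl x1)⟩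
      exact hgE (hA.rSub_sq hg0 hg0a hxR)
    refine Subtype.ext ?_
    show (p : Equiv.Perm (AtBlock D Ω a)) * p = 1
    rw [hx, ← map_mul, hπ, show (⟨δ, hδC⟩ : C) = 1 from Subtype.ext hδ1, map_one]
  have hPV : Nat.card P ≤ V0.ncard := by
    rw [← Nat.card_coe_set_eq]
    refine Nat.card_le_card_of_injective (fun p : P => (⟨((p : I) : Equiv.Perm (AtBlock D Ω a)), ?_⟩ : V0))
      fun p p' h => Subtype.ext (Subtype.ext (congrArg Subtype.val h :))
    by_cases hp1 : (p : I) = 1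
    · exact ⟨1, one_mem A1.1, by rw [map_one, hp1]; rfl⟩
    · obtain ⟨g, -, hgp, hgA⟩ := hD'mem p p.2 (Invol.order_two_of_sq (hsq p p.2) hp1)
      exact ⟨g, hgA, hgp.symm⟩
  have hV0card : V0.ncard ≤ 2 ^ r := by
    set S : Set C := {g : C | (g : G) ∈ A1.1}
    set T : Set C := {g : C | (g : G) ∈ eSub D a}
    let f : S → Set C := fun g => (fun c => (g : C) * c) '' T
    have hA1C : ∀ x ∈ A1.1, x ∈ C := fun x hx => by
      rw [hA1] at hx
      exact (mem_rSub.1 ((hA.mem_aSub hu hua).1 hx).1).1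
    let P1 : Subgroup C := A1.1.subgroupOf C
    let E1 : Subgroup P1 := ((eSub D a).subgroupOf C).subgroupOf P1
    have hcards : Nat.card P1 = Nat.card A1.1 := Nat.card_congr (Subgroup.subgroupOfEquivOfLe hA1C).toEquiv
    have hcardE : Nat.card E1 = 2 ^ r := by
      rw [← hA.card_eSub a, Nat.card_congr (Subgroup.subgroupOfEquivOfLe (fun x hx => by
        show ((x : C) : G) ∈ A1.1
        rw [hA1]; exact hA.eSub_le_aSub hu hua hx : (eSub D a).subgroupOf C ≤ P1)).toEquiv,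
        Nat.card_congr (Subgroup.subgroupOfEquivOfLe (hA.eSub_le_cenA a)).toEquiv]
    let f1 : P1 →* Equiv.Perm (AtBlock D Ω a) := π.comp P1.subtype
    have hker : E1 ≤ f1.ker := fun x hx => heq _ hx
    have hrange : V0 = (f1.range : Set (Equiv.Perm (AtBlock D Ω a))) := by
      ext x
      exact ⟨fun ⟨g, hg, he⟩ => ⟨⟨g, hg⟩, he⟩, fun ⟨g, he⟩ => ⟨g, g.2, he⟩⟩
    rw [hrange, ← Nat.card_coe_set_eq, SetLike.coe_sort_coe, ← Subgroup.index_ker]
    have h1 := f1.ker.card_mul_index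
    have h2 := Subgroup.card_le_of_le hker
    have h3 := hA.card_aSub_le hu hua
    rw [← hA1, ← hcards, ← h1] at h3
    rw [hcardE] at h2
    exact Nat.le_of_mul_le_mul_left ((Nat.mul_le_mul_right _ h2).trans h3) (by positivity)
  omega

end CaseA

end Cfsg.Agent.GoodInvol
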