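import Cfsg.Agent.Lib.GoodInvol.BlockFix
import Cfsg.Agent.Lib.OddChar.OddTheorem

/-!
# Orbits of vectors

A group with Sylow two-subgroups of order at most two acting on an elementary two-group, a large subgroup fixing
a vector and semiregular on the rest of its orbit: the orbit is that vector alone, and what this gives for the
orbit in the Suzuki and unitary cases.
-/

set_option autoImplicit false
set_option linter.style.haveILetI false
set_option linter.unusedSectionVars false

namespace Cfsg.Agent.GoodInvol.OrbitVectors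

open Subgroup MulAction
open scoped Pointwise

section Groups

variable {H : Type*} [Group H] [Finite H]

/-- A normal subgroup of index two and odd order. -/
theorem exists_index_two (h2 : 2 ∣ Nat.card H) (h4 : ¬ 4 ∣ Nat.card H) :
    ∃ N : Subgroup H, N.Normal ∧ Odd (Nat.card N) ∧ N.index = 2 := by
  classical
  haveI : Fact (Nat.Prime 2) := ⟨Nat.prime_two⟩
  let P : Sylow 2 H := default
  have hP : Nat.card P = 2 := by
    rw [Sylow.card_eq_multiplicity]
    have h0 : Nat.card H ≠ 0 := Nat.card_pos.ne'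
    have h1 : 1 ≤ (Nat.card H).factorization 2 := (Nat.prime_two.dvd_iff_one_le_factorization h0).1 h2
    have h3 : ¬ 2 ≤ (Nat.card H).factorization 2 := fun e =>
      h4 ((Nat.prime_two.pow_dvd_iff_le_factorization h0).2 e)
    rw [show (Nat.card H).factorization 2 = 1 by omega, pow_one]
  have hcyc : IsCyclic P := isCyclic_of_prime_card hP
  have hmin : (Nat.card H).minFac = 2 := (Nat.minFac_eq_two_iff _).2 h2
  have hc := IsCyclic.isComplement' hmin hcyc
  set N := (MonoidHom.transferSylow P (hcyc.normalizer_le_centralizer hmin)).ker with hN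
  have hcard : Nat.card N * 2 = Nat.card H := by rw [← hP]; exact hc.card_mul_card
  refine ⟨N, inferInstance, Nat.not_even_iff_odd.1 fun he => h4 ?_, ?_⟩
  · obtain ⟨m, hm⟩ := even_iff_two_dvd.1 he
    exact ⟨m, by rw [← hcard, hm]; ring⟩
  · refine Nat.eq_of_mul_eq_mul_left (Nat.card_pos (α := N)) ?_
    rw [N.card_mul_index, hcard]

/-- An element of odd order lies in every normal subgroup of index two. -/
theorem mem_of_odd {N : Subgroup H} [N.Normal] (hN : N.index = 2) {k : H} (hk : Odd (orderOf k)) : k ∈ N := by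
  obtain ⟨m, hm⟩ := hk
  have h1 : k = (k * k) ^ (m + 1) := by
    rw [← pow_two, ← pow_mul, show 2 * (m + 1) = orderOf k + 1 by omega, pow_succ, pow_orderOf_eq_one, one_mul]
  rw [h1]
  exact N.pow_mem (Subgroup.mul_self_mem_of_index_two hN k) _

/-- Groups of order not divisible by four are soluble. -/
theorem isSolvable_of_not_four (h4 : ¬ 4 ∣ Nat.card H) : Group.IsSolvable H := by
  by_cases h2 : 2 ∣ Nat.card H
  · obtain ⟨N, hNn, hNo, hNi⟩ := exists_index_two h2 h4
    haveI := hNn
    haveI : Group.IsSolvable N := OddChar.oddSolvable N hNo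
    haveI : Group.IsSolvable (H ⧸ N) := by
      haveI : Fact (Nat.Prime 2) := ⟨Nat.prime_two⟩
      haveI : IsCyclic (H ⧸ N) := isCyclic_of_prime_card (p := 2) (by rw [← Subgroup.index_eq_card, hNi])
      letI : CommGroup (H ⧸ N) := IsCyclic.commGroup
      infer_instance
    exact Group.isSolvable_of_ker_le_range N.subtype (QuotientGroup.mk' N)
      (by rw [QuotientGroup.ker_mk', Subgroup.range_subtype])
  · exact OddChar.oddSolvable H (Nat.not_even_iff_odd.1 fun h => h2 (even_iff_two_dvd.1 h))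

end Groups

section Blocks

variable {H : Type*} [Group H] [Finite H] {B : Type*} [MulAction H B] [Finite B] [FaithfulSMul H B]

/-- A soluble group with a large semiregular subgroup has prime power degree, witnessed by an element. -/
theorem prime_power_degree [Group.IsSolvable H] (htr : ∀ a b : B, ∃ g : H, g • a = b) {J : B} {K : Subgroup H}
    (hKJ : ∀ k ∈ K, k • J = J) (hsemi : ∀ k ∈ K, ∀ b : B, b ≠ J → k • b = b → k = 1)
    (hsize : Nat.card B < (1 + Nat.card K) ^ 2) :
    Nat.card B = 1 ∨ ∃ p d : ℕ, p.Prime ∧ Nat.card B = p ^ d ∧ ∃ g : H, orderOf g = p := by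
  classical
  by_cases hH : ∀ g : H, g = 1
  · left
    rw [Nat.card_eq_one_iff_unique]
    exact ⟨⟨fun a b => by obtain ⟨g, rfl⟩ := htr a b; rw [hH g, one_smul]⟩, ⟨J⟩⟩
  haveI : Nontrivial H := by
    push Not at hH
    obtain ⟨g, hg⟩ := hH
    exact ⟨⟨g, 1, hg⟩⟩
  obtain ⟨A, hAn, hA1, hAc⟩ := BlockFix.exists_abelian_normal (H := H)
  obtain ⟨a, haA, ha⟩ := BlockFix.exists_ne_of hA1
  obtain ⟨p, hp, hpd⟩ := Nat.exists_prime_and_dvd (mt orderOf_eq_one_iff.1 ha)
  haveI := Fact.mk hp
  let P : Subgroup H :=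
    { carrier := {g | g ∈ A ∧ g ^ p = 1}
      one_mem' := ⟨one_mem A, one_pow _⟩
      mul_mem' := fun {x y} hx hy => ⟨mul_mem hx.1 hy.1, by
        rw [(show Commute x y from hAc x hx.1 y hy.1).mul_pow, hx.2, hy.2, one_mul]⟩
      inv_mem' := fun {x} hx => ⟨inv_mem hx.1, by rw [inv_pow, hx.2, inv_one]⟩ }
  haveI : P.Normal := ⟨fun x hx g => ⟨hAn.conj_mem x hx.1 g, by rw [conj_pow, hx.2, mul_one, mul_inv_cancel]⟩⟩
  set a0 := a ^ (orderOf a / p) with ha0
  have ho : orderOf a0 = p := orderOf_pow_orderOf_div (orderOf_pos a).ne' hpd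
  have ha0P : a0 ∈ P := ⟨pow_mem haA _, by rw [← ho, pow_orderOf_eq_one]⟩
  have hne : P ≠ ⊥ := fun h0 => by
    rw [h0, mem_bot] at ha0P
    rw [ha0P, orderOf_one] at ho
    exact hp.ne_one ho.symm
  have htrP := BlockFix.normal_transitive htr hKJ hsemi hsize (P := P) hne
  have hfree : ∀ x : P, x • J = J → x = 1 := fun x hx => by
    refine Subtype.ext (eq_of_smul_eq_smul (α := B) fun b => ?_)
    obtain ⟨y, rfl⟩ := htrP b
    show (x : H) • (y : H) • J = (1 : H) • (y : H) • J
    rw [one_smul, ← mul_smul, hAc _ x.2.1 _ y.2.1, mul_smul]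
    exact congrArg ((y : H) • ·) hx
  have hbij : Function.Bijective fun x : P => x • J :=
    ⟨fun x y e => (inv_mul_eq_one.1 (hfree (x⁻¹ * y) (by rw [mul_smul]; exact inv_smul_eq_iff.2 e.symm))),
      fun b => htrP b⟩
  obtain ⟨d, hd⟩ := IsPGroup.iff_card.1 (show IsPGroup p P from fun x =>
    ⟨1, Subtype.ext (by rw [pow_one, SubgroupClass.coe_pow]; exact x.2.2)⟩)
  exact Or.inr ⟨p, d, hp, by rw [← Nat.card_congr (Equiv.ofBijective _ hbij), hd], a0, ho⟩

end Blocks

/-- No element of order twenty-nine or forty-three acts on an elementary group of order at most `2 ^ 7`. -/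
theorem fixes_of_prime {H : Type*} [Group H] [Finite H] {X : Type*} [AddCommGroup X] [Finite X]
    [DistribMulAction H X] (hX : ∀ x : X, x + x = 0) (h7 : Nat.card X ≤ 2 ^ 7) {g : H} {p : ℕ}
    (hp : p = 29 ∨ p = 43) (hg : orderOf g = p) (x : X) : g • x = x := by
  classical
  have hpp : p.Prime := by rcases hp with rfl | rfl <;> norm_num
  haveI := Fact.mk hpp
  haveI : Fact (Nat.Prime 2) := ⟨Nat.prime_two⟩
  have hP : IsPGroup p (zpowers g) := IsPGroup.iff_card.2 ⟨1, by rw [Nat.card_zpowers, hg, pow_one]⟩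
  have hmod := hP.card_modEq_card_fixedPoints X
  let W : AddSubgroup X :=
    { carrier := fixedPoints (zpowers g) X
      zero_mem' := fun k => smul_zero (k : H)
      add_mem' := fun {y z} hy hz k => by
        show (k : H) • (y + z) = y + z
        rw [smul_add, show (k : H) • y = y from hy k, show (k : H) • z = z from hz k]
      neg_mem' := fun {y} hy k => by
        show (k : H) • (-y) = -y
        rw [smul_neg, show (k : H) • y = y from hy k] }
  have htwo : IsPGroup 2 (Multiplicative X) := fun y => ⟨1, by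
    rw [pow_one, pow_two]
    exact Multiplicative.toAdd.injective (hX _)⟩
  obtain ⟨d, hd⟩ := IsPGroup.iff_card.1 htwo
  have hd' : Nat.card X = 2 ^ d := hd
  obtain ⟨e, hed, he⟩ := (Nat.dvd_prime_pow Nat.prime_two).1 (hd' ▸ AddSubgroup.card_addSubgroup_dvd_card W)
  have hd7 : d < 8 := by
    by_contra h
    push Not at h
    have := Nat.pow_le_pow_right two_pos h
    omega
  have key : ∀ d < 8, ∀ e < d, 2 ^ d % p ≠ 2 ^ e % p := by rcases hp with rfl | rfl <;> decide
  have hmod' : 2 ^ d ≡ 2 ^ e [MOD p] := by rw [← hd', ← he]; exact hmod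
  rcases hed.lt_or_eq with hlt | rfl
  · exact absurd hmod' (key d hd7 e hlt)
  have htop : W = ⊤ := AddSubgroup.eq_top_of_card_eq W (he.trans hd'.symm)
  have hx : x ∈ W := htop ▸ AddSubgroup.mem_top x
  exact hx ⟨g, mem_zpowers g⟩

section Orbit

variable {H : Type*} [Group H] [Finite H] {V : Type*} [AddCommGroup V] [Finite V] [DistribMulAction H V]

/-- The action on the span of an orbit. -/
def spanHom (v : V) : H →* Equiv.Perm (AddSubgroup.closure (orbit H v)) :=
  have hmem : ∀ (g : H) (x : V), x ∈ AddSubgroup.closure (orbit H v) → g • x ∈ AddSubgroup.closure (orbit H v) := by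
    intro g x hx
    induction hx using AddSubgroup.closure_induction with
    | mem y hy => exact AddSubgroup.subset_closure (mem_orbit_of_mem_orbit g hy)
    | zero => rw [smul_zero]; exact AddSubgroup.zero_mem _
    | add y z _ _ h1 h2 => rw [smul_add]; exact AddSubgroup.add_mem _ h1 h2
    | neg y _ h1 => rw [smul_neg]; exact AddSubgroup.neg_mem _ h1
  { toFun := fun g =>
      { toFun := fun x => ⟨g • (x : V), hmem g x x.2⟩
        invFun := fun x => ⟨g⁻¹ • (x : V), hmem g⁻¹ x x.2⟩
        left_inv := fun x => Subtype.ext (inv_smul_smul g (x : V))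
        right_inv := fun x => Subtype.ext (smul_inv_smul g (x : V)) }
    map_one' := Equiv.ext fun x => Subtype.ext (one_smul H (x : V))
    map_mul' := fun g g' => Equiv.ext fun x => Subtype.ext (mul_smul g g' (x : V)) }

theorem spanHom_apply (v : V) (g : H) (x : AddSubgroup.closure (orbit H v)) :
    ((spanHom v g x : AddSubgroup.closure (orbit H v)) : V) = g • (x : V) := rfl

theorem smul_range {α β : Type*} [Group α] (φ : α →* Equiv.Perm β) (g : α) (x : β) :
    (⟨φ g, g, rfl⟩ : φ.range) • x = φ g x := rfl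

/-- A semiregular subgroup divides the rest of the orbit. -/
theorem dvd_sub_one (v : V) (K : Subgroup H) (hKv : ∀ k ∈ K, k • v = v)
    (hsemi : ∀ k ∈ K, ∀ x ∈ orbit H v, x ≠ v → k • x = x → k = 1) :
    Nat.card K ∣ (orbit H v).ncard - 1 := by
  let T : Type _ := {x : V // x ∈ orbit H v ∧ x ≠ v}
  letI : MulAction K T :=
    { smul := fun k x => ⟨(k : H) • x.1, mem_orbit_of_mem_orbit _ x.2.1, fun e => x.2.2
        (smul_left_cancel (k : H) (e.trans (hKv _ k.2).symm))⟩
      one_smul := fun x => Subtype.ext (one_smul H x.1)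
      mul_smul := fun k k' x => Subtype.ext (mul_smul (k : H) (k' : H) x.1) }
  have h := BlockFix.card_dvd_of_free (K := K) (T := T) fun k x e =>
    Subtype.ext (hsemi _ k.2 _ x.2.1 x.2.2 (congrArg Subtype.val e))
  have hT : Nat.card T = (orbit H v).ncard - 1 := by
    rw [← Set.ncard_sdiff_singleton_of_mem (mem_orbit_self v) , ← Nat.card_coe_set_eq]
    rfl
  rwa [hT] at h

/-- With Sylow two-subgroups of order two at most and a large semiregular subgroup, the orbit is one vector. -/
theorem orbit_singleton (hV : ∀ x : V, x + x = 0) (h4 : ¬ 4 ∣ Nat.card H) (v : V) (K : Subgroup H)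
    (hKv : ∀ k ∈ K, k • v = v) (hKodd : Odd (Nat.card K))
    (hsemi : ∀ k ∈ K, ∀ x ∈ orbit H v, x ≠ v → k • x = x → k = 1)
    (hsize : (orbit H v).ncard ≤ (1 + Nat.card K) ^ 2)
    (hbig : Nat.card V < 2 ^ Nat.card K ∨ (Nat.card K = 7 ∧ Nat.card V ≤ 2 ^ 7)) :
    orbit H v = {v} := by
  classical
  suffices h1 : (orbit H v).ncard = 1 by
    obtain ⟨a, ha⟩ := Set.ncard_eq_one.1 h1
    have := mem_orbit_self (M := H) v
    rw [ha] at this ⊢
    rw [this]
  by_cases hone : ∀ x ∈ orbit H v, x = v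
  · exact Set.ncard_eq_one.2 ⟨v, Set.eq_singleton_iff_unique_mem.2 ⟨mem_orbit_self v, hone⟩⟩
  push Not at hone
  obtain ⟨x0, hx0, hx0v⟩ := hone
  have hdvd := dvd_sub_one v K hKv hsemi
  have hpos : 0 < (orbit H v).ncard := Set.ncard_pos (Set.toFinite _) |>.2 ⟨v, mem_orbit_self v⟩
  have hK1 : 1 < Nat.card K := by
    by_contra h0
    have hK : Nat.card K = 1 := le_antisymm (by omega) Nat.card_pos
    have h2 : 2 ≤ Nat.card V := Finite.one_lt_card_iff_nontrivial.2 ⟨⟨x0, v, hx0v⟩⟩
    rcases hbig with h | ⟨h, -⟩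
    · rw [hK, pow_one] at h; omega
    · omega
  rcases Nat.even_or_odd (orbit H v).ncard with heven | hodd
  · exfalso
    have hos : (orbit H v).ncard * Nat.card (stabilizer H v) = Nat.card H := by
      rw [← Nat.card_coe_set_eq, Nat.card_congr (orbitEquivQuotientStabilizer H v), ← Subgroup.index_eq_card,
        Subgroup.index_mul_card]
    obtain ⟨m, hm⟩ := heven
    obtain ⟨N, hNn, hNo, hNi⟩ := exists_index_two ⟨m * Nat.card (stabilizer H v), by rw [← hos, hm]; ring⟩ h4
    have hst : Odd (Nat.card (stabilizer H v)) := by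
      by_contra h
      rw [Nat.not_odd_iff_even] at h
      obtain ⟨c, hc⟩ := h
      exact h4 ⟨m * c, by rw [← hos, hm, hc]; ring⟩
    have hle : stabilizer H v ≤ N := fun k hk =>
      haveI := hNn
      mem_of_odd hNi (hst.of_dvd_nat ((Subgroup.orderOf_coe (⟨k, hk⟩ : stabilizer H v)).symm ▸ orderOf_dvd_natCard _))
    have hKN : K ≤ N := fun k hk =>
      haveI := hNn
      mem_of_odd hNi (hKodd.of_dvd_nat ((Subgroup.orderOf_coe (⟨k, hk⟩ : K)).symm ▸ orderOf_dvd_natCard _))
    have hcN : Nat.card N * 2 = Nat.card H := by rw [← hNi, N.card_mul_index]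
    have hosN : (orbit N v).ncard * Nat.card (stabilizer H v) = Nat.card N := by
      have e : Nat.card (stabilizer N v) = Nat.card (stabilizer H v) :=
        Nat.card_congr
          { toFun := fun k => ⟨(k.1 : H), k.2⟩
            invFun := fun k => ⟨⟨k.1, hle k.2⟩, k.2⟩
            left_inv := fun _ => rfl
            right_inv := fun _ => rfl }
      rw [← e, ← Nat.card_coe_set_eq, Nat.card_congr (orbitEquivQuotientStabilizer N v), ← Subgroup.index_eq_card,
        Subgroup.index_mul_card]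
    have hdouble : (orbit H v).ncard = 2 * (orbit N v).ncard := by
      refine Nat.eq_of_mul_eq_mul_right (Nat.card_pos (α := stabilizer H v)) ?_
      rw [hos, mul_assoc, hosN, ← hcN, mul_comm]
    have hsub : orbit N v ⊆ orbit H v := fun x ⟨k, hk⟩ => ⟨(k : H), hk⟩
    have h1 : Nat.card K ∣ (orbit N v).ncard - 1 := by
      have := dvd_sub_one (H := N) v (K.subgroupOf N) (fun k hk => hKv _ (Subgroup.mem_subgroupOf.1 hk))
        (fun k hk x hx hxv e => Subtype.ext (hsemi _ (Subgroup.mem_subgroupOf.1 hk) x (hsub hx) hxv e))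
      rwa [Nat.card_congr (Subgroup.subgroupOfEquivOfLe hKN).toEquiv] at this
    have hposN : 0 < (orbit N v).ncard := Set.ncard_pos (Set.toFinite _) |>.2 ⟨v, mem_orbit_self v⟩
    rw [hdouble] at hdvd
    have h2 : Nat.card K ∣ (2 * (orbit N v).ncard - 1) - 2 * ((orbit N v).ncard - 1) :=
      Nat.dvd_sub hdvd (h1.mul_left 2)
    rw [show (2 * (orbit N v).ncard - 1) - 2 * ((orbit N v).ncard - 1) = 1 by omega, Nat.dvd_one] at h2
    omega
  · let X := AddSubgroup.closure (orbit H v)
    let ψ : H →* Equiv.Perm X := spanHom v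
    let v' : X := ⟨v, AddSubgroup.subset_closure (mem_orbit_self v)⟩
    let H' : Subgroup (Equiv.Perm X) := ψ.range
    letI : DistribMulAction H' X :=
      { (inferInstance : MulAction H' X) with
        smul_zero := by
          rintro ⟨_, g, rfl⟩
          exact Subtype.ext ((spanHom_apply v g 0).trans (smul_zero g))
        smul_add := by
          rintro ⟨_, g, rfl⟩ y z
          exact Subtype.ext ((spanHom_apply v g (y + z)).trans (smul_add g (y : V) (z : V))) }
    have hH4 : ¬ 4 ∣ Nat.card H' := fun h => h4 (h.trans (Subgroup.card_range_dvd ψ))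
    haveI : Group.IsSolvable H' := isSolvable_of_not_four hH4
    let B : Type _ := orbit H' v'
    have hval : ∀ g : H, ((⟨ψ g, g, rfl⟩ : H') • v' : X).1 = g • v := fun g => spanHom_apply v g v'
    have himg : Subtype.val '' (orbit H' v') = orbit H v := by
      ext x
      constructor
      · rintro ⟨_, ⟨⟨_, g, rfl⟩, rfl⟩, rfl⟩
        exact ⟨g, (hval g).symm⟩
      · rintro ⟨g, rfl⟩
        exact ⟨_, ⟨⟨ψ g, g, rfl⟩, rfl⟩, hval g⟩
    have hcardB : Nat.card B = (orbit H v).ncard := by
      rw [← himg, Set.ncard_image_of_injective _ Subtype.val_injective, ← Nat.card_coe_set_eq]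
    have hkey : ∀ g : H', (∀ b : B, g • b = b) → g = 1 := by
      rintro ⟨_, g, rfl⟩ hg
      refine Subtype.ext (Equiv.ext fun ⟨x, hx⟩ => Subtype.ext ?_)
      show g • x = x
      induction hx using AddSubgroup.closure_induction with
      | mem y hy =>
        rw [← himg] at hy
        obtain ⟨b, hb, rfl⟩ := hy
        exact congrArg (fun z : B => (z.1 : X).1) (hg ⟨b, hb⟩)
      | zero => exact smul_zero g
      | add y z _ _ h1 h2 => rw [smul_add, h1, h2]
      | neg y _ h1 => rw [smul_neg, h1]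
    haveI : FaithfulSMul H' B := ⟨fun {g g'} h => by
      refine (inv_mul_eq_one.1 (hkey (g'⁻¹ * g) fun b => ?_)).symm
      rw [mul_smul, h b, inv_smul_smul]⟩
    let K' : Subgroup H' := K.map ψ.rangeRestrict
    have hK' : Nat.card K' = Nat.card K := by
      refine (Nat.card_congr (Equiv.ofBijective (fun k : K => (⟨ψ.rangeRestrict k, k, k.2, rfl⟩ : K'))
        ⟨fun k k' e => ?_, ?_⟩)).symm
      · have e1 : ψ (k : H) = ψ (k' : H) := congrArg (fun z : K' => ((z : H') : Equiv.Perm X)) e
        have e2 : ((k'⁻¹ * k : K) : H) • x0 = x0 := by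
          have e3 := congrArg Subtype.val (Equiv.congr_fun e1 ⟨x0, AddSubgroup.subset_closure hx0⟩)
          rw [Subgroup.coe_mul, Subgroup.coe_inv, mul_smul]
          exact inv_smul_eq_iff.2 e3
        have e4 := hsemi _ (k'⁻¹ * k).2 x0 hx0 hx0v e2
        exact (inv_mul_eq_one.1 (Subtype.ext e4 : k'⁻¹ * k = 1)).symm
      · rintro ⟨_, k, hk, rfl⟩
        exact ⟨⟨k, hk⟩, rfl⟩
    let J : B := ⟨v', mem_orbit_self v'⟩
    have hKJ : ∀ k ∈ K', k • J = J := by
      rintro _ ⟨k, hk, rfl⟩
      exact Subtype.ext (Subtype.ext (hKv k hk))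
    have hsemi' : ∀ k ∈ K', ∀ b : B, b ≠ J → k • b = b → k = 1 := by
      rintro _ ⟨k, hk, rfl⟩ ⟨b, hb⟩ hne e
      have hb' : (b : V) ∈ orbit H v := by rw [← himg]; exact ⟨b, hb, rfl⟩
      have hbv : (b : V) ≠ v := fun e1 => hne (Subtype.ext (Subtype.ext e1))
      rw [hsemi k hk b hb' hbv (congrArg (fun z : B => (z.1 : X).1) e), map_one]
    have htr : ∀ a b : B, ∃ g : H', g • a = b := fun a b => exists_smul_eq H' a b
    have hlt : Nat.card B < (1 + Nat.card K') ^ 2 := by
      rw [hK', hcardB]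
      refine lt_of_le_of_ne hsize fun e => ?_
      rw [e] at hodd
      obtain ⟨c, hc⟩ := hKodd
      exact Nat.not_even_iff_odd.2 hodd ⟨2 * (c + 1) ^ 2, by rw [hc]; ring⟩
    have hX : ∀ x : X, x + x = 0 := fun x => Subtype.ext (hV x)
    have hfaith : ∀ g : H', (∀ x : X, g • x = x) → g = 1 := fun g hg =>
      Subtype.ext (Equiv.ext fun x => hg x)
    rw [← hcardB]
    have hXV : Nat.card X ≤ Nat.card V := Nat.card_le_card_of_injective _ Subtype.val_injective
    rcases BlockFix.one_block_odd htr hKJ hsemi' hlt hX hfaith (hcardB ▸ hodd) with h | h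
    · exact h
    rcases hbig with h' | ⟨h7, hV7⟩
    · rw [hK'] at h; omega
    rcases prime_power_degree htr hKJ hsemi' hlt with h1 | ⟨p, d, hp, hpd, g, hg⟩
    · exact h1
    exfalso
    rw [hK', h7, hcardB] at hlt
    rw [h7] at hdvd
    have h29 : ¬ (orbit H v).ncard = 1 := fun e => by
      obtain ⟨a, ha⟩ := Set.ncard_eq_one.1 e
      rw [ha] at hx0
      have := mem_orbit_self (M := H) v
      rw [ha] at this
      exact hx0v (hx0.trans this.symm)
    obtain ⟨c, hc⟩ := hodd
    have hcase : p ^ d = 15 ∨ p ^ d = 29 ∨ p ^ d = 43 ∨ p ^ d = 57 := by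
      rw [← hpd, hcardB]; omega
    have hdiv : ∀ r : ℕ, r.Prime → r ∣ p ^ d → r = p := fun r hr hd' =>
      (Nat.prime_dvd_prime_iff_eq hr hp).1 (hr.dvd_of_dvd_pow hd')
    have hp' : p = 29 ∨ p = 43 := by
      rcases hcase with e | e | e | e
      · have := hdiv 3 (by norm_num) (e ▸ by norm_num); have := hdiv 5 (by norm_num) (e ▸ by norm_num); omega
      · exact Or.inl (hdiv 29 (by norm_num) (e ▸ dvd_rfl)).symm
      · exact Or.inr (hdiv 43 (by norm_num) (e ▸ dvd_rfl)).symm
      · have := hdiv 3 (by norm_num) (e ▸ by norm_num); have := hdiv 19 (by norm_num) (e ▸ by norm_num); omega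
    have := hfaith g (fixes_of_prime hX (hXV.trans hV7) hp' hg)
    rw [this, orderOf_one] at hg
    omega

/-- The unitary orbit without pure vectors: one vector or `q ^ 2`. -/
theorem orbit_unitary (hV : ∀ x : V, x + x = 0) (v : V) (K : Subgroup H) {q g : ℕ} (hg : g = 1 ∨ g = 3)
    (hq : 4 ∣ q ^ 2) (hK : g * Nat.card K + 1 = q ^ 2) (hKv : ∀ k ∈ K, k • v = v) (hKodd : Odd (Nat.card K))
    (hsemi : ∀ k ∈ K, ∀ x ∈ orbit H v, x ≠ v → k • x = x → k = 1) (hbig : Nat.card V < 2 ^ Nat.card K)
    (hsize : (orbit H v).ncard ≤ q ^ 2) (hst : ¬ 4 ∣ Nat.card (stabilizer H v))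
    (hst2 : 2 ∣ Nat.card (stabilizer H v) → Odd (orbit H v).ncard) :
    orbit H v = {v} ∨ (orbit H v).ncard = q ^ 2 := by
  classical
  by_cases hq2 : (orbit H v).ncard = q ^ 2
  · exact Or.inr hq2
  refine Or.inl (orbit_singleton hV ?_ v K hKv hKodd hsemi ?_ (Or.inl hbig))
  · intro h4
    have hpos : 0 < (orbit H v).ncard := Set.ncard_pos (Set.toFinite _) |>.2 ⟨v, mem_orbit_self v⟩
    have hno : ¬ 4 ∣ (orbit H v).ncard := by
      intro h
      obtain ⟨j, hj⟩ := dvd_sub_one v K hKv hsemi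
      obtain ⟨c, hc⟩ := hKodd
      obtain ⟨e, he⟩ := hq
      obtain ⟨l, hl⟩ := h
      rcases hg with rfl | rfl
      · have hj1 : j ≤ 1 := by
          by_contra h1
          push Not at h1
          have := Nat.mul_le_mul_left (Nat.card K) h1
          omega
        rcases j with _ | _ | j <;> omega
      · have hj1 : j ≤ 3 := by
          by_contra h1
          push Not at h1
          have := Nat.mul_le_mul_left (Nat.card K) h1
          omega
        rcases j with _ | _ | _ | _ | j <;> omega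
    have hos : (orbit H v).ncard * Nat.card (stabilizer H v) = Nat.card H := by
      rw [← Nat.card_coe_set_eq, Nat.card_congr (orbitEquivQuotientStabilizer H v), ← Subgroup.index_eq_card,
        Subgroup.index_mul_card]
    rw [← hos] at h4
    by_cases h2 : 2 ∣ Nat.card (stabilizer H v)
    · have hc : Nat.Coprime 4 (orbit H v).ncard := by
        have := (hst2 h2).coprime_two_left
        exact Nat.Coprime.pow_left 2 this
      exact hst (hc.dvd_of_dvd_mul_left h4)
    · exact hno ((Nat.Coprime.pow_left 2 (Nat.prime_two.coprime_iff_not_dvd.2 h2)).dvd_of_dvd_mul_right h4)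
  · have : q ^ 2 ≤ (1 + Nat.card K) ^ 2 := by
      have := Nat.card_pos (α := K)
      rcases hg with rfl | rfl <;> nlinarith
    omega

/-- An orbit inside a set on which a stabilising subgroup is transitive outside the vector. -/
theorem orbit_pure (v : V) (K : Subgroup H) (C : Set V) (hv : v ∈ C) (hsub : orbit H v ⊆ C)
    (htr : ∀ x ∈ C, ∀ y ∈ C, x ≠ v → y ≠ v → ∃ k ∈ K, k • x = y) : orbit H v = {v} ∨ orbit H v = C := by
  by_cases h : ∀ x ∈ orbit H v, x = v
  · exact Or.inl (Set.eq_singleton_iff_unique_mem.2 ⟨mem_orbit_self v, h⟩)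
  push Not at h
  obtain ⟨x, hx, hxv⟩ := h
  refine Or.inr (hsub.antisymm fun y hy => ?_)
  by_cases hyv : y = v
  · subst hyv; exact mem_orbit_self _
  · obtain ⟨k, -, rfl⟩ := htr x (hsub hx) y hy hxv hyv
    exact mem_orbit_of_mem_orbit k hx

end Orbit

/-- The two-part in the Suzuki case. -/
theorem suzuki_two_part {r R a b : ℕ} (hr : 3 ≤ r) (hR : 4 ∣ R) (hRq : R + 1 < 2 ^ r) (ha : Odd a)
    (hab : a ≤ b) (hdiv : b ∣ 2 ^ r - 1 ∨ b ∣ 2 ^ r + R + 1 ∨ b ∣ 2 ^ r + 1 - R) :
    ¬ 2 ^ (r + 2) ∣ b + ((2 ^ r) ^ 2 + 1) * (2 ^ r - 1) * a := by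
  intro h
  obtain ⟨x, hx⟩ := hR
  obtain ⟨ka, hka⟩ := ha
  set q := 2 ^ r with hq
  have hq8 : 8 ≤ q := (Nat.pow_le_pow_right two_pos hr : 2 ^ 3 ≤ 2 ^ r)
  have hbl : b ≤ q + R + 1 := by
    rcases hdiv with e | e | e
    · have := Nat.le_of_dvd (by omega) e; omega
    · exact Nat.le_of_dvd (by omega) e
    · have := Nat.le_of_dvd (by omega) e; omega
  have h4 : (2 : ℤ) ^ (r + 2) = 4 * q := by rw [pow_add]; push_cast [hq]; ring
  have hz : (4 * q : ℤ) ∣ (b : ℤ) + ((q : ℤ) ^ 2 + 1) * ((q : ℤ) - 1) * a := by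
    have := Int.natCast_dvd_natCast.2 h
    push_cast [Nat.cast_sub (show 1 ≤ q by omega)] at this
    rwa [h4] at this
  obtain ⟨s, hs⟩ : (4 : ℤ) ∣ (q : ℤ) ^ 2 - q := by
    refine Dvd.dvd.sub (dvd_pow ?_ two_ne_zero) ?_ <;>
    · rw [show (4 : ℤ) = ((4 : ℕ) : ℤ) from rfl, Int.natCast_dvd_natCast, hq]
      exact dvd_trans (by norm_num) (pow_dvd_pow 2 hr)
  have hz2 : (4 * q : ℤ) ∣ (b : ℤ) - a + a * q := by
    have e : (4 * q : ℤ) ∣ (((q : ℤ) ^ 2 + 1) * ((q : ℤ) - 1) - ((q : ℤ) - 1)) * a :=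
      ⟨s * a, by linear_combination (q : ℤ) * (a : ℤ) * hs⟩
    have := hz.sub e
    rwa [show (b : ℤ) + ((q : ℤ) ^ 2 + 1) * ((q : ℤ) - 1) * a
      - (((q : ℤ) ^ 2 + 1) * ((q : ℤ) - 1) - ((q : ℤ) - 1)) * a = (b : ℤ) - a + a * q by ring] at this
  obtain ⟨t, ht⟩ := hz2
  have hd : ((b : ℤ) - a) = q * (4 * t - a) := by linear_combination ht
  set m : ℤ := 4 * t - a with hm
  have hm0 : 0 ≤ m := by
    by_contra h0
    have : (q : ℤ) * m < 0 := mul_neg_of_pos_of_neg (by omega) (by omega)
    omega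
  have hm2 : m < 2 := by
    by_contra h0
    have : (q : ℤ) * 2 ≤ q * m := mul_le_mul_of_nonneg_left (by omega) (by omega)
    omega
  have hm1 : m = 1 := by omega
  rw [hm1, mul_one] at hd
  rcases hdiv with e | e | e
  · have := Nat.le_of_dvd (by omega) e; omega
  · obtain ⟨c, hc⟩ := e
    rcases c with _ | _ | c
    · omega
    · omega
    · have : b * 2 ≤ b * (c + 1 + 1) := Nat.mul_le_mul_left b (by omega)
      omega
  · have := Nat.le_of_dvd (by omega) e; omega

end Cfsg.Agent.GoodInvol.OrbitVectors
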