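import Cfsg.Agent.Lib.GoodInvol.CaseATorusData
import Cfsg.Agent.Lib.GoodInvol.Partner.SzMain

/-!
# Case A: the data at a point, no partners

The involutions in pairs at a point with their blocks, regular 2-subgroups and tori satisfy `BlockData`; so such an
involution normalising a block lies in it.
-/

set_option autoImplicit false
set_option linter.style.haveILetI false
set_option linter.unusedSectionVars false

namespace Cfsg.Agent.GoodInvol

open Subgroup MulAction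

universe u

variable {G : Type u} [Group G] [Finite G] {Ω : Type u} [MulAction G Ω] [Finite Ω] [FaithfulSMul G Ω]

/-- The involutions in pairs at `a`. -/
def pairAt (G : Type u) [Group G] {Ω : Type u} [MulAction G Ω] (a : Ω) : Set G :=
  {w | w ∈ pairBad G Ω ∧ w • a = a}

open Classical in
/-- A torus of `w` at `a`. -/
noncomputable def torusAt (D : Set G) (a : Ω) (r : ℕ) (w : G) : Subgroup G :=
  if h : ∃ K, IsTorus D a w K r then h.choose else ⊥

namespace CaseA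

variable {D : Set G} {r e : ℕ} (hA : CaseA D Ω r e)
include hA

theorem torusAt_spec {w : G} {a : Ω} (hw : w ∈ pairAt G a) : IsTorus D a w (torusAt D a r w) r := by
  have h := hA.exists_torus hw.1 hw.2
  rw [torusAt, dif_pos h]
  exact h.choose_spec

/-- The data at a point. -/
theorem blockData (a : Ω) :
    BlockData (stabilizer G a) (eSub D a) (pairAt G a) (aSub D a) (qSub D a) (torusAt D a r) r e where
  two_le := hA.two_le
  e_cases := hA.e_cases
  odd_r := hA.odd_r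
  card_E := hA.card_eSub a
  E_le := fun _ hz => mem_stabilizer_iff.2 (hA.eSub_smul hz)
  E_sq := fun _ hz => hA.eSub_sq hz
  E_conj := fun _ hg _ hz => (hA.conj_eSub_iff (mem_stabilizer_iff.1 hg)).2 hz
  conj := fun g hg w hw => ⟨hA.conj_pairBad g hw.1, by
    rw [mul_smul, mul_smul, inv_smul_eq_iff.2 (mem_stabilizer_iff.1 hg).symm, hw.2, mem_stabilizer_iff.1 hg]⟩
  bad_le := fun _ hw => hA.mem_cenA_of_pairBad hw.1 hw.2
  bad_sq := fun _ hw => Invol.mul_self (hA.order_two hw.1)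
  bad_not := fun _ hw => hA.not_mem_eSub hw.1 a
  mem_self := fun _ hw => hA.self_mem_aSub hw.1 hw.2
  E_le_A := fun _ hw => hA.eSub_le_aSub hw.1 hw.2
  A_le := fun _ hw _ hx => (mem_rSub.1 ((hA.mem_aSub hw.1 hw.2).1 hx).1).1
  A_sq := fun _ hw _ hx => ((hA.mem_aSub hw.1 hw.2).1 hx).2
  A_bad := fun _ hw _ hx hxE =>
    ⟨⟨hA.pairBad_of_aSub hw.1 hw.2 hx hxE, hA.aSub_smul hw.1 hw.2 hx⟩, hA.aSub_eq hw.1 hw.2 hx hxE⟩
  A_conj := fun _ hg _ hw _ => (hA.conj_aSub hw.1 hw.2 (mem_stabilizer_iff.1 hg)).symm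
  A_comm := fun _ hw _ hw' hc => hA.mem_aSub_of_commute hw.1 hw'.1 hw.2 hw'.2 hc
  cent := fun w hw g hg hgw => by
    obtain ⟨δ, y, hδ, hδw, hy, rfl⟩ := hA.rSub_decomp hw.1 hw.2 (mem_rSub.2 ⟨hg, hgw⟩)
    exact ⟨δ, (hA.mem_aSub hw.1 hw.2).2 ⟨hA.mem_rSub_of_fixStab hw.1 hw.2 hδ hδw, hA.fixStab_sq hw.1 hδ hδw⟩,
      y, hy, rfl⟩
  Q_le := fun _ _ _ hy => (mem_qSub.1 hy).1
  E_le_Q := fun _ hw => hA.eSub_le_qSub hw.1 hw.2
  Q_card := fun _ hw => hA.card_qSub hw.1 hw.2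
  Q_inf := fun _ hw _ hx hy => hA.qSub_invol hw.1 hw.2 hy ((hA.mem_aSub hw.1 hw.2).1 hx).2
  Q_comm_A := fun w hw y hy x hx =>
    have hx' := (hA.mem_aSub hw.1 hw.2).1 hx
    (hA.rSub_commute_invol hw.1 hw.2 hx'.1 (qSub_le_rSub D a w hy) hx'.2).symm
  Q_sq := fun _ hw _ hy => hA.qSub_sq hw.1 hw.2 hy
  Q_comm := fun _ hw _ hy _ hz => hA.qSub_comm hw.1 hw.2 hy hz
  Q_mem := fun _ hw _ hy h => hA.qSub_invol hw.1 hw.2 hy h
  K_le := fun _ hw k hk => mem_stabilizer_iff.2 ((hA.torusAt_spec hw).fix k hk)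
  K_card := fun _ hw => (hA.torusAt_spec hw).card
  K_comm := fun _ hw => (hA.torusAt_spec hw).comm
  K_commute := fun _ hw _ hk => commute_of_genC ((hA.torusAt_spec hw).le hk)
  K_A := fun _ hw _ hk _ hx => hA.torus_aSub hw.1 hw.2 (hA.torusAt_spec hw) hk hx
  K_Q := fun _ hw => (hA.torusAt_spec hw).normQ
  K_trans := fun _ hw => (hA.torusAt_spec hw).trans
  K_fpfQ := fun _ hw => (hA.torusAt_spec hw).fpfQ
  K_free := by
    intro w hw k hk hk1 w' hw' hkw hact
    obtain ⟨g, hg, hgE, hF⟩ := hA.torus_block_line hw.1 (hA.torusAt_spec hw) hw.2 hk hk1 hw'.1 hw'.2 hkw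
    have hgp := hA.pairBad_of_aSub hw'.1 hw'.2 hg hgE
    have hga := hA.aSub_smul hw'.1 hw'.2 hg
    obtain ⟨x, hx, hax⟩ := hA.exists_other hw.1 a
    have hgx : g • x = x := show x ∈ fixSet Ω g from hF ▸ hx
    have h1 : g * w * g⁻¹ * w⁻¹ = 1 := by
      by_contra h1
      refine hax (hA.eSub_unique (hact g hg) h1 ?_).symm
      rw [mul_smul, mul_smul, mul_smul, inv_smul_eq_iff.2 hx.symm, inv_smul_eq_iff.2 hgx.symm, hx, hgx]
    have hc : Commute g w := mul_inv_eq_iff_eq_mul.1 (mul_inv_eq_one.1 h1)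
    have hwA : w ∈ aSub D a w' := by
      rw [← hA.aSub_eq hw'.1 hw'.2 hg hgE]
      exact hA.mem_aSub_of_commute hgp hw.1 hga hw.2 hc
    rw [hA.aSub_eq hw'.1 hw'.2 hwA (hA.not_mem_eSub hw.1 a)]
    exact hA.self_mem_aSub hw'.1 hw'.2
  K_norm := fun _ hw _ hg hgw _ hk =>
    hA.torus_norm hw.1 hw.2 (hA.torusAt_spec hw) (mem_stabilizer_iff.1 hg) hgw hk
  invol := fun _ hX hsq hcard _ hg h2 hgE => hA.pairBad_of_large hX hsq hcard hg h2 hgE

/-- An involution in a pair normalising a block at its point lies in it. -/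
theorem no_partner {u w : G} {a : Ω} (hu : u ∈ pairBad G Ω) (ha : u • a = a) (hw : w ∈ pairBad G Ω)
    (ha2 : w • a = a) (hn : ∀ x ∈ aSub D a u, w * x * w⁻¹ ∈ aSub D a u) : w ∈ aSub D a u :=
  (hA.blockData a).no_partner ⟨hu, ha⟩ (hA.card_aSub_ge hu ha) ⟨hw, ha2⟩ hn

end CaseA

end Cfsg.Agent.GoodInvol
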