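import Cfsg.Agent.Lib.GoodInvol.FourCore

/-!
# The odd core fixing the fixed points of an involution

Let `O` be the part centralising `w` of the odd core of the pointwise stabiliser of the fixed points of `w`. The
lifts of an image are an orbit of `O`, and the centraliser in `O` of a member `d` fixes the points fixed by `w * d`;
this splits the members acting at a moved point as `w` by their centres.
-/

set_option autoImplicit false
set_option linter.style.haveILetI false
set_option linter.unusedSectionVars false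

namespace Cfsg.Agent.GoodInvol

open Subgroup MulAction

universe u v

variable {G : Type u} [Group G]

/-- The odd core of the pointwise stabiliser of the fixed points of `w`, cut to the centraliser of `w`. -/
def kerCore (Ω : Type v) [MulAction G Ω] (w : G) : Subgroup G :=
  fixCore Ω w ⊓ Subgroup.centralizer ({w} : Set G)

/-- The index of the stabiliser of a point in that subgroup. -/
noncomputable def iota (Ω : Type v) [MulAction G Ω] (w : G) (x : Ω) : ℕ :=
  (stabilizer (kerCore Ω w) x).index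

/-- The centres of the members acting at `x` as `w`. -/
def centres {Ω : Type v} [MulAction G Ω] (D : Set G) (w : G) (x : Ω) : Set Ω :=
  {p | ∃ d ∈ csig D w x, d • p = p}

theorem mem_kerCore {Ω : Type v} [MulAction G Ω] {w g : G} :
    g ∈ kerCore Ω w ↔ g ∈ fixCore Ω w ∧ Commute g w :=
  mem_inf.trans (and_congr Iff.rfl mem_centralizer_singleton_iff)

variable [Finite G] {Ω : Type u} [MulAction G Ω] [Finite Ω] [FaithfulSMul G Ω] {D : Set G}

/-- Members with an odd product are conjugate by a power of it. -/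
theorem Crit.exists_pow_conj (h : Crit D Ω) {c d : G} (hc : c ∈ D) (hd : d ∈ D) (hodd : Odd (orderOf (c * d))) :
    ∃ n : ℕ, ((c * d) ^ n) * d * ((c * d) ^ n)⁻¹ = c := by
  have hdd := Invol.mul_self (h.invol d hd)
  obtain ⟨n, hn⟩ := Invol.exists_sqrt hodd
  refine ⟨n, ?_⟩
  have h1 := Invol.zpow_mul_conj (x := d) (a := c * d) (by
    rw [mul_inv_rev, Invol.inv_self (h.invol d hd), Invol.inv_self (h.invol c hc), mul_assoc d _ d,
      mul_assoc c d d, hdd, mul_one]) (n : ℤ)
  rw [zpow_natCast, show (2 : ℤ) * (n : ℤ) = ((n * 2 : ℕ) : ℤ) by push_cast; ring, zpow_natCast, pow_mul, hn,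
    mul_assoc c d d, hdd, mul_one] at h1
  exact h1

namespace Crit

variable (h : Crit D Ω) (hB : Below.{u} (Nat.card G)) (hgen : closure D = ⊤)
include h hB hgen

/-- Members at one point commuting with `w` and with an odd product act alike on its fixed points. -/
theorem act_eq_of_odd {w : G} (hw : orderOf w = 2) (hbad : ¬ OneFix Ω w) {d e : G} (hd : d ∈ cmem D w)
    (he : e ∈ cmem D w) {p : Ω} (hdp : d • p = p) (hep : e • p = p) (hodd : Odd (orderOf (d * e))) :
    ∀ z : Ω, w • z = z → d • z = e • z := by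
  obtain ⟨-, -, hcomm, -⟩ := h.exists_image hB hgen hw hbad (h.fix_of_cmem hd hdp)
  set dX : ptC w p := ⟨d, mem_ptC.2 ⟨hd.2, hdp⟩⟩
  set eX : ptC w p := ⟨e, mem_ptC.2 ⟨he.2, hep⟩⟩
  set f := fixAct (Ω := Ω) w p
  have hdd : f dX * f dX = 1 := by
    rw [← map_mul, show dX * dX = 1 from Subtype.ext (Invol.mul_self (h.invol d hd.1)), map_one]
  have hee : f eX * f eX = 1 := by
    rw [← map_mul, show eX * eX = 1 from Subtype.ext (Invol.mul_self (h.invol e he.1)), map_one]
  have hsq : f (dX * eX) ^ 2 = 1 := by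
    rw [map_mul, (hcomm dX eX hd.1 he.1).mul_pow, pow_two, pow_two, hdd, hee, one_mul]
  have hone : f (dX * eX) = 1 :=
    Invol.eq_one_of_sq_of_odd (Odd.of_dvd_nat (show Odd (orderOf (dX * eX)) by
      rw [← Subgroup.orderOf_coe]; exact hodd) (orderOf_map_dvd f _)) hsq
  refine fixAct_eq_iff.1 (show f dX = f eX from ?_)
  rw [map_mul] at hone
  rw [eq_inv_of_mul_eq_one_left hone]
  exact inv_eq_of_mul_eq_one_right hee

/-- An element of the core commuting with a member fixes the points moved by it as by `u`. -/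
theorem core_fix {u : G} (hu : orderOf u = 2) (hbad : ¬ OneFix Ω u) {b : G} (hb : b ∈ cmem D u) {o : G}
    (ho : o ∈ fixCore Ω u) (hob : Commute o b) (hou : Commute o u) {y : Ω}
    (hy : u • y ≠ y) (hby : b • y = u • y) : o • y = y := by
  classical
  haveI : Fact (Nat.Prime 2) := ⟨Nat.prime_two⟩
  haveI : Nonempty Ω := ⟨y⟩
  set w := u * b with hwdef
  have hw : orderOf w = 2 := h.mul_invol_of_cmem hu hbad hb
  have hwbad : ¬ OneFix Ω w := h.not_oneFix_mul hu hbad hb.1 hb.2
  have hbw : b ∈ cmem D w := ⟨hb.1, hb.2.mul_right (Commute.refl b)⟩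
  obtain ⟨p, hp⟩ := h.exists_fix (h.invol b hb.1)
  have hup := h.fix_of_cmem hb hp
  set R := fixCore Ω u ⊓ (Subgroup.centralizer ({b} : Set G) ⊓ Subgroup.centralizer ({u} : Set G)) with hR
  set C := Subgroup.centralizer ({b} : Set G) ⊓ Subgroup.centralizer ({u} : Set G) with hC
  have hRn : ∀ g ∈ C, ∀ r ∈ R, g * r * g⁻¹ ∈ R := by
    intro g hg r hr
    obtain ⟨-, hgu⟩ := mem_inf.1 hg
    exact mem_inf.2 ⟨fixCore_conj (mem_centralizer_singleton_iff.1 hgu) (mem_inf.1 hr).1,
      C.mul_mem (C.mul_mem hg (mem_inf.1 hr).2) (C.inv_mem hg)⟩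
  set A := fixSet Ω w \ {p} with hA
  have hRA : ∀ r ∈ R, ∀ z ∈ A, r • z ∈ A := by
    intro r hr z hz
    have hru : Commute r u := mem_centralizer_singleton_iff.1 (mem_inf.1 (mem_inf.1 hr).2).2
    have hrb : Commute r b := mem_centralizer_singleton_iff.1 (mem_inf.1 (mem_inf.1 hr).2).1
    refine ⟨?_, fun e => hz.2 ?_⟩
    · show w • r • z = r • z
      rw [← mul_smul, ← (hru.mul_right hrb).eq, mul_smul, show w • z = z from hz.1]
    · exact MulAction.injective r (e.trans ((fixCore_le _ (mem_inf.1 hr).1) p hup).symm)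
  have hoR : o ∈ R := mem_inf.2 ⟨ho, mem_inf.2 ⟨mem_centralizer_singleton_iff.2 hob.eq,
    mem_centralizer_singleton_iff.2 hou.eq⟩⟩
  have hyA : y ∈ A := ⟨by
    show w • y = y
    rw [hwdef, mul_smul, hby, ← mul_smul, Invol.mul_self hu, one_smul], fun e => hy (e ▸ hup)⟩
  obtain ⟨k, hk⟩ := h.exists_fix_pow hB hgen hw hwbad
  have hAk : A.ncard = 2 ^ k := by
    rw [hA, Set.ncard_sdiff_singleton_of_mem (show p ∈ fixSet Ω w from (by
      rw [hwdef, mul_smul, hp, hup] : w • p = p)), hk, Nat.add_sub_cancel]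
  have hK : (orbit R y).ncard ∣ A.ncard := by
    refine dvd_ncard_of_orbits (G := R) A (fun g z hz => hRA g g.2 z hz) fun z hz => ?_
    obtain ⟨g, hgw, hgb, rfl⟩ := h.exists_smul_at hB hgen hw hwbad hbw hp hyA.1 hyA.2 hz.1 hz.2
    have hgu : Commute g u := by
      have := hgw.mul_right hgb
      rwa [hwdef, mul_assoc, Invol.mul_self (h.invol b hb.1), mul_one] at this
    have hgC : g ∈ C := mem_inf.2 ⟨mem_centralizer_singleton_iff.2 hgb.eq, mem_centralizer_singleton_iff.2 hgu.eq⟩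
    have e : orbit R (g • y) = (g • ·) '' orbit R y := by
      ext x
      constructor
      · rintro ⟨r, rfl⟩
        refine ⟨(g⁻¹ * r * g⁻¹⁻¹) • y, ⟨⟨_, hRn g⁻¹ (inv_mem hgC) r r.2⟩, rfl⟩, ?_⟩
        show g • (g⁻¹ * (r : G) * g⁻¹⁻¹) • y = (r : G) • g • y
        rw [← mul_smul, ← mul_smul]
        congr 1
        group
      · rintro ⟨_, ⟨r, rfl⟩, rfl⟩
        refine ⟨⟨_, hRn g hgC r r.2⟩, ?_⟩
        show (g * (r : G) * g⁻¹) • g • y = g • (r : G) • y
        rw [← mul_smul, ← mul_smul, inv_mul_cancel_right]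
    rw [e, Set.ncard_image_of_injective _ (MulAction.injective g)]
  have hodd : Odd (orbit R y).ncard := by
    have hc := Nat.card_congr (MulAction.orbitProdStabilizerEquivGroup R y)
    rw [Nat.card_prod, Nat.card_coe_set_eq] at hc
    refine Odd.of_dvd_nat ((odd_fixCore (Ω := Ω) u).of_dvd_nat (card_dvd_of_le (inf_le_left : R ≤ fixCore Ω u))) ?_
    exact ⟨_, hc.symm⟩
  rw [hAk] at hK
  obtain ⟨i, -, hi⟩ := (Nat.dvd_prime_pow Nat.prime_two).1 hK
  rw [hi] at hodd
  rcases i with _ | i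
  · rw [pow_zero] at hi
    obtain ⟨x, hx⟩ := Set.ncard_eq_one.1 hi
    have h1 : o • y ∈ ({x} : Set Ω) := hx ▸ ⟨⟨o, hoR⟩, rfl⟩
    have h2 : y ∈ ({x} : Set Ω) := hx ▸ mem_orbit_self (M := R) y
    exact h1.trans h2.symm
  · exact absurd hodd (Nat.not_odd_iff_even.2 ⟨2 ^ i, by rw [pow_succ, mul_two]⟩)


omit hB hgen in
/-- Conjugates of a member by elements fixing the fixed points act on them as it does. -/
theorem conj_mem_kap {w g d : G} (hd : d ∈ cmem D w) (hg : g ∈ fixStab Ω w) (hgw : Commute g w) :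
    g * d * g⁻¹ ∈ kap D Ω w d := by
  refine ⟨⟨h.conj g d hd.1, (hgw.mul_left hd.2).mul_left hgw.inv_left⟩, fun z hz => ?_⟩
  have hdz : w • d • z = d • z := by rw [← mul_smul, ← hd.2.eq, mul_smul, hz]
  rw [mul_smul, mul_smul, (inv_mem hg : g⁻¹ ∈ fixStab Ω w) z hz, hg _ hdz]

omit hB hgen in
/-- A member with the same action is conjugate by an element of `O` in the group generated by the product. -/
theorem exists_ker_conj {w : G} (hbad : ¬ OneFix Ω w) {d c : G} (hd : d ∈ cmem D w) (hc : c ∈ kap D Ω w d) :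
    ∃ g ∈ kerCore Ω w, g ∈ zpowers (c * d) ∧ g * d * g⁻¹ = c := by
  obtain ⟨n, hn⟩ := h.exists_pow_conj hc.1.1 hd.1 (h.odd_mul_kap hbad hd.1 hc.1.1 hc.2)
  have hcdΔ : c * d ∈ fixStab Ω w := fun z hz => by
    rw [mul_smul, hc.2 _ (by rw [← mul_smul, ← hd.2.eq, mul_smul, hz] : w • d • z = d • z), ← mul_smul,
      Invol.mul_self (h.invol d hd.1), one_smul]
  refine ⟨(c * d) ^ n, mem_kerCore.2 ⟨?_, (hc.1.2.mul_left hd.2).pow_left n⟩, pow_mem (mem_zpowers _) n, hn⟩
  have h1 := h.commutator_mem_fixCore hbad hd.1 hd.2 (pow_mem hcdΔ n : (c * d) ^ n ∈ fixStab Ω w)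
  rw [hn, Invol.inv_self (h.invol d hd.1)] at h1
  exact pow_mem h1 n

omit hB hgen in
/-- Members acting at a moved point as `w` and centred alike act alike on the fixed points. -/
theorem act_eq_of_csig {w : G} {x p : Ω} (hw : orderOf w = 2) (hB' : Below.{u} (Nat.card G))
    (hgen' : closure D = ⊤) (hbad : ¬ OneFix Ω w) (hx : w • x ≠ x) {d c : G} (hd : d ∈ csig D w x)
    (hc : c ∈ csig D w x) (hdp : d • p = p) (hcp : c • p = p) : c ∈ kap D Ω w d :=
  ⟨hc.1, h.act_eq_of_odd hB' hgen' hw hbad hc.1 hd.1 hcp hdp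
    (h.odd_mul_swap (Ne.symm hx) ⟨hc.1.1, hc.2⟩ ⟨hd.1.1, hd.2⟩)⟩

/-- At one centre the members acting at `x` as `w` are as many as the lifts divided by the index of `O_x`. -/
theorem iota_mul_card {w : G} (hw : orderOf w = 2) (hbad : ¬ OneFix Ω w) {x p : Ω} (hx : w • x ≠ x) {d : G}
    (hd : d ∈ csig D w x) (hdp : d • p = p) :
    (kap D Ω w d).ncard = iota Ω w x * {c ∈ csig D w x | c • p = p}.ncard := by
  set O := kerCore Ω w
  letI act : MulAction O G := MulAction.compHom G ((MulAut.conj : G →* MulAut G).comp O.subtype)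
  have hsm : ∀ (g : O) (c : G), g • c = (g : G) * c * (g : G)⁻¹ := fun _ _ => rfl
  have hwp := h.fix_of_cmem hd.1 hdp
  have hO : ∀ g : O, (g : G) ∈ fixStab Ω w ∧ Commute (g : G) w := fun g =>
    ⟨fixCore_le _ (mem_kerCore.1 g.2).1, (mem_kerCore.1 g.2).2⟩
  set Ox := stabilizer O x
  letI actx : MulAction Ox G := MulAction.compHom G Ox.subtype
  have horb : MulAction.orbit O d = kap D Ω w d := by
    ext c
    constructor
    · rintro ⟨g, rfl⟩
      exact h.conj_mem_kap hd.1 (hO g).1 (hO g).2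
    · intro hc
      obtain ⟨g, hg, -, hgd⟩ := h.exists_ker_conj hbad hd.1 hc
      exact ⟨⟨g, hg⟩, hgd⟩
  have horbx : MulAction.orbit Ox d = {c ∈ csig D w x | c • p = p} := by
    ext c
    constructor
    · rintro ⟨g, rfl⟩
      have hgx : ((g : O) : G) • x = x := g.2
      have hk := h.conj_mem_kap hd.1 (hO g).1 (hO g).2
      refine ⟨⟨hk.1, ?_⟩, (?_ : (((g : O) : G) * d * ((g : O) : G)⁻¹) • p = p)⟩
      swap
      · rw [hk.2 p hwp]
        exact hdp
      show (((g : O) : G) * d * ((g : O) : G)⁻¹) • x = w • x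
      rw [mul_smul, mul_smul, inv_smul_eq_iff.2 hgx.symm, hd.2, ← mul_smul, (hO g).2.eq, mul_smul, hgx]
    · rintro ⟨hc, hcp⟩
      have hk : c ∈ kap D Ω w d := h.act_eq_of_csig hw hB hgen hbad hx hd hc hdp hcp
      obtain ⟨g, hg, hgz, hgd⟩ := h.exists_ker_conj hbad hd.1 hk
      have hcd : c * d ∈ stabilizer G x := by
        show (c * d) • x = x
        rw [mul_smul, hd.2, ← mul_smul, hc.1.2.eq, mul_smul, hc.2, ← mul_smul, Invol.mul_self hw, one_smul]
      exact ⟨⟨⟨g, hg⟩, (zpowers_le.2 hcd hgz : g ∈ stabilizer G x)⟩, hgd⟩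
  have h1 := Nat.card_congr (MulAction.orbitProdStabilizerEquivGroup O d)
  have h2 := Nat.card_congr (MulAction.orbitProdStabilizerEquivGroup Ox d)
  rw [Nat.card_prod, horb, Nat.card_coe_set_eq] at h1
  rw [Nat.card_prod, horbx, Nat.card_coe_set_eq] at h2
  have hfix : ∀ g : O, g • d = d → g ∈ Ox := fun g hg =>
    h.core_fix hB hgen hw hbad hd.1 (mem_kerCore.1 g.2).1
      (mul_inv_eq_iff_eq_mul.1 (show (g : G) * d * (g : G)⁻¹ = d from hg)) (hO g).2 hx hd.2
  have h3 : Nat.card (stabilizer Ox d) = Nat.card (stabilizer O d) :=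
    Nat.card_congr
      { toFun := fun g => ⟨(g : Ox), g.2⟩
        invFun := fun g => ⟨⟨(g : O), hfix g g.2⟩, g.2⟩
        left_inv := fun g => rfl
        right_inv := fun g => rfl }
  rw [h3] at h2
  have h4 := Ox.card_mul_index
  rw [← h2, ← h1] at h4
  refine Nat.eq_of_mul_eq_mul_right (Nat.card_pos (α := stabilizer O d)) ?_
  rw [← h4]
  show _ = Ox.index * _ * _
  ring

/-- All members commuting with `w` have as many lifts. -/
theorem card_kap_const {w : G} (hw : orderOf w = 2) (hbad : ¬ OneFix Ω w) {d e : G} (hd : d ∈ cmem D w)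
    (he : e ∈ cmem D w) : (kap D Ω w e).ncard = (kap D Ω w d).ncard := by
  obtain ⟨g, hgw, hg⟩ := h.exists_conj_cmem hw hbad hd he
  have := h.card_kap_conj g w d
  rwa [mul_inv_eq_iff_eq_mul.2 hgw.eq, hg] at this

omit h hB hgen in
theorem odd_kerCore (w : G) : Odd (Nat.card (kerCore Ω w)) :=
  (odd_fixCore (Ω := Ω) w).of_dvd_nat (card_dvd_of_le (inf_le_left : kerCore Ω w ≤ fixCore Ω w))

omit h hB hgen in
theorem odd_iota (w : G) (x : Ω) : Odd (iota Ω w x) :=
  (odd_kerCore (Ω := Ω) w).of_dvd_nat (index_dvd_card _)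

/-- The members acting at a moved point as `w`, split by their centres. -/
theorem exists_centre_count {w : G} (hw : orderOf w = 2) (hbad : ¬ OneFix Ω w) {x : Ω} (hx : w • x ≠ x) {d : G}
    (hd : d ∈ cmem D w) :
    ∃ kx : ℕ, (kap D Ω w d).ncard = iota Ω w x * kx ∧ (csig D w x).ncard = (centres D w x).ncard * kx ∧
      Odd kx ∧ Odd (centres D w x).ncard ∧ iota Ω w x ≤ (centres D w x).ncard ∧
      (centres D w x).ncard ≤ (fixSet Ω w).ncard := by
  classical
  haveI : Nonempty Ω := ⟨x⟩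
  obtain ⟨f, hf, hfx⟩ := h.exists_at x
  obtain ⟨d0, hd0, hd0w, hd0x, -⟩ := h.exists_partner hw (fun hwD => hbad (h.oneFix_of_mem hwD)) hf hfx hx
  have hd0s : d0 ∈ csig D w x := ⟨⟨hd0, hd0w⟩, hd0x⟩
  obtain ⟨p0, hp0⟩ := h.exists_fix (h.invol d0 hd0)
  set kx := {c ∈ csig D w x | c • p0 = p0}.ncard with hkx
  have hkap : (kap D Ω w d).ncard = iota Ω w x * kx := by
    rw [h.card_kap_const hB hgen hw hbad (hd0s.1) hd]
    exact h.iota_mul_card hB hgen hw hbad hx hd0s hp0
  have hfib : ∀ p ∈ centres D w x, {c ∈ csig D w x | c • p = p}.ncard = kx := by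
    rintro p ⟨e, he, hep⟩
    refine Nat.eq_of_mul_eq_mul_left (odd_iota w x).pos ?_
    rw [← h.iota_mul_card hB hgen hw hbad hx he hep, ← hkap, h.card_kap_const hB hgen hw hbad hd he.1]
  have hmu : (csig D w x).ncard = (centres D w x).ncard * kx := by
    have hpt : ∀ c ∈ csig D w x, ∃ p : Ω, c • p = p := fun c hc => h.exists_fix (h.invol c hc.1.1)
    choose! F hF using hpt
    rw [Set.ncard_eq_toFinset_card (csig D w x) (Set.toFinite _),
      Finset.card_eq_sum_card_fiberwise (f := F) (t := (centres D w x).toFinite.toFinset) fun c hc => by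
        rw [Finset.mem_coe, Set.Finite.mem_toFinset] at hc ⊢
        exact ⟨c, hc, hF c hc⟩,
      Finset.sum_congr rfl (g := fun _ => kx) fun p hp => by
        rw [Set.Finite.mem_toFinset] at hp
        rw [← hfib p hp, Set.ncard_eq_toFinset_card {c ∈ csig D w x | c • p = p} (Set.toFinite _)]
        congr 1
        ext c
        rw [Finset.mem_filter, Set.Finite.mem_toFinset, Set.Finite.mem_toFinset]
        exact ⟨fun hc => ⟨hc.1, hc.2 ▸ hF c hc.1⟩,
          fun hc => ⟨hc.1, h.unique c hc.1.1.1 _ _ (hF c hc.1) hc.2⟩⟩,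
      Finset.sum_const, smul_eq_mul, ← Set.ncard_eq_toFinset_card]
  obtain ⟨a, hda⟩ := h.exists_fix (h.invol d hd.1)
  have hwa := h.fix_of_cmem hd hda
  have hodd : Odd ((csig D w x).ncard * (cdat D w a).ncard) := by
    rw [← h.card_dat_eq hB hgen hw hbad hwa hx]
    exact h.odd x
  have hmu' := (Nat.odd_mul.1 hodd).1
  rw [hmu] at hmu'
  refine ⟨kx, hkap, hmu, (Nat.odd_mul.1 hmu').2, (Nat.odd_mul.1 hmu').1, ?_, ?_⟩
  · have hle := h.card_kap_le_csig hB hgen hw hbad hwa hx hd
    rw [hkap, hmu] at hle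
    exact Nat.le_of_mul_le_mul_right hle (Nat.odd_mul.1 hmu').2.pos
  · refine Set.ncard_le_ncard ?_ (Set.toFinite _)
    rintro p ⟨c, hc, hcp⟩
    exact h.fix_of_cmem hc.1 hcp

/-- One centre: the subgroup fixes the point. -/
theorem iota_eq_one {w : G} (hw : orderOf w = 2) (hbad : ¬ OneFix Ω w) {x : Ω} (hx : w • x ≠ x) {d : G}
    (hd : d ∈ cmem D w) (h1 : (centres D w x).ncard = 1) : iota Ω w x = 1 := by
  obtain ⟨kx, -, -, -, -, hle, -⟩ := h.exists_centre_count hB hgen hw hbad hx hd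
  have := (odd_iota (Ω := Ω) w x).pos
  omega

omit hB hgen in
/-- If every point is fixed, an image has one lift. -/
theorem kerCore_eq_bot {w : G} (hall : ∀ x : Ω, w • x ≠ x → iota Ω w x = 1) : kerCore Ω w = ⊥ := by
  rw [eq_bot_iff]
  intro g hg
  refine mem_bot.2 (FaithfulSMul.eq_of_smul_eq_smul (α := Ω) fun x => ?_)
  rw [one_smul]
  by_cases hx : w • x = x
  · exact fixCore_le _ (mem_kerCore.1 hg).1 x hx
  · have e := Subgroup.index_eq_one.1 (hall x hx)
    exact (e ▸ mem_top (⟨g, hg⟩ : kerCore Ω w) : (⟨g, hg⟩ : kerCore Ω w) ∈ stabilizer (kerCore Ω w) x)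

omit hB hgen in
theorem kap_eq_singleton {w : G} (hbad : ¬ OneFix Ω w) (hbot : kerCore Ω w = ⊥) {d : G} (hd : d ∈ cmem D w) :
    kap D Ω w d = {d} := by
  refine Set.eq_singleton_iff_unique_mem.2 ⟨⟨hd, fun _ _ => rfl⟩, fun c hc => ?_⟩
  obtain ⟨g, hg, -, hgd⟩ := h.exists_ker_conj hbad hd hc
  rw [hbot, mem_bot] at hg
  rw [← hgd, hg]
  group

end Crit

end Cfsg.Agent.GoodInvol
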