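import Cfsg.Agent.Lib.GoodInvol.Layers
import Cfsg.Agent.Lib.GoodInvol.Kernel

/-!
# The data of the group generated by the members commuting with an involution

`Local D u a x T E Q K K1 r e` collects what the endgame uses of `L = genC D u` at a point `a` fixed by the involution
`u`, with a second fixed point `x`: the parameters (`q = 2 ^ r`, `h = 2 ^ (e * r)`), the regular 2-subgroup `Q = T ∩ L`,
a torus `K` of order `q - 1` on the fixed points and, for the unitary type, the torus part `K1` centralising `E`.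
-/

set_option autoImplicit false
set_option linter.style.haveILetI false
set_option linter.unusedSectionVars false

namespace Cfsg.Agent.GoodInvol

open Subgroup MulAction

universe u v

variable {G : Type u} [Group G]

/-- The group generated by the members commuting with `u`. -/
def genC (D : Set G) (u : G) : Subgroup G := closure (cmem D u)

theorem mem_genC_of_cmem {D : Set G} {u d : G} (hd : d ∈ cmem D u) : d ∈ genC D u := subset_closure hd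

theorem genC_le_centralizer (D : Set G) (u : G) : genC D u ≤ Subgroup.centralizer ({u} : Set G) :=
  (closure_le _).2 fun _ hd => mem_centralizer_singleton_iff.2 hd.2.eq

theorem commute_of_genC {D : Set G} {u g : G} (hg : g ∈ genC D u) : Commute g u :=
  mem_centralizer_singleton_iff.1 (genC_le_centralizer D u hg)

theorem Crit.conj_genC {Ω : Type v} [MulAction G Ω] {D : Set G} (h : Crit D Ω) {u g x : G} (hg : Commute g u)
    (hx : x ∈ genC D u) : g * x * g⁻¹ ∈ genC D u := by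
  have hle : genC D u ≤ (genC D u).comap (MulAut.conj g).toMonoidHom := (closure_le _).2 fun d hd => by
    refine mem_genC_of_cmem ?_
    exact ⟨h.conj g d hd.1, (hg.mul_left hd.2).mul_left hg.inv_left⟩
  exact hle hx

/-- The data at `a` and `x`. -/
structure Local {Ω : Type v} [MulAction G Ω] (D : Set G) (u : G) (a x : Ω) (T E Q K K1 : Subgroup G) (r e : ℕ) :
    Prop where
  two_le : 2 ≤ r
  e_cases : e = 1 ∨ e = 2 ∨ e = 3
  odd_r : e = 2 → Odd r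
  card_fix : (fixSet Ω u).ncard = 2 ^ (e * r) + 1
  card_eset : Nat.card E = 2 ^ r
  -- the kernel
  kernel_le : genC D u ⊓ fixStab Ω u ≤ kerCore Ω u
  -- the regular 2-subgroup
  Q_eq : Q = T ⊓ genC D u
  card_Q : Nat.card Q = 2 ^ (e * r)
  eset_le : E ≤ Q
  sq : ∀ y ∈ Q, y * y ∈ E
  comm : ∀ y ∈ Q, ∀ z ∈ Q, y * z * y⁻¹ * z⁻¹ ∈ E
  cen : ∀ z ∈ E, ∀ y ∈ Q, Commute z y
  mem_eset : ∀ y ∈ Q, y * y = 1 → y ∈ E
  center : e ≠ 3 → ∀ y ∈ Q, (∀ z ∈ Q, Commute y z) → y ∈ E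
  comm_sq : e = 2 → ∀ y ∈ Q, ∀ z ∈ Q, y ∉ E → z ∉ E → Commute y z → y * y = z * z
  comm3 : e = 3 → ∀ y ∈ Q, y ∉ E → (∃ z ∈ Q, ¬ Commute y z) ∧
    ∀ z ∈ Q, ∀ w ∈ Q, Commute y z → Commute y w → Commute z w
  reg : ∀ z : Ω, u • z = z → z ≠ a → ∃! y, y ∈ Q ∧ y • x = z
  Q_wker : ∀ w ∈ wker Ω u T, ∀ y ∈ Q, Commute w y
  -- the torus
  K_le : K ≤ genC D u
  K_fix : ∀ k ∈ K, k • a = a ∧ k • x = x
  K_odd : Odd (Nat.card K)
  K_comm : ∀ k ∈ K ⊔ K1, ∀ l ∈ K ⊔ K1, Commute k l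
  K_normE : ∀ k ∈ K ⊔ K1, ∀ z : G, k * z * k⁻¹ ∈ E ↔ z ∈ E
  K_normQ : ∀ k ∈ K ⊔ K1, ∀ z : G, k * z * k⁻¹ ∈ Q ↔ z ∈ Q
  K_wker : ∀ k ∈ K ⊔ K1, ∀ w ∈ wker Ω u T, Commute k w
  K_trans : ∀ z ∈ E, ∀ z' ∈ E, z ≠ 1 → z' ≠ 1 → ∃ k ∈ K, k * z * k⁻¹ = z'
  K_fpf : ∀ k ∈ K, ∀ z ∈ E, z ≠ 1 → Commute k z → k ∈ kerCore Ω u
  K_card : (fixStab Ω u).relIndex K = 2 ^ r - 1
  K_full : ∀ g ∈ genC D u, g • a = a → g • x = x → ∃ k ∈ K,
    ∀ z ∈ E, ∀ p : Ω, u • p = p → (g * z * g⁻¹) • p = (k * z * k⁻¹) • p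
  K_fpfQ : ∀ k ∈ K ⊔ K1, ∀ y ∈ Q, y ∉ E → k * y * k⁻¹ * y⁻¹ ∈ E → k ∈ kerCore Ω u
  -- the part of the torus centralising `E`
  K1_le : K1 ≤ genC D u
  K1_fix : ∀ k ∈ K1, k • a = a ∧ k • x = x
  K1_odd : Odd (Nat.card K1)
  K1_eset : ∀ k ∈ K1, ∀ z ∈ E, Commute k z
  K1_card : e = 3 → ∃ g : ℕ, g ∣ 3 ∧ (fixStab Ω u).relIndex K1 * g = 2 ^ r + 1
  -- the types with an abelian torus only
  cent : e ≠ 3 → ∀ g ∈ ptC u a, (∀ z ∈ E, Commute g z) → ∃ y ∈ Q, ∀ z : Ω, u • z = z → g • z = y • z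
  inner : e ≠ 3 → ∀ g ∈ genC D u, g • a = a → ∀ z ∈ E, z ≠ 1 → Commute g z →
    ∃ y ∈ Q, ∀ z' : Ω, u • z' = z' → g • z' = y • z'
  gen_card : e ≠ 3 → (fixStab Ω u).relIndex (genC D u) = (2 ^ (e * r) + 1) * 2 ^ (e * r) * (2 ^ r - 1)
  span : e ≠ 3 → ∀ T' E' : Subgroup G, T' ≤ ptC u x → ESet D u x T' E' →
    ∀ z : Ω, u • z = z → ∃ g ∈ closure ((E : Set G) ∪ (E' : Set G)), g • a = z

namespace Local

variable {Ω : Type v} [MulAction G Ω] {D : Set G} {u : G} {a x : Ω} {T E Q K K1 : Subgroup G} {r e : ℕ}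
  (hL : Local D u a x T E Q K K1 r e)
include hL

theorem Q_le : Q ≤ T := hL.Q_eq.le.trans inf_le_left

theorem Q_gen : Q ≤ genC D u := hL.Q_eq.le.trans inf_le_right

theorem mem_Q {y : G} : y ∈ Q ↔ y ∈ T ∧ y ∈ genC D u := by rw [hL.Q_eq, mem_inf]

theorem K_commute_u {k : G} (hk : k ∈ K) : Commute k u := commute_of_genC (hL.K_le hk)

theorem kernel_fix {k : G} (hk : k ∈ genC D u) (hfix : ∀ z : Ω, u • z = z → k • z = z) : k ∈ kerCore Ω u :=
  hL.kernel_le ⟨hk, hfix⟩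

/-- An element of `T` acting as an element of `Q` is a product with the pointwise part. -/
theorem exists_wker_mul {t y : G} (ht : t ∈ T) (hy : y ∈ Q) (hty : ∀ z : Ω, u • z = z → t • z = y • z) :
    ∃ w ∈ wker Ω u T, t = y * w :=
  ⟨y⁻¹ * t, ⟨T.mul_mem (T.inv_mem (hL.Q_le hy)) ht, fun z hz => by rw [mul_smul, hty z hz, inv_smul_smul]⟩,
    (mul_inv_cancel_left y t).symm⟩

end Local

end Cfsg.Agent.GoodInvol
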