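import Cfsg.Agent.Lib.GoodInvol.CaseATorus
import Cfsg.Agent.Lib.GoodInvol.LocalDefs

/-!
# Case A: the unitary type is impossible

A pair with one fixed point set has no group of unitary type on it: the part of the torus centralising the elementary
subgroup would centralise the pair.
-/

set_option autoImplicit false
set_option linter.style.haveILetI false
set_option linter.unusedSectionVars false

namespace Cfsg.Agent.GoodInvol

open Subgroup MulAction

universe u v

variable {G : Type u} [Group G] [Finite G] {Ω : Type u} [MulAction G Ω] [Finite Ω] [FaithfulSMul G Ω] {D : Set G}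

namespace FourPair

variable {u v : G} (P : FourPair Ω u v) (h : Crit D Ω) (hB : Below.{u} (Nat.card G)) (hgen : closure D = ⊤)
include P h hB hgen

/-- The type is not unitary. -/
theorem e_ne_three {a x : Ω} (ha : u • a = a) (hx : u • x = x) (hax : a ≠ x) {T E Q K K1 : Subgroup G} {r e : ℕ}
    (hT : T ≤ ptC u a) (hE : ESet D u a T E) (hvT : v ∈ T) (hL : Local D u a x T E Q K K1 r e) : e ≠ 3 := by
  classical
  rintro rfl
  obtain ⟨g, hg, hcard⟩ := hL.K1_card rfl
  set R := (fixStab Ω u).relIndex K1 with hR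
  have hr4 : 4 ≤ 2 ^ r := by
    calc 4 = 2 ^ 2 := rfl
      _ ≤ _ := Nat.pow_le_pow_right two_pos hL.two_le
  have hR1 : R ≠ 1 := fun h1 => by
    rw [h1, one_mul] at hcard
    have := Nat.le_of_dvd (by norm_num) hg
    omega
  obtain ⟨p, hp, hpR⟩ := Nat.exists_prime_and_dvd hR1
  haveI : Fact p.Prime := ⟨hp⟩
  have hpodd : p ≠ 2 := fun e' => Nat.not_even_iff_odd.2 hL.K1_odd
    (even_iff_two_dvd.2 (e' ▸ hpR.trans (Subgroup.relIndex_dvd_card _ _)))
  have hpq : p ∣ 2 ^ r + 1 := hpR.trans ⟨g, hcard.symm⟩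
  have hpm : ¬ p ∣ Nat.card E - 1 := fun hd => by
    rw [hL.card_eset] at hd
    have h2 : p ∣ 2 := by
      have := Nat.dvd_sub hpq hd
      rwa [show 2 ^ r + 1 - (2 ^ r - 1) = 2 by omega] at this
    exact hpodd ((Nat.prime_dvd_prime_iff_eq hp Nat.prime_two).1 h2)
  have hpf : ¬ p ∣ (fixSet Ω u).ncard - 1 := fun hd => by
    rw [hL.card_fix, Nat.add_sub_cancel] at hd
    exact hpodd ((Nat.prime_dvd_prime_iff_eq hp Nat.prime_two).1 (hp.dvd_of_dvd_pow hd))
  obtain ⟨k, hk⟩ := exists_prime_orderOf_dvd_card' (G := K1) p (hpR.trans (Subgroup.relIndex_dvd_card _ _))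
  rw [← Subgroup.orderOf_coe] at hk
  obtain ⟨hka, hkx⟩ := hL.K1_fix k k.2
  have hku : Commute (k : G) u := commute_of_genC (hL.K1_le k.2)
  have hv : v ∈ wker Ω u T := ⟨hvT, fun z hz => (P.fix z).1 hz⟩
  have hkv : Commute (k : G) v := hL.K_wker k (mem_sup_right k.2) v hv
  obtain ⟨e1, he1, e2, he2, h11, h21, h12⟩ := hE.two
  have hmem : ∀ z ∈ E, z ≠ 1 → z ∈ cmem D u ∧ z • a = a := fun z hz h1 => by
    obtain ⟨hzD, hzT⟩ := ((hE.mem z).1 hz).resolve_left h1
    exact ⟨⟨hzD, (mem_ptC.1 (hT hzT)).1⟩, (mem_ptC.1 (hT hzT)).2⟩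
  obtain ⟨y, hy⟩ := P.exists_moved h
  haveI : Finite (ConjAct G) := ‹Finite G›
  obtain ⟨c, hc, hkc⟩ := exists_fixed_of_not_dvd (G := ConjAct G) (Ω := G) (k := ConjAct.toConjAct (k : G)) hp
    ((MulEquiv.orderOf_eq ConjAct.toConjAct (k : G)).trans hk) (A := cdat D u x)
    (fun z hz => by
      rw [ConjAct.smul_def, ConjAct.ofConjAct_toConjAct]
      refine ⟨⟨h.conj _ z hz.1.1, ?_⟩, (hku.mul_left hz.2).mul_left hku.inv_left⟩
      rw [mul_smul, mul_smul, inv_smul_eq_iff.2 hkx.symm, hz.1.2, hkx])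
    (by rw [h.card_cdat_eq P.ou hx ha, (P.card_csig_of_fix h hB hgen ha hT hE P.ou P.bad ha hy).1]; exact hpm)
  rw [ConjAct.smul_def, ConjAct.ofConjAct_toConjAct] at hkc
  exact P.no_central_torus h hB hgen ha hx hax hT hE hp hk hpm hpf hku hkv hka (hmem e1 he1 h11).1
    (hmem e1 he1 h11).2 (hmem e2 he2 h21).1 h12 (hE.comm e1 he1 e2 he2) (hL.K1_eset k k.2 e1 he1)
    (hL.K1_eset k k.2 e2 he2) hc.1.1 hc.1.2 (mul_inv_eq_iff_eq_mul.1 hkc)

end FourPair

end Cfsg.Agent.GoodInvol
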