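import Cfsg.Agent.Lib.GoodInvol.LocalKernel

/-!
# Two elementary subgroups at different points are transitive on the fixed points

The orbit of `a` under the two subgroups has `1 + j * q` points and its length divides the order of the induced
group; in the linear and Suzuki types that forces the whole fixed point set.
-/

set_option autoImplicit false
set_option linter.style.haveILetI false
set_option linter.unusedSectionVars false

namespace Cfsg.Agent.GoodInvol

open Subgroup MulAction

universe u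

/-- No proper divisor of `(q ^ 2 + 1) * (q - 1)` is congruent to one modulo `q`, apart from one. -/
theorem suzuki_divisor {q j : ℕ} (hq : 3 ≤ q) (hqe : Even q) (hj : 1 ≤ j) (hjq : j ≤ q)
    (hd : 1 + j * q ∣ (q * q + 1) * (q - 1)) : j = q := by
  obtain ⟨k, hk⟩ := hd
  have hq1 : ((q - 1 : ℕ) : ℤ) = (q : ℤ) - 1 := by omega
  have hk' : ((q : ℤ) * q + 1) * ((q : ℤ) - 1) = (1 + (j : ℤ) * q) * k := by
    rw [← hq1]; exact_mod_cast hk
  have hQ : (3 : ℤ) ≤ q := by exact_mod_cast hq
  have hJ : (1 : ℤ) ≤ j := by exact_mod_cast hj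
  have hJq : (j : ℤ) ≤ q := by exact_mod_cast hjq
  obtain ⟨i, hi⟩ : ∃ i : ℤ, (k : ℤ) + 1 = i * q :=
    ⟨(q : ℤ) * q - q + 1 - j * k, by linear_combination -hk'⟩
  have hk2 : (k : ℤ) = i * q - 1 := by linarith
  rw [hk2] at hk'
  have h2 : i * j * (q : ℤ) + i - j = q * q - q + 1 := by
    have hq0 : (q : ℤ) ≠ 0 := by omega
    refine mul_left_cancel₀ hq0 ?_
    linear_combination -hk'
  set m := (q : ℤ) - 1 - i * j with hm
  have hij : i - j = 1 + m * q := by rw [hm]; linear_combination h2
  have hipos : 1 ≤ i := by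
    have hk0 : (0 : ℤ) ≤ k := Int.natCast_nonneg k
    by_contra hi0
    have : i * q ≤ 0 := mul_nonpos_of_nonpos_of_nonneg (by omega) (by omega)
    omega
  rcases lt_trichotomy m 0 with hm0 | hm0 | hm0
  · by_cases hm1 : m = -1
    · have hi1 : i = j + 1 - q := by rw [hm1] at hij; linarith
      have hjj : i * j = q := by omega
      have : (j : ℤ) = q := by
        have h3 : i = 1 := by omega
        rw [h3, one_mul] at hjj
        exact hjj
      exact_mod_cast this
    · have : m * q ≤ -2 * q := mul_le_mul_of_nonneg_right (by omega) (by omega)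
      omega
  · exfalso
    rw [hm0, zero_mul] at hij
    have h3 : i = j + 1 := by linarith
    have h4 : ((j : ℤ) + 1) * j = q - 1 := by rw [← h3]; omega
    have h5 : Even (((j : ℤ) + 1) * j) := by rw [mul_comm]; exact Int.even_mul_succ_self _
    rw [h4] at h5
    obtain ⟨c, hc⟩ := h5
    obtain ⟨d, hd⟩ := hqe
    omega
  · exfalso
    have h3 : (q : ℤ) ≤ m * q := le_mul_of_one_le_left (by omega) (by omega)
    have h4 : i ≤ i * j := le_mul_of_one_le_right (by omega) hJ
    omega

variable {G : Type u} [Group G] [Finite G] {Ω : Type u} [MulAction G Ω] [Finite Ω] [FaithfulSMul G Ω] {D : Set G}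

/-- The orbit of `a` under the elementary subgroups at `a` and at `x`. -/
theorem Crit.span_of (h : Crit D Ω) (hB : Below.{u} (Nat.card G)) (hgen : closure D = ⊤) {u : G}
    (hu : orderOf u = 2) (hbad : ¬ OneFix Ω u) {a x : Ω} (ha : u • a = a) (hxa : x ≠ a) {T E : Subgroup G}
    (hTC : T ≤ ptC u a) (hE : ESet D u a T E) {r e : ℕ}
    (hP : BenderParams (induced (cenD D u) (fixSub Ω u)) r e) (he : e ≠ 3) (T' E' : Subgroup G)
    (hT' : T' ≤ ptC u x) (hE' : ESet D u x T' E') (z : Ω) (hz : u • z = z) :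
    ∃ g ∈ closure ((E : Set G) ∪ (E' : Set G)), g • a = z := by
  classical
  obtain ⟨r', e', hP', hfix, hqE⟩ := h.exists_fix_params hB hgen hu hbad ha hTC hE
  obtain ⟨rfl, rfl⟩ := hP.unique hP'
  set M := closure ((E : Set G) ∪ (E' : Set G)) with hM
  set q := 2 ^ r with hq
  have hq4 : 4 ≤ q := by
    have : 2 ^ 2 ≤ 2 ^ r := Nat.pow_le_pow_right two_pos hP.two_le
    omega
  have hqeven : Even q := Nat.even_pow.2 ⟨even_two, by have := hP.two_le; omega⟩
  have hgenC : ∀ (b : Ω) (S F : Subgroup G), S ≤ ptC u b → ESet D u b S F → F ≤ genC D u := by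
    intro b S F hS hF g hg
    rcases (hF.mem g).1 hg with rfl | ⟨hgD, hgS⟩
    · exact one_mem _
    · exact mem_genC_of_cmem ⟨hgD, (mem_ptC.1 (hS hgS)).1⟩
  have hMgen : M ≤ genC D u :=
    (closure_le _).2 (Set.union_subset (hgenC a T E hTC hE) (hgenC x T' E' hT' hE'))
  have hEM : ∀ g ∈ E, g ∈ M := fun g hg => subset_closure (Or.inl hg)
  set O : Set Ω := MulAction.orbit M a with hO
  have hOF : ∀ w ∈ O, u • w = w := by
    rintro _ ⟨g, rfl⟩
    show u • (g : G) • a = (g : G) • a
    rw [← mul_smul, ← (commute_of_genC (hMgen g.2)).eq, mul_smul, ha]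
  have hEa : ∀ g ∈ E, g • a = a := fun g hg => (mem_ptC.1 (hTC (hE.le hg))).2
  have haO : a ∈ O := MulAction.mem_orbit_self a
  -- the orbit is larger than `{a}`
  obtain ⟨e1, he1, -, -, he11, -, -⟩ := hE'.two
  obtain ⟨he1D, he1T⟩ := ((hE'.mem e1).1 he1).resolve_left he11
  have hmov : e1 • a ≠ a := fun e' => hxa (h.unique e1 he1D x a (mem_ptC.1 (hT' he1T)).2 e')
  have hb : e1 • a ∈ O := ⟨⟨e1, subset_closure (Or.inr he1)⟩, rfl⟩
  -- `E` acts freely off `a`
  letI : MulAction E (O \ {a} : Set Ω) :=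
    { smul := fun g w => ⟨(g : G) • (w : Ω), by
        obtain ⟨⟨m, hm⟩, hmw⟩ := w.2.1
        refine ⟨⟨⟨(g : G) * m, mul_mem (hEM g g.2) hm⟩, ?_⟩, fun e' => w.2.2 ?_⟩
        · show ((g : G) * m) • a = (g : G) • (w : Ω)
          rw [mul_smul]; exact congrArg ((g : G) • ·) hmw
        · exact (MulAction.injective (g : G) ((show (g : G) • (w : Ω) = a from e').trans (hEa g g.2).symm))⟩
      one_smul := fun w => Subtype.ext (one_smul G (w : Ω))
      mul_smul := fun g g' w => Subtype.ext (mul_smul (g : G) (g' : G) (w : Ω)) }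
  have hfree : ∀ w : (O \ {a} : Set Ω), MulAction.stabilizer E w = ⊥ := fun w => (eq_bot_iff_forall _).2 fun g hg => by
    by_contra hg1
    exact w.2.2 (h.unique g (((hE.mem g).1 g.2).resolve_left fun e' => hg1 (Subtype.ext e')).1 _ _
      (congrArg Subtype.val (mem_stabilizer_iff.1 hg)) (hEa g g.2))
  obtain ⟨j, hj⟩ : ∃ j, (O \ {a}).ncard = j * q := by
    refine ⟨Nat.card (Quotient (MulAction.orbitRel E (O \ {a} : Set Ω))), ?_⟩
    rw [← Nat.card_coe_set_eq,
      Nat.card_congr (MulAction.selfEquivSigmaOrbitsQuotientStabilizer E (O \ {a} : Set Ω)), ← hqE,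
      ← Nat.card_prod]
    refine Nat.card_congr ((Equiv.sigmaCongrRight fun c => ?_).trans (Equiv.sigmaEquivProd _ _))
    exact (Subgroup.quotientEquivOfEq (hfree c.out)).trans QuotientGroup.quotientBot.toEquiv
  have hOcard : O.ncard = 1 + j * q := by
    rw [← hj, add_comm, Set.ncard_sdiff_singleton_add_one haO]
  have hj1 : 1 ≤ j := by
    refine Nat.one_le_iff_ne_zero.2 fun e' => ?_
    rw [e', zero_mul, Set.ncard_eq_zero] at hj
    exact (hj ▸ (⟨hb, hmov⟩ : e1 • a ∈ O \ {a}) : e1 • a ∈ (∅ : Set Ω))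
  have hOle : O.ncard ≤ 2 ^ (e * r) + 1 := hfix ▸ Set.ncard_le_ncard hOF (Set.toFinite _)
  -- its length divides the order of the induced group
  have hdvd : O.ncard ∣ Nat.card (induced (cenD D u) (fixSub Ω u)) := by
    set aF : fixSub Ω u := ⟨a, ha⟩ with haF
    set Mb := ((genHom D Ω u).comp (inclusion hMgen)).range with hMb
    refine Dvd.dvd.trans ?_ (card_subgroup_dvd_card Mb)
    have horb : O.ncard = (MulAction.orbit Mb aF).ncard := by
      rw [← Set.ncard_image_of_injective (MulAction.orbit Mb aF) Subtype.val_injective]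
      congr 1
      ext w
      constructor
      · rintro ⟨g, rfl⟩
        exact ⟨_, ⟨⟨_, g, rfl⟩, rfl⟩, rfl⟩
      · rintro ⟨_, ⟨⟨_, g, rfl⟩, rfl⟩, rfl⟩
        exact ⟨g, rfl⟩
    rw [horb, ← MulAction.index_stabilizer]
    exact index_dvd_card _
  -- so it is everything
  have hfull : 2 ^ (e * r) + 1 ≤ O.ncard := by
    rw [hOcard]
    have h1 := hdvd
    rw [hOcard] at h1
    have h2 : j * q ≤ 2 ^ (e * r) := by omega
    rcases hP.dvd with ⟨h3, -⟩ | ⟨h3, -, hcard⟩ | ⟨h3, -⟩
    · subst h3
      rw [one_mul, ← hq]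
      have := le_mul_of_one_le_left (Nat.zero_le q) hj1
      omega
    · subst h3
      rw [mul_comm 2 r, pow_mul, ← hq, pow_two] at h2 ⊢
      have hjq : j ≤ q := Nat.le_of_mul_le_mul_right h2 (by omega)
      have hco : Nat.Coprime (1 + j * q) (q * q) := by
        have : Nat.Coprime (1 + j * q) q := by
          rw [Nat.coprime_comm, add_comm, Nat.coprime_mul_right_add_right]
          exact Nat.coprime_one_right q
        exact this.mul_right this
      have h4 : 1 + j * q ∣ (q * q + 1) * (q - 1) := hco.dvd_of_dvd_mul_left (by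
        rw [← hq, pow_two] at hcard
        exact h1.trans hcard)
      rw [suzuki_divisor (by omega) hqeven hj1 hjq h4]
      omega
    · exact absurd h3 he
  have hOeq : O = fixSet Ω u := Set.eq_of_subset_of_ncard_le hOF (hfix ▸ hfull) (Set.toFinite _)
  obtain ⟨g, hg⟩ : z ∈ O := by rw [hOeq]; exact hz
  exact ⟨g, g.2, hg⟩

end Cfsg.Agent.GoodInvol
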