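import Cfsg.Agent.Lib.GoodInvol.LocalTorus
import Cfsg.Agent.Lib.GoodInvol.LocalSpan

/-!
# Existence of the data at two points fixed by an involution
-/

set_option autoImplicit false

namespace Cfsg.Agent.GoodInvol

open Subgroup MulAction

universe u

/-- The data of `genC D u` at `a` and `x`. -/
theorem Crit.exists_local {G : Type u} [Group G] [Finite G] {Ω : Type u} [MulAction G Ω] [Finite Ω] [FaithfulSMul G Ω]
    {D : Set G} (h : Crit D Ω) (hB : Below.{u} (Nat.card G)) (hgen : closure D = ⊤) {u : G} (hu : orderOf u = 2)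
    (hbad : ¬ OneFix Ω u) {a x : Ω} (ha : u • a = a) (hx : u • x = x) (hxa : x ≠ a) (T : Sylow 2 (ptC u a))
    {E : Subgroup G} (hE : ESet D u a ((T : Subgroup (ptC u a)).map (ptC u a).subtype) E) :
    ∃ (Q K K1 : Subgroup G) (r e : ℕ),
      Local D u a x ((T : Subgroup (ptC u a)).map (ptC u a).subtype) E Q K K1 r e :=
  h.exists_local_of hB hgen hu hbad ha hx hxa T hE fun _ _ hP he T' E' hT' hE' z hz =>
    h.span_of hB hgen hu hbad ha hxa (map_subtype_le _) hE hP he T' E' hT' hE' z hz

end Cfsg.Agent.GoodInvol
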