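import Cfsg.Agent.Lib.GoodInvol.CaseATorusData
import Cfsg.Agent.Lib.GoodInvol.CaseAUnitary
import Cfsg.Agent.Lib.GoodInvol.Local

/-!
# Case A: the standing situation holds

A pair with one fixed point set gives `CaseA`: the order of the elementary subgroup and the number of fixed points do
not depend on the pair or the point.
-/

set_option autoImplicit false
set_option linter.style.haveILetI false
set_option linter.unusedSectionVars false

namespace Cfsg.Agent.GoodInvol

open Subgroup MulAction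
open scoped Pointwise

universe u

variable {G : Type u} [Group G] [Finite G] {Ω : Type u} [MulAction G Ω] [Finite Ω] [FaithfulSMul G Ω] {D : Set G}

namespace FourPair

variable {u v : G} (P : FourPair Ω u v) (h : Crit D Ω) (hB : Below.{u} (Nat.card G)) (hgen : closure D = ⊤)
include P h hB hgen

theorem eSub_eq {a : Ω} (ha : u • a = a) {T E : Subgroup G} (hT : T ≤ ptC u a) (hE : ESet D u a T E) :
    eSub D a = E := by
  rw [eSub, P.dat_eq h hB hgen ha hT hE]
  refine le_antisymm ((closure_le _).2 fun x hx => hx.1) fun x hx => ?_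
  by_cases h1 : x = 1
  · rw [h1]
    exact one_mem _
  · exact subset_closure ⟨hx, h1⟩

/-- The data at a pair and two of its points, not of unitary type. -/
theorem exists_data_at {a x : Ω} (ha : u • a = a) (hx : u • x = x) (hax : a ≠ x) :
    ∃ (T Q K K1 : Subgroup G) (r e : ℕ), T ≤ ptC u a ∧ ESet D u a T (eSub D a) ∧
      Local D u a x T (eSub D a) Q K K1 r e ∧ e ≠ 3 := by
  haveI : Fact (Nat.Prime 2) := ⟨Nat.prime_two⟩
  have hvX : v ∈ ptC u a := mem_ptC.2 ⟨P.comm.symm, (P.fix a).1 ha⟩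
  obtain ⟨T, hT⟩ := (IsPGroup.of_card (n := 1) (by
      rw [Nat.card_zpowers, ← Subgroup.orderOf_coe, P.ov, pow_one]) :
    IsPGroup 2 (zpowers (⟨v, hvX⟩ : ptC u a))).exists_le_sylow
  set T' := (T : Subgroup (ptC u a)).map (ptC u a).subtype with hT'
  have hTC : T' ≤ ptC u a := map_subtype_le _
  have hvT : v ∈ T' := ⟨⟨v, hvX⟩, hT (mem_zpowers _), rfl⟩
  obtain ⟨E, hE⟩ := h.exists_eset hB hgen P.ou P.bad ha T
  obtain ⟨Q, K, K1, r, e, hL⟩ := h.exists_local hB hgen P.ou P.bad ha hx hax.symm T hE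
  have hne := P.e_ne_three h hB hgen ha hx hax hTC hE hvT hL
  rw [P.eSub_eq h hB hgen ha hTC hE]
  exact ⟨T', Q, K, K1, r, e, hTC, hE, hL, hne⟩

/-- The number of fixed points of a pair does not depend on it. -/
theorem card_fixSet_pair {u' v' : G} (P' : FourPair Ω u' v') : (fixSet Ω u').ncard = (fixSet Ω u).ncard := by
  have hb := P.bad
  have hb' := P'.bad
  unfold OneFix at hb hb'
  push Not at hb hb'
  obtain ⟨p, q, hp, hq, hpq⟩ := hb
  obtain ⟨p', -, hp', -, -⟩ := hb'
  obtain ⟨T, Q, K, K1, r, e, hT, hE, -, -⟩ := P.exists_data_at h hB hgen hp hq hpq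
  obtain ⟨g, -, hg⟩ := h.exists_smul p' p
  have hc : (g * u' * g⁻¹) • p = p := by rw [mul_smul, mul_smul, inv_smul_eq_iff.2 hg.symm, hp', hg]
  rw [← P.card_fixSet_eq h hB hgen hp hT hE (P'.conj g).ou (P'.conj g).bad hc, fixSet_conj, Set.ncard_smul_set]

/-- The standing situation holds. -/
theorem exists_caseA : ∃ r e, CaseA D Ω r e := by
  classical
  have hb := P.bad
  unfold OneFix at hb
  push Not at hb
  obtain ⟨p, q, hp, hq, hpq⟩ := hb
  obtain ⟨T0, Q0, K0, K10, r, e, hT0, hE0, hL0, he3⟩ := P.exists_data_at h hB hgen hp hq hpq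
  have hdat : ∀ (u' v' : G) (P' : FourPair Ω u' v') (a : Ω), u' • a = a → Nat.card (eSub D a) = 2 ^ r := by
    intro u' v' P' a ha
    obtain ⟨x, hx, hax⟩ : ∃ x, u' • x = x ∧ a ≠ x := by
      have hb' := P'.bad
      unfold OneFix at hb'
      push Not at hb'
      obtain ⟨p', q', hp', hq', hpq'⟩ := hb'
      by_cases hap : a = p'
      · exact ⟨q', hq', fun e' => hpq' (hap.symm.trans e')⟩
      · exact ⟨p', hp', hap⟩
    obtain ⟨T, Q, K, K1, r', e', hT, hE, -, -⟩ := P'.exists_data_at h hB hgen ha hx hax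
    have h1 := P'.dat_eq h hB hgen ha hT hE
    have h0 := P.dat_eq h hB hgen hp hT0 hE0
    have e1 : (dat D a).ncard = Nat.card (eSub D a) - 1 := by
      rw [h1, Set.ncard_sdiff_singleton_of_mem (one_mem (eSub D a)), ← Nat.card_coe_set_eq]; rfl
    have e0 : (dat D p).ncard = 2 ^ r - 1 := by
      rw [h0, Set.ncard_sdiff_singleton_of_mem (one_mem (eSub D p)), ← Nat.card_coe_set_eq, ← hL0.card_eset]; rfl
    rw [h.card_dat a p, e0] at e1
    have := Nat.card_pos (α := eSub D a)
    have := Nat.one_le_two_pow (n := r)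
    omega
  have hpar : ∀ (u' v' : G) (P' : FourPair Ω u' v') (a x : Ω) (T Q K K1 : Subgroup G) (r' e' : ℕ), u' • a = a →
      Local D u' a x T (eSub D a) Q K K1 r' e' → r' = r ∧ e' = e := by
    intro u' v' P' a x T Q K K1 r' e' ha hL
    obtain rfl : r' = r := Nat.pow_right_injective (le_refl 2) (hL.card_eset.symm.trans (hdat u' v' P' a ha))
    refine ⟨rfl, ?_⟩
    have h1 := P.card_fixSet_pair h hB hgen P'
    rw [hL.card_fix, hL0.card_fix] at h1
    exact Nat.eq_of_mul_eq_mul_right (by have := hL0.two_le; omega)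
      (Nat.pow_right_injective (le_refl 2) (Nat.add_right_cancel h1))
  have hex : ∀ a : Ω, ∃ w ∈ pairBad G Ω, w • a = a := fun a => by
    obtain ⟨g, -, rfl⟩ := h.exists_smul p a
    exact ⟨g * u * g⁻¹, ⟨_, P.conj g⟩, by rw [mul_smul, mul_smul, inv_smul_smul, hp]⟩
  refine ⟨r, e, h, hB, hgen, hL0.two_le, ?_, hL0.odd_r, hex, ?_, ?_⟩
  · rcases hL0.e_cases with h1 | h1 | h1
    exacts [Or.inl h1, Or.inr h1, absurd h1 he3]
  · -- the action of a centraliser on the fixed points
    intro g hg hgbad a hga S hS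
    obtain ⟨w, ⟨v', P'⟩, hwa⟩ := hex a
    obtain ⟨y, hy, hay⟩ : ∃ y, w • y = y ∧ a ≠ y := by
      have hb' := P'.bad
      unfold OneFix at hb'
      push Not at hb'
      obtain ⟨p', q', hp', hq', hpq'⟩ := hb'
      by_cases hap : a = p'
      · exact ⟨q', hq', fun e' => hpq' (hap.symm.trans e')⟩
      · exact ⟨p', hp', hap⟩
    obtain ⟨Tw, Qw, Kw, K1w, rw', ew, hTw, hEw, hLw, -⟩ := P'.exists_data_at h hB hgen hwa hy hay
    obtain ⟨rfl, rfl⟩ := hpar w v' P' a y Tw Qw Kw K1w rw' ew hwa hLw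
    have hf := P'.card_fixSet_eq h hB hgen hwa hTw hEw hg hgbad hga
    obtain ⟨x, hgx, hxa⟩ : ∃ x, g • x = x ∧ x ≠ a := by
      have hb' := hgbad
      unfold OneFix at hb'
      push Not at hb'
      obtain ⟨p', q', hp', hq', hpq'⟩ := hb'
      by_cases hap : a = p'
      · exact ⟨q', hq', fun e' => hpq' (hap.symm.trans e'.symm)⟩
      · exact ⟨p', hp', Ne.symm hap⟩
    obtain ⟨T⟩ : Nonempty (Sylow 2 (ptC g a)) := inferInstance
    obtain ⟨E, hE⟩ := h.exists_eset hB hgen hg hgbad hga T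
    obtain ⟨Q, K, K1, rg, eg, hL⟩ := h.exists_local hB hgen hg hgbad hga hgx hxa T hE
    have hTC : (T : Subgroup (ptC g a)).map (ptC g a).subtype ≤ ptC g a := map_subtype_le _
    have hmem : ∀ z ∈ E, z = 1 ∨ z ∈ dat D a := fun z hz => ((hE.mem z).1 hz).imp id
      fun hz' => ⟨hz'.1, (mem_ptC.1 (hTC hz'.2)).2⟩
    have hEeq : E = eSub D a := by
      refine le_antisymm (fun z hz => ?_) ((closure_le _).2 fun d hd => ?_)
      · rcases hmem z hz with rfl | hz'
        exacts [one_mem _, subset_closure hz']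
      · have hdE : d ∈ eSub D a := subset_closure hd
        have hdg : Commute d g := (P'.commute_eset h hB hgen hwa hTw hEw hg hgbad hga hdE).symm
        obtain ⟨c, hc, hcD, hact⟩ := hE.lift d hd.1 (mem_ptC.2 ⟨hdg, hd.2⟩)
        have hcE : c ∈ eSub D a := by
          rcases hmem c hc with rfl | hc'
          exacts [one_mem _, subset_closure hc']
        exact h.eq_of_fixAct hgbad hcD hd.1 (hEw.comm c hcE d hdE) hact ▸ hc
    obtain rfl : rg = rw' := Nat.pow_right_injective (le_refl 2)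
      (hL.card_eset.symm.trans (hEeq ▸ hLw.card_eset))
    obtain rfl : eg = ew := by
      rw [hL.card_fix, hLw.card_fix] at hf
      exact Nat.eq_of_mul_eq_mul_right (by have := hL.two_le; omega)
        (Nat.pow_right_injective (le_refl 2) (Nat.add_right_cancel hf))
    have hy : ∀ s : S, ∃ y ∈ Q, ∀ z : Ω, g • z = z → (s : G) • z = y • z := fun s =>
      hL.cent he3 s (mem_ptC.2 ⟨(hS s s.2).2, (mem_cenA.1 (hS s s.2).1).1⟩) fun z hz =>
        (mem_cenA.1 (hS s s.2).1).2 z (hEeq ▸ hz)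
    choose yf hyQ hyact using hy
    set W := (S ⊓ fixStab Ω g).subgroupOf S with hW
    have hinj : Function.Injective fun c : S ⧸ W => (⟨yf c.out, hyQ c.out⟩ : Q) := fun c c' hcc => by
      have hcc' : yf c.out = yf c'.out := congrArg Subtype.val hcc
      rw [← QuotientGroup.out_eq' c, ← QuotientGroup.out_eq' c', QuotientGroup.eq]
      refine mem_subgroupOf.2 ⟨(c.out⁻¹ * c'.out).2, fun z hz => ?_⟩
      rw [Subgroup.coe_mul, Subgroup.coe_inv, mul_smul, hyact c'.out z hz, ← hcc', ← hyact c.out z hz, inv_smul_smul]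
    have hidx : W.index ≤ 2 ^ (eg * rg) := by
      rw [index_eq_card, ← hL.card_Q]
      exact Nat.card_le_card_of_injective _ hinj
    calc Nat.card S = Nat.card W * W.index := W.card_mul_index.symm
      _ ≤ Nat.card W * 2 ^ (eg * rg) := Nat.mul_le_mul_left _ hidx
      _ = _ := by rw [mul_comm, hW, Nat.card_congr (subgroupOfEquivOfLe inf_le_left).toEquiv]
  · rintro w ⟨v', P'⟩ a x ha hx hax
    obtain ⟨T, Q, K, K1, r', e', hT, hE, hL, -⟩ := P'.exists_data_at h hB hgen ha hx hax
    obtain ⟨rfl, rfl⟩ := hpar w v' P' a x T Q K K1 r' e' ha hL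
    exact ⟨T, Q, K, K1, hT, hE, hL⟩

end FourPair

end Cfsg.Agent.GoodInvol
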