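import Cfsg.Agent.Lib.GoodInvol.CaseAQuad
import Cfsg.Agent.Lib.GoodInvol.CaseAExists
import Cfsg.Agent.Lib.GoodInvol.Assembly

/-!
# Case A is impossible

No two commuting involutions fixing two points have one fixed point set.
-/

set_option autoImplicit false
set_option linter.unusedSectionVars false

namespace Cfsg.Agent.GoodInvol

open Subgroup MulAction

universe u

variable {G : Type u} [Group G] [Finite G] {Ω : Type u} [MulAction G Ω] [Finite Ω] [FaithfulSMul G Ω] {D : Set G}

/-- Case A does not occur. -/
theorem FourPair.false {u v : G} (P : FourPair Ω u v) (h : Crit D Ω) (hB : Below.{u} (Nat.card G))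
    (hgen : closure D = ⊤) : False := by
  have hb := P.bad
  unfold OneFix at hb
  push Not at hb
  obtain ⟨p, -, -, -, -⟩ := hb
  haveI : Nonempty Ω := ⟨p⟩
  obtain ⟨r, e, hA⟩ := P.exists_caseA h hB hgen
  exact hA.false

theorem caseAStmt : CaseAStmt.{u} := fun _ _ _ _ _ _ _ _ hB h hgen _ _ P => P.false h hB hgen

end Cfsg.Agent.GoodInvol
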