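import Cfsg.Agent.Lib.GoodInvol.CaseAJ
import Cfsg.Agent.Lib.GoodInvol.LocalDefs

/-!
# Case A: the frame

The involutions in pairs with one fixed point set, the data at a point and the first consequences: the group generated
by the members commuting with such an involution is regular on the moved points and two such involutions sharing two
fixed points have one fixed point set.
-/

set_option autoImplicit false
set_option linter.style.haveILetI false
set_option linter.unusedSectionVars false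

namespace Cfsg.Agent.GoodInvol

open Subgroup MulAction

universe u v

section Defs

variable {G : Type u} [Group G]

/-- The members at `a` and their products. -/
def eSub {Ω : Type v} [MulAction G Ω] (D : Set G) (a : Ω) : Subgroup G := closure (dat D a)

/-- The stabiliser of `a` in the centraliser of the members at `a`. -/
def cenA {Ω : Type v} [MulAction G Ω] (D : Set G) (a : Ω) : Subgroup G :=
  stabilizer G a ⊓ Subgroup.centralizer (eSub D a : Set G)

/-- Those of them commuting with `u`. -/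
def rSub {Ω : Type v} [MulAction G Ω] (D : Set G) (a : Ω) (u : G) : Subgroup G :=
  cenA D a ⊓ Subgroup.centralizer ({u} : Set G)

/-- Those generated by the members commuting with `u`. -/
def qSub {Ω : Type v} [MulAction G Ω] (D : Set G) (a : Ω) (u : G) : Subgroup G := cenA D a ⊓ genC D u

theorem mem_cenA {Ω : Type v} [MulAction G Ω] {D : Set G} {a : Ω} {g : G} :
    g ∈ cenA D a ↔ g • a = a ∧ ∀ z ∈ eSub D a, Commute g z := by
  rw [cenA, mem_inf, mem_stabilizer_iff, mem_centralizer_iff]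
  exact ⟨fun h => ⟨h.1, fun z hz => (h.2 z hz).symm⟩, fun h => ⟨h.1, fun z hz => (h.2 z hz).eq.symm⟩⟩

theorem mem_rSub {Ω : Type v} [MulAction G Ω] {D : Set G} {a : Ω} {u g : G} :
    g ∈ rSub D a u ↔ g ∈ cenA D a ∧ Commute g u := by
  rw [rSub, mem_inf, mem_centralizer_singleton_iff]; rfl

theorem mem_qSub {Ω : Type v} [MulAction G Ω] {D : Set G} {a : Ω} {u g : G} :
    g ∈ qSub D a u ↔ g ∈ cenA D a ∧ g ∈ genC D u := mem_inf

theorem qSub_le_rSub {Ω : Type v} [MulAction G Ω] (D : Set G) (a : Ω) (u : G) : qSub D a u ≤ rSub D a u :=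
  fun _ hg => mem_rSub.2 ⟨(mem_qSub.1 hg).1, commute_of_genC (mem_qSub.1 hg).2⟩

end Defs

variable {G : Type u} [Group G] [Finite G] {Ω : Type u} [MulAction G Ω] [Finite Ω] [FaithfulSMul G Ω]

/-- The involutions in a pair with one fixed point set. -/
def pairBad (G : Type u) [Group G] (Ω : Type u) [MulAction G Ω] : Set G := {w | ∃ v, FourPair Ω w v}

omit [Finite G] [Finite Ω] [FaithfulSMul G Ω] in
theorem FourPair.conj {u v : G} (P : FourPair Ω u v) (g : G) : FourPair Ω (g * u * g⁻¹) (g * v * g⁻¹) := by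
  have key : ∀ (c : G) (z : Ω), (g * c * g⁻¹) • z = z ↔ c • g⁻¹ • z = g⁻¹ • z := fun c z => by
    rw [mul_smul, mul_smul]
    exact smul_eq_iff_eq_inv_smul g
  refine ⟨(Invol.order_conj g u).trans P.ou, (Invol.order_conj g v).trans P.ov, fun hone => P.bad fun p q hp hq => ?_,
    P.comm.map (MulAut.conj g), fun e => P.ne (mul_left_cancel (mul_right_cancel e)), fun z => ?_, ?_⟩
  · refine MulAction.injective g (hone _ _ ((key u _).2 ?_) ((key u _).2 ?_))
    · rw [inv_smul_smul, hp]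
    · rw [inv_smul_smul, hq]
  · rw [key, key]; exact P.fix _
  · intro w hw hwF z hz
    refine (key u z).2 (P.top (g⁻¹ * w * g⁻¹⁻¹) ((Invol.order_conj _ _).trans hw) (fun y hy => ?_) _ ?_)
    · have := hwF (g • y) ((key u _).2 (by rw [inv_smul_smul, hy]))
      rw [inv_inv, mul_smul, mul_smul, this, inv_smul_smul]
    · rw [inv_inv, mul_smul, mul_smul, smul_inv_smul, hz]

/-- The standing situation: the parameters and the data at every such involution. -/
structure CaseA (D : Set G) (Ω : Type u) [MulAction G Ω] [Finite Ω] [FaithfulSMul G Ω] (r e : ℕ) : Prop where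
  crit : Crit D Ω
  below : Below.{u} (Nat.card G)
  gen : closure D = ⊤
  two_le : 2 ≤ r
  e_cases : e = 1 ∨ e = 2
  odd_r : e = 2 → Odd r
  ex : ∀ a : Ω, ∃ w ∈ pairBad G Ω, w • a = a
  act : ∀ g : G, orderOf g = 2 → ¬ OneFix Ω g → ∀ a : Ω, g • a = a → ∀ S : Subgroup G,
    (∀ x ∈ S, x ∈ cenA D a ∧ Commute x g) → Nat.card S ≤ 2 ^ (e * r) * Nat.card (S ⊓ fixStab Ω g : Subgroup G)
  data : ∀ w ∈ pairBad G Ω, ∀ a x : Ω, w • a = a → w • x = x → a ≠ x →
    ∃ T Q K K1 : Subgroup G, T ≤ ptC w a ∧ ESet D w a T (eSub D a) ∧ Local D w a x T (eSub D a) Q K K1 r e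

namespace CaseA

variable {D : Set G} {r e : ℕ} (hA : CaseA D Ω r e)
include hA

theorem e_ne : e ≠ 3 := by rcases hA.e_cases with h | h <;> omega

theorem four_le_q : 4 ≤ 2 ^ r :=
  calc 4 = 2 ^ 2 := rfl
    _ ≤ _ := Nat.pow_le_pow_right two_pos hA.two_le

theorem q_le_h : 2 ^ r ≤ 2 ^ (e * r) :=
  Nat.pow_le_pow_right two_pos (by rcases hA.e_cases with rfl | rfl <;> omega)

theorem conj_pairBad (g : G) {w : G} (hw : w ∈ pairBad G Ω) : g * w * g⁻¹ ∈ pairBad G Ω := by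
  obtain ⟨v, P⟩ := hw
  exact ⟨_, P.conj g⟩

theorem order_two {w : G} (hw : w ∈ pairBad G Ω) : orderOf w = 2 := hw.choose_spec.ou

theorem bad {w : G} (hw : w ∈ pairBad G Ω) : ¬ OneFix Ω w := hw.choose_spec.bad

/-- A second fixed point. -/
theorem exists_other {w : G} (hw : w ∈ pairBad G Ω) (a : Ω) : ∃ x : Ω, w • x = x ∧ a ≠ x := by
  have hb := hA.bad hw
  unfold OneFix at hb
  push Not at hb
  obtain ⟨p, q, hp, hq, hpq⟩ := hb
  by_cases hap : a = p
  · exact ⟨q, hq, fun e => hpq (hap.symm.trans e)⟩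
  · exact ⟨p, hp, hap⟩

theorem exists_data {w : G} (hw : w ∈ pairBad G Ω) {a : Ω} (ha : w • a = a) :
    ∃ (x : Ω) (T Q K K1 : Subgroup G), w • x = x ∧ a ≠ x ∧ T ≤ ptC w a ∧ ESet D w a T (eSub D a) ∧
      Local D w a x T (eSub D a) Q K K1 r e := by
  obtain ⟨x, hx, hax⟩ := hA.exists_other hw a
  obtain ⟨T, Q, K, K1, h1, h2, h3⟩ := hA.data w hw a x ha hx hax
  exact ⟨x, T, Q, K, K1, hx, hax, h1, h2, h3⟩

theorem card_fixSet {w : G} (hw : w ∈ pairBad G Ω) : (fixSet Ω w).ncard = 2 ^ (e * r) + 1 := by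
  obtain ⟨p, hp⟩ : ∃ p : Ω, w • p = p := by
    have hb := hA.bad hw
    unfold OneFix at hb
    push Not at hb
    exact ⟨_, hb.choose_spec.choose_spec.1⟩
  obtain ⟨x, T, Q, K, K1, -, -, -, -, hL⟩ := hA.exists_data hw hp
  exact hL.card_fix

theorem card_eSub (a : Ω) : Nat.card (eSub D a) = 2 ^ r := by
  obtain ⟨w, hw, ha⟩ := hA.ex a
  obtain ⟨x, T, Q, K, K1, -, -, -, -, hL⟩ := hA.exists_data hw ha
  exact hL.card_eset

theorem mem_eSub {a : Ω} {g : G} : g ∈ eSub D a ↔ g = 1 ∨ g ∈ dat D a := by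
  obtain ⟨w, ⟨v, P⟩, ha⟩ := hA.ex a
  obtain ⟨x, T, Q, K, K1, -, -, hT, hE, -⟩ := hA.exists_data ⟨v, P⟩ ha
  rw [P.dat_eq hA.crit hA.below hA.gen ha hT hE]
  show g ∈ eSub D a ↔ g = 1 ∨ (g ∈ eSub D a ∧ g ∉ ({1} : Set G))
  by_cases h1 : g = 1
  · simp [h1, one_mem]
  · simp [h1]

theorem dat_subset_eSub (a : Ω) : dat D a ⊆ eSub D a := subset_closure

theorem ne_one_of_dat {a : Ω} {d : G} (hd : d ∈ dat D a) : d ≠ 1 := Invol.ne_one (hA.crit.invol d hd.1)

theorem eSub_sq {a : Ω} {g : G} (hg : g ∈ eSub D a) : g * g = 1 := by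
  rcases hA.mem_eSub.1 hg with rfl | h
  · exact one_mul _
  · exact Invol.mul_self (hA.crit.invol g h.1)

theorem eSub_comm {a : Ω} {g g' : G} (hg : g ∈ eSub D a) (hg' : g' ∈ eSub D a) : Commute g g' := by
  obtain ⟨w, hw, ha⟩ := hA.ex a
  obtain ⟨x, T, Q, K, K1, -, -, -, hE, -⟩ := hA.exists_data hw ha
  exact hE.comm g hg g' hg'

theorem eSub_smul {a : Ω} {g : G} (hg : g ∈ eSub D a) : g • a = a := by
  rcases hA.mem_eSub.1 hg with rfl | h
  · exact one_smul _ _
  · exact h.2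

/-- A non-trivial element of the elementary subgroup fixes its point only. -/
theorem eSub_unique {a : Ω} {g : G} (hg : g ∈ eSub D a) (h1 : g ≠ 1) {y : Ω} (hy : g • y = y) : y = a :=
  hA.crit.unique g ((hA.mem_eSub.1 hg).resolve_left h1).1 y a hy (hA.eSub_smul hg)

theorem eSub_le_cenA (a : Ω) : eSub D a ≤ cenA D a :=
  fun _ hg => mem_cenA.2 ⟨hA.eSub_smul hg, fun _ hz => hA.eSub_comm hg hz⟩

omit hA in
theorem conj_dat (h : Crit D Ω) {g : G} {a : Ω} {d : G} (hd : d ∈ dat D a) : g * d * g⁻¹ ∈ dat D (g • a) :=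
  ⟨h.conj g d hd.1, by rw [mul_smul, mul_smul, inv_smul_smul, hd.2]⟩

theorem conj_eSub (g : G) {a : Ω} {z : G} (hz : z ∈ eSub D a) : g * z * g⁻¹ ∈ eSub D (g • a) := by
  rcases hA.mem_eSub.1 hz with rfl | h
  · rw [mul_one, mul_inv_cancel]; exact one_mem _
  · exact hA.mem_eSub.2 (Or.inr (conj_dat hA.crit h))

theorem conj_eSub_iff {a : Ω} {g : G} (hg : g • a = a) {z : G} : g * z * g⁻¹ ∈ eSub D a ↔ z ∈ eSub D a := by
  refine ⟨fun h => ?_, fun h => by simpa [hg] using hA.conj_eSub g h⟩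
  have := hA.conj_eSub g⁻¹ h
  rw [inv_smul_eq_iff.2 hg.symm] at this
  simpa [mul_assoc] using this

theorem conj_cenA (g : G) {a : Ω} {c : G} (hc : c ∈ cenA D a) : g * c * g⁻¹ ∈ cenA D (g • a) := by
  refine mem_cenA.2 ⟨by rw [mul_smul, mul_smul, inv_smul_smul, (mem_cenA.1 hc).1], fun z hz => ?_⟩
  have h1 := hA.conj_eSub g⁻¹ hz
  rw [inv_smul_smul] at h1
  have := ((mem_cenA.1 hc).2 _ h1).map (MulAut.conj g)
  simpa [mul_assoc] using this

theorem conj_cenA_mem {a : Ω} {g : G} (hg : g • a = a) {c : G} (hc : c ∈ cenA D a) : g * c * g⁻¹ ∈ cenA D a := by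
  simpa [hg] using hA.conj_cenA g hc

/-- Every such involution centralises the elementary subgroup at its points. -/
theorem commute_eSub {w : G} (hw : w ∈ pairBad G Ω) {a : Ω} (ha : w • a = a) {z : G} (hz : z ∈ eSub D a) :
    Commute w z := by
  obtain ⟨x, T, Q, K, K1, -, -, hT, hE, -⟩ := hA.exists_data hw ha
  obtain ⟨v, P⟩ := hw
  exact P.commute_eset hA.crit hA.below hA.gen ha hT hE P.ou P.bad ha hz

theorem mem_cenA_of_pairBad {w : G} (hw : w ∈ pairBad G Ω) {a : Ω} (ha : w • a = a) : w ∈ cenA D a :=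
  mem_cenA.2 ⟨ha, fun _ hz => hA.commute_eSub hw ha hz⟩

theorem not_mem_eSub {w : G} (hw : w ∈ pairBad G Ω) (a : Ω) : w ∉ eSub D a := fun h => by
  rcases hA.mem_eSub.1 h with h1 | h1
  · exact Invol.ne_one (hA.order_two hw) h1
  · exact hA.bad hw (hA.crit.oneFix_of_mem h1.1)

theorem cmem_of_eSub {w : G} (hw : w ∈ pairBad G Ω) {a : Ω} (ha : w • a = a) {z : G} (hz : z ∈ eSub D a)
    (h1 : z ≠ 1) : z ∈ cmem D w :=
  ⟨((hA.mem_eSub.1 hz).resolve_left h1).1, (hA.commute_eSub hw ha hz).symm⟩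

theorem eSub_le_genC {w : G} (hw : w ∈ pairBad G Ω) {a : Ω} (ha : w • a = a) : eSub D a ≤ genC D w := fun z hz => by
  by_cases h1 : z = 1
  · exact h1 ▸ one_mem _
  · exact mem_genC_of_cmem (hA.cmem_of_eSub hw ha hz h1)

theorem kerCore_eq {w : G} (hw : w ∈ pairBad G Ω) : kerCore Ω w = ⊥ := by
  obtain ⟨v, P⟩ := hw
  exact P.kerCore_fix hA.crit hA.below hA.gen (P.mem_fixInv_self hA.crit)

theorem genC_inf_fixStab {w : G} (hw : w ∈ pairBad G Ω) {g : G} (hg : g ∈ genC D w)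
    (hfix : ∀ z : Ω, w • z = z → g • z = z) : g = 1 := by
  obtain ⟨p, hp⟩ : ∃ p : Ω, w • p = p := by
    have hb := hA.bad hw
    unfold OneFix at hb
    push Not at hb
    exact ⟨_, hb.choose_spec.choose_spec.1⟩
  obtain ⟨x, T, Q, K, K1, -, -, -, -, hL⟩ := hA.exists_data hw hp
  have := hL.kernel_fix hg hfix
  rwa [hA.kerCore_eq hw, mem_bot] at this

theorem eq_of_act {w : G} (hw : w ∈ pairBad G Ω) {g g' : G} (hg : g ∈ genC D w) (hg' : g' ∈ genC D w)
    (hact : ∀ z : Ω, w • z = z → g • z = g' • z) : g = g' :=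
  (inv_mul_eq_one.1 (hA.genC_inf_fixStab hw (mul_mem (inv_mem hg') hg)
    (fun z hz => by rw [mul_smul, hact z hz, inv_smul_smul]))).symm

/-- The elements generated by members commuting with `w` centralise its pointwise stabiliser. -/
theorem commute_genC {w : G} (hw : w ∈ pairBad G Ω) {g δ : G} (hg : g ∈ genC D w) (hδ : δ ∈ fixStab Ω w) :
    Commute g δ := by
  obtain ⟨v, P⟩ := hw
  have hle : genC D w ≤ Subgroup.centralizer ({δ} : Set G) := (closure_le _).2 fun d hd =>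
    mem_centralizer_singleton_iff.2
      (P.commute_fixStab hA.crit hA.below hA.gen (P.mem_fixInv_self hA.crit) hd hδ).symm.eq
  exact mem_centralizer_singleton_iff.1 (hle hg)

theorem card_genC {w : G} (hw : w ∈ pairBad G Ω) :
    Nat.card (genC D w) = (2 ^ (e * r) + 1) * 2 ^ (e * r) * (2 ^ r - 1) := by
  obtain ⟨p, hp⟩ : ∃ p : Ω, w • p = p := by
    have hb := hA.bad hw
    unfold OneFix at hb
    push Not at hb
    exact ⟨_, hb.choose_spec.choose_spec.1⟩
  obtain ⟨x, T, Q, K, K1, -, -, -, -, hL⟩ := hA.exists_data hw hp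
  have hbot : fixStab Ω w ⊓ genC D w = ⊥ := (eq_bot_iff_forall _).2 fun g hg =>
    hA.genC_inf_fixStab hw hg.2 hg.1
  rw [← hL.gen_card hA.e_ne, ← inf_relIndex_right, hbot, relIndex_bot_left]

/-- The member acting as `w` at a moved point. -/
theorem exists_sign {w : G} (hw : w ∈ pairBad G Ω) {y : Ω} (hy : w • y ≠ y) : ∃ d ∈ cmem D w, d • y = w • y := by
  obtain ⟨v, P⟩ := hw
  obtain ⟨d, hd⟩ := Set.ncard_eq_one.1 (P.card_csig hA.crit hA.below hA.gen hy)
  have hd' : d ∈ csig D w y := hd ▸ Set.mem_singleton d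
  exact ⟨d, hd'.1, hd'.2⟩

theorem sign_unique {w : G} (hw : w ∈ pairBad G Ω) {y : Ω} (hy : w • y ≠ y) {d d' : G} (hd : d ∈ cmem D w)
    (hdy : d • y = w • y) (hd' : d' ∈ cmem D w) (hd'y : d' • y = w • y) : d = d' := by
  obtain ⟨v, P⟩ := hw
  exact Set.ncard_le_one_iff (Set.toFinite _) |>.1 (P.card_csig hA.crit hA.below hA.gen hy).le ⟨hd, hdy⟩ ⟨hd', hd'y⟩

/-- The elements of `T ∩ L` are those of `L` fixing `a` and centralising the elementary subgroup. -/
theorem Q_eq_qSub {w : G} (hw : w ∈ pairBad G Ω) {a x : Ω} {T Q K K1 : Subgroup G} (hT : T ≤ ptC w a)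
    (hL : Local D w a x T (eSub D a) Q K K1 r e) : Q = qSub D a w := by
  refine le_antisymm (fun y hy => mem_qSub.2 ⟨mem_cenA.2 ⟨(mem_ptC.1 (hT (hL.Q_le hy))).2,
    fun z hz => (hL.cen z hz y hy).symm⟩, hL.Q_gen hy⟩) fun g hg => ?_
  obtain ⟨h1, h2⟩ := mem_qSub.1 hg
  obtain ⟨hga, hgc⟩ := mem_cenA.1 h1
  obtain ⟨y, hy, hact⟩ := hL.cent hA.e_ne g (mem_ptC.2 ⟨commute_of_genC h2, hga⟩) hgc
  exact (hA.eq_of_act hw h2 (hL.Q_gen hy) hact) ▸ hy

theorem card_qSub {w : G} (hw : w ∈ pairBad G Ω) {a : Ω} (ha : w • a = a) :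
    Nat.card (qSub D a w) = 2 ^ (e * r) := by
  obtain ⟨x, T, Q, K, K1, -, -, hT, -, hL⟩ := hA.exists_data hw ha
  rw [← hA.Q_eq_qSub hw hT hL, hL.card_Q]

theorem qSub_sq {w : G} (hw : w ∈ pairBad G Ω) {a : Ω} (ha : w • a = a) {y : G} (hy : y ∈ qSub D a w) :
    y * y ∈ eSub D a := by
  obtain ⟨x, T, Q, K, K1, -, -, hT, -, hL⟩ := hA.exists_data hw ha
  exact hL.sq y ((hA.Q_eq_qSub hw hT hL).symm ▸ hy)

theorem qSub_comm {w : G} (hw : w ∈ pairBad G Ω) {a : Ω} (ha : w • a = a) {y z : G} (hy : y ∈ qSub D a w)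
    (hz : z ∈ qSub D a w) : y * z * y⁻¹ * z⁻¹ ∈ eSub D a := by
  obtain ⟨x, T, Q, K, K1, -, -, hT, -, hL⟩ := hA.exists_data hw ha
  exact hL.comm y ((hA.Q_eq_qSub hw hT hL).symm ▸ hy) z ((hA.Q_eq_qSub hw hT hL).symm ▸ hz)

theorem qSub_invol {w : G} (hw : w ∈ pairBad G Ω) {a : Ω} (ha : w • a = a) {y : G} (hy : y ∈ qSub D a w)
    (h2 : y * y = 1) : y ∈ eSub D a := by
  obtain ⟨x, T, Q, K, K1, -, -, hT, -, hL⟩ := hA.exists_data hw ha
  exact hL.mem_eset y ((hA.Q_eq_qSub hw hT hL).symm ▸ hy) h2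

theorem eSub_le_qSub {w : G} (hw : w ∈ pairBad G Ω) {a : Ω} (ha : w • a = a) : eSub D a ≤ qSub D a w :=
  fun _ hz => mem_qSub.2 ⟨hA.eSub_le_cenA a hz, hA.eSub_le_genC hw ha hz⟩

/-- An element of `L` fixing a moved point is trivial. -/
theorem eq_one_of_fix_moved {w : G} (hw : w ∈ pairBad G Ω) {y : Ω} (hy : w • y ≠ y) {g : G} (hg : g ∈ genC D w)
    (hgy : g • y = y) : g = 1 := by
  obtain ⟨d, hd, hdy⟩ := hA.exists_sign hw hy
  have hgw := commute_of_genC hg
  have hgd : g * d * g⁻¹ = d := by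
    refine hA.sign_unique hw hy ⟨hA.crit.conj g d hd.1, (hgw.mul_left hd.2).mul_left hgw.inv_left⟩ ?_ hd hdy
    rw [mul_smul, mul_smul, inv_smul_eq_iff.2 hgy.symm, hdy, ← mul_smul, hgw.eq, mul_smul, hgy]
  have hcgd : Commute g d := mul_inv_eq_iff_eq_mul.1 hgd
  haveI : Nonempty Ω := ⟨y⟩
  obtain ⟨c, hc⟩ := hA.crit.exists_fix (hA.crit.invol d hd.1) (Ω := Ω)
  have hwc := hA.crit.fix_of_cmem hd hc
  have hgc : g • c = c := hA.crit.unique d hd.1 _ _ (by rw [← mul_smul, ← hcgd.eq, mul_smul, hc]) hc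
  have hde : d ∈ eSub D c := hA.dat_subset_eSub c ⟨hd.1, hc⟩
  obtain ⟨x, T, Q, K, K1, -, -, hT, -, hL⟩ := hA.exists_data hw hwc
  obtain ⟨z, hz, hact⟩ := hL.inner hA.e_ne g hg hgc d hde (Invol.ne_one (hA.crit.invol d hd.1)) hcgd
  have hgz : g = z := hA.eq_of_act hw hg (hL.Q_gen hz) hact
  have hzy : z • y = y := hgz ▸ hgy
  have hyc : y ≠ c := fun e' => hy (e' ▸ hwc)
  have h2 : z * z = 1 := by
    by_contra h2
    exact hyc (hA.eSub_unique (hL.sq z hz) h2 (by rw [mul_smul, hzy, hzy]))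
  rw [hgz]
  by_contra h3
  exact hyc (hA.eSub_unique (hL.mem_eset z hz h2) h3 hzy)

theorem card_moved {w : G} (hw : w ∈ pairBad G Ω) :
    (fixSet Ω w)ᶜ.ncard = (2 ^ (e * r) + 1) * 2 ^ (e * r) * (2 ^ r - 1) := by
  obtain ⟨v, P⟩ := hw
  obtain ⟨y, hy⟩ := P.exists_moved hA.crit
  obtain ⟨p, hp⟩ : ∃ p : Ω, w • p = p := by
    have hb := P.bad
    unfold OneFix at hb
    push Not at hb
    exact ⟨_, hb.choose_spec.choose_spec.1⟩
  obtain ⟨x, T, Q, K, K1, -, -, hT, hE, hL⟩ := hA.exists_data ⟨v, P⟩ hp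
  obtain ⟨h1, h2⟩ := P.card_csig_of_fix hA.crit hA.below hA.gen hp hT hE P.ou P.bad hp hy
  have := hA.crit.card_moved_eq hA.below hA.gen P.ou P.bad hp hy
  rw [h2, mul_one, h1, hL.card_fix, hL.card_eset] at this
  rw [this, Nat.add_sub_cancel]
  ring

/-- `L` is transitive on the moved points. -/
theorem exists_genC_smul {w : G} (hw : w ∈ pairBad G Ω) {y z : Ω} (hy : w • y ≠ y) (hz : w • z ≠ z) :
    ∃ g ∈ genC D w, g • y = z := by
  classical
  have hsub : (fun g : genC D w => (g : G) • y) '' Set.univ ⊆ (fixSet Ω w)ᶜ := by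
    rintro _ ⟨g, -, rfl⟩ (hfix : w • (g : G) • y = (g : G) • y)
    rw [← mul_smul, ← (commute_of_genC g.2).eq, mul_smul] at hfix
    exact hy (MulAction.injective (g : G) hfix)
  have hinj : Function.Injective fun g : genC D w => (g : G) • y := fun g g' e' => by
    have h1 := hA.eq_one_of_fix_moved hw hy (mul_mem (inv_mem g'.2) g.2)
      (by rw [mul_smul]; exact inv_smul_eq_iff.2 e')
    exact Subtype.ext (inv_mul_eq_one.1 h1).symm
  have heq := Set.eq_of_subset_of_ncard_le hsub (by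
    rw [Set.ncard_image_of_injective _ hinj, Set.ncard_univ, hA.card_genC hw, hA.card_moved hw]) (Set.toFinite _)
  have hz' : z ∈ (fixSet Ω w)ᶜ := hz
  rw [← heq] at hz'
  obtain ⟨g, -, hg⟩ := hz'
  exact ⟨g, g.2, hg⟩

/-- An element of the pointwise stabiliser fixing a moved point is trivial. -/
theorem eq_one_of_fixStab {w : G} (hw : w ∈ pairBad G Ω) {y : Ω} (hy : w • y ≠ y) {δ : G} (hδ : δ ∈ fixStab Ω w)
    (hδy : δ • y = y) : δ = 1 := by
  refine FaithfulSMul.eq_of_smul_eq_smul (α := Ω) fun z => ?_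
  rw [one_smul]
  by_cases hz : w • z = z
  · exact hδ z hz
  · obtain ⟨g, hg, rfl⟩ := hA.exists_genC_smul hw hy hz
    rw [← mul_smul, ← (hA.commute_genC hw hg hδ).eq, mul_smul, hδy]

theorem commute_pairBad_eSub_fix {w : G} (hw : w ∈ pairBad G Ω) {a : Ω} (ha : w • a = a) {c : G}
    (hc : c ∈ eSub D a) {z : Ω} (hz : w • z = z) : w • c • z = c • z := by
  rw [← mul_smul, (hA.commute_eSub hw ha hc).eq, mul_smul, hz]

/-- Two of these involutions sharing two fixed points have one fixed point set. -/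
theorem line_eq {w w' : G} (hw : w ∈ pairBad G Ω) (hw' : w' ∈ pairBad G Ω) {a x : Ω} (ha : w • a = a)
    (hx : w • x = x) (hax : a ≠ x) (ha' : w' • a = a) (hx' : w' • x = x) : fixSet Ω w = fixSet Ω w' := by
  suffices key : ∀ {w w' : G}, w ∈ pairBad G Ω → w' ∈ pairBad G Ω → w • a = a → w • x = x → w' • a = a →
      w' • x = x → fixSet Ω w ⊆ fixSet Ω w' from
    Set.Subset.antisymm (key hw hw' ha hx ha' hx') (key hw' hw ha' hx' ha hx)
  intro w w' hw hw' ha hx ha' hx' z hz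
  obtain ⟨T, Q, K, K1, hT, -, hL⟩ := hA.data w hw a x ha hx hax
  obtain ⟨T', Q', K', K1', hT', hE', -⟩ := hA.data w hw x a hx ha (Ne.symm hax)
  obtain ⟨g, hg, rfl⟩ := hL.span hA.e_ne T' (eSub D x) hT' hE' z hz
  have hle : closure ((eSub D a : Set G) ∪ (eSub D x : Set G)) ≤ Subgroup.centralizer ({w'} : Set G) :=
    (closure_le _).2 fun c hc => mem_centralizer_singleton_iff.2 (by
      rcases hc with hc | hc
      · exact ((hA.commute_eSub hw' ha' hc).symm).eq
      · exact ((hA.commute_eSub hw' hx' hc).symm).eq)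
  show w' • g • a = g • a
  rw [← mul_smul, ← mem_centralizer_singleton_iff.1 (hle hg), mul_smul, ha']

/-- Involutions of this kind with one fixed point set have the same members. -/
theorem cmem_eq {w w' : G} (hw : w ∈ pairBad G Ω) (hw' : w' ∈ pairBad G Ω) (hF : fixSet Ω w = fixSet Ω w') :
    cmem D w = cmem D w' := by
  suffices key : ∀ {w w' : G}, w ∈ pairBad G Ω → w' ∈ pairBad G Ω → fixSet Ω w = fixSet Ω w' →
      cmem D w ⊆ cmem D w' from Set.Subset.antisymm (key hw hw' hF) (key hw' hw hF.symm)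
  intro w w' hw hw' hF d hd
  exact ⟨hd.1, hA.commute_genC hw (mem_genC_of_cmem hd) (fun z hz => by
    have : z ∈ fixSet Ω w := hz
    rw [hF] at this
    exact this)⟩

theorem genC_eq {w w' : G} (hw : w ∈ pairBad G Ω) (hw' : w' ∈ pairBad G Ω) (hF : fixSet Ω w = fixSet Ω w') :
    genC D w = genC D w' := congrArg Subgroup.closure (hA.cmem_eq hw hw' hF)

theorem qSub_eq {w w' : G} (hw : w ∈ pairBad G Ω) (hw' : w' ∈ pairBad G Ω) (hF : fixSet Ω w = fixSet Ω w')
    (a : Ω) : qSub D a w = qSub D a w' := by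
  rw [qSub, qSub, hA.genC_eq hw hw' hF]

end CaseA

end Cfsg.Agent.GoodInvol
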