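import Cfsg.Agent.Lib.GoodInvol.FourEq
import Cfsg.Agent.Lib.GoodInvol.Kernel

/-!
# Two commuting involutions with one fixed set: the pointwise stabiliser

The odd core of the pointwise stabiliser of the common fixed set is trivial, so the members commuting with such an
involution centralise that stabiliser; the involutions of it commuting with one of them commute pairwise, and there
are fewer of them than elements of the elementary subgroup.
-/

set_option autoImplicit false
set_option linter.style.haveILetI false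
set_option linter.unusedSectionVars false

namespace Cfsg.Agent.GoodInvol

open Subgroup MulAction

universe u v

/-- An involution commuting only with the identity of an odd subgroup it normalises inverts all its elements. -/
theorem inv_of_free {G : Type u} [Group G] [Finite G] {X : Subgroup G} (hX : Odd (Nat.card X)) {t : G}
    (ht : t * t = 1) (hn : ∀ x ∈ X, t * x * t⁻¹ ∈ X) (hfree : ∀ x ∈ X, Commute x t → x = 1) {x : G}
    (hx : x ∈ X) : t * x * t⁻¹ = x⁻¹ := by
  let f : X → X := fun y => ⟨(y : G)⁻¹ * (t * y * t⁻¹), mul_mem (inv_mem y.2) (hn y y.2)⟩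
  have hinj : Function.Injective f := by
    intro y z e
    have e' : (y : G)⁻¹ * (t * y * t⁻¹) = (z : G)⁻¹ * (t * z * t⁻¹) := congrArg Subtype.val e
    refine Subtype.ext (mul_inv_eq_one.1 (hfree _ (mul_mem y.2 (inv_mem z.2)) ?_))
    have h1 : t * y * t⁻¹ = (y : G) * (z : G)⁻¹ * (t * z * t⁻¹) := by
      rw [mul_assoc (y : G), ← e']; group
    show (y : G) * (z : G)⁻¹ * t = t * ((y : G) * (z : G)⁻¹)
    calc (y : G) * (z : G)⁻¹ * t = (y : G) * (z : G)⁻¹ * (t * z * t⁻¹) * (t * (z : G)⁻¹) := by group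
      _ = t * y * t⁻¹ * (t * (z : G)⁻¹) := by rw [← h1]
      _ = t * ((y : G) * (z : G)⁻¹) := by group
  obtain ⟨y, hy⟩ := (Finite.injective_iff_surjective.1 hinj) ⟨x, hx⟩
  have e : (y : G)⁻¹ * (t * y * t⁻¹) = x := congrArg Subtype.val hy
  rw [← e]
  have hti : t⁻¹ = t := inv_eq_of_mul_eq_one_right ht
  calc t * ((y : G)⁻¹ * (t * y * t⁻¹)) * t⁻¹ = t * (y : G)⁻¹ * t * y * (t⁻¹ * t⁻¹) := by group
    _ = t * (y : G)⁻¹ * t⁻¹ * y := by rw [hti, ht, mul_one]
    _ = ((y : G)⁻¹ * (t * y * t⁻¹))⁻¹ := by group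

/-- An odd subgroup on which two commuting involutions and their product have no fixed elements is trivial. -/
theorem eq_bot_of_four {G : Type u} [Group G] [Finite G] {X : Subgroup G} (hX : Odd (Nat.card X)) {s t : G}
    (hs : s * s = 1) (ht : t * t = 1) (hns : ∀ x ∈ X, s * x * s⁻¹ ∈ X) (hnt : ∀ x ∈ X, t * x * t⁻¹ ∈ X)
    (hfs : ∀ x ∈ X, Commute x s → x = 1) (hft : ∀ x ∈ X, Commute x t → x = 1)
    (hfst : ∀ x ∈ X, Commute x (s * t) → x = 1) : X = ⊥ := by
  rw [Subgroup.eq_bot_iff_forall]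
  intro x hx
  refine hfst x hx ?_
  have h2 : s * t * x * (s * t)⁻¹ = x := by
    calc s * t * x * (s * t)⁻¹ = s * (t * x * t⁻¹) * s⁻¹ := by group
      _ = x := by rw [inv_of_free hX ht hnt hft hx, inv_of_free hX hs hns hfs (inv_mem hx), inv_inv]
  exact (mul_inv_eq_iff_eq_mul.1 h2).symm

variable {G : Type u} [Group G] [Finite G] {Ω : Type u} [MulAction G Ω] [Finite Ω] [FaithfulSMul G Ω] {D : Set G}

/-- The involutions fixing the fixed points of `u`. -/
def fixInv (Ω : Type v) [MulAction G Ω] (u : G) : Set G :=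
  {g | orderOf g = 2 ∧ ∀ z : Ω, u • z = z → g • z = z}

/-- Those among them that commute with `u`. -/
def fixFour (Ω : Type v) [MulAction G Ω] (u : G) : Set G := {g ∈ fixInv Ω u | Commute g u}

namespace FourPair

variable {u v : G} (P : FourPair Ω u v) (h : Crit D Ω) (hB : Below.{u} (Nat.card G)) (hgen : closure D = ⊤)
include P h hB hgen

omit hB hgen in
theorem fix_iff {j : G} (hj : j ∈ fixInv Ω u) (z : Ω) : j • z = z ↔ u • z = z :=
  ⟨P.top j hj.1 hj.2 z, hj.2 z⟩

omit hB hgen in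
theorem bad_of_fix {j : G} (hj : j ∈ fixInv Ω u) : ¬ OneFix Ω j := fun hone =>
  P.bad fun p q hp hq => hone p q (hj.2 p hp) (hj.2 q hq)

omit hB hgen in
theorem fixStab_eq {j : G} (hj : j ∈ fixInv Ω u) : fixStab Ω j = fixStab Ω u := by
  ext g
  exact ⟨fun hg z hz => hg z ((P.fix_iff h hj z).2 hz), fun hg z hz => hg z ((P.fix_iff h hj z).1 hz)⟩

omit hB hgen in
theorem fixCore_eq {j : G} (hj : j ∈ fixInv Ω u) : fixCore Ω j = fixCore Ω u := by
  unfold fixCore
  rw [P.fixStab_eq h hj]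

omit hB hgen in
theorem mem_fixInv_self : u ∈ fixInv Ω u := ⟨P.ou, fun _ hz => hz⟩

omit hB hgen in
theorem mem_fixFour_right : v ∈ fixFour Ω u := ⟨⟨P.ov, fun z hz => (P.fix z).1 hz⟩, P.comm.symm⟩

omit hB hgen in
/-- Two commuting ones form a pair. -/
theorem pair {j k : G} (hj : j ∈ fixInv Ω u) (hk : k ∈ fixInv Ω u) (hc : Commute j k) (hne : j ≠ k) :
    FourPair Ω j k where
  ou := hj.1
  ov := hk.1
  bad := P.bad_of_fix h hj
  comm := hc
  ne := hne
  fix z := (P.fix_iff h hj z).trans (P.fix_iff h hk z).symm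
  top g hg hgF z hz := (P.fix_iff h hj z).2 (P.top g hg (fun w hw => hgF w ((P.fix_iff h hj w).2 hw)) z hz)

/-- One member acts at a moved point as such an involution. -/
theorem card_csig_fix {j : G} (hj : j ∈ fixInv Ω u) {x : Ω} (hx : u • x ≠ x) : (csig D j x).ncard = 1 := by
  haveI : Nonempty Ω := ⟨x⟩
  obtain ⟨a, ha⟩ := h.exists_fix P.ou (Ω := Ω)
  haveI : Fact (Nat.Prime 2) := ⟨Nat.prime_two⟩
  obtain ⟨T⟩ : Nonempty (Sylow 2 (ptC u a)) := inferInstance
  obtain ⟨E, hE⟩ := h.exists_eset hB hgen P.ou P.bad ha T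
  exact (P.card_csig_of_fix h hB hgen ha (map_subtype_le _) hE hj.1 (P.bad_of_fix h hj) (hj.2 a ha)
    (fun e => hx ((P.fix_iff h hj x).1 e))).2

theorem kerCore_fix {j : G} (hj : j ∈ fixInv Ω u) : kerCore Ω j = ⊥ := by
  refine h.kerCore_eq_bot fun x hx => ?_
  have hx' : u • x ≠ x := fun e => hx (hj.2 x e)
  obtain ⟨d, hd⟩ := Set.ncard_eq_one.1 (P.card_csig_fix h hB hgen hj hx')
  have hd' : d ∈ csig D j x := hd ▸ Set.mem_singleton d
  refine h.iota_eq_one hB hgen hj.1 (P.bad_of_fix h hj) hx hd'.1 ?_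
  obtain ⟨kx, -, h2, hk, -⟩ := h.exists_centre_count hB hgen hj.1 (P.bad_of_fix h hj) hx hd'.1
  rw [P.card_csig_fix h hB hgen hj hx'] at h2
  exact Nat.eq_one_of_mul_eq_one_right h2.symm

/-- The odd core of the pointwise stabiliser is trivial. -/
theorem fixCore_eq_bot : fixCore Ω u = ⊥ := by
  haveI : Fact (Nat.Prime 2) := ⟨Nat.prime_two⟩
  have huv : u * v ∈ fixInv Ω u := by
    refine ⟨Invol.order_two_of_sq ?_ fun e => P.ne ?_, fun z hz => ?_⟩
    · rw [mul_assoc, ← mul_assoc v, ← P.comm.eq, mul_assoc u v v, Invol.mul_self P.ov, mul_one,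
        Invol.mul_self P.ou]
    · rw [eq_inv_of_mul_eq_one_left e, Invol.inv_self P.ov]
    · rw [mul_smul, (P.fix z).1 hz, hz]
  have hfree : ∀ j ∈ fixInv Ω u, ∀ x ∈ fixCore Ω u, Commute x j → x = 1 := fun j hj x hx hc => by
    have h1 : x ∈ kerCore Ω j := mem_kerCore.2 ⟨(P.fixCore_eq h hj).symm ▸ hx, hc⟩
    rwa [P.kerCore_fix h hB hgen hj, mem_bot] at h1
  have hn : ∀ j ∈ fixInv Ω u, ∀ x ∈ fixCore Ω u, j * x * j⁻¹ ∈ fixCore Ω u := fun j hj x hx =>
    fixCore_conj_fixStab (fun z hz => hj.2 z hz) hx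
  exact eq_bot_of_four (odd_fixCore u) (Invol.mul_self P.ou) (Invol.mul_self P.ov)
    (hn u (P.mem_fixInv_self h)) (hn v (P.mem_fixFour_right h).1)
    (hfree u (P.mem_fixInv_self h)) (hfree v (P.mem_fixFour_right h).1) (hfree _ huv)

/-- A member commuting with such an involution centralises the pointwise stabiliser. -/
theorem commute_fixStab {j : G} (hj : j ∈ fixInv Ω u) {d : G} (hd : d ∈ cmem D j) {g : G}
    (hg : g ∈ fixStab Ω u) : Commute g d := by
  have h1 := h.commutator_mem_fixCore (P.bad_of_fix h hj) hd.1 hd.2 ((P.fixStab_eq h hj).symm ▸ hg)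
  rw [P.fixCore_eq h hj, P.fixCore_eq_bot h hB hgen, mem_bot] at h1
  exact mul_inv_eq_iff_eq_mul.1 (mul_inv_eq_one.1 h1)

/-- The member acting as `j` at a moved point has the centre of the one acting as `u`. -/
theorem exists_centre {x : Ω} (hx : u • x ≠ x) :
    ∃ c : Ω, u • c = c ∧ ∀ j ∈ fixFour Ω u, ∀ d ∈ csig D j x, d • c = c := by
  haveI : Nonempty Ω := ⟨x⟩
  obtain ⟨e, he⟩ := Set.ncard_eq_one.1 (P.card_csig_fix h hB hgen (P.mem_fixInv_self h) hx)
  have he' : e ∈ csig D u x := he ▸ Set.mem_singleton e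
  obtain ⟨c, hc⟩ := h.exists_fix (h.invol e he'.1.1) (Ω := Ω)
  refine ⟨c, h.fix_of_cmem he'.1 hc, fun j hj d hd => ?_⟩
  obtain ⟨p, hp⟩ := h.exists_fix (h.invol d hd.1.1) (Ω := Ω)
  by_cases hju : u = j
  · subst hju
    rw [he, Set.mem_singleton_iff] at hd
    exact hd ▸ hc
  · rw [(P.pair h (P.mem_fixInv_self h) hj.1 hj.2.symm hju).same_centre h hx he' hd hc hp]
    exact hp

/-- Members at one fixed point commute. -/
theorem commute_dat {c : Ω} (hc : u • c = c) {d e : G} (hd : d ∈ dat D c) (he : e ∈ dat D c) : Commute d e := by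
  haveI : Fact (Nat.Prime 2) := ⟨Nat.prime_two⟩
  obtain ⟨T⟩ : Nonempty (Sylow 2 (ptC u c)) := inferInstance
  obtain ⟨E, hE⟩ := h.exists_eset hB hgen P.ou P.bad hc T
  rw [P.dat_eq h hB hgen hc (map_subtype_le _) hE] at hd he
  exact hE.comm d hd.1 e he.1

/-- The involutions fixing the fixed points and commuting with `u` commute. -/
theorem commute_fixFour {j k : G} (hj : j ∈ fixFour Ω u) (hk : k ∈ fixFour Ω u) : Commute j k := by
  have hjk : j * k = k * j := by
    refine FaithfulSMul.eq_of_smul_eq_smul (α := Ω) fun x => ?_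
    by_cases hx : u • x = x
    · simp only [mul_smul, hj.1.2 x hx, hk.1.2 x hx]
    obtain ⟨c, hc, hcd⟩ := P.exists_centre h hB hgen hx
    obtain ⟨d, hd⟩ := Set.ncard_eq_one.1 (P.card_csig_fix h hB hgen hj.1 hx)
    obtain ⟨e, he⟩ := Set.ncard_eq_one.1 (P.card_csig_fix h hB hgen hk.1 hx)
    have hd' : d ∈ csig D j x := hd ▸ Set.mem_singleton d
    have he' : e ∈ csig D k x := he ▸ Set.mem_singleton e
    have hde := P.commute_dat h hB hgen hc (d := d) (e := e) ⟨hd'.1.1, hcd j hj d hd'⟩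
      ⟨he'.1.1, hcd k hk e he'⟩
    have hkd : Commute k d := P.commute_fixStab h hB hgen hj.1 hd'.1 (fun z hz => hk.1.2 z hz)
    have hje : Commute j e := P.commute_fixStab h hB hgen hk.1 he'.1 (fun z hz => hj.1.2 z hz)
    calc (j * k) • x = (j * e) • x := by rw [mul_smul, mul_smul, he'.2]
      _ = e • d • x := by rw [hje.eq, mul_smul, hd'.2]
      _ = (d * e) • x := by rw [← mul_smul, hde.symm.eq]
      _ = d • k • x := by rw [mul_smul, he'.2]
      _ = (k * j) • x := by rw [← mul_smul, ← hkd.eq, mul_smul, mul_smul, hd'.2]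
  exact hjk

/-- There are fewer of them than elements of the elementary subgroup. -/
theorem card_fixFour_le {a : Ω} (ha : u • a = a) {T E : Subgroup G} (hT : T ≤ ptC u a) (hE : ESet D u a T E) :
    (fixFour Ω u).ncard ≤ Nat.card E - 1 := by
  classical
  obtain ⟨x, hx⟩ := P.exists_moved h
  obtain ⟨c, hc, hcd⟩ := P.exists_centre h hB hgen hx
  have hex : ∀ j ∈ fixFour Ω u, ∃ d, d ∈ csig D j x := fun j hj =>
    Set.nonempty_of_ncard_ne_zero (by rw [P.card_csig_fix h hB hgen hj.1 hx]; exact one_ne_zero)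
  choose! d hd using hex
  have hle : (fixFour Ω u).ncard ≤ (dat D c).ncard := by
    refine Set.ncard_le_ncard_of_injOn d (fun j hj => ⟨(hd j hj).1.1, hcd j hj _ (hd j hj)⟩)
      (fun j hj k hk e => ?_) (Set.toFinite _)
    by_contra hne
    have hxx : j • x = k • x := by rw [← (hd j hj).2, ← (hd k hk).2, e]
    have hjk := P.commute_fixFour h hB hgen hj hk
    refine hx (P.top (j * k) (Invol.order_two_of_sq ?_ fun e1 => hne ?_) (fun z hz => ?_) x ?_)
    · rw [mul_assoc, ← mul_assoc k, ← hjk.eq, mul_assoc j k k, Invol.mul_self hk.1.1, mul_one,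
        Invol.mul_self hj.1.1]
    · rw [eq_inv_of_mul_eq_one_left e1, Invol.inv_self hk.1.1]
    · rw [mul_smul, hk.1.2 z hz, hj.1.2 z hz]
    · rw [hjk.eq, mul_smul, hxx, ← mul_smul, Invol.mul_self hk.1.1, one_smul]
  refine hle.trans (le_of_eq ?_)
  rw [h.card_dat c a, P.dat_eq h hB hgen ha hT hE, Set.ncard_sdiff_singleton_of_mem (one_mem E),
    ← Nat.card_coe_set_eq]
  rfl

end FourPair

end Cfsg.Agent.GoodInvol
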