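import Cfsg.Agent.Lib.Fischer.SrgSquare

/-!
# Generalised quadrangles

The multiplicity condition: for a quadrangle with `s + 1` points on a line and `t + 1` lines on a point, `s + t`
divides `s * t * (s + 1) * (t + 1)`.
-/

set_option autoImplicit false
set_option linter.unusedSectionVars false

namespace Cfsg.Agent.GoodInvol

open Matrix

universe u

/-- A generalised quadrangle as a set of lines. -/
structure Quad {P : Type u} (s t : ℕ) (lines : Set (Set P)) : Prop where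
  card_line : ∀ l ∈ lines, l.ncard = s + 1
  card_pencil : ∀ p : P, {l | l ∈ lines ∧ p ∈ l}.ncard = t + 1
  inter : ∀ p r : P, p ≠ r → ∀ l ∈ lines, ∀ m ∈ lines, p ∈ l → r ∈ l → p ∈ m → r ∈ m → l = m
  proj : ∀ p : P, ∀ l ∈ lines, p ∉ l → ∃! r, r ∈ l ∧ ∃ m ∈ lines, p ∈ m ∧ r ∈ m

variable {P : Type u} {s t : ℕ} {lines : Set (Set P)}

namespace Quad

variable (Q : Quad s t lines)

open Classical in
/-- The number of lines on two points, as a matrix. -/
noncomputable def joins (_Q : Quad s t lines) : Matrix P P ℝ :=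
  Matrix.of fun p r => (({l | l ∈ lines ∧ p ∈ l ∧ r ∈ l}.ncard : ℕ) : ℝ)

include Q

theorem sum_line [Fintype P] [DecidableEq P] {l : Set P} (hl : l ∈ lines) (r : P) [DecidablePred (· ∈ l)] :
    ∑ p ∈ Finset.univ.filter (· ∈ l), {m | m ∈ lines ∧ p ∈ m ∧ r ∈ m}.ncard =
      if r ∈ l then t + 1 + s else 1 := by
  by_cases hr : r ∈ l
  · rw [if_pos hr, ← Finset.add_sum_erase _ _ (show r ∈ Finset.univ.filter (· ∈ l) by simpa using hr)]
    congr 1
    · rw [← Q.card_pencil r]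
      congr 1
      ext m
      simp
    · have h1 : ∀ p ∈ (Finset.univ.filter (· ∈ l)).erase r, {m | m ∈ lines ∧ p ∈ m ∧ r ∈ m}.ncard = 1 := by
        intro p hp
        obtain ⟨hpr, hpl⟩ := Finset.mem_erase.1 hp
        have hpl : p ∈ l := (Finset.mem_filter.1 hpl).2
        rw [Set.ncard_eq_one]
        exact ⟨l, Set.eq_singleton_iff_unique_mem.2 ⟨⟨hl, hpl, hr⟩, fun m hm =>
          Q.inter p r hpr m hm.1 l hl hm.2.1 hm.2.2 hpl hr⟩⟩
      rw [Finset.sum_congr rfl h1, Finset.sum_const, smul_eq_mul, mul_one,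
        Finset.card_erase_of_mem (by simpa using hr), ← Set.ncard_coe_finset]
      rw [show ((Finset.univ.filter (· ∈ l) : Finset P) : Set P) = l by ext; simp, Q.card_line l hl]
      omega
  · rw [if_neg hr]
    obtain ⟨p0, ⟨hp0, m0, hm0, hrm, hpm⟩, huniq⟩ := Q.proj r l hl hr
    rw [Finset.sum_eq_single p0]
    · rw [Set.ncard_eq_one]
      exact ⟨m0, Set.eq_singleton_iff_unique_mem.2 ⟨⟨hm0, hpm, hrm⟩, fun m hm =>
        Q.inter p0 r (fun e => hr (e ▸ hp0)) m hm.1 m0 hm0 hm.2.1 hm.2.2 hpm hrm⟩⟩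
    · intro p hp hne
      rw [Set.ncard_eq_zero (Set.toFinite _), Set.eq_empty_iff_forall_notMem]
      rintro m ⟨hm, hpm', hrm'⟩
      exact hne (huniq p ⟨(Finset.mem_filter.1 hp).2, m, hm, hrm', hpm'⟩)
    · intro h0
      exact absurd (by simpa using hp0) h0

theorem joins_self (p : P) : Q.joins p p = (t : ℝ) + 1 := by
  have : {l | l ∈ lines ∧ p ∈ l ∧ p ∈ l} = {l | l ∈ lines ∧ p ∈ l} := by ext; simp
  show (({l | l ∈ lines ∧ p ∈ l ∧ p ∈ l}.ncard : ℕ) : ℝ) = _
  rw [this, Q.card_pencil p]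
  push_cast; rfl

theorem joins_row [Fintype P] [DecidableEq P] (p : P) :
    ∑ r, Q.joins p r = ((t : ℝ) + 1) * ((s : ℝ) + 1) := by
  classical
  set S := Finset.univ.filter fun l : Set P => l ∈ lines ∧ p ∈ l
  have hS : S.card = t + 1 := by
    rw [← Q.card_pencil p, ← Set.ncard_coe_finset]; congr 1; ext; simp [S]
  have h : ∑ r, {l | l ∈ lines ∧ p ∈ l ∧ r ∈ l}.ncard = (t + 1) * (s + 1) := by
    have hr : ∀ r, {l | l ∈ lines ∧ p ∈ l ∧ r ∈ l}.ncard = ∑ l ∈ S, if r ∈ l then 1 else 0 := fun r => by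
      rw [Finset.sum_boole, Nat.cast_id, ← Set.ncard_coe_finset]
      congr 1; ext; simp [S, and_assoc]
    rw [Finset.sum_congr rfl fun r _ => hr r, Finset.sum_comm, Finset.sum_congr rfl (g := fun _ => s + 1)
      fun l hl => ?_, Finset.sum_const, hS, smul_eq_mul]
    rw [Finset.sum_boole, Nat.cast_id, ← Q.card_line l (Finset.mem_filter.1 hl).2.1, ← Set.ncard_coe_finset]
    congr 1; ext; simp
  show ∑ r, (({l | l ∈ lines ∧ p ∈ l ∧ r ∈ l}.ncard : ℕ) : ℝ) = _
  rw [← Nat.cast_sum, h]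
  push_cast; ring

theorem joins_sq [Fintype P] [DecidableEq P] (p r : P) :
    (Q.joins * Q.joins) p r = ((t : ℝ) + 1) + ((s : ℝ) + t) * Q.joins p r := by
  classical
  set S := Finset.univ.filter fun l : Set P => l ∈ lines ∧ p ∈ l
  have hS : S.card = t + 1 := by
    rw [← Q.card_pencil p, ← Set.ncard_coe_finset]; congr 1; ext; simp [S]
  have hr : ∀ a, {l | l ∈ lines ∧ p ∈ l ∧ a ∈ l}.ncard = ∑ l ∈ S, if a ∈ l then 1 else 0 := fun a => by
    rw [Finset.sum_boole, Nat.cast_id, ← Set.ncard_coe_finset]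
    congr 1; ext; simp [S, and_assoc]
  have h : ∑ a, {l | l ∈ lines ∧ p ∈ l ∧ a ∈ l}.ncard * {m | m ∈ lines ∧ a ∈ m ∧ r ∈ m}.ncard =
      (t + 1) + (s + t) * {l | l ∈ lines ∧ p ∈ l ∧ r ∈ l}.ncard := by
    simp only [hr, Finset.sum_mul, ite_mul, one_mul, zero_mul]
    rw [Finset.sum_comm, Finset.sum_congr rfl (g := fun l => 1 + (s + t) * if r ∈ l then 1 else 0) fun l hl => ?_,
      Finset.sum_add_distrib, Finset.sum_const, hS, smul_eq_mul, mul_one, Finset.mul_sum]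
    rw [← Finset.sum_filter, Q.sum_line (Finset.mem_filter.1 hl).2.1 r]
    split_ifs <;> omega
  show ∑ a, (({l | l ∈ lines ∧ p ∈ l ∧ a ∈ l}.ncard : ℕ) : ℝ) * (({m | m ∈ lines ∧ a ∈ m ∧ r ∈ m}.ncard : ℕ) : ℝ) = _
  simp only [← Nat.cast_mul, ← Nat.cast_sum, h]
  show _ = _ + _ * (({l | l ∈ lines ∧ p ∈ l ∧ r ∈ l}.ncard : ℕ) : ℝ)
  push_cast; ring

theorem joins_symm (p r : P) : Q.joins p r = Q.joins r p := by
  show (({l | l ∈ lines ∧ p ∈ l ∧ r ∈ l}.ncard : ℕ) : ℝ) = (({l | l ∈ lines ∧ r ∈ l ∧ p ∈ l}.ncard : ℕ) : ℝ)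
  congr 2; ext; simp [and_comm]

/-- The multiplicity condition. -/
theorem dvd [Finite P] [Nonempty P] (hs : 1 ≤ s) : (s + t) ∣ s * t * (s + 1) * (t + 1) := by
  classical
  haveI : Fintype P := Fintype.ofFinite P
  set B := Q.joins
  set J : Matrix P P ℝ := Matrix.of fun _ _ => 1 with hJ
  set k : ℝ := ((t : ℝ) + 1) * ((s : ℝ) + 1) with hk
  set c : ℝ := (s : ℝ) + t with hc
  set n : ℝ := (Fintype.card P : ℝ) with hn
  have hc0 : c ≠ 0 := by
    have : (1 : ℝ) ≤ (s : ℝ) := by exact_mod_cast hs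
    have : (0 : ℝ) ≤ (t : ℝ) := Nat.cast_nonneg t
    rw [hc]; linarith
  have hn0 : n ≠ 0 := by rw [hn]; exact_mod_cast Fintype.card_ne_zero
  have hBB : B * B = ((t : ℝ) + 1) • J + c • B := by
    ext p r
    rw [Q.joins_sq p r]
    simp [hJ, hc, B]
  have hBJ : B * J = k • J := by
    ext p r
    simp [hJ, Matrix.mul_apply, B, Q.joins_row p, hk]
  have hJB : J * B = k • J := by
    ext p r
    simp [hJ, Matrix.mul_apply, B, fun a => Q.joins_symm a r, Q.joins_row r, hk]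
  have hJJ : J * J = n • J := by
    ext p r
    simp [hJ, Matrix.mul_apply, hn]
  have hkey : k * k = ((t : ℝ) + 1) * n + c * k := by
    have h1 : (B * B) * J = B * (B * J) := Matrix.mul_assoc _ _ _
    rw [hBB, hBJ, Matrix.mul_smul, hBJ, Matrix.add_mul, Matrix.smul_mul, Matrix.smul_mul, hBJ, hJJ,
      smul_smul, smul_smul, smul_smul, ← add_smul] at h1
    obtain ⟨p⟩ := ‹Nonempty P›
    have := congrFun (congrFun h1 p) p
    simp [hJ] at this
    linarith
  set E : Matrix P P ℝ := c⁻¹ • (B - (k / n) • J) with hE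
  have hEE : E * E = E := by
    have hq : ((t : ℝ) + 1) - 2 * (k / n) * k + (k / n) * (k / n) * n = -(c * (k / n)) := by
      field_simp
      linear_combination -hkey
    have hin : (B - (k / n) • J) * (B - (k / n) • J) = c • (B - (k / n) • J) := by
      rw [Matrix.sub_mul, Matrix.mul_sub, Matrix.mul_sub, Matrix.mul_smul, Matrix.smul_mul, Matrix.smul_mul,
        Matrix.mul_smul, hBB, hBJ, hJB, hJJ]
      ext p r
      simp [hJ]
      linear_combination hq + (-(k ^ 2 * n⁻¹)) * (mul_inv_cancel₀ hn0)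
    rw [hE, Matrix.smul_mul, Matrix.mul_smul, hin, smul_smul, smul_smul]
    congr 1
    field_simp
  obtain ⟨m, hm⟩ := Fischer.SrgSquare.trace_idempotent hEE
  have htr : E.trace = c⁻¹ * (n * ((t : ℝ) + 1) - k) := by
    rw [hE, Matrix.trace_smul, Matrix.trace_sub, Matrix.trace_smul]
    have h1 : B.trace = n * ((t : ℝ) + 1) := by
      simp [Matrix.trace, Matrix.diag, B, Q.joins_self, hn]
      ring
    have h2 : J.trace = n := by simp [Matrix.trace, Matrix.diag, hJ, hn]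
    rw [h1, h2, smul_eq_mul, smul_eq_mul, div_mul_cancel₀ k hn0]
  have hfin : (m : ℝ) * ((s + t : ℕ) : ℝ) = ((s * t * (s + 1) * (t + 1) : ℕ) : ℝ) := by
    have hn' : n = ((s : ℝ) + 1) * ((s : ℝ) * t + 1) := by
      refine mul_left_cancel₀ (show ((t : ℝ) + 1) ≠ 0 by positivity) ?_
      rw [hk, hc] at hkey
      linear_combination -hkey
    rw [← hm, htr]
    push_cast
    rw [← hc, mul_comm, ← mul_assoc, mul_inv_cancel₀ hc0, one_mul, hn', hk]
    ring
  refine ⟨m, ?_⟩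
  rw [mul_comm (s + t)]
  exact_mod_cast hfin.symm

end Quad

/-- There is no quadrangle with these parameters. -/
theorem no_quad [Finite P] [Nonempty P] {r : ℕ} (hr : 2 ≤ r) {h : ℕ}
    (hh : h = 2 ^ r ∨ h = (2 ^ r) ^ 2 ∨ h = (2 ^ r) ^ 3) : ¬ Quad h (2 ^ r - 1) lines := by
  intro Q
  set q := 2 ^ r with hq
  have hq4 : 4 ≤ q := by
    have := Nat.pow_le_pow_right (show 0 < 2 by norm_num) hr
    simpa [hq] using this
  have hh1 : q ≤ h := by
    rcases hh with e | e | e <;> rw [e]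
    exacts [Nat.le_self_pow (by norm_num) _, Nat.le_self_pow (by norm_num) _]
  obtain ⟨b, hb⟩ : ∃ b, h = 2 ^ b := by
    rcases hh with e | e | e
    exacts [⟨r, e⟩, ⟨r * 2, by rw [e, pow_mul]⟩, ⟨r * 3, by rw [e, pow_mul]⟩]
  have hd := Q.dvd (by omega)
  rw [show q - 1 + 1 = q by omega] at hd
  have hodd : ¬ 2 ∣ h + (q - 1) := by
    have h1 : 2 ∣ q := dvd_pow_self 2 (by omega)
    have h2 : 2 ∣ h := by
      rw [hb]
      exact dvd_pow_self 2 (fun e => by rw [hb, e, pow_zero] at hh1; omega)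
    omega
  have hco2 : ∀ i, Nat.Coprime (h + (q - 1)) (2 ^ i) := fun i =>
    Nat.Coprime.pow_right i ((Nat.Prime.coprime_iff_not_dvd Nat.prime_two).2 hodd).symm
  have hd1 : h + (q - 1) ∣ (q - 1) * (h + 1) := by
    have h1 : h + (q - 1) ∣ h * ((q - 1) * (h + 1) * q) := by
      rwa [show h * ((q - 1) * (h + 1) * q) = h * (q - 1) * (h + 1) * q by ring]
    rw [hb] at h1 ⊢
    exact (hb ▸ hco2 r).dvd_of_dvd_mul_right ((hb ▸ hco2 b).dvd_of_dvd_mul_left h1)
  clear_value q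
  obtain ⟨a, rfl⟩ : ∃ a, q = a + 2 := ⟨q - 2, by omega⟩
  rw [show a + 2 - 1 = a + 1 by omega] at hd1
  have hd2 : h + (a + 1) ∣ (a + 1) * a := by
    have e : (a + 1) * (h + 1) + (a + 1) * a = (a + 1) * (h + (a + 1)) := by ring
    exact (Nat.dvd_add_right hd1).1 (e ▸ Dvd.intro_left _ rfl)
  rcases hh with e | e | e
  · rw [e] at hd2
    have h3 : a + 2 + (a + 1) ∣ 3 := by
      have h4 : a + 2 + (a + 1) ∣ 4 * ((a + 1) * a) := hd2.mul_left 4
      have key : 4 * ((a + 1) * a) + 4 * (a + 2 + (a + 1)) = (a + 2 + (a + 1)) * (a + 2 + (a + 1)) + 3 := by ring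
      exact (Nat.dvd_add_right (Dvd.intro _ rfl)).1 (key ▸ Nat.dvd_add h4 (Dvd.intro_left _ rfl))
    have := Nat.le_of_dvd (by norm_num) h3
    omega
  all_goals
    have hpos : 0 < (a + 1) * a := by
      have : 0 < a := by omega
      positivity
    have := Nat.le_of_dvd hpos hd2
    rw [e] at this
    nlinarith

end Cfsg.Agent.GoodInvol
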