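import Cfsg.Agent.Lib.GoodInvol.CaseABlocks
import Cfsg.Agent.Lib.GoodInvol.CaseAData
import Cfsg.Agent.Lib.GoodInvol.Quadrangle

/-!
# Case A: the lines would form a quadrangle

With one block at each point the fixed point sets of the involutions in pairs are the lines of a generalised quadrangle
with `h + 1` points on a line and `q` lines on a point, and there is none.
-/

set_option autoImplicit false
set_option linter.style.haveILetI false
set_option linter.unusedSectionVars false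

namespace Cfsg.Agent.GoodInvol

open Subgroup MulAction

universe u v

variable {G : Type u} [Group G] [Finite G] {Ω : Type u} [MulAction G Ω] [Finite Ω] [FaithfulSMul G Ω]

namespace CaseA

variable {D : Set G} {r e : ℕ} (hA : CaseA D Ω r e)
include hA

theorem mem_block {a : Ω} {u w : G} (hu : u ∈ pairBad G Ω) (hua : u • a = a) (hw : w ∈ pairBad G Ω)
    (hwa : w • a = a) : w ∈ aSub D a u :=
  hA.one_block (fun hu' hua' hw' hwa' hn => hA.no_partner hu' hua' hw' hwa' hn) hu hua hw hwa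

/-- The lines at a point are those of its block. -/
theorem lines_at {a : Ω} {u : G} (hu : u ∈ pairBad G Ω) (hua : u • a = a) :
    {l | l ∈ fixSet Ω '' pairBad G Ω ∧ a ∈ l} = fixSet Ω '' ((aSub D a u : Set G) \ eSub D a) := by
  ext l
  constructor
  · rintro ⟨⟨w, hw, rfl⟩, hwa⟩
    exact ⟨w, ⟨hA.mem_block hu hua hw hwa, hA.not_mem_eSub hw a⟩, rfl⟩
  · rintro ⟨w, ⟨hw, hwE⟩, rfl⟩
    exact ⟨⟨w, hA.pairBad_of_aSub hu hua hw hwE, rfl⟩, hA.aSub_smul hu hua hw⟩

/-- The lines form a quadrangle. -/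
theorem quad : Quad (2 ^ (e * r)) (2 ^ r - 1) (fixSet Ω '' pairBad G Ω) := by
  refine ⟨?_, fun p => ?_, ?_, ?_⟩
  · rintro _ ⟨w, hw, rfl⟩
    exact hA.card_fixSet hw
  · obtain ⟨u, hu, hua⟩ := hA.ex p
    rw [hA.lines_at hu hua, hA.card_lines hu hua, Nat.sub_add_cancel (Nat.one_le_two_pow)]
  · rintro p q hpq _ ⟨w, hw, rfl⟩ _ ⟨w', hw', rfl⟩ hpw hqw hpw' hqw'
    exact hA.line_eq hw hw' hpw hqw hpq hpw' hqw'
  · rintro p _ ⟨w, hw, rfl⟩ hp
    have hwp : w • p ≠ p := hp
    obtain ⟨d, hd, hdp⟩ := hA.exists_sign hw hwp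
    haveI : Nonempty Ω := ⟨p⟩
    obtain ⟨c, hc⟩ := hA.crit.exists_fix (hA.crit.invol d hd.1) (Ω := Ω)
    have hwc := hA.crit.fix_of_cmem hd hc
    have hdE : d ∈ eSub D c := hA.dat_subset_eSub c ⟨hd.1, hc⟩
    refine ⟨c, ⟨hwc, fixSet Ω (w * d), ⟨_, hA.mul_eSub_pairBad hw hwc hdE, rfl⟩, ?_, hA.mul_eSub_smul hwc hdE⟩, ?_⟩
    · show (w * d) • p = p
      rw [mul_smul, hdp, ← mul_smul, Invol.mul_self (hA.order_two hw), one_smul]
    · rintro x ⟨hwx, _, ⟨g, hg, rfl⟩, hgp, hgx⟩
      have hgA := hA.mem_block hw hwx hg hgx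
      obtain ⟨c', hc', hF⟩ := hA.exists_line hw hwx hgA (hA.not_mem_eSub hg x)
      have hp' : (w * c') • p = p := (hF ▸ hgp : p ∈ fixSet Ω (w * c'))
      have hc'1 : c' ≠ 1 := fun h => by rw [h, mul_one] at hp'; exact hwp hp'
      have hc'p : c' • p = w • p := by
        calc c' • p = w • ((w * c') • p) := by
              rw [← mul_smul, ← mul_assoc, Invol.mul_self (hA.order_two hw), one_mul]
          _ = w • p := by rw [hp']
      have hdc := hA.sign_unique hw hwp (hA.cmem_of_eSub hw hwx hc' hc'1) hc'p hd hdp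
      exact (hA.eSub_unique hc' hc'1 (hdc ▸ hc)).symm

/-- Case A does not occur. -/
theorem false [Nonempty Ω] : False := by
  refine no_quad hA.two_le ?_ hA.quad
  rcases hA.e_cases with rfl | rfl
  · exact Or.inl (by rw [one_mul])
  · exact Or.inr (Or.inl (by rw [mul_comm, pow_mul]))

end CaseA

end Cfsg.Agent.GoodInvol
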