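import Cfsg.Agent.Lib.GoodInvol.CaseAFrame

/-!
# Case A: the centraliser of a pair at a point

`rSub D a u` is the product of an elementary group of elements fixing the fixed point set of `u` with the regular
2-subgroup; its elements of square one form the block of `u`, with as many lines as elements of `eSub D a`, and two
blocks share at most one line.
-/

set_option autoImplicit false
set_option linter.style.haveILetI false
set_option linter.unusedSectionVars false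

namespace Cfsg.Agent.GoodInvol

open Subgroup MulAction

universe u v

/-- The elements of square one in `rSub D a u`, as the group they generate. -/
def aSub {G : Type u} [Group G] {Ω : Type v} [MulAction G Ω] (D : Set G) (a : Ω) (u : G) : Subgroup G :=
  closure {g | g ∈ rSub D a u ∧ g * g = 1}

theorem mul_sq_of_commute {G : Type u} [Group G] {x y : G} (h : Commute x y) : x * y * (x * y) = x * x * (y * y) :=
  Commute.mul_mul_mul_comm h.symm x y

variable {G : Type u} [Group G] [Finite G] {Ω : Type u} [MulAction G Ω] [Finite Ω] [FaithfulSMul G Ω]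

namespace CaseA

variable {D : Set G} {r e : ℕ} (hA : CaseA D Ω r e)
include hA

theorem self_mem_rSub {w : G} (hw : w ∈ pairBad G Ω) {a : Ω} (ha : w • a = a) : w ∈ rSub D a w :=
  mem_rSub.2 ⟨hA.mem_cenA_of_pairBad hw ha, Commute.refl w⟩

theorem eSub_le_rSub {w : G} (hw : w ∈ pairBad G Ω) {a : Ω} (ha : w • a = a) : eSub D a ≤ rSub D a w :=
  (hA.eSub_le_qSub hw ha).trans (qSub_le_rSub D a w)

theorem commute_cenA {a : Ω} {g c : G} (hg : g ∈ cenA D a) (hc : c ∈ eSub D a) : Commute g c := (mem_cenA.1 hg).2 c hc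

theorem rSub_commute_eSub {w : G} {a : Ω} {g c : G} (hg : g ∈ rSub D a w) (hc : c ∈ eSub D a) : Commute g c :=
  hA.commute_cenA (mem_rSub.1 hg).1 hc

theorem rSub_mul_eSub {a : Ω} {w c : G} (hc : c ∈ eSub D a) : rSub D a (w * c) = rSub D a w := by
  ext g
  rw [mem_rSub, mem_rSub]
  refine and_congr_right fun hg => ⟨fun h => ?_, fun h => h.mul_right (hA.commute_cenA hg hc)⟩
  have := h.mul_right (hA.commute_cenA hg hc).inv_right
  rwa [mul_inv_cancel_right] at this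

theorem mem_rSub_of_fixStab {w : G} (hw : w ∈ pairBad G Ω) {a : Ω} (ha : w • a = a) {δ : G} (hδ : δ ∈ fixStab Ω w)
    (hc : Commute δ w) : δ ∈ rSub D a w :=
  mem_rSub.2 ⟨mem_cenA.2 ⟨hδ a ha, fun _ hz => (hA.commute_genC hw (hA.eSub_le_genC hw ha hz) hδ).symm⟩, hc⟩

theorem qSub_fixStab {w : G} (hw : w ∈ pairBad G Ω) {a : Ω} {y δ : G} (hy : y ∈ qSub D a w)
    (hδ : δ ∈ fixStab Ω w) : Commute δ y := (hA.commute_genC hw (mem_qSub.1 hy).2 hδ).symm

/-- An element of `rSub` is a product of a pointwise part and an element of the regular subgroup. -/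
theorem rSub_decomp {w : G} (hw : w ∈ pairBad G Ω) {a : Ω} (ha : w • a = a) {g : G} (hg : g ∈ rSub D a w) :
    ∃ δ y, δ ∈ fixStab Ω w ∧ Commute δ w ∧ y ∈ qSub D a w ∧ g = δ * y := by
  obtain ⟨hgC, hgw⟩ := mem_rSub.1 hg
  obtain ⟨hga, hgE⟩ := mem_cenA.1 hgC
  obtain ⟨x, T, Q, K, K1, -, -, hT, -, hL⟩ := hA.exists_data hw ha
  obtain ⟨y, hy, hact⟩ := hL.cent hA.e_ne g (mem_ptC.2 ⟨hgw, hga⟩) hgE
  have hyw := commute_of_genC (hL.Q_gen hy)
  refine ⟨g * y⁻¹, y, fun z hz => ?_, hgw.mul_left hyw.inv_left, hA.Q_eq_qSub hw hT hL ▸ hy, by group⟩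
  have hz' : w • y⁻¹ • z = y⁻¹ • z := by rw [← mul_smul, ← hyw.inv_left.eq, mul_smul, hz]
  rw [mul_smul, hact _ hz', smul_inv_smul]

/-- The order of `rSub` is that of its pointwise part times that of the regular subgroup. -/
theorem card_rSub {w : G} (hw : w ∈ pairBad G Ω) {a : Ω} (ha : w • a = a) :
    Nat.card (rSub D a w) = Nat.card (rSub D a w ⊓ fixStab Ω w : Subgroup G) * 2 ^ (e * r) := by
  classical
  set S := rSub D a w ⊓ fixStab Ω w with hS
  set Q := qSub D a w with hQ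
  rw [← hA.card_qSub hw ha, ← hQ, ← Nat.card_prod]
  refine Nat.card_congr (Equiv.ofBijective (fun p : S × Q =>
    (⟨(p.1 : G) * p.2, mul_mem p.1.2.1 (qSub_le_rSub D a w p.2.2)⟩ : rSub D a w)) ⟨?_, ?_⟩).symm
  · rintro ⟨s, y⟩ ⟨s', y'⟩ he
    have he' : (s : G) * y = (s' : G) * y' := congrArg Subtype.val he
    have h1 : (s' : G)⁻¹ * s = (y' : G) * (y : G)⁻¹ := by
      rw [eq_mul_inv_iff_mul_eq, mul_assoc, he', inv_mul_cancel_left]
    have h2 : (y' : G) * (y : G)⁻¹ = 1 := hA.genC_inf_fixStab hw (mul_mem (mem_qSub.1 y'.2).2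
      (inv_mem (mem_qSub.1 y.2).2)) (h1 ▸ fun z hz => (S.mul_mem (inv_mem s'.2) s.2).2 z hz)
    have hy : y' = y := Subtype.ext (mul_inv_eq_one.1 h2)
    subst hy
    exact Prod.ext (Subtype.ext (mul_right_cancel he')) rfl
  · rintro ⟨g, hg⟩
    obtain ⟨δ, y, hδ, hδw, hy, rfl⟩ := hA.rSub_decomp hw ha hg
    exact ⟨(⟨δ, hA.mem_rSub_of_fixStab hw ha hδ hδw, hδ⟩, ⟨y, hy⟩), rfl⟩

/-- A translate by an element of the elementary subgroup is again in a pair. -/
theorem mul_eSub_pairBad {w : G} (hw : w ∈ pairBad G Ω) {a : Ω} (ha : w • a = a) {c : G} (hc : c ∈ eSub D a) :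
    w * c ∈ pairBad G Ω := by
  classical
  by_cases hc1 : c = 1
  · rwa [hc1, mul_one]
  obtain ⟨v, P⟩ := hw
  have hw : w ∈ pairBad G Ω := ⟨v, P⟩
  have hcm := hA.cmem_of_eSub hw ha hc hc1
  set w' := w * c with hw'def
  have hw' : orderOf w' = 2 := hA.crit.mul_invol_of_cmem P.ou P.bad hcm
  have hbad : ¬ OneFix Ω w' := hA.crit.not_oneFix_mul P.ou P.bad hcm.1 hcm.2
  have hw'a : w' • a = a := by rw [mul_smul, hA.eSub_smul hc, ha]
  obtain ⟨x, hxa, hx⟩ : ∃ x, x ≠ a ∧ w' • x = x := by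
    have hb := hbad
    unfold OneFix at hb
    push Not at hb
    obtain ⟨p, q, hp, hq, hpq⟩ := hb
    by_cases hap : p = a
    · exact ⟨q, fun e' => hpq (hap.trans e'.symm), hq⟩
    · exact ⟨p, hap, hp⟩
  have hcx : c • x = w • x := by
    calc c • x = w • (w' • x) := by rw [hw'def, ← mul_smul, ← mul_assoc, Invol.mul_self P.ou, one_mul]
      _ = w • x := by rw [hx]
  have hwx : w • x ≠ x := fun e' => hxa (hA.eSub_unique hc hc1 (hcx.trans e'))
  have hvx : v • x ≠ x := fun e' => hwx ((P.fix x).2 e')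
  have hv : v ∈ pairBad G Ω := ⟨w, ⟨P.ov, P.ou, P.bad_right hA.crit, P.comm.symm, P.ne.symm,
    fun z => (P.fix z).symm, fun g hg hgF z hz => (P.fix z).1 (P.top g hg (fun y hy => hgF y ((P.fix y).1 hy)) z hz)⟩⟩
  obtain ⟨d, hd, hdx⟩ := hA.exists_sign hv hvx
  haveI : Nonempty Ω := ⟨a⟩
  obtain ⟨p, hp⟩ := hA.crit.exists_fix (hA.crit.invol d hd.1) (Ω := Ω)
  have hpa : a = p := P.same_centre hA.crit hwx ⟨hcm, hcx⟩ ⟨hd, hdx⟩ (hA.eSub_smul hc) hp
  subst hpa
  have hdE : d ∈ eSub D a := hA.dat_subset_eSub a ⟨hd.1, hp⟩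
  have hva : v • a = a := (P.fix a).1 ha
  set v' := v * d with hv'def
  have hv' : orderOf v' = 2 := hA.crit.mul_invol_of_cmem P.ov (hA.bad hv) hd
  have hv'bad : ¬ OneFix Ω v' := hA.crit.not_oneFix_mul P.ov (hA.bad hv) hd.1 hd.2
  have hv'a : v' • a = a := by rw [mul_smul, hp, hva]
  have hv'x : v' • x = x := by rw [mul_smul, hdx, ← mul_smul, Invol.mul_self P.ov, one_smul]
  -- the orbit of `x` under the regular subgroup
  set Q := qSub D a w with hQ
  have hfix : ∀ y : Q, w' • (y : G) • x = (y : G) • x ∧ v' • (y : G) • x = (y : G) • x := by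
    rintro ⟨y, hy⟩
    have hyC := (mem_qSub.1 hy).1
    have h1 : Commute y w' := (commute_of_genC (mem_qSub.1 hy).2).mul_right (hA.commute_cenA hyC hc)
    have h2 : Commute y v' := (hA.commute_genC hw (mem_qSub.1 hy).2 (fun z hz => (P.fix z).1 hz)).mul_right
      (hA.commute_cenA hyC hdE)
    exact ⟨by rw [← mul_smul, ← h1.eq, mul_smul, hx], by rw [← mul_smul, ← h2.eq, mul_smul, hv'x]⟩
  have hne : ∀ y : Q, (y : G) • x ≠ a := fun y e' =>
    hxa (MulAction.injective (y : G) (e'.trans (mem_cenA.1 (mem_qSub.1 y.2).1).1.symm))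
  have hinj : Function.Injective fun y : Q => (y : G) • x := fun y y' e' => by
    refine Subtype.ext (inv_mul_eq_one.1 (hA.eq_one_of_fix_moved hw hwx
      (mul_mem (inv_mem (mem_qSub.1 y'.2).2) (mem_qSub.1 y.2).2) ?_)).symm
    rw [mul_smul]; exact inv_smul_eq_iff.2 e'
  set O : Set Ω := insert a (Set.range fun y : Q => (y : G) • x) with hO
  have hcardO : O.ncard = 2 ^ (e * r) + 1 := by
    rw [hO, Set.ncard_insert_of_notMem, Set.ncard_range_of_injective hinj, hA.card_qSub hw ha]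
    rintro ⟨y, hy⟩
    exact hne y hy
  obtain ⟨x0, T, Q0, K, K1, -, -, hT, hE, hL⟩ := hA.exists_data hw ha
  have hcard : ∀ g : G, orderOf g = 2 → ¬ OneFix Ω g → g • a = a → (fixSet Ω g).ncard = 2 ^ (e * r) + 1 :=
    fun g hg hgb hga => (P.card_fixSet_eq hA.crit hA.below hA.gen ha hT hE hg hgb hga).trans hL.card_fix
  have hOw : fixSet Ω w' = O := by
    refine (Set.eq_of_subset_of_ncard_le ?_ (by rw [hcard w' hw' hbad hw'a, hcardO]) (Set.toFinite _)).symm
    rintro z (rfl | ⟨y, rfl⟩)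
    exacts [hw'a, (hfix y).1]
  have hOv : fixSet Ω v' = O := by
    refine (Set.eq_of_subset_of_ncard_le ?_ (by rw [hcard v' hv' hv'bad hv'a, hcardO]) (Set.toFinite _)).symm
    rintro z (rfl | ⟨y, rfl⟩)
    exacts [hv'a, (hfix y).2]
  refine ⟨v', hw', hv', hbad, ?_, ?_, fun z => ?_, fun g hg hgF z hz => ?_⟩
  · have e1 : Commute w d := hA.commute_eSub hw ha hdE
    have e2 : Commute v c := hA.commute_eSub hv hva hc
    exact (P.comm.mul_right e1).mul_left (e2.symm.mul_right (hA.eSub_comm hc hdE))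
  · intro e'
    have hwv : w * v = c * d := by
      have h1 : v = w * c * d := by
        rw [show w * c = v * d from e', mul_assoc, hA.eSub_sq hdE, mul_one]
      rw [h1, ← mul_assoc, ← mul_assoc, Invol.mul_self P.ou, one_mul]
    have hcd : c * d ∈ eSub D a := mul_mem hc hdE
    have h1 : c * d ≠ 1 := fun h1 => P.ne (by
      rw [← hwv] at h1
      exact (inv_eq_of_mul_eq_one_right h1 ▸ (Invol.inv_self P.ou).symm))
    obtain ⟨p, hp, hap⟩ := hA.exists_other hw a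
    exact hap (hA.eSub_unique hcd h1 (by rw [← hwv, mul_smul, (P.fix p).1 hp, hp])).symm
  · show z ∈ fixSet Ω w' ↔ z ∈ fixSet Ω v'
    rw [hOw, hOv]
  · by_cases hgbad : OneFix Ω g
    · exact absurd (hgbad a x (hgF a hw'a) (hgF x hx)) (Ne.symm hxa)
    have hsub : fixSet Ω w' ⊆ fixSet Ω g := fun y hy => hgF y hy
    have := Set.eq_of_subset_of_ncard_le hsub
      (by rw [hcard g hg hgbad (hgF a hw'a), hcard w' hw' hbad hw'a]) (Set.toFinite _)
    show z ∈ fixSet Ω w'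
    rw [this]; exact hz

theorem mul_eSub_smul {w : G} {a : Ω} (ha : w • a = a) {c : G} (hc : c ∈ eSub D a) : (w * c) • a = a := by
  rw [mul_smul, hA.eSub_smul hc, ha]

/-- A second point of a translate is moved. -/
theorem moved_of_mul_eSub {w : G} {a x : Ω} {c : G} (hc : c ∈ eSub D a) (h1 : c ≠ 1) (hax : a ≠ x)
    (hx : (w * c) • x = x) : w • x ≠ x := fun e' => by
  refine hax (hA.eSub_unique hc h1 ?_).symm
  refine MulAction.injective w ?_
  show w • c • x = w • x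
  rw [← mul_smul, hx, e']

/-- The pointwise part of `rSub` has exponent two. -/
theorem fixStab_sq {w : G} (hw : w ∈ pairBad G Ω) {δ : G} (hδ : δ ∈ fixStab Ω w) (hδw : Commute δ w) :
    δ * δ = 1 := by
  classical
  obtain ⟨a, ha⟩ : ∃ a : Ω, w • a = a := by
    have hb := hA.bad hw
    unfold OneFix at hb
    push Not at hb
    exact ⟨_, hb.choose_spec.choose_spec.1⟩
  obtain ⟨c, hc, hc1⟩ : ∃ c ∈ eSub D a, c ≠ 1 := by
    by_contra! hall
    have h4 := hA.four_le_q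
    rw [← hA.card_eSub a, (eq_bot_iff_forall _).2 hall, card_bot] at h4
    omega
  have hw' := hA.mul_eSub_pairBad hw ha hc
  have hw'a := hA.mul_eSub_smul ha hc
  obtain ⟨x, hx, hax⟩ := hA.exists_other hw' a
  have hwx := hA.moved_of_mul_eSub hc hc1 hax hx
  set R := rSub D a w with hR
  have hR' : rSub D a (w * c) = R := hA.rSub_mul_eSub hc
  set W := R ⊓ fixStab Ω w with hW
  set W' := R ⊓ fixStab Ω (w * c) with hW'
  have hcardW : Nat.card W' = Nat.card W := by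
    have h1 := hA.card_rSub hw' hw'a
    rw [hR', hA.card_rSub hw ha] at h1
    exact (Nat.eq_of_mul_eq_mul_right (by positivity) h1).symm
  have hproj : ∀ g : W', ∃ p : W × qSub D a w, (g : G) = (p.1 : G) * p.2 := fun g => by
    obtain ⟨d', y, hd', hdw, hy, hg⟩ := hA.rSub_decomp hw ha g.2.1
    exact ⟨(⟨d', hA.mem_rSub_of_fixStab hw ha hd' hdw, hd'⟩, ⟨y, hy⟩), hg⟩
  choose p hp using hproj
  have hQfree : ∀ y ∈ qSub D a w, y ∈ fixStab Ω (w * c) → y = 1 := fun y hy hy' =>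
    hA.eq_one_of_fix_moved hw hwx (mem_qSub.1 hy).2 (hy' x hx)
  have hinj : Function.Injective fun g => (p g).1 := fun g g' e' => by
    replace e' : (p g).1 = (p g').1 := e'
    have h1 : ((p g).2 : G)⁻¹ * (p g').2 = (g : G)⁻¹ * g' := by
      rw [hp g, hp g', e']; group
    have h2 := hQfree _ (mul_mem (inv_mem (p g).2.2) (p g').2.2) (h1 ▸ (W'.mul_mem (inv_mem g.2) g'.2).2)
    rw [h1] at h2
    exact Subtype.ext (inv_mul_eq_one.1 h2)
  obtain ⟨g, hg⟩ := (Nat.bijective_iff_injective_and_card (fun g => (p g).1)).2 ⟨hinj, hcardW⟩ |>.2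
    ⟨δ, hA.mem_rSub_of_fixStab hw ha hδ hδw, hδ⟩
  set b : G := ((p g).2 : G) with hb
  have hb' : b ∈ qSub D a w := (p g).2.2
  have hgb : (g : G) = δ * b := by rw [hp g, show ((p g).1 : G) = δ from congrArg Subtype.val hg]
  have hbc : ∀ y ∈ qSub D a w, Commute b y := fun y hy => by
    have hyR : y ∈ R := qSub_le_rSub D a w hy
    have h1 : y * (g : G) * y⁻¹ * (g : G)⁻¹ = y * b * y⁻¹ * b⁻¹ := by
      have hδy := hA.qSub_fixStab hw hy hδ
      calc y * (g : G) * y⁻¹ * (g : G)⁻¹ = y * δ * (b * y⁻¹ * b⁻¹) * δ⁻¹ := by rw [hgb]; group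
        _ = δ * (y * b * y⁻¹ * b⁻¹) * δ⁻¹ := by rw [hδy.symm.eq]; group
        _ = _ := by
          rw [(hA.qSub_fixStab hw (mul_mem (mul_mem (mul_mem hy hb') (inv_mem hy)) (inv_mem hb')) hδ).eq,
            mul_inv_cancel_right]
    have hyc : Commute y (w * c) := (mem_rSub.1 (hR'.symm ▸ hyR : y ∈ rSub D a (w * c))).2
    have h2 := hQfree _ (mul_mem (mul_mem (mul_mem hy hb') (inv_mem hy)) (inv_mem hb'))
      (h1 ▸ (fixStab Ω (w * c)).mul_mem (conj_fixStab hyc g.2.2) (inv_mem g.2.2))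
    exact (mul_inv_eq_iff_eq_mul.1 (mul_inv_eq_one.1 h2)).symm
  have hbE : b ∈ eSub D a := by
    obtain ⟨x0, T, Q, K, K1, -, -, hT, -, hL⟩ := hA.exists_data hw ha
    have hQ := hA.Q_eq_qSub hw hT hL
    exact hL.center hA.e_ne b (hQ.symm ▸ hb') fun z hz => hbc z (hQ ▸ hz)
  have hsq : (g : G) * g = δ * δ := by
    rw [hgb, mul_sq_of_commute (hA.qSub_fixStab hw hb' hδ), hA.eSub_sq hbE, mul_one]
  exact hA.eq_one_of_fixStab hw hwx (mul_mem hδ hδ) (hsq ▸ (W'.mul_mem g.2 g.2).2 x hx)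

theorem fixStab_cases {w : G} (hw : w ∈ pairBad G Ω) {δ : G} (hδ : δ ∈ fixStab Ω w) (hδw : Commute δ w) :
    δ = 1 ∨ δ ∈ fixFour Ω w := by
  by_cases h1 : δ = 1
  · exact Or.inl h1
  · exact Or.inr ⟨⟨Invol.order_two_of_sq (hA.fixStab_sq hw hδ hδw) h1, hδ⟩, hδw⟩

theorem fixStab_comm {w : G} (hw : w ∈ pairBad G Ω) {δ δ' : G} (hδ : δ ∈ fixStab Ω w) (hδw : Commute δ w)
    (hδ' : δ' ∈ fixStab Ω w) (hδw' : Commute δ' w) : Commute δ δ' := by
  rcases hA.fixStab_cases hw hδ hδw with rfl | h1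
  · exact Commute.one_left _
  rcases hA.fixStab_cases hw hδ' hδw' with rfl | h2
  · exact Commute.one_right _
  obtain ⟨v, P⟩ := hw
  exact P.commute_fixFour hA.crit hA.below hA.gen h1 h2

theorem rSub_sq_eq {w : G} (hw : w ∈ pairBad G Ω) {a : Ω} {δ y : G} (hδ : δ ∈ fixStab Ω w) (hδw : Commute δ w)
    (hy : y ∈ qSub D a w) : δ * y * (δ * y) = y * y := by
  rw [mul_sq_of_commute (hA.qSub_fixStab hw hy hδ), hA.fixStab_sq hw hδ hδw, one_mul]

theorem rSub_sq {w : G} (hw : w ∈ pairBad G Ω) {a : Ω} (ha : w • a = a) {g : G} (hg : g ∈ rSub D a w) :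
    g * g ∈ eSub D a := by
  obtain ⟨δ, y, hδ, hδw, hy, rfl⟩ := hA.rSub_decomp hw ha hg
  rw [hA.rSub_sq_eq hw hδ hδw hy]
  exact hA.qSub_sq hw ha hy

theorem rSub_invol {w : G} (hw : w ∈ pairBad G Ω) {a : Ω} (ha : w • a = a) {g : G} (hg : g ∈ rSub D a w)
    (h2 : g * g = 1) : ∃ δ c, δ ∈ fixStab Ω w ∧ Commute δ w ∧ c ∈ eSub D a ∧ g = δ * c := by
  obtain ⟨δ, y, hδ, hδw, hy, rfl⟩ := hA.rSub_decomp hw ha hg
  exact ⟨δ, y, hδ, hδw, hA.qSub_invol hw ha hy (by rwa [hA.rSub_sq_eq hw hδ hδw hy] at h2), rfl⟩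

theorem rSub_commute_invol {w : G} (hw : w ∈ pairBad G Ω) {a : Ω} (ha : w • a = a) {g g' : G}
    (hg : g ∈ rSub D a w) (hg' : g' ∈ rSub D a w) (h2 : g * g = 1) : Commute g g' := by
  obtain ⟨δ, c, hδ, hδw, hc, rfl⟩ := hA.rSub_invol hw ha hg h2
  obtain ⟨δ', y, hδ', hδw', hy, rfl⟩ := hA.rSub_decomp hw ha hg'
  exact (((hA.fixStab_comm hw hδ hδw hδ' hδw').mul_right (hA.qSub_fixStab hw hy hδ))).mul_left
    (hA.rSub_commute_eSub (mul_mem (hA.mem_rSub_of_fixStab hw ha hδ' hδw') (qSub_le_rSub D a w hy)) hc).symm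

theorem mem_aSub {w : G} (hw : w ∈ pairBad G Ω) {a : Ω} (ha : w • a = a) {g : G} :
    g ∈ aSub D a w ↔ g ∈ rSub D a w ∧ g * g = 1 := by
  refine ⟨fun hg => ?_, fun hg => subset_closure hg⟩
  induction hg using Subgroup.closure_induction with
  | mem x hx => exact hx
  | one => exact ⟨one_mem _, one_mul _⟩
  | mul x y _ _ hx hy =>
    exact ⟨mul_mem hx.1 hy.1, by
      rw [mul_sq_of_commute (hA.rSub_commute_invol hw ha hx.1 hy.1 hx.2), hx.2, hy.2, one_mul]⟩
  | inv x _ hx => exact ⟨inv_mem hx.1, by rw [← mul_inv_rev, hx.2, inv_one]⟩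

theorem self_mem_aSub {w : G} (hw : w ∈ pairBad G Ω) {a : Ω} (ha : w • a = a) : w ∈ aSub D a w :=
  (hA.mem_aSub hw ha).2 ⟨hA.self_mem_rSub hw ha, Invol.mul_self (hA.order_two hw)⟩

theorem eSub_le_aSub {w : G} (hw : w ∈ pairBad G Ω) {a : Ω} (ha : w • a = a) : eSub D a ≤ aSub D a w :=
  fun _ hc => (hA.mem_aSub hw ha).2 ⟨hA.eSub_le_rSub hw ha hc, hA.eSub_sq hc⟩

/-- The pointwise elements of a pair give pairs. -/
theorem pairBad_of_fixFour {w : G} (hw : w ∈ pairBad G Ω) {δ : G} (hδ : δ ∈ fixFour Ω w) : δ ∈ pairBad G Ω := by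
  by_cases hδe : δ = w
  · exact hδe ▸ hw
  obtain ⟨v, P⟩ := hw
  exact ⟨w, P.pair hA.crit hδ.1 (P.mem_fixInv_self hA.crit) hδ.2 hδe⟩

theorem fixSet_fixFour {w : G} (hw : w ∈ pairBad G Ω) {δ : G} (hδ : δ ∈ fixFour Ω w) :
    fixSet Ω δ = fixSet Ω w := by
  obtain ⟨v, P⟩ := hw
  exact Set.ext fun z => P.fix_iff hA.crit hδ.1 z

theorem aSub_cases {w : G} (hw : w ∈ pairBad G Ω) {a : Ω} (ha : w • a = a) {g : G} (hg : g ∈ aSub D a w)
    (hgE : g ∉ eSub D a) : ∃ δ c, δ ∈ fixFour Ω w ∧ c ∈ eSub D a ∧ g = δ * c := by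
  obtain ⟨hgR, h2⟩ := (hA.mem_aSub hw ha).1 hg
  obtain ⟨δ, c, hδ, hδw, hc, rfl⟩ := hA.rSub_invol hw ha hgR h2
  rcases hA.fixStab_cases hw hδ hδw with rfl | h1
  · exact absurd (by rwa [one_mul]) hgE
  · exact ⟨δ, c, h1, hc, rfl⟩

theorem aSub_smul {w : G} (hw : w ∈ pairBad G Ω) {a : Ω} (ha : w • a = a) {g : G} (hg : g ∈ aSub D a w) :
    g • a = a := (mem_cenA.1 (mem_rSub.1 ((hA.mem_aSub hw ha).1 hg).1).1).1

theorem pairBad_of_aSub {w : G} (hw : w ∈ pairBad G Ω) {a : Ω} (ha : w • a = a) {g : G} (hg : g ∈ aSub D a w)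
    (hgE : g ∉ eSub D a) : g ∈ pairBad G Ω := by
  obtain ⟨δ, c, hδ, hc, rfl⟩ := hA.aSub_cases hw ha hg hgE
  exact hA.mul_eSub_pairBad (hA.pairBad_of_fixFour hw hδ) (hδ.1.2 a ha) hc

/-- The members of one block have one centraliser. -/
theorem rSub_eq {w : G} (hw : w ∈ pairBad G Ω) {a : Ω} (ha : w • a = a) {g : G} (hg : g ∈ aSub D a w)
    (hgE : g ∉ eSub D a) : rSub D a g = rSub D a w := by
  obtain ⟨δ, c, hδ, hc, rfl⟩ := hA.aSub_cases hw ha hg hgE
  rw [hA.rSub_mul_eSub hc]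
  have hδp := hA.pairBad_of_fixFour hw hδ
  have hF := hA.fixSet_fixFour hw hδ
  refine le_antisymm (fun x hx => mem_rSub.2 ⟨(mem_rSub.1 hx).1, ?_⟩) (fun x hx => mem_rSub.2 ⟨(mem_rSub.1 hx).1, ?_⟩)
  · refine (hA.rSub_commute_invol hδp (hδ.1.2 a ha) ?_ hx (Invol.mul_self (hA.order_two hw))).symm
    exact hA.mem_rSub_of_fixStab hδp (hδ.1.2 a ha) (fun z (hz : z ∈ fixSet Ω δ) => (hF ▸ hz : z ∈ fixSet Ω w))
      hδ.2.symm
  · exact (hA.rSub_commute_invol hw ha (hA.mem_rSub_of_fixStab hw ha hδ.1.2 hδ.2) hx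
      (Invol.mul_self hδ.1.1)).symm

theorem aSub_eq {w : G} (hw : w ∈ pairBad G Ω) {a : Ω} (ha : w • a = a) {g : G} (hg : g ∈ aSub D a w)
    (hgE : g ∉ eSub D a) : aSub D a g = aSub D a w := by
  rw [aSub, aSub, hA.rSub_eq hw ha hg hgE]

/-- Commuting involutions of pairs at a point are in one block. -/
theorem mem_aSub_of_commute {w w' : G} (hw : w ∈ pairBad G Ω) (hw' : w' ∈ pairBad G Ω) {a : Ω} (ha : w • a = a)
    (ha' : w' • a = a) (hc : Commute w w') : w' ∈ aSub D a w :=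
  (hA.mem_aSub hw ha).2 ⟨mem_rSub.2 ⟨hA.mem_cenA_of_pairBad hw' ha', hc.symm⟩, Invol.mul_self (hA.order_two hw')⟩

/-- A block contains at least three cosets of the elementary subgroup. -/
theorem card_aSub_ge {w : G} (hw : w ∈ pairBad G Ω) {a : Ω} (ha : w • a = a) :
    4 * 2 ^ r ≤ Nat.card (aSub D a w) := by
  classical
  obtain ⟨v, P⟩ := hw
  have hw : w ∈ pairBad G Ω := ⟨v, P⟩
  set W := rSub D a w ⊓ fixStab Ω w with hW
  have hmem : ∀ p : W × eSub D a, (p.1 : G) * p.2 ∈ aSub D a w := fun p =>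
    mul_mem ((hA.mem_aSub hw ha).2 ⟨p.1.2.1, hA.fixStab_sq hw p.1.2.2 (mem_rSub.1 p.1.2.1).2⟩)
      (hA.eSub_le_aSub hw ha p.2.2)
  have hinj : Function.Injective fun p : W × eSub D a => (⟨_, hmem p⟩ : aSub D a w) := by
    rintro ⟨s, c⟩ ⟨s', c'⟩ he
    have he' : (s : G) * c = (s' : G) * c' := congrArg Subtype.val he
    have h1 : (s' : G)⁻¹ * s = (c' : G) * (c : G)⁻¹ := by
      rw [eq_mul_inv_iff_mul_eq, mul_assoc, he', inv_mul_cancel_left]
    have h2 : (c' : G) * (c : G)⁻¹ = 1 := hA.genC_inf_fixStab hw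
      (hA.eSub_le_genC hw ha (mul_mem c'.2 (inv_mem c.2))) (h1 ▸ (W.mul_mem (inv_mem s'.2) s.2).2)
    have hc : c' = c := Subtype.ext (mul_inv_eq_one.1 h2)
    subst hc
    exact Prod.ext (Subtype.ext (mul_right_cancel he')) rfl
  refine le_trans ?_ (Nat.card_le_card_of_injective _ hinj)
  rw [Nat.card_prod, hA.card_eSub]
  refine Nat.mul_le_mul_right _ ?_
  have hv : v ∈ W := ⟨hA.mem_rSub_of_fixStab hw ha (fun z hz => (P.fix z).1 hz) P.comm.symm,
    fun z hz => (P.fix z).1 hz⟩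
  have hwW : w ∈ W := ⟨hA.self_mem_rSub hw ha, fun z hz => hz⟩
  have hwv : w * v ≠ 1 := fun h1 => P.ne (by
    rw [← Invol.inv_self P.ov]; exact eq_inv_of_mul_eq_one_left h1)
  have hsub : ({1, w, v, w * v} : Set G) ⊆ W := by
    rintro x (rfl | rfl | rfl | rfl)
    exacts [one_mem _, hwW, hv, mul_mem hwW hv]
  have h4 : ({1, w, v, w * v} : Set G).ncard = 4 := by
    have a1 : (1 : G) ≠ w := (Invol.ne_one P.ou).symm
    have a2 : (1 : G) ≠ v := (Invol.ne_one P.ov).symm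
    have a3 : w ≠ w * v := fun h1 => Invol.ne_one P.ov (by simpa using h1.symm)
    have a4 : v ≠ w * v := fun h1 => Invol.ne_one P.ou (by simpa using h1.symm)
    rw [Set.ncard_insert_of_notMem (by simp [a1, a2, hwv.symm]), Set.ncard_insert_of_notMem (by simp [P.ne, a3]),
      Set.ncard_pair a4]
  have h5 := Set.ncard_le_ncard hsub (Set.toFinite _)
  rw [h4, ← Nat.card_coe_set_eq] at h5
  exact h5

/-- The lines of a block. -/
theorem exists_line {w : G} (hw : w ∈ pairBad G Ω) {a : Ω} (ha : w • a = a) {g : G} (hg : g ∈ aSub D a w)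
    (hgE : g ∉ eSub D a) : ∃ c ∈ eSub D a, fixSet Ω g = fixSet Ω (w * c) := by
  obtain ⟨δ, c, hδ, hc, rfl⟩ := hA.aSub_cases hw ha hg hgE
  have hδp := hA.pairBad_of_fixFour hw hδ
  have hδa : δ • a = a := hδ.1.2 a ha
  have hg' := hA.mul_eSub_pairBad hδp hδa hc
  obtain ⟨x, hx, hax⟩ := hA.exists_other hg' a
  by_cases hc1 : c = 1
  · exact ⟨1, one_mem _, by rw [hc1, mul_one, mul_one, hA.fixSet_fixFour hw hδ]⟩
  have hδx : δ • x ≠ x := hA.moved_of_mul_eSub hc hc1 hax hx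
  have hcx : c • x = δ • x := by
    calc c • x = δ • ((δ * c) • x) := by rw [← mul_smul, ← mul_assoc, Invol.mul_self hδ.1.1, one_mul]
      _ = δ • x := by rw [hx]
  have hwx : w • x ≠ x := fun e' => hδx (show x ∈ fixSet Ω δ by rw [hA.fixSet_fixFour hw hδ]; exact e')
  obtain ⟨d, hd, hdx⟩ := hA.exists_sign hw hwx
  haveI : Nonempty Ω := ⟨a⟩
  obtain ⟨p, hp⟩ := hA.crit.exists_fix (hA.crit.invol d hd.1) (Ω := Ω)
  have hpa : p = a := by
    by_cases hδw : δ = w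
    · subst hδw
      rw [hA.sign_unique hw hwx hd hdx (hA.cmem_of_eSub hw ha hc hc1) hcx] at hp
      exact hA.eSub_unique hc hc1 hp
    · obtain ⟨v, P⟩ := hw
      exact (P.pair hA.crit (P.mem_fixInv_self hA.crit) hδ.1 hδ.2.symm (Ne.symm hδw)).same_centre hA.crit hwx
        ⟨hd, hdx⟩ ⟨hA.cmem_of_eSub hδp hδa hc hc1, hcx⟩ hp (hA.eSub_smul hc)
  subst hpa
  have hdE : d ∈ eSub D p := hA.dat_subset_eSub p ⟨hd.1, hp⟩
  refine ⟨d, hdE, hA.line_eq hg' (hA.mul_eSub_pairBad hw ha hdE) (hA.mul_eSub_smul hδa hc) hx hax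
    (hA.mul_eSub_smul ha hdE) ?_⟩
  rw [mul_smul, hdx, ← mul_smul, Invol.mul_self (hA.order_two hw), one_smul]

theorem line_inj {w : G} (hw : w ∈ pairBad G Ω) {a : Ω} (ha : w • a = a) {c c' : G} (hc : c ∈ eSub D a)
    (hc' : c' ∈ eSub D a) (h : fixSet Ω (w * c) = fixSet Ω (w * c')) : c = c' := by
  by_contra hne
  have h1 : c⁻¹ * c' ≠ 1 := fun h1 => hne (inv_mul_eq_one.1 h1)
  obtain ⟨x, hx, hax⟩ := hA.exists_other (hA.mul_eSub_pairBad hw ha hc) a
  have hx' : (w * c') • x = x := (h ▸ hx : x ∈ fixSet Ω (w * c'))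
  refine hax (hA.eSub_unique (mul_mem (inv_mem hc) hc') h1 ?_).symm
  calc (c⁻¹ * c') • x = (w * c)⁻¹ • (w * c') • x := by rw [← mul_smul]; congr 1; group
    _ = x := by rw [hx', inv_smul_eq_iff.2 hx.symm]

/-- Two blocks share at most one line. -/
theorem commute_of_two_lines {w w' : G} (hw : w ∈ pairBad G Ω) (hw' : w' ∈ pairBad G Ω) {a : Ω}
    (ha : w • a = a) (hF : fixSet Ω w = fixSet Ω w') {c c' : G} (hc : c ∈ eSub D a) (hc' : c' ∈ eSub D a)
    (hc1 : c ≠ 1) (hF' : fixSet Ω (w * c) = fixSet Ω (w' * c')) : Commute w w' := by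
  have ha' : w' • a = a := (hF ▸ ha : a ∈ fixSet Ω w')
  obtain ⟨x, hx, hax⟩ := hA.exists_other (hA.mul_eSub_pairBad hw ha hc) a
  have hwx := hA.moved_of_mul_eSub hc hc1 hax hx
  have hx' : (w' * c') • x = x := (hF' ▸ hx : x ∈ fixSet Ω (w' * c'))
  have hg : w * w' ∈ fixStab Ω w := mul_mem (fun z hz => hz) (fun z hz => (hF ▸ hz : z ∈ fixSet Ω w'))
  set d := c * c' with hd
  have hdE : d ∈ eSub D a := mul_mem hc hc'
  have hgd : Commute (w * w') d := (hA.commute_eSub hw ha hdE).mul_left (hA.commute_eSub hw' ha' hdE)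
  have hgx : (w * w' * d) • x = x := by
    have e' : w * c * (w' * c') = w * w' * d := by
      rw [hd, mul_assoc w c, ← mul_assoc c w' c', ← (hA.commute_eSub hw' ha' hc).eq]; group
    rw [← e', mul_smul, hx', hx]
  have h2 : w * w' * (w * w') = 1 := by
    refine hA.eq_one_of_fixStab hw hwx (mul_mem hg hg) ?_
    rw [show w * w' * (w * w') = w * w' * (w * w') * (d * d) by rw [hA.eSub_sq hdE, mul_one],
      ← mul_sq_of_commute hgd, mul_smul, hgx, hgx]
  have h3 : w * w' = (w * w')⁻¹ := eq_inv_of_mul_eq_one_left h2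
  rw [mul_inv_rev, Invol.inv_self (hA.order_two hw), Invol.inv_self (hA.order_two hw')] at h3
  exact h3

end CaseA

end Cfsg.Agent.GoodInvol
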