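import Cfsg.Agent.Lib.GoodInvol.CountConj

/-!
# The coset of the elementary subgroup

The stabiliser of a fixed point has a subgroup normalising `E` which is transitive on `w E`, so `|E| * |T|` divides
its order and no involution fixing two points is centralised by a Sylow 2-subgroup.
-/

set_option autoImplicit false
set_option linter.style.haveILetI false
set_option linter.unusedSectionVars false

namespace Cfsg.Agent.GoodInvol

open Subgroup MulAction

universe u v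

variable {G : Type u} [Group G]

/-- The elements normalising `E` and the coset `w E`. -/
def cosetNorm (E : Subgroup G) (w : G) : Subgroup G where
  carrier := {g | (∀ x, g * x * g⁻¹ ∈ E ↔ x ∈ E) ∧ ∀ x, w⁻¹ * (g * x * g⁻¹) ∈ E ↔ w⁻¹ * x ∈ E}
  one_mem' := by simp
  mul_mem' := by
    intro g k hg hk
    refine ⟨fun x => ?_, fun x => ?_⟩
    · rw [show g * k * x * (g * k)⁻¹ = g * (k * x * k⁻¹) * g⁻¹ by group, hg.1, hk.1]
    · rw [show g * k * x * (g * k)⁻¹ = g * (k * x * k⁻¹) * g⁻¹ by group, hg.2, hk.2]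
  inv_mem' := by
    intro g hg
    refine ⟨fun x => ?_, fun x => ?_⟩
    · rw [← hg.1, show g * (g⁻¹ * x * g⁻¹⁻¹) * g⁻¹ = x by group]
    · rw [← hg.2, show g * (g⁻¹ * x * g⁻¹⁻¹) * g⁻¹ = x by group]

theorem mem_cosetNorm_of_conj {E : Subgroup G} {w g : G} (hE : ∀ x, g * x * g⁻¹ ∈ E ↔ x ∈ E)
    (hw : w⁻¹ * (g * w * g⁻¹) ∈ E) : g ∈ cosetNorm E w := by
  refine ⟨hE, fun x => ?_⟩
  rw [show w⁻¹ * (g * x * g⁻¹) = (w⁻¹ * (g * w * g⁻¹)) * (g * (w⁻¹ * x) * g⁻¹) by group,
    Subgroup.mul_mem_cancel_left _ hw, hE]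

variable [Finite G] {Ω : Type u} [MulAction G Ω] [Finite Ω] [FaithfulSMul G Ω] {D : Set G}

namespace Crit

variable (h : Crit D Ω) (hB : Below.{u} (Nat.card G)) (hgen : closure D = ⊤)
include h hB hgen

/-- For a member `d` of `E` the involution `w * d` has the same elementary subgroup. -/
theorem eset_mul_eq {w : G} (hw : orderOf w = 2) (hbad : ¬ OneFix Ω w) {a : Ω} (ha : w • a = a)
    {T E : Subgroup G} (hT : T ≤ ptC w a) (hE : ESet D w a T E) {d : G} (hdE : d ∈ E) (hd1 : d ≠ 1) :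
    ∃ T' : Sylow 2 (ptC (w * d) a), ESet D (w * d) a ((T' : Subgroup (ptC (w * d) a)).map (ptC (w * d) a).subtype) E := by
  haveI : Fact (Nat.Prime 2) := ⟨Nat.prime_two⟩
  have hEX : ∀ e ∈ E, e ∈ ptC w a := fun e he => hT (hE.le he)
  have hdD : d ∈ cmem D w := ⟨(((hE.mem d).1 hdE).resolve_left hd1).1, (mem_ptC.1 (hEX d hdE)).1⟩
  have hda : d • a = a := (mem_ptC.1 (hEX d hdE)).2
  have hv : orderOf (w * d) = 2 := h.mul_invol_of_cmem hw hbad hdD
  have hvbad : ¬ OneFix Ω (w * d) := h.not_oneFix_mul hw hbad hdD.1 hdD.2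
  have hva : (w * d) • a = a := by rw [mul_smul, hda, ha]
  have hEV : E ≤ ptC (w * d) a := fun e he => mem_ptC.2
    ⟨(mem_ptC.1 (hEX e he)).1.mul_right (hE.comm e he d hdE), (mem_ptC.1 (hEX e he)).2⟩
  have h2 : IsPGroup 2 (E.subgroupOf (ptC (w * d) a)) := fun e => ⟨1, Subtype.ext (Subtype.ext (by
    simpa [pow_two] using hE.sq _ e.2))⟩
  obtain ⟨T', hT'⟩ := h2.exists_le_sylow
  obtain ⟨E', hE'⟩ := h.exists_eset hB hgen hv hvbad hva T'
  have hEE' : E ≤ E' := fun e he => by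
    rcases (hE.mem e).1 he with rfl | ⟨h1, -⟩
    · exact one_mem _
    · exact (hE'.mem e).2 (Or.inr ⟨h1, ⟨⟨e, hEV he⟩, hT' he, rfl⟩⟩)
  have hE'E : E' ≤ E := by
    intro f hf
    rcases (hE'.mem f).1 hf with rfl | ⟨hfD, hfT⟩
    · exact one_mem _
    obtain ⟨x, -, rfl⟩ := hfT
    have hfv := mem_ptC.1 x.2
    have hfd : Commute (x : G) d := hE'.comm _ hf d (hEE' hdE)
    have hfw : Commute (x : G) w := by
      have := hfv.1.mul_right hfd
      rwa [mul_assoc, Invol.mul_self (h.invol d hdD.1), mul_one] at this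
    obtain ⟨e, he, heD, hact⟩ := hE.lift _ hfD (mem_ptC.2 ⟨hfw, hfv.2⟩)
    have hfe : ((x : G)) = e := h.eq_of_fixAct hbad hfD heD (hE'.comm _ hf e (hEE' he)) fun z hz => (hact z hz).symm
    show (x : G) ∈ E
    rw [hfe]
    exact he
  exact ⟨T', le_antisymm hEE' hE'E ▸ hE'⟩

/-- A subgroup of the stabiliser of `a` normalising `E` is transitive on `w E`. -/
theorem exists_conj_coset {w : G} (hw : orderOf w = 2) (hbad : ¬ OneFix Ω w) {a : Ω} (ha : w • a = a)
    {T E : Subgroup G} (hT : T ≤ ptC w a) (hE : ESet D w a T E) {e : G} (he : e ∈ E) :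
    ∃ g ∈ cosetNorm E w ⊓ stabilizer G a, g * w * g⁻¹ = w * e := by
  by_cases he1 : e = 1
  · exact ⟨1, one_mem _, by rw [he1]; group⟩
  have hEX : ∀ x ∈ E, x ∈ ptC w a := fun x hx => hT (hE.le hx)
  have heD := (((hE.mem e).1 he).resolve_left he1).1
  obtain ⟨g, hgE, hg1, hge⟩ : ∃ g ∈ E, g ≠ 1 ∧ g ≠ e := by
    obtain ⟨b, hb, c, hc, hb1, hc1, hbc⟩ := hE.two
    by_cases hbe : b = e
    · exact ⟨c, hc, hc1, fun e' => hbc (hbe.trans e'.symm)⟩
    · exact ⟨b, hb, hb1, hbe⟩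
  obtain ⟨T', hE'⟩ := h.eset_mul_eq hB hgen hw hbad ha hT hE he he1
  obtain ⟨n', hn'X, hn'E, hn'⟩ := hE'.trans e he (e * g) (mul_mem he hgE) he1
    fun e' => hge (by rw [← Invol.inv_self (h.invol e heD)]; exact eq_inv_of_mul_eq_one_right e')
  obtain ⟨n, hnX, hnE, hn⟩ := hE.trans g hgE e he hg1 he1
  have hee := Invol.mul_self (h.invol e heD)
  have h1 : n' * w * n'⁻¹ = w * g := by
    have hc : n' * (w * e) * n'⁻¹ = w * e := mul_inv_eq_iff_eq_mul.2 (mem_ptC.1 hn'X).1.eq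
    calc n' * w * n'⁻¹ = n' * (w * (e * e)) * n'⁻¹ := by rw [hee, mul_one]
      _ = (n' * (w * e) * n'⁻¹) * (n' * e * n'⁻¹) := by group
      _ = w * e * (e * g) := by rw [hc, hn']
      _ = w * g := by rw [mul_assoc, ← mul_assoc e, hee, one_mul]
  have hnw : n * w * n⁻¹ = w := mul_inv_eq_iff_eq_mul.2 (mem_ptC.1 hnX).1.eq
  have hm' : n' ∈ cosetNorm E w := mem_cosetNorm_of_conj hn'E (by rw [h1, inv_mul_cancel_left]; exact hgE)
  have hm : n ∈ cosetNorm E w := mem_cosetNorm_of_conj hnE (by rw [hnw, inv_mul_cancel]; exact one_mem _)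
  refine ⟨n * n', mem_inf.2 ⟨mul_mem hm hm', mem_stabilizer_iff.2 ?_⟩, ?_⟩
  · rw [mul_smul, (mem_ptC.1 hn'X).2, (mem_ptC.1 hnX).2]
  · calc n * n' * w * (n * n')⁻¹ = n * (n' * w * n'⁻¹) * n⁻¹ := by group
      _ = n * (w * g) * n⁻¹ := by rw [h1]
      _ = (n * w * n⁻¹) * (n * g * n⁻¹) := by group
      _ = w * e := by rw [hnw, hn]

/-- The 2-part of the stabiliser of `a` is at least `|E| * |T|`. -/
theorem card_mul_dvd_stabilizer {w : G} (hw : orderOf w = 2) (hbad : ¬ OneFix Ω w) {a : Ω} (ha : w • a = a)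
    {T E : Subgroup G} (hT : T ≤ ptC w a) (hE : ESet D w a T E) :
    Nat.card E * Nat.card T ∣ Nat.card ↥(cosetNorm E w ⊓ stabilizer G a) := by
  classical
  set N := cosetNorm E w ⊓ stabilizer G a with hN
  have hTN : T ≤ N ⊓ Subgroup.centralizer ({w} : Set G) := fun t ht => by
    obtain ⟨htw, hta⟩ := mem_ptC.1 (hT ht)
    refine mem_inf.2 ⟨mem_inf.2 ⟨mem_cosetNorm_of_conj (fun x => ⟨fun hx => ?_, hE.norm t ht x⟩) ?_,
      mem_stabilizer_iff.2 hta⟩, mem_centralizer_singleton_iff.2 htw.eq⟩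
    · have := hE.norm t⁻¹ (inv_mem ht) _ hx
      rwa [inv_inv, show t⁻¹ * (t * x * t⁻¹) * t = x by group] at this
    · rw [htw.eq, mul_inv_cancel_right, inv_mul_cancel]
      exact one_mem _
  letI : MulAction N G := MulAction.compHom G ((MulAut.conj : G →* MulAut G).comp N.subtype)
  have hs : ∀ (g : N) (x : G), g • x = (g : G) * x * (g : G)⁻¹ := fun _ _ => rfl
  have horb : MulAction.orbit N w = (fun e => w * e) '' (E : Set G) := by
    ext x
    constructor
    · rintro ⟨g, rfl⟩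
      refine ⟨w⁻¹ * ((g : G) * w * (g : G)⁻¹), ?_, ?_⟩
      · rw [SetLike.mem_coe, ((mem_inf.1 g.2).1.2 w), inv_mul_cancel]
        exact one_mem _
      · show w * (w⁻¹ * _) = g • w
        rw [mul_inv_cancel_left, hs]
    · rintro ⟨e, he, rfl⟩
      obtain ⟨g, hg, hge⟩ := h.exists_conj_coset hB hgen hw hbad ha hT hE he
      exact ⟨⟨g, hg⟩, hge⟩
  have hcard := Nat.card_congr (MulAction.orbitProdStabilizerEquivGroup N w)
  rw [Nat.card_prod, horb, Nat.card_image_of_injective (mul_right_injective w)] at hcard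
  rw [← hcard]
  refine mul_dvd_mul dvd_rfl ?_
  have hst : T.subgroupOf N ≤ MulAction.stabilizer N w := fun t ht => by
    rw [mem_stabilizer_iff, hs]
    exact mul_inv_eq_iff_eq_mul.2 (mem_centralizer_singleton_iff.1 (mem_inf.1 (hTN ht)).2)
  rw [← Nat.card_congr (subgroupOfEquivOfLe (hTN.trans inf_le_left)).toEquiv]
  exact card_dvd_of_le hst

/-- No Sylow 2-subgroup centralises an involution fixing two points. -/
theorem not_central_sylow {w : G} (hw : orderOf w = 2) (hbad : ¬ OneFix Ω w) (S : Sylow 2 G)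
    (hS : ∀ s ∈ (S : Subgroup G), Commute s w) : False := by
  haveI : Fact (Nat.Prime 2) := ⟨Nat.prime_two⟩
  have hb := hbad
  unfold OneFix at hb
  push Not at hb
  obtain ⟨p, -, hp, -, -⟩ := hb
  haveI : Nonempty Ω := ⟨p⟩
  obtain ⟨a, hSa⟩ := h.exists_fix_of_pGroup S.2
  have hwS : w ∈ (S : Subgroup G) := by
    have hw2 : IsPGroup 2 (zpowers w) := IsPGroup.of_card (n := 1) (by rw [Nat.card_zpowers, hw, pow_one])
    have hP := IsPGroup.to_sup_of_normal_left' S.2 hw2 (zpowers_le.2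
      (centralizer_le_normalizer _ (mem_centralizer_iff.2 fun s hs => (hS s hs).eq)))
    have := S.3 hP le_sup_left
    rw [← this]
    exact le_sup_right (a := (S : Subgroup G)) (mem_zpowers w)
  have hwa := hSa w hwS
  have hSX : (S : Subgroup G) ≤ ptC w a := fun s hs => mem_ptC.2 ⟨hS s hs, hSa s hs⟩
  obtain ⟨T, hT⟩ := (S.2.comap_subtype : IsPGroup 2 ((S : Subgroup G).subgroupOf (ptC w a))).exists_le_sylow
  obtain ⟨E, hE⟩ := h.exists_eset hB hgen hw hbad hwa T
  set T' := (T : Subgroup (ptC w a)).map (ptC w a).subtype with hT'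
  have hST : (S : Subgroup G) ≤ T' := fun s hs => ⟨⟨s, hSX hs⟩, hT hs, rfl⟩
  have hT'S : T' = S := S.3 (T.2.map _) hST
  have hdvd := (h.card_mul_dvd_stabilizer hB hgen hw hbad hwa (map_subtype_le _) hE).trans
    (card_subgroup_dvd_card _)
  rw [show (T : Subgroup (ptC w a)).map (ptC w a).subtype = (S : Subgroup G) from hT'S,
    ← (S : Subgroup G).card_mul_index, mul_comm (Nat.card (S : Subgroup G))] at hdvd
  have h2 : 2 ∣ Nat.card E := by
    obtain ⟨e, he, -, -, he1, -, -⟩ := hE.two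
    exact (Invol.order_two_of_sq (hE.sq e he) he1) ▸ Subgroup.orderOf_dvd_natCard E he
  exact S.not_dvd_index (h2.trans (Nat.dvd_of_mul_dvd_mul_right Nat.card_pos hdvd))

end Crit

end Cfsg.Agent.GoodInvol
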