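import Cfsg.Agent.Lib.GoodInvol.Trans
import Cfsg.Agent.Lib.GoodInvol.Coset
import Mathlib.Data.Int.ModEq

/-!
# The orbits of a point stabiliser

The points fixed by an involution fixing two points are one more than a power of two, a multiple of `|E|`; every
orbit of the stabiliser of `a` on the other points has length divisible by the least `|E| * (f - 1)`; hence the
congruence between `mu` and `kappa`.
-/

set_option autoImplicit false
set_option linter.style.haveILetI false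
set_option linter.unusedSectionVars false

namespace Cfsg.Agent.GoodInvol

open Subgroup MulAction

universe u v

variable {G : Type u} [Group G] [Finite G]

/-- A set split into orbits whose lengths are multiples of `K` has size a multiple of `K`. -/
theorem dvd_ncard_of_orbits {Ω : Type v} [Finite Ω] [MulAction G Ω] (A : Set Ω) {K : ℕ}
    (hinv : ∀ g : G, ∀ x ∈ A, g • x ∈ A) (hK : ∀ x ∈ A, K ∣ (orbit G x).ncard) : K ∣ A.ncard := by
  classical
  rw [Set.ncard_eq_toFinset_card A (Set.toFinite _), Finset.card_eq_sum_card_image (orbit G) A.toFinite.toFinset]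
  refine Finset.dvd_sum fun b hb => ?_
  obtain ⟨x, hx, rfl⟩ := Finset.mem_image.1 hb
  rw [Set.Finite.mem_toFinset] at hx
  have e : (A.toFinite.toFinset.filter fun y => orbit G y = orbit G x) = (orbit G x).toFinite.toFinset := by
    ext y
    rw [Finset.mem_filter, Set.Finite.mem_toFinset, Set.Finite.mem_toFinset]
    refine ⟨fun hy => hy.2 ▸ mem_orbit_self y, fun hy => ⟨?_, orbit_eq_iff.2 hy⟩⟩
    obtain ⟨g, rfl⟩ := hy
    exact hinv g x hx
  rw [e, ← Set.ncard_eq_toFinset_card]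
  exact hK x hx

variable {Ω : Type u} [MulAction G Ω] [Finite Ω] [FaithfulSMul G Ω] {D : Set G}

namespace Crit

variable (h : Crit D Ω) (hB : Below.{u} (Nat.card G)) (hgen : closure D = ⊤)
include h hB hgen

/-- One less than the number of fixed points is a power of two. -/
theorem exists_fix_pow {w : G} (hw : orderOf w = 2) (hbad : ¬ OneFix Ω w) :
    ∃ k : ℕ, (fixSet Ω w).ncard = 2 ^ k + 1 := by
  classical
  haveI : Fact (Nat.Prime 2) := ⟨Nat.prime_two⟩
  have hb := hbad
  unfold OneFix at hb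
  push Not at hb
  obtain ⟨p, x0, hwp, hwx, hpx0⟩ := hb
  obtain ⟨⟨d1, hd1, e1, he1, hd1X, he1X, hne1, hde1⟩, -⟩ := h.exists_image hB hgen hw hbad hwp
  set C := Subgroup.centralizer ({w} : Set G) with hCdef
  set D' := {c : C | (c : G) ∈ D} with hD'
  have hCrit : Crit D' (fixSub Ω w) := h.centralizer hw
  have hGoal : Goal D' (fixSub Ω w) := goal_centralizer hB h hgen hw hwp
  set pF : fixSub Ω w := ⟨p, hwp⟩ with hpF
  set xF : fixSub Ω w := ⟨x0, hwx⟩ with hxF
  have hpx : pF ≠ xF := fun e => hpx0 (congrArg Subtype.val e)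
  obtain ⟨hse, hcore⟩ := se_induced hCrit hGoal hpx
  set I := induced D' (fixSub Ω w) with hIdef
  set π := toPermHom C (fixSub Ω w) with hπ
  have hmemI : ∀ c : C, (c : G) ∈ D → π c ∈ I := fun c hc =>
    mem_map_of_mem (K := closure D') π (subset_closure (show c ∈ D' from hc))
  have hord : ∀ (c : C) (hc : (c : G) ∈ D), orderOf (⟨π c, hmemI c hc⟩ : I) = 2 := fun c hc => by
    refine Invol.order_two_of_sq (Subtype.ext ?_) fun h1 => ?_
    · show π c * π c = 1
      rw [← map_mul, show c * c = 1 from Subtype.ext (Invol.mul_self (h.invol _ hc)), map_one]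
    · have h1' : π c = 1 := congrArg Subtype.val h1
      have hfix : ∀ z : fixSub Ω w, c • z = z := fun z => by
        show π c z = z
        rw [h1', Equiv.Perm.one_apply]
      exact hpx (hCrit.unique c hc pF xF (hfix pF) (hfix xF))
  have hR : ¬ BrauerSuzuki.RankOne I := by
    intro hR
    set dC : C := ⟨d1, mem_centralizer_singleton_iff.2 (mem_ptC.1 hd1X).1.eq⟩
    set eC : C := ⟨e1, mem_centralizer_singleton_iff.2 (mem_ptC.1 he1X).1.eq⟩
    have hc : Commute (⟨π dC, hmemI dC hd1⟩ : I) ⟨π eC, hmemI eC he1⟩ := Subtype.ext (by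
      show π dC * π eC = π eC * π dC
      rw [← map_mul, show dC * eC = eC * dC from Subtype.ext hde1.eq, map_mul])
    have heq : π dC = π eC :=
      congrArg (fun k : I => (k : Equiv.Perm (fixSub Ω w))) (hR _ _ (hord dC hd1) (hord eC he1) hc)
    refine hne1 (h.eq_of_fixAct hbad hd1 he1 hde1 fun z hz => ?_)
    have h2 : π dC ⟨z, hz⟩ = π eC ⟨z, hz⟩ := by rw [heq]
    exact congrArg Subtype.val h2
  obtain ⟨Q, hQ⟩ := SEMain.exists_reg SEMain.stmt hse hcore (SEMain.exists_pair hse hR)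
  obtain ⟨k, hk⟩ := IsPGroup.iff_card.1 hQ.two
  -- the orbit of a second point under the regular subgroup
  have htr : ∀ z : fixSub Ω w, ∃ g : I, g • pF = z := fun z => by
    obtain ⟨g, hg, hgz⟩ := hCrit.exists_smul pF z
    exact ⟨⟨π g, mem_map_of_mem _ hg⟩, hgz⟩
  obtain ⟨g1, hg1⟩ := htr xF
  have hg1H : g1 ∉ stabilizer I pF := fun e => hpx ((mem_stabilizer_iff.1 e).symm.trans hg1)
  let f : Q → ({pF}ᶜ : Set (fixSub Ω w)) := fun q => ⟨(q : I) • xF, fun e => by
    have e1 : ((q : I) * g1) • pF = pF := by rw [mul_smul, hg1]; exact e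
    exact hg1H ((Subgroup.mul_mem_cancel_left _ (hQ.le q.2)).1 (mem_stabilizer_iff.2 e1))⟩
  have hf : Function.Bijective f := by
    refine ⟨fun q q' hqq => ?_, fun z => ?_⟩
    · have e1 : (q : I) • xF = (q' : I) • xF := congrArg Subtype.val hqq
      refine Subtype.ext (inv_mul_eq_one.1 (hQ.reg g1 hg1H _ (mul_mem (inv_mem q.2) q'.2) (mem_stabilizer_iff.2 ?_)))
      rw [mul_smul, mul_smul, inv_smul_eq_iff, hg1, mul_smul, inv_smul_eq_iff]
      exact e1.symm
    · obtain ⟨g2, hg2⟩ := htr z.1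
      have hg2H : g2 ∉ stabilizer I pF := fun e => z.2 (hg2.symm.trans (mem_stabilizer_iff.1 e))
      obtain ⟨q, hq, hqq⟩ := hQ.trans g1 g2 hg1H hg2H
      refine ⟨⟨q, hq⟩, Subtype.ext ?_⟩
      have h1 : (g2⁻¹ * (q * g1)) • pF = pF := hqq
      rw [mul_smul, mul_smul, inv_smul_eq_iff, hg1, hg2] at h1
      exact h1
  have hc := Nat.card_congr (Equiv.ofBijective f hf)
  rw [hk, Nat.card_coe_set_eq] at hc
  refine ⟨k, ?_⟩
  have hs := Set.ncard_add_ncard_compl ({pF} : Set (fixSub Ω w))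
  rw [Set.ncard_singleton, ← hc, show Nat.card (fixSub Ω w) = (fixSet Ω w).ncard from Nat.card_coe_set_eq _] at hs
  omega

/-- The order of the elementary subgroup divides one less than the number of fixed points. -/
theorem card_eset_dvd {w : G} (hw : orderOf w = 2) (hbad : ¬ OneFix Ω w) {a : Ω} (ha : w • a = a)
    {T E : Subgroup G} (hT : T ≤ ptC w a) (hE : ESet D w a T E) :
    Nat.card E ∣ (fixSet Ω w).ncard - 1 := by
  have hfix : ∀ e : E, (e : G) • a = a := fun e => (mem_ptC.1 (hT (hE.le e.2))).2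
  have hwc : ∀ e : E, Commute (e : G) w := fun e => (mem_ptC.1 (hT (hE.le e.2))).1
  rw [← Set.ncard_sdiff_singleton_of_mem (show a ∈ fixSet Ω w from ha)]
  refine dvd_ncard_of_orbits (G := E) _ (fun e z hz => ⟨?_, fun e' => hz.2 ?_⟩) fun z hz => ?_
  · show w • (e : G) • z = (e : G) • z
    rw [← mul_smul, ← (hwc e).eq, mul_smul, hz.1]
  · exact MulAction.injective (e : G) (e'.trans (hfix e).symm)
  · have hst : stabilizer E z = ⊥ := by
      rw [eq_bot_iff]
      intro e he
      rw [Subgroup.mem_bot]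
      by_contra he1
      have heD := (((hE.mem e).1 e.2).resolve_left fun e1 => he1 (Subtype.ext e1)).1
      exact hz.2 (h.unique _ heD z a he (hfix e))
    have hc := Nat.card_congr (MulAction.orbitProdStabilizerEquivGroup E z)
    rw [Nat.card_prod, hst, Subgroup.card_bot, mul_one, Nat.card_coe_set_eq] at hc
    rw [hc]

/-- `|E| * (f - 1) * |P|` divides the order of the stabiliser of `a` for a 2-group `P` fixing two points of `w`. -/
theorem mul_card_dvd_stabilizer {w : G} (hw : orderOf w = 2) (hbad : ¬ OneFix Ω w) {a : Ω} (ha : w • a = a)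
    {x : Ω} (hx : w • x = x) (hxa : x ≠ a) {T : Sylow 2 (ptC w a)} {E : Subgroup G}
    (hE : ESet D w a ((T : Subgroup (ptC w a)).map (ptC w a).subtype) E) {P : Subgroup G} (hP : IsPGroup 2 P)
    (hPX : P ≤ ptC w a) (hPx : ∀ g ∈ P, g • x = x) :
    Nat.card E * ((fixSet Ω w).ncard - 1) * Nat.card P ∣ Nat.card (stabilizer G a) := by
  classical
  haveI : Fact (Nat.Prime 2) := ⟨Nat.prime_two⟩
  haveI : Nonempty Ω := ⟨a⟩
  obtain ⟨d, hd, hdw⟩ := Set.nonempty_of_ncard_ne_zero (h.odd_cdat hw ha).pos.ne'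
  have horb : MulAction.orbit (ptC w a) x = fixSet Ω w \ {a} := by
    ext z
    constructor
    · rintro ⟨g, rfl⟩
      obtain ⟨hgw, hga⟩ := mem_ptC.1 g.2
      refine ⟨?_, fun e => hxa (MulAction.injective (g : G) (?_ : (g : G) • x = (g : G) • a))⟩
      · show w • (g : G) • x = (g : G) • x
        rw [← mul_smul, ← hgw.eq, mul_smul, hx]
      · rw [hga]
        exact e
    · rintro ⟨hz, hza⟩
      obtain ⟨g, hgw, hgd, rfl⟩ := h.exists_smul_at hB hgen hw hbad ⟨hd.1, hdw⟩ hd.2 hx hxa hz hza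
      exact ⟨⟨g, mem_ptC.2 ⟨hgw, h.unique d hd.1 _ _ (by rw [← mul_smul, ← hgd.eq, mul_smul, hd.2]) hd.2⟩⟩, rfl⟩
  have hc := Nat.card_congr (MulAction.orbitProdStabilizerEquivGroup (ptC w a) x)
  rw [Nat.card_prod, horb, Nat.card_coe_set_eq,
    Set.ncard_sdiff_singleton_of_mem (show a ∈ fixSet Ω w from ha)] at hc
  have h1 : ((fixSet Ω w).ncard - 1) * Nat.card P ∣ Nat.card (ptC w a) := by
    rw [← hc]
    refine mul_dvd_mul_left _ ?_
    rw [← Nat.card_congr (subgroupOfEquivOfLe hPX).toEquiv]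
    exact card_dvd_of_le fun g hg => hPx g hg
  obtain ⟨k, hk⟩ := h.exists_fix_pow hB hgen hw hbad
  obtain ⟨j, hj⟩ := IsPGroup.iff_card.1 hP
  have h2 : ((fixSet Ω w).ncard - 1) * Nat.card P ∣ Nat.card ↥((T : Subgroup (ptC w a)).map (ptC w a).subtype) := by
    rw [card_map_of_injective (subtype_injective _)]
    rw [hk, Nat.add_sub_cancel, hj, ← pow_add] at h1 ⊢
    exact T.pow_dvd_card_of_pow_dvd_card h1
  rw [mul_assoc]
  exact ((mul_dvd_mul_left (Nat.card E) h2).trans
    (h.card_mul_dvd_stabilizer hB hgen hw hbad ha (map_subtype_le _) hE)).trans (card_dvd_of_le inf_le_right)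

/-- A common divisor of all `|E| * (f - 1)` at `a` divides every orbit of the stabiliser of `a` off `a`. -/
theorem dvd_orbit {a : Ω} {u0 : G} (hu0 : orderOf u0 = 2) (hu0b : ¬ OneFix Ω u0) (hu0a : u0 • a = a) {k : ℕ}
    (hK : ∀ v : G, orderOf v = 2 → ¬ OneFix Ω v → v • a = a → ∀ (T : Sylow 2 (ptC v a)) (E : Subgroup G),
      ESet D v a ((T : Subgroup (ptC v a)).map (ptC v a).subtype) E → 2 ^ k ∣ Nat.card E * ((fixSet Ω v).ncard - 1))
    {x : Ω} (hxa : x ≠ a) : 2 ^ k ∣ (orbit (stabilizer G a) x).ncard := by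
  classical
  haveI : Fact (Nat.Prime 2) := ⟨Nat.prime_two⟩
  set Ga := stabilizer G a
  let S : Sylow 2 (stabilizer Ga x) := Classical.arbitrary _
  set P : Subgroup G := ((S : Subgroup (stabilizer Ga x)).map (stabilizer Ga x).subtype).map Ga.subtype with hP
  have hP2 : IsPGroup 2 P := (S.2.map _).map _
  have hPcard : Nat.card P = Nat.card (S : Subgroup (stabilizer Ga x)) := by
    rw [hP, card_map_of_injective (subtype_injective _), card_map_of_injective (subtype_injective _)]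
  have hPa : ∀ g ∈ P, g • a = a ∧ g • x = x := by
    rintro _ ⟨g, ⟨g', -, rfl⟩, rfl⟩
    exact ⟨(g' : Ga).2, g'.2⟩
  have hmain : 2 ^ k * Nat.card P ∣ Nat.card Ga := by
    by_cases hP1 : P = ⊥
    · rw [hP1, Subgroup.card_bot, mul_one]
      obtain ⟨T⟩ := (inferInstance : Nonempty (Sylow 2 (ptC u0 a)))
      obtain ⟨E, hE⟩ := h.exists_eset hB hgen hu0 hu0b hu0a T
      have hb := hu0b
      unfold OneFix at hb
      push Not at hb
      obtain ⟨p, q, hp, hq, hpq⟩ := hb
      obtain ⟨y, hy, hya⟩ : ∃ y, u0 • y = y ∧ y ≠ a := by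
        by_cases hpa : p = a
        · exact ⟨q, hq, fun e => hpq (hpa.trans e.symm)⟩
        · exact ⟨p, hp, hpa⟩
      have := h.mul_card_dvd_stabilizer hB hgen hu0 hu0b hu0a hy hya hE (IsPGroup.of_bot) bot_le
        fun g hg => by rw [mem_bot.1 hg, one_smul]
      rw [Subgroup.card_bot, mul_one] at this
      exact (hK u0 hu0 hu0b hu0a T E hE).trans this
    haveI : Nontrivial P := (nontrivial_iff_ne_bot P).2 hP1
    obtain ⟨n, hn, hPn⟩ := hP2.nontrivial_iff_card.1 inferInstance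
    obtain ⟨c, hc1, hc⟩ : ∃ c : P, c ≠ 1 ∧ c ∈ center P := by
      haveI := hP2.center_nontrivial
      obtain ⟨c, hc⟩ := exists_ne (1 : center P)
      exact ⟨c, fun e => hc (Subtype.ext e), c.2⟩
    obtain ⟨i, hi⟩ := IsPGroup.iff_orderOf.1 hP2 c
    rcases i with _ | i
    · rw [pow_zero, orderOf_eq_one_iff] at hi
      exact absurd hi hc1
    set v : P := c ^ (2 ^ i) with hv
    have hv2 : orderOf (v : G) = 2 := by
      rw [Subgroup.orderOf_coe, hv, orderOf_pow' _ (by positivity), hi,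
        Nat.gcd_eq_right (pow_dvd_pow 2 (Nat.le_succ i)), pow_succ, Nat.mul_div_cancel_left _ (by positivity)]
    have hvc : ∀ g ∈ P, Commute g (v : G) := fun g hg =>
      congrArg Subtype.val (mem_center_iff.1 (pow_mem hc (2 ^ i)) ⟨g, hg⟩)
    obtain ⟨hva, hvx⟩ := hPa v v.2
    have hvb : ¬ OneFix Ω (v : G) := fun e => hxa (e x a hvx hva)
    have hPX : P ≤ ptC (v : G) a := fun g hg => mem_ptC.2 ⟨hvc g hg, (hPa g hg).1⟩
    obtain ⟨T⟩ := (inferInstance : Nonempty (Sylow 2 (ptC (v : G) a)))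
    obtain ⟨E, hE⟩ := h.exists_eset hB hgen hv2 hvb hva T
    exact (mul_dvd_mul_right (hK _ hv2 hvb hva T E hE) _).trans
      (h.mul_card_dvd_stabilizer hB hgen hv2 hvb hva hvx hxa hE hP2 hPX fun g hg => (hPa g hg).2)
  have hc := Nat.card_congr (MulAction.orbitProdStabilizerEquivGroup Ga x)
  rw [Nat.card_prod, Nat.card_coe_set_eq] at hc
  rw [← hc, hPcard, ← (S : Subgroup (stabilizer Ga x)).card_mul_index,
    mul_comm (2 ^ k), mul_comm (orbit Ga x).ncard, mul_assoc] at hmain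
  have h3 := Nat.dvd_of_mul_dvd_mul_left Nat.card_pos hmain
  exact (Nat.Coprime.pow_left k ((Nat.Prime.coprime_iff_not_dvd Nat.prime_two).2 S.not_dvd_index)).dvd_of_dvd_mul_left h3

/-- It divides the number of points other than `a`. -/
theorem dvd_card_pred {a : Ω} {u0 : G} (hu0 : orderOf u0 = 2) (hu0b : ¬ OneFix Ω u0) (hu0a : u0 • a = a) {k : ℕ}
    (hK : ∀ v : G, orderOf v = 2 → ¬ OneFix Ω v → v • a = a → ∀ (T : Sylow 2 (ptC v a)) (E : Subgroup G),
      ESet D v a ((T : Subgroup (ptC v a)).map (ptC v a).subtype) E → 2 ^ k ∣ Nat.card E * ((fixSet Ω v).ncard - 1)) :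
    2 ^ k ∣ Nat.card Ω - 1 := by
  have e : ({a}ᶜ : Set Ω).ncard = Nat.card Ω - 1 := by
    rw [Set.ncard_compl, Set.ncard_singleton]
  rw [← e]
  exact dvd_ncard_of_orbits (G := stabilizer G a) _
    (fun g x hx e' => hx (MulAction.injective (g : G) (e'.trans (mem_stabilizer_iff.1 g.2).symm)))
    fun x hx => h.dvd_orbit hB hgen hu0 hu0b hu0a hK hx

/-- An involution of least `|E| * (f - 1)`: that number divides the orbits. -/
theorem dvd_orbit_of_least {w : G} (hw : orderOf w = 2) (hbad : ¬ OneFix Ω w) {a : Ω} (ha : w • a = a)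
    {T : Sylow 2 (ptC w a)} {E : Subgroup G} (hE : ESet D w a ((T : Subgroup (ptC w a)).map (ptC w a).subtype) E)
    (hmin : ∀ v : G, orderOf v = 2 → ¬ OneFix Ω v → v • a = a → ∀ (T' : Sylow 2 (ptC v a)) (E' : Subgroup G),
      ESet D v a ((T' : Subgroup (ptC v a)).map (ptC v a).subtype) E' →
      Nat.card E * ((fixSet Ω w).ncard - 1) ≤ Nat.card E' * ((fixSet Ω v).ncard - 1)) :
    ∀ z : Ω, z ≠ a → Nat.card E * ((fixSet Ω w).ncard - 1) ∣ (orbit (stabilizer G a) z).ncard := by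
  classical
  haveI : Fact (Nat.Prime 2) := ⟨Nat.prime_two⟩
  have hpow : ∀ (v : G), orderOf v = 2 → ¬ OneFix Ω v → v • a = a → ∀ (T' : Sylow 2 (ptC v a)) (E' : Subgroup G),
      ESet D v a ((T' : Subgroup (ptC v a)).map (ptC v a).subtype) E' →
      ∃ k, Nat.card E' * ((fixSet Ω v).ncard - 1) = 2 ^ k := by
    intro v hv hvb hva T' E' hE'
    obtain ⟨i, hi⟩ := h.exists_fix_pow hB hgen hv hvb
    obtain ⟨j, hj⟩ := IsPGroup.iff_card.1 (fun e => ⟨1, Subtype.ext (by simpa [pow_two] using hE'.sq _ e.2)⟩ :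
      IsPGroup 2 E')
    exact ⟨j + i, by rw [hj, hi, Nat.add_sub_cancel, pow_add]⟩
  obtain ⟨k, hk⟩ := hpow w hw hbad ha T E hE
  intro z hz
  rw [hk]
  refine h.dvd_orbit hB hgen hw hbad ha (k := k) (fun v hv hvb hva T' E' hE' => ?_) hz
  obtain ⟨k', hk'⟩ := hpow v hv hvb hva T' E' hE'
  rw [hk']
  refine pow_dvd_pow 2 ((Nat.pow_le_pow_iff_right (le_refl 2)).1 ?_)
  rw [← hk, ← hk']
  exact hmin v hv hvb hva T' E' hE'

/-- The congruence between the swappers and the lifts when `|E| * (f - 1)` divides the orbits. -/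
theorem csig_modEq_kap {w : G} (hw : orderOf w = 2) (hbad : ¬ OneFix Ω w) {a : Ω} (ha : w • a = a)
    {T : Sylow 2 (ptC w a)} {E : Subgroup G} (hE : ESet D w a ((T : Subgroup (ptC w a)).map (ptC w a).subtype) E)
    (hdvd : ∀ z : Ω, z ≠ a → Nat.card E * ((fixSet Ω w).ncard - 1) ∣ (orbit (stabilizer G a) z).ncard)
    {d : G} (hd : d ∈ cmem D w) {x : Ω} (hx : w • x ≠ x) :
    (csig D w x).ncard ≡ (kap D Ω w d).ncard [MOD Nat.card E] := by
  classical
  haveI : Fact (Nat.Prime 2) := ⟨Nat.prime_two⟩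
  obtain ⟨M, hM⟩ : Nat.card E * ((fixSet Ω w).ncard - 1) ∣ Nat.card Ω - 1 := by
    rw [show Nat.card Ω - 1 = ({a}ᶜ : Set Ω).ncard by rw [Set.ncard_compl, Set.ncard_singleton]]
    exact dvd_ncard_of_orbits (G := stabilizer G a) _
      (fun g x hx e' => hx (MulAction.injective (g : G) (e'.trans (mem_stabilizer_iff.1 g.2).symm))) hdvd
  obtain ⟨i, hi⟩ := h.exists_fix_pow hB hgen hw hbad
  obtain ⟨r, hr⟩ := h.card_eset_dvd hB hgen hw hbad ha (map_subtype_le _) hE
  have hcount := h.card_moved_eq hB hgen hw hbad ha hx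
  rw [h.card_cdat_kap hB hgen hw hbad ha hE (map_subtype_le _) hd] at hcount
  have hpos : (fixSet Ω w).ncard + (fixSet Ω w)ᶜ.ncard = Nat.card Ω := Set.ncard_add_ncard_compl _
  set q := Nat.card E
  set μ := (csig D w x).ncard
  set κ := (kap D Ω w d).ncard
  set h' := (fixSet Ω w).ncard - 1 with hh'
  have hh0 : 0 < h' := by rw [hh', hi, Nat.add_sub_cancel]; positivity
  have hf : (fixSet Ω w).ncard = h' + 1 := by omega
  have hq1 : 1 ≤ q := Nat.card_pos
  have hzc : ((fixSet Ω w)ᶜ.ncard : ℤ) = (h' : ℤ) * ((q : ℤ) * M - 1) := by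
    have h4 : ((Nat.card Ω - 1 : ℕ) : ℤ) = (q : ℤ) * h' * M := by rw [hM]; push_cast; ring
    rw [← hpos, hf, show h' + 1 + (fixSet Ω w)ᶜ.ncard - 1 = h' + (fixSet Ω w)ᶜ.ncard by omega] at h4
    push_cast at h4
    linear_combination h4
  have h5 : ((q : ℤ) * M - 1) * μ = ((h' : ℤ) + 1) * ((q : ℤ) - 1) * κ := by
    have h6 : (((fixSet Ω w)ᶜ.ncard * μ : ℕ) : ℤ) = (((h' + 1) * ((q - 1) * κ) * h' : ℕ) : ℤ) := by
      rw [hcount, hf]
    push_cast [Nat.cast_sub hq1] at h6
    rw [hzc] at h6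
    refine mul_left_cancel₀ (Int.natCast_ne_zero.2 hh0.ne') ?_
    linear_combination h6
  have hr' : (h' : ℤ) = (q : ℤ) * r := by exact_mod_cast hr
  refine Int.natCast_modEq_iff.1 (Int.modEq_iff_dvd.2 ⟨(r : ℤ) * ((q : ℤ) - 1) * κ + κ - M * μ, ?_⟩)
  rw [hr'] at h5
  linear_combination h5

end Crit

end Cfsg.Agent.GoodInvol
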