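import Cfsg.Agent.Lib.GoodInvol.FourEq
import Cfsg.Agent.Lib.GoodInvol.Sub
import Cfsg.Agent.Lib.GoodInvol.Outer
import Cfsg.Agent.Lib.GoodInvol.Orbit

/-!
# Case A: no unitary torus at a pair

No element of prime order `p`, with `p` dividing neither the number of members at a point nor `|F| - 1`, centralises
a pair with one fixed point set `F`, two commuting members at a point of `F` and a member at a further point of `F`.
-/

set_option autoImplicit false
set_option linter.style.haveILetI false
set_option linter.unusedSectionVars false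

namespace Cfsg.Agent.GoodInvol

open Subgroup MulAction

universe u v

variable {G : Type u} [Group G] [Finite G]

/-- An element of prime order `p` fixes a member of an invariant set of size prime to `p`. -/
theorem exists_fixed_of_not_dvd {Ω : Type v} [Finite Ω] [MulAction G Ω] {k : G} {p : ℕ} (hp : p.Prime)
    (hk : orderOf k = p) {A : Set Ω} (hA : ∀ z ∈ A, k • z ∈ A) (hd : ¬ p ∣ A.ncard) : ∃ z ∈ A, k • z = z := by
  haveI : Fact p.Prime := ⟨hp⟩
  by_contra! hno
  refine hd (dvd_ncard_of_orbits (G := zpowers k) A ?_ fun z hz => ?_)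
  · rintro ⟨g, hg⟩ z hz
    obtain ⟨i, rfl⟩ := (isOfFinOrder_of_finite k).mem_powers_iff_mem_zpowers.2 hg
    show k ^ i • z ∈ A
    induction i with
    | zero => rwa [pow_zero, one_smul]
    | succ i ih => rw [pow_succ', mul_smul]; exact hA _ (ih (pow_mem (mem_zpowers k) i))
  · have hcard : Nat.card (zpowers k) = p := by rw [Nat.card_zpowers, hk]
    have hdvd : (orbit (zpowers k) z).ncard ∣ p := by
      rw [← Nat.card_coe_set_eq, Nat.card_congr (orbitEquivQuotientStabilizer (zpowers k) z), ← hcard]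
      exact (stabilizer (zpowers k) z).card_quotient_dvd_card
    rcases (Nat.dvd_prime hp).1 hdvd with h1 | h1
    · exfalso
      obtain ⟨y, hy⟩ := Set.ncard_eq_one.1 h1
      have e1 : k • z ∈ ({y} : Set Ω) := hy ▸ mem_orbit z (⟨k, mem_zpowers k⟩ : zpowers k)
      have e2 : z ∈ ({y} : Set Ω) := hy ▸ mem_orbit_self z
      exact hno z hz (e1.trans e2.symm)
    · rw [h1]

variable {Ω : Type u} [MulAction G Ω] [Finite Ω] [FaithfulSMul G Ω] {D : Set G}

namespace FourPair

variable {u v : G} (P : FourPair Ω u v) (h : Crit D Ω) (hB : Below.{u} (Nat.card G)) (hgen : closure D = ⊤)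
include P h hB hgen

/-- No such element centralises the pair. -/
theorem no_central_torus {a b : Ω} (ha : u • a = a) (hb : u • b = b) (hab : a ≠ b) {T E : Subgroup G}
    (hT : T ≤ ptC u a) (hE : ESet D u a T E) {p : ℕ} (hp : p.Prime) {k : G} (hk : orderOf k = p)
    (hpm : ¬ p ∣ Nat.card E - 1) (hpf : ¬ p ∣ (fixSet Ω u).ncard - 1) (hku : Commute k u) (hkv : Commute k v)
    (hka : k • a = a) {d1 d2 : G} (h1 : d1 ∈ cmem D u) (h1a : d1 • a = a) (h2 : d2 ∈ cmem D u)
    (hne : d1 ≠ d2) (h12 : Commute d1 d2) (hk1 : Commute k d1) (hk2 : Commute k d2) {e : G} (he : e ∈ D)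
    (heb : e • b = b) (hke : Commute k e) : False := by
  classical
  have h2p : ∃ x y : Ω, x ≠ y := ⟨a, b, hab⟩
  set H := Subgroup.centralizer ({k} : Set G) with hH
  have hHtop : H ≠ ⊤ := fun e' => by
    have hall : ∀ g : G, g * k = k * g := fun g => mem_centralizer_singleton_iff.1 (show g ∈ H from e'.ge (mem_top g))
    have hk1' : k = 1 := FaithfulSMul.eq_of_smul_eq_smul (α := Ω) fun z => by
      obtain ⟨g, -, rfl⟩ := h.exists_smul a z
      rw [one_smul, ← mul_smul, ← hall g, mul_smul, hka]
    rw [hk1', orderOf_one] at hk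
    exact hp.ne_one hk.symm
  -- the fixed points of `u * d1`
  set w := u * d1 with hw'
  have hw : orderOf w = 2 := h.mul_invol_of_cmem P.ou P.bad h1
  have hwbad : ¬ OneFix Ω w := h.not_oneFix_mul P.ou P.bad h1.1 h1.2
  have hwa : w • a = a := by rw [hw', mul_smul, h1a, ha]
  have hkw : Commute k w := hku.mul_right hk1
  obtain ⟨x, ⟨hxw, hxa⟩, hkx⟩ := exists_fixed_of_not_dvd hp hk (A := fixSet Ω w \ {a})
    (fun z hz => ⟨show w • k • z = k • z by rw [← mul_smul, ← hkw.eq, mul_smul, show w • z = z from hz.1],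
      fun e' => hz.2 (MulAction.injective k (e'.trans hka.symm))⟩)
    (by rw [Set.ncard_sdiff_singleton_of_mem (show a ∈ fixSet Ω w from hwa),
      P.card_fixSet_eq h hB hgen ha hT hE hw hwbad hwa]; exact hpf)
  obtain ⟨y, hy⟩ : ∃ y : Ω, w • y ≠ y := by
    by_contra! hall
    exact Invol.ne_one hw (FaithfulSMul.eq_of_smul_eq_smul (α := Ω) fun z => by rw [hall z, one_smul])
  haveI : Finite (ConjAct G) := ‹Finite G›
  obtain ⟨c, hc, hkc⟩ := exists_fixed_of_not_dvd (G := ConjAct G) (Ω := G) (k := ConjAct.toConjAct k) hp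
    ((MulEquiv.orderOf_eq ConjAct.toConjAct k).trans hk) (A := cdat D w x)
    (fun z hz => by
      rw [ConjAct.smul_def, ConjAct.ofConjAct_toConjAct]
      refine ⟨⟨h.conj k z hz.1.1, ?_⟩, ?_⟩
      · rw [mul_smul, mul_smul, inv_smul_eq_iff.2 hkx.symm, hz.1.2, hkx]
      · exact (hkw.mul_left hz.2).mul_left hkw.inv_left)
    (by rw [h.card_cdat_eq hw hxw hwa, (P.card_csig_of_fix h hB hgen ha hT hE hw hwbad hwa hy).1]; exact hpm)
  rw [ConjAct.smul_def, ConjAct.ofConjAct_toConjAct] at hkc
  have hkc' : Commute k c := mul_inv_eq_iff_eq_mul.1 hkc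
  -- the points carried by `C(k)`
  have hmem : ∀ g : G, Commute k g → g ∈ H := fun g hg => mem_centralizer_singleton_iff.2 hg.eq.symm
  set X := memSub h H
  set aX : X := ⟨a, d1, h1.1, hmem _ hk1, h1a⟩
  set bX : X := ⟨b, e, he, hmem _ hke, heb⟩
  set xX : X := ⟨x, c, hc.1.1, hmem _ hkc', hc.1.2⟩
  have habX : aX ≠ bX := fun e' => hab (congrArg Subtype.val e')
  have hCrit := h.sub h2p (h.badCent hB hgen) H
  have hGoal : Goal {d : H | (d : G) ∈ D} X := h.goal_sub h2p hB hgen hHtop
  have hmI : ∀ d : H, (d : G) ∈ D → toPermHom H X d ∈ induced {d : H | (d : G) ∈ D} X := fun d hd =>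
    mem_map_of_mem (K := closure {d : H | (d : G) ∈ D}) _ (subset_closure hd)
  have hbender : SEBender.IsBender (induced {d : H | (d : G) ∈ D} X) := by
    rcases induced_outcome hCrit hGoal habX with ⟨hR, -⟩ | ⟨hBe, -⟩
    · exfalso
      set D1 : H := ⟨d1, hmem _ hk1⟩
      set D2 : H := ⟨d2, hmem _ hk2⟩
      have hord : ∀ (d : H) (hd : (d : G) ∈ D), orderOf (⟨_, hmI d hd⟩ : induced {d : H | (d : G) ∈ D} X) = 2 := by
        intro d hd
        refine Invol.order_two_of_sq (Subtype.ext ?_) fun e' => habX ?_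
        · show toPermHom H X d * toPermHom H X d = 1
          rw [← map_mul, show d * d = 1 from Subtype.ext (Invol.mul_self (h.invol _ hd)), map_one]
        · have hz : ∀ z : X, d • z = z := fun z => Equiv.congr_fun (congrArg Subtype.val e') z
          exact hCrit.unique d hd aX bX (hz aX) (hz bX)
      have heq := hR _ _ (hord D1 h1.1) (hord D2 h2.1) (Subtype.ext (by
        show toPermHom H X D1 * toPermHom H X D2 = toPermHom H X D2 * toPermHom H X D1
        rw [← map_mul, ← map_mul, show D1 * D2 = D2 * D1 from Subtype.ext h12.eq]))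
      have hz : ∀ z : X, D1 • z = D2 • z := fun z => Equiv.congr_fun (congrArg Subtype.val heq) z
      refine habX (hCrit.prod D1 h1.1 D2 h2.1 (Subtype.ext h12.eq) (fun e' => hne (congrArg Subtype.val e')) aX bX
        ?_ ?_)
      · rw [mul_smul, ← hz, ← mul_smul, show D1 * D1 = 1 from Subtype.ext (Invol.mul_self (h.invol _ h1.1)),
          one_smul]
      · rw [mul_smul, ← hz, ← mul_smul, show D1 * D1 = 1 from Subtype.ext (Invol.mul_self (h.invol _ h1.1)),
          one_smul]
    · exact hBe
  set U : H := ⟨u, hmem _ hku⟩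
  set V : H := ⟨v, hmem _ hkv⟩
  have huv : ∀ z : X, U • V • z = V • U • z := fun z => by
    rw [← mul_smul, ← mul_smul, show U * V = V * U from Subtype.ext P.comm.eq]
  have hU : ∀ z : X, U • U • z = z := fun z => by
    rw [← mul_smul, show U * U = 1 from Subtype.ext (Invol.mul_self P.ou), one_smul]
  have hV : ∀ z : X, V • V • z = z := fun z => by
    rw [← mul_smul, show V * V = 1 from Subtype.ext (Invol.mul_self P.ov), one_smul]
  have hux : u • x ≠ x := fun e' => by
    refine hxa (h.unique d1 h1.1 x a ?_ h1a)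
    have h3 : u • d1 • x = x := by rw [← mul_smul]; exact hxw
    calc d1 • x = u • u • d1 • x := by rw [← mul_smul u, Invol.mul_self P.ou, one_smul]
      _ = x := by rw [h3, e']
  rcases outer_pair hCrit hGoal hbender huv hU hV habX (Subtype.ext ha) (Subtype.ext hb)
    (Subtype.ext ((P.fix a).1 ha)) (Subtype.ext ((P.fix b).1 hb)) with hall | hall | hall
  · exact hux (congrArg Subtype.val (hall xX))
  · exact hux ((P.fix x).2 (congrArg Subtype.val (hall xX)))
  · have h4 : u • x = v • x := congrArg Subtype.val (hall xX)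
    refine hux (P.top (u * v) ?_ (fun z hz => by rw [mul_smul, (P.fix z).1 hz, hz]) x ?_)
    · refine Invol.order_two_of_sq ?_ fun e' => P.ne ?_
      · rw [mul_assoc, ← mul_assoc v, ← P.comm.eq, mul_assoc u v v, Invol.mul_self P.ov, mul_one,
          Invol.mul_self P.ou]
      · rw [eq_inv_of_mul_eq_one_left e', Invol.inv_self P.ov]
    · rw [mul_smul, ← h4, ← mul_smul, Invol.mul_self P.ou, one_smul]

end FourPair

end Cfsg.Agent.GoodInvol
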