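import Cfsg.Agent.Lib.GoodInvol.CaseARSub
import Cfsg.Agent.Lib.GoodInvol.CaseATorus
import Mathlib.Algebra.Group.Pointwise.Set.Basic

/-!
# Case A: the torus at a point, conjugation, involutions of a large 2-subgroup

The torus of an involution in a pair, with its action on the blocks at the point, the behaviour of the blocks under
conjugation and the involutions outside the elementary subgroup in a large subgroup with squares in it: they are in
pairs.
-/

set_option autoImplicit false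
set_option linter.style.haveILetI false
set_option linter.unusedSectionVars false

namespace Cfsg.Agent.GoodInvol

open Subgroup MulAction
open scoped Pointwise

universe u v

variable {G : Type u} [Group G] [Finite G] {Ω : Type u} [MulAction G Ω] [Finite Ω] [FaithfulSMul G Ω]

theorem fixSet_conj {G : Type u} [Group G] {Ω : Type v} [MulAction G Ω] (g w : G) :
    fixSet Ω (g * w * g⁻¹) = g • fixSet Ω w := by
  ext z
  rw [Set.mem_smul_set_iff_inv_smul_mem]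
  show (g * w * g⁻¹) • z = z ↔ w • g⁻¹ • z = g⁻¹ • z
  rw [mul_smul, mul_smul]
  exact smul_eq_iff_eq_inv_smul g

/-- The torus data of an involution in a pair at a point. -/
structure IsTorus (D : Set G) (a : Ω) (w : G) (K : Subgroup G) (r : ℕ) : Prop where
  le : K ≤ genC D w
  fix : ∀ k ∈ K, k • a = a
  card : Nat.card K = 2 ^ r - 1
  comm : ∀ k ∈ K, ∀ l ∈ K, Commute k l
  normQ : ∀ k ∈ K, ∀ y ∈ qSub D a w, k * y * k⁻¹ ∈ qSub D a w
  trans : ∀ z ∈ eSub D a, ∀ z' ∈ eSub D a, z ≠ 1 → z' ≠ 1 → ∃ k ∈ K, k * z * k⁻¹ = z'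
  fpfQ : ∀ k ∈ K, ∀ y ∈ qSub D a w, y ∉ eSub D a → k * y * k⁻¹ * y⁻¹ ∈ eSub D a → k = 1

namespace CaseA

variable {D : Set G} {r e : ℕ} (hA : CaseA D Ω r e)
include hA

theorem exists_torus {w : G} (hw : w ∈ pairBad G Ω) {a : Ω} (ha : w • a = a) : ∃ K, IsTorus D a w K r := by
  obtain ⟨x, T, Q, K, K1, -, -, hT, -, hL⟩ := hA.exists_data hw ha
  have hQ := hA.Q_eq_qSub hw hT hL
  have hker := hA.kerCore_eq hw
  refine ⟨K, hL.K_le, fun k hk => (hL.K_fix k hk).1, ?_, fun k hk l hl =>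
    hL.K_comm k (mem_sup_left hk) l (mem_sup_left hl),
    fun k hk y hy => hQ ▸ (hL.K_normQ k (mem_sup_left hk) y).2 (hQ.symm ▸ hy), hL.K_trans,
    fun k hk y hy hyE h => ?_⟩
  · have hbot : fixStab Ω w ⊓ K = ⊥ := (eq_bot_iff_forall _).2 fun g hg =>
      hA.genC_inf_fixStab hw (hL.K_le hg.2) hg.1
    rw [← hL.K_card, ← inf_relIndex_right, hbot, relIndex_bot_left]
  · have := hL.K_fpfQ k (mem_sup_left hk) y (hQ.symm ▸ hy) hyE h
    rwa [hker, mem_bot] at this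

theorem conj_rSub {a : Ω} {g : G} (hg : g • a = a) {w x : G} :
    g * x * g⁻¹ ∈ rSub D a (g * w * g⁻¹) ↔ x ∈ rSub D a w := by
  have key : ∀ {g w x : G}, g • a = a → x ∈ rSub D a w → g * x * g⁻¹ ∈ rSub D a (g * w * g⁻¹) :=
    fun {g w x} hg hx => mem_rSub.2 ⟨hA.conj_cenA_mem hg (mem_rSub.1 hx).1, (mem_rSub.1 hx).2.map (MulAut.conj g)⟩
  refine ⟨fun h => ?_, key hg⟩
  have := key (g := g⁻¹) (by rw [inv_smul_eq_iff.2 hg.symm]) h
  simpa [mul_assoc] using this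

theorem conj_aSub {a : Ω} {g w x : G} (hw : w ∈ pairBad G Ω) (ha : w • a = a) (hg : g • a = a) :
    g * x * g⁻¹ ∈ aSub D a (g * w * g⁻¹) ↔ x ∈ aSub D a w := by
  have ha' : (g * w * g⁻¹) • a = a := by rw [mul_smul, mul_smul, inv_smul_eq_iff.2 hg.symm, ha, hg]
  rw [hA.mem_aSub (hA.conj_pairBad g hw) ha', hA.mem_aSub hw ha, hA.conj_rSub hg]
  refine and_congr_right fun _ => ?_
  constructor
  · intro h
    have e1 : g * (x * x) * g⁻¹ = 1 := by rw [← h]; group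
    calc x * x = g⁻¹ * (g * (x * x) * g⁻¹) * g := by group
      _ = 1 := by rw [e1]; group
  · intro h
    calc g * x * g⁻¹ * (g * x * g⁻¹) = g * (x * x) * g⁻¹ := by group
      _ = 1 := by rw [h]; group

/-- The torus is trivial on the pointwise stabiliser. -/
theorem torus_commute {w : G} (hw : w ∈ pairBad G Ω) {a : Ω} {K : Subgroup G} (hK : IsTorus D a w K r) {k δ : G}
    (hk : k ∈ K) (hδ : δ ∈ fixStab Ω w) : Commute k δ :=
  hA.commute_genC hw (hK.le hk) hδ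

theorem torus_aSub {w : G} (hw : w ∈ pairBad G Ω) {a : Ω} (ha : w • a = a) {K : Subgroup G}
    (hK : IsTorus D a w K r) {k x : G} (hk : k ∈ K) (hx : x ∈ aSub D a w) : k * x * k⁻¹ * x⁻¹ ∈ eSub D a := by
  obtain ⟨hxR, h2⟩ := (hA.mem_aSub hw ha).1 hx
  obtain ⟨δ, c, hδ, hδw, hc, rfl⟩ := hA.rSub_invol hw ha hxR h2
  have hc' : k * c * k⁻¹ ∈ eSub D a := (hA.conj_eSub_iff (hK.fix k hk)).2 hc
  have h1 := hA.torus_commute hw hK hk hδ
  have hE : k * c * k⁻¹ * c⁻¹ ∈ eSub D a := mul_mem hc' (inv_mem hc)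
  have e1 : k * (δ * c) * k⁻¹ * (δ * c)⁻¹ = δ * (k * c * k⁻¹ * c⁻¹) * δ⁻¹ := by
    rw [show k * (δ * c) = δ * (k * c) by rw [← mul_assoc, h1.eq, mul_assoc]]; group
  rw [e1]
  exact (hA.conj_eSub_iff (hδ a ha)).2 hE

/-- Conjugates of torus elements act on the elementary subgroup as torus elements. -/
theorem torus_norm {w : G} (hw : w ∈ pairBad G Ω) {a : Ω} (ha : w • a = a) {K : Subgroup G}
    (hK : IsTorus D a w K r) {g : G} (hg : g • a = a) (hgw : Commute g w) {k : G} (hk : k ∈ K) :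
    ∃ k' ∈ K, ∀ z ∈ eSub D a, g * k * g⁻¹ * z * (g * k * g⁻¹)⁻¹ = k' * z * k'⁻¹ := by
  set l := g * k * g⁻¹ with hl
  have hlC : l ∈ genC D w := hA.crit.conj_genC hgw (hK.le hk)
  have hla : l • a = a := by rw [hl, mul_smul, mul_smul, inv_smul_eq_iff.2 hg.symm, hK.fix k hk, hg]
  obtain ⟨z0, hz0, hz1⟩ : ∃ z0 ∈ eSub D a, z0 ≠ 1 := by
    by_contra! hall
    have h4 := hA.four_le_q
    rw [← hA.card_eSub a, (eq_bot_iff_forall _).2 hall, card_bot] at h4
    omega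
  obtain ⟨k', hk', hk'z⟩ := hK.trans z0 hz0 (l * z0 * l⁻¹) ((hA.conj_eSub_iff hla).2 hz0) hz1
    (fun e' => hz1 (mul_left_cancel ((mul_inv_eq_one.1 e').trans (mul_one l).symm)))
  set m := k'⁻¹ * l with hm
  have hmC : m ∈ genC D w := mul_mem (inv_mem (hK.le hk')) hlC
  have hma : m • a = a := by rw [hm, mul_smul, hla]; exact inv_smul_eq_iff.2 (hK.fix k' hk').symm
  have hmz : Commute m z0 := by
    refine mul_inv_eq_iff_eq_mul.1 ?_
    calc m * z0 * m⁻¹ = k'⁻¹ * (l * z0 * l⁻¹) * k' := by rw [hm]; group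
      _ = z0 := by rw [← hk'z]; group
  obtain ⟨x, T, Q, K', K1, -, -, hT, -, hL⟩ := hA.exists_data hw ha
  obtain ⟨y, hy, hact⟩ := hL.inner hA.e_ne m hmC hma z0 hz0 hz1 hmz
  have hmy : m = y := hA.eq_of_act hw hmC (hL.Q_gen hy) hact
  refine ⟨k', hk', fun z hz => ?_⟩
  have h1 : m * z * m⁻¹ = z := by
    rw [hmy, ← (hL.cen z hz y hy).eq, mul_inv_cancel_right]
  calc l * z * l⁻¹ = k' * (m * z * m⁻¹) * k'⁻¹ := by rw [hm]; group
    _ = k' * z * k'⁻¹ := by rw [h1]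

theorem mem_line_self {w : G} {a : Ω} (ha : w • a = a) : a ∈ fixSet Ω w := ha

/-- The lines of a block, as a set of sets. -/
theorem card_lines {w : G} (hw : w ∈ pairBad G Ω) {a : Ω} (ha : w • a = a) :
    (fixSet Ω '' ((aSub D a w : Set G) \ eSub D a)).ncard = 2 ^ r := by
  classical
  have he : fixSet Ω '' ((aSub D a w : Set G) \ eSub D a) = (fun c => fixSet Ω (w * c)) '' (eSub D a : Set G) := by
    ext l
    constructor
    · rintro ⟨g, ⟨hg, hgE⟩, rfl⟩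
      obtain ⟨c, hc, he⟩ := hA.exists_line hw ha hg hgE
      exact ⟨c, hc, he.symm⟩
    · rintro ⟨c, hc, rfl⟩
      refine ⟨w * c, ⟨mul_mem (hA.self_mem_aSub hw ha) (hA.eSub_le_aSub hw ha hc), fun h => ?_⟩, rfl⟩
      exact hA.not_mem_eSub hw a ((Subgroup.mul_mem_cancel_right _ hc).1 h)
  rw [he, Set.ncard_image_of_injOn fun c hc c' hc' h => hA.line_inj hw ha hc hc' h, ← Nat.card_coe_set_eq]
  exact hA.card_eSub a

/-- A non-trivial torus element fixing a block fixes a line of it, which is the line of its involution. -/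
theorem torus_block_line {w : G} (hw : w ∈ pairBad G Ω) {a : Ω} {K : Subgroup G}
    (hK : IsTorus D a w K r) (ha : w • a = a) {k : G} (hk : k ∈ K) (hk1 : k ≠ 1) {w' : G} (hw' : w' ∈ pairBad G Ω)
    (ha' : w' • a = a) (hkw : k * w' * k⁻¹ ∈ aSub D a w') :
    ∃ g ∈ aSub D a w', g ∉ eSub D a ∧ fixSet Ω g = fixSet Ω w := by
  classical
  have hka := hK.fix k hk
  have hnE : ∀ {j x : G}, j • a = a → x ∉ eSub D a → j * x * j⁻¹ ∉ eSub D a :=
    fun hj hx h => hx ((hA.conj_eSub_iff hj).1 h)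
  let S : Subgroup G := stabilizer G (fixSet Ω '' ((aSub D a w' : Set G) \ eSub D a))
  have hnorm : ∀ x, x ∈ aSub D a w' ↔ k * x * k⁻¹ ∈ aSub D a w' := fun x => by
    have hp := hA.conj_pairBad k hw'
    rw [← hA.conj_aSub (x := x) hw' ha' hka,
      hA.aSub_eq hw' ha' hkw (hnE hka (hA.not_mem_eSub hw' a))]
  have hkS : k ∈ S := by
    rw [mem_stabilizer_iff]
    refine Set.eq_of_subset_of_ncard_le ?_ (le_of_eq (Set.ncard_image_of_injective _ (MulAction.injective k)).symm)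
      (Set.toFinite _)
    rintro _ ⟨_, ⟨x, ⟨hx, hxE⟩, rfl⟩, rfl⟩
    exact ⟨k * x * k⁻¹, ⟨(hnorm x).1 hx, hnE hka hxE⟩, fixSet_conj k x⟩
  obtain ⟨p, hp, hpd⟩ := Nat.exists_prime_and_dvd (mt orderOf_eq_one_iff.1 hk1)
  haveI : Fact p.Prime := ⟨hp⟩
  set k' := k ^ (orderOf k / p) with hk'
  have hk'o : orderOf k' = p := orderOf_pow_orderOf_div (orderOf_pos k).ne' hpd
  have hk'K : k' ∈ K := pow_mem hk _
  have hk'S : k' ∈ S := pow_mem hkS _
  have hpq : p ∣ 2 ^ r - 1 := hK.card ▸ (hpd.trans (Subgroup.orderOf_dvd_natCard _ hk))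
  have hp2 : p ≠ 2 := fun e' => by
    rw [e'] at hpq
    have h1 : 2 ∣ 2 ^ r := dvd_pow_self 2 (by have := hA.two_le; omega)
    have h4 := hA.four_le_q
    omega
  have hnd : ∀ n, ¬ p ∣ 2 ^ n := fun n h => hp2 ((Nat.prime_dvd_prime_iff_eq hp Nat.prime_two).1 (hp.dvd_of_dvd_pow h))
  obtain ⟨l, hl, hkl⟩ := exists_fixed_of_not_dvd (Ω := Set Ω) hp hk'o
    (A := fixSet Ω '' ((aSub D a w' : Set G) \ eSub D a))
    (fun z hz => by
      have := Set.smul_mem_smul_set (a := k') hz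
      rwa [mem_stabilizer_iff.1 hk'S] at this)
    (by rw [hA.card_lines hw' ha']; exact hnd r)
  obtain ⟨g, ⟨hg, hgE⟩, rfl⟩ := hl
  have hgp := hA.pairBad_of_aSub hw' ha' hg hgE
  have hga := hA.aSub_smul hw' ha' hg
  obtain ⟨y, ⟨hy, hya⟩, hky⟩ := exists_fixed_of_not_dvd hp hk'o (A := fixSet Ω g \ {a})
    (fun z hz => ⟨hkl ▸ Set.smul_mem_smul_set hz.1,
      fun e' => hz.2 (MulAction.injective k' (e'.trans (hK.fix k' hk'K).symm))⟩)
    (by
      rw [Set.ncard_sdiff_singleton_of_mem (show a ∈ fixSet Ω g from hga), hA.card_fixSet hgp, Nat.add_sub_cancel]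
      exact hnd _)
  have hwy : w • y = y := by
    by_contra hwy
    have := hA.eq_one_of_fix_moved hw hwy (hK.le hk'K) hky
    rw [this, orderOf_one] at hk'o
    exact hp.ne_one hk'o.symm
  exact ⟨g, hg, hgE, hA.line_eq hgp hw hga hy (fun e' => hya e'.symm) ha hwy⟩

/-- An involution outside `E` of a large subgroup with squares in `E` is in a pair. -/
theorem pairBad_of_large {a : Ω} {X : Subgroup G} (hX : X ≤ cenA D a) (hsq : ∀ x ∈ X, x * x ∈ eSub D a)
    (hcard : 4 * 2 ^ r * 2 ^ (e * r) ≤ Nat.card X) {g : G} (hg : g ∈ X) (h2 : g * g = 1) (hgE : g ∉ eSub D a) :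
    g ∈ pairBad G Ω ∧ g • a = a := by
  classical
  have hgC := hX hg
  have hga := (mem_cenA.1 hgC).1
  have hgo : orderOf g = 2 := Invol.order_two_of_sq h2 fun e' => hgE (e' ▸ one_mem _)
  obtain ⟨v0, hv0, hv0a⟩ := hA.ex a
  obtain ⟨y0, hy0, hay0⟩ := hA.exists_other hv0 a
  have hbad : ¬ OneFix Ω g := fun hone =>
    hgE (hA.dat_subset_eSub a ⟨hA.crit.mem_of_oneFix ⟨a, y0, hay0⟩ hgo hone, hga⟩)
  have hcomm : ∀ x ∈ X, x * g * x⁻¹ * g⁻¹ ∈ eSub D a := fun x hx => by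
    have hs : (x * g) * (x * g) ∈ eSub D a := hsq _ (mul_mem hx hg)
    have hc : Commute g (x * x) := hA.commute_cenA hgC (hsq x hx)
    have h1 : x * g * x⁻¹ * g⁻¹ = x * g * (x * g) * (x * x)⁻¹ := by
      rw [Invol.inv_self hgo]
      calc x * g * x⁻¹ * g = x * g * x * ((x * x)⁻¹ * g) := by group
        _ = _ := by rw [← hc.inv_right.eq]; group
    rw [h1]
    exact mul_mem hs (inv_mem (hsq x hx))
  let S : Subgroup G := X ⊓ Subgroup.centralizer ({g} : Set G)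
  have hS : ∀ x, x ∈ S ↔ x ∈ X ∧ Commute x g := fun x => mem_inf.trans (and_congr Iff.rfl
    mem_centralizer_singleton_iff)
  let φ : X →* eSub D a :=
    { toFun := fun x => ⟨(x : G) * g * (x : G)⁻¹ * g⁻¹, hcomm x x.2⟩
      map_one' := Subtype.ext (by simp)
      map_mul' := fun x y => Subtype.ext (by
        show (x : G) * y * g * ((x : G) * y)⁻¹ * g⁻¹ =
          (x : G) * g * (x : G)⁻¹ * g⁻¹ * ((y : G) * g * (y : G)⁻¹ * g⁻¹)
        have hc := hA.commute_cenA (hX x.2) (hcomm y y.2)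
        have he := hA.eSub_comm (hcomm x x.2) (hcomm y y.2)
        calc (x : G) * y * g * ((x : G) * y)⁻¹ * g⁻¹
            = (x : G) * ((y : G) * g * (y : G)⁻¹ * g⁻¹) * g * (x : G)⁻¹ * g⁻¹ := by group
          _ = ((y : G) * g * (y : G)⁻¹ * g⁻¹) * ((x : G) * g * (x : G)⁻¹ * g⁻¹) := by rw [hc.eq]; group
          _ = _ := he.eq.symm) }
  have hker : Nat.card φ.ker ≤ Nat.card S :=
    Nat.card_le_card_of_injective (fun x : φ.ker => (⟨(x : X), (hS _).2 ⟨(x : X).2,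
      mul_inv_eq_iff_eq_mul.1 (mul_inv_eq_one.1 (congrArg Subtype.val x.2))⟩⟩ : S))
      fun x y hxy => Subtype.ext (Subtype.ext (by exact congrArg (fun c : S => (c : G)) hxy))
  have hidx : φ.ker.index ≤ 2 ^ r := by
    rw [Subgroup.index_ker, ← hA.card_eSub a]
    exact Nat.card_le_card_of_injective _ Subtype.val_injective
  set K0 := S ⊓ fixStab Ω g with hK0
  have h4 : 4 ≤ Nat.card K0 := by
    have h1 : Nat.card X ≤ Nat.card S * 2 ^ r := φ.ker.card_mul_index ▸ Nat.mul_le_mul hker hidx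
    have h2' := hA.act g hgo hbad a hga S fun x hx => ⟨hX ((hS x).1 hx).1, ((hS x).1 hx).2⟩
    have h3 : 4 * (2 ^ r * 2 ^ (e * r)) ≤ Nat.card K0 * (2 ^ r * 2 ^ (e * r)) := by
      calc 4 * (2 ^ r * 2 ^ (e * r)) = 4 * 2 ^ r * 2 ^ (e * r) := by ring
        _ ≤ Nat.card S * 2 ^ r := hcard.trans h1
        _ ≤ 2 ^ (e * r) * Nat.card K0 * 2 ^ r := Nat.mul_le_mul_right _ h2'
        _ = _ := by ring
    exact Nat.le_of_mul_le_mul_right h3 (by positivity)
  obtain ⟨δ, hδ, hδ1, hδg⟩ : ∃ δ ∈ K0, δ ≠ 1 ∧ δ ≠ g := by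
    by_contra! hall
    have hsub : (K0 : Set G) ⊆ {1, g} := fun x hx => by
      by_cases h1 : x = 1
      · exact Or.inl h1
      · exact Or.inr (hall x hx h1)
    have := Set.ncard_le_ncard hsub (Set.toFinite _)
    rw [Set.ncard_pair (Invol.ne_one hgo).symm, ← Nat.card_coe_set_eq] at this
    exact absurd (h4.trans this) (by norm_num)
  have hδX := ((hS δ).1 hδ.1).1
  obtain ⟨y1, hy1, hay1⟩ : ∃ y : Ω, g • y = y ∧ a ≠ y := by
    have hb := hbad
    unfold OneFix at hb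
    push Not at hb
    obtain ⟨p, q, hp, hq, hpq⟩ := hb
    by_cases hap : a = p
    · exact ⟨q, hq, fun e' => hpq (hap.symm.trans e')⟩
    · exact ⟨p, hp, hap⟩
  have hδ2 : δ * δ = 1 := by
    by_contra h1
    exact hay1 (hA.eSub_unique (hsq δ hδX) h1 (by rw [mul_smul, hδ.2 y1 hy1, hδ.2 y1 hy1])).symm
  have hδo : orderOf δ = 2 := Invol.order_two_of_sq hδ2 hδ1
  have hδbad : ¬ OneFix Ω δ := fun hone => hay1 (hone a y1 (hδ.2 a hga) (hδ.2 y1 hy1))
  obtain ⟨v0', P⟩ := hv0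
  obtain ⟨x0, T, Q, K, K1, -, -, hT, hE, hL⟩ := hA.exists_data ⟨v0', P⟩ hv0a
  have hcardf : ∀ c : G, orderOf c = 2 → ¬ OneFix Ω c → c • a = a → (fixSet Ω c).ncard = 2 ^ (e * r) + 1 :=
    fun c hc hcb hca => (P.card_fixSet_eq hA.crit hA.below hA.gen hv0a hT hE hc hcb hca).trans hL.card_fix
  have hFeq : fixSet Ω g = fixSet Ω δ := Set.eq_of_subset_of_ncard_le (fun z hz => hδ.2 z hz)
    (by rw [hcardf g hgo hbad hga, hcardf δ hδo hδbad (hδ.2 a hga)]) (Set.toFinite _)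
  refine ⟨⟨δ, hgo, hδo, hbad, ((hS δ).1 hδ.1).2.symm, Ne.symm hδg, fun z => ?_, fun c hc hcF z hz => ?_⟩, hga⟩
  · show z ∈ fixSet Ω g ↔ z ∈ fixSet Ω δ
    rw [hFeq]
  · by_cases hcbad : OneFix Ω c
    · exact absurd (hcbad a y1 (hcF a hga) (hcF y1 hy1)) hay1
    have := Set.eq_of_subset_of_ncard_le (show fixSet Ω g ⊆ fixSet Ω c from fun y hy => hcF y hy)
      (by rw [hcardf g hgo hbad hga, hcardf c hc hcbad (hcF a hga)]) (Set.toFinite _)
    show z ∈ fixSet Ω g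
    rw [this]; exact hz

end CaseA

end Cfsg.Agent.GoodInvol
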