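import Cfsg.Agent.Lib.GoodInvol.OrbitVectors
import Cfsg.Agent.Lib.TwoXDih.Transfer

/-!
# The orbit of the involution on the vectors and the transfer

`XCfg M X T E u` collects what the endgame uses of a two-subgroup `X` of a subgroup `M`: `E` central with
elementary quotient, `T = C_X(u)` a largest two-subgroup of `C_M(u)` with `u` and `E` as its involutions, and `X`
transitive on `u E`. When the normaliser of `X` in `M` moves `u` only inside `u E`, `X` is a largest two-subgroup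
of `M` and transfer contradicts the absence of a subgroup of index two.
-/

set_option autoImplicit false
set_option linter.style.haveILetI false
set_option linter.unusedSectionVars false

namespace Cfsg.Agent.GoodInvol

open Subgroup MulAction

universe u

variable {G : Type u} [Group G] [Finite G]

/-- A two-subgroup with the vectors of the endgame. -/
structure XCfg (M X T E : Subgroup G) (u : G) : Prop where
  X_le : X ≤ M
  X_two : IsPGroup 2 X
  ou : orderOf u = 2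
  u_mem : u ∈ T
  u_notin : u ∉ E
  E_le : E ≤ T
  mem_T : ∀ y : G, y ∈ T ↔ y ∈ X ∧ Commute y u
  E_cen : ∀ e ∈ E, ∀ y ∈ X, Commute e y
  E_sq : ∀ e ∈ E, e * e = 1
  X_sq : ∀ y ∈ X, y * y ∈ E
  T_inv : ∀ y ∈ T, y * y = 1 → y ∈ E ∨ u⁻¹ * y ∈ E
  trans : ∀ e ∈ E, ∃ c ∈ X, c * u * c⁻¹ = u * e
  T_max : ∀ R : Subgroup G, R ≤ M → IsPGroup 2 R → (∀ y ∈ R, Commute y u) → Nat.card R ≤ Nat.card T
  E_char : ∀ g ∈ M, (∀ y, g * y * g⁻¹ ∈ X ↔ y ∈ X) → ∀ y, g * y * g⁻¹ ∈ E ↔ y ∈ E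

/-- The elements of `M` normalising `X` and `E`. -/
def xNorm (M X E : Subgroup G) : Subgroup G :=
  M ⊓ Subgroup.normalizer (X : Set G) ⊓ Subgroup.normalizer (E : Set G)

/-- Those fixing every coset of `E` in `X`. -/
def xKer (M X E : Subgroup G) : Subgroup G where
  carrier := {g | g ∈ xNorm M X E ∧ ∀ y ∈ X, y⁻¹ * (g * y * g⁻¹) ∈ E}
  one_mem' := ⟨one_mem _, fun y _ => by simp⟩
  mul_mem' := by
    intro g k hg hk
    refine ⟨mul_mem hg.1 hk.1, fun y hy => ?_⟩
    have h2 := (Subgroup.mem_normalizer_iff.1 (mem_inf.1 hg.1).2 _).1 (hk.2 y hy)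
    have h1 := mul_mem (hg.2 y hy) h2
    rwa [show y⁻¹ * (g * y * g⁻¹) * (g * (y⁻¹ * (k * y * k⁻¹)) * g⁻¹) = y⁻¹ * (g * k * y * (g * k)⁻¹) by group] at h1
  inv_mem' := by
    intro g hg
    refine ⟨inv_mem hg.1, fun y hy => ?_⟩
    have h2 := (Subgroup.mem_normalizer_iff.1 (mem_inf.1 (inv_mem hg.1)).2 _).1 (inv_mem (hg.2 y hy))
    rwa [show g⁻¹ * (y⁻¹ * (g * y * g⁻¹))⁻¹ * g⁻¹⁻¹ = y⁻¹ * (g⁻¹ * y * g⁻¹⁻¹) by group] at h2

namespace XCfg

variable {M X T E : Subgroup G} {u : G} (h : XCfg M X T E u)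
include h

theorem T_le : T ≤ X := fun _ hy => ((h.mem_T _).1 hy).1

theorem E_le_X : E ≤ X := h.E_le.trans h.T_le

theorem u_X : u ∈ X := h.T_le h.u_mem

theorem u_M : u ∈ M := h.X_le h.u_X

theorem comm_mem {y z : G} (hy : y ∈ X) (hz : z ∈ X) : y * z * y⁻¹ * z⁻¹ ∈ E := by
  have h1 := h.X_sq _ (mul_mem hy hz)
  have h2 := h.X_sq _ hy
  have h3 := h.X_sq _ hz
  have c1 := h.E_cen _ (inv_mem h2) _ (mul_mem (inv_mem hy) (inv_mem hz))
  have e1 : y * z * y⁻¹ * z⁻¹ = (y * z * (y * z)) * (z * z)⁻¹ * (z * (y * y)⁻¹ * z⁻¹) := by group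
  rw [e1]
  refine mul_mem (mul_mem h1 (inv_mem h3)) ?_
  rw [(h.E_cen _ (inv_mem h2) z hz).symm.eq, mul_inv_cancel_right]
  exact inv_mem h2

theorem mem_xNorm {g : G} (hg : g ∈ M) (hX : ∀ y, g * y * g⁻¹ ∈ X ↔ y ∈ X) : g ∈ xNorm M X E :=
  mem_inf.2 ⟨mem_inf.2 ⟨hg, Subgroup.mem_normalizer_iff.2 fun y => (hX y).symm⟩,
    Subgroup.mem_normalizer_iff.2 fun y => (h.E_char g hg hX y).symm⟩

theorem X_le_xNorm : X ≤ xNorm M X E := fun c hc => h.mem_xNorm (h.X_le hc) fun y => by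
  rw [X.mul_mem_cancel_right (inv_mem hc), X.mul_mem_cancel_left hc]

theorem X_le_xKer : X ≤ xKer M X E := fun c hc => ⟨h.X_le_xNorm hc, fun y hy => by
  have := h.comm_mem (inv_mem hy) hc
  rwa [inv_inv, show y⁻¹ * c * y * c⁻¹ = y⁻¹ * (c * y * c⁻¹) by group] at this⟩

/-- A two-subgroup normalising `X` and fixing the coset of `u` lies in `X`. -/
theorem le_of_fix {R : Subgroup G} (hR : R ≤ xNorm M X E) (hR2 : IsPGroup 2 R) (hXR : X ≤ R)
    (hfix : ∀ g ∈ R, u⁻¹ * (g * u * g⁻¹) ∈ E) : R ≤ X := by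
  intro g hg
  obtain ⟨c, hc, hcu⟩ := h.trans _ (hfix g hg)
  rw [← mul_assoc, mul_inv_cancel, one_mul] at hcu
  have hgc : Commute (c⁻¹ * g) u := by
    show c⁻¹ * g * u = u * (c⁻¹ * g)
    have e : g * u = c * u * c⁻¹ * g := by rw [hcu]; group
    rw [mul_assoc, e]; group
  set R' := R ⊓ Subgroup.centralizer ({u} : Set G) with hR'
  have hTR : T ≤ R' := fun y hy =>
    ⟨hXR (h.T_le hy), mem_centralizer_singleton_iff.2 ((h.mem_T y).1 hy).2.eq⟩
  have hle := h.T_max R' (fun y hy => (mem_inf.1 (mem_inf.1 (hR hy.1)).1).1) (hR2.to_le inf_le_left)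
    fun y hy => mem_centralizer_singleton_iff.1 hy.2
  have heq : T = R' := Subgroup.eq_of_le_of_card_ge hTR hle
  have hmem : c⁻¹ * g ∈ R' :=
    ⟨R.mul_mem (R.inv_mem (hXR hc)) hg, mem_centralizer_singleton_iff.2 hgc.eq⟩
  rw [← heq] at hmem
  have := mul_mem hc (h.T_le hmem)
  rwa [mul_inv_cancel_left] at this

/-- If `X` moves `u` only inside `u E`, no larger two-subgroup of `M` contains it. -/
theorem eq_of_two (hgamma : ∀ g ∈ xNorm M X E, u⁻¹ * (g * u * g⁻¹) ∈ E) {S : Subgroup G} (hS : S ≤ M)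
    (hS2 : IsPGroup 2 S) (hXS : X ≤ S) : S = X := by
  haveI : Fact (Nat.Prime 2) := ⟨Nat.prime_two⟩
  refine le_antisymm (fun g hg => ?_) hXS
  by_contra hgX
  have hlt : X.subgroupOf S < ⊤ := lt_top_iff_ne_top.2 fun e => hgX (by
    have : (⟨g, hg⟩ : S) ∈ X.subgroupOf S := e ▸ mem_top _
    exact this)
  haveI : Group.IsNilpotent S := hS2.isNilpotent
  have hN := Group.normalizerCondition_of_isNilpotent _ hlt
  set R := (Subgroup.normalizer ((X.subgroupOf S : Subgroup S) : Set S)).map S.subtype with hR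
  have hXR : X ≤ R := fun y hy => ⟨⟨y, hXS hy⟩, Subgroup.le_normalizer hy, rfl⟩
  have hRS : R ≤ S := map_subtype_le _
  have hRN : R ≤ xNorm M X E := by
    rintro _ ⟨s, hs, rfl⟩
    refine h.mem_xNorm (hS s.2) fun y => ⟨fun hy => ?_, fun hy => ?_⟩
    · have hyS : y ∈ S := by
        have := mul_mem (mul_mem (inv_mem s.2) (hXS hy)) s.2
        simpa [mul_assoc] using this
      exact (Subgroup.mem_normalizer_iff.1 hs ⟨y, hyS⟩).2 hy
    · exact (Subgroup.mem_normalizer_iff.1 hs ⟨y, hXS hy⟩).1 hy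
  have hle := h.le_of_fix hRN (hS2.to_le hRS) hXR fun k hk => hgamma k (hRN hk)
  exact hN.not_ge fun s hs => hle ⟨s, hs, rfl⟩

/-- The transfer: with no subgroup of index two, `u` leaves its coset. -/
theorem false_of_transfer (h2 : ∀ H : Subgroup G, H.index ≠ 2) (hM : ¬ 2 ∣ M.index)
    (hconj : ∀ v ∈ M, IsConj u v → ∃ g ∈ M, g * u * g⁻¹ = v)
    (hgamma : ∀ g ∈ xNorm M X E, u⁻¹ * (g * u * g⁻¹) ∈ E)
    {M0 : Subgroup G} (hM0 : M0 ≤ X) (hcard : 2 * Nat.card M0 = Nat.card X) (hE0 : E ≤ M0) (hu0 : u ∉ M0) :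
    False := by
  haveI : Fact (Nat.Prime 2) := ⟨Nat.prime_two⟩
  -- `X` is a Sylow subgroup of `G`
  obtain ⟨P, hP⟩ := IsPGroup.exists_le_sylow (h.X_two.comap_subtype (K := M))
  have hPM : ((P : Subgroup M).map M.subtype) = X := h.eq_of_two hgamma (map_subtype_le _)
    (P.2.map _) fun y hy => ⟨⟨y, h.X_le hy⟩, hP hy, rfl⟩
  have hXidx : ¬ 2 ∣ X.index := by
    rw [← hPM, Subgroup.index_map_subtype, Nat.prime_two.dvd_mul]
    push Not
    exact ⟨P.not_dvd_index, hM⟩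
  let S : Sylow 2 G := h.X_two.toSylow hXidx
  have hSX : (S : Subgroup G) = X := rfl
  -- the largest two-subgroup of the centraliser
  have hu2 : u * u = 1 := by rw [← pow_two, ← h.ou, pow_orderOf_eq_one]
  obtain ⟨c, hc⟩ := IsPGroup.iff_card.1 (h.X_two.to_le h.T_le)
  have hTC : T ≤ Subgroup.centralizer ({u} : Set G) := fun y hy =>
    mem_centralizer_singleton_iff.2 ((h.mem_T y).1 hy).2.eq
  obtain ⟨v, hvM0, hv, hdiv⟩ := TwoXDih.exists_extremal h2 S (M := M0) (hSX.symm ▸ hM0) (hSX.symm ▸ hcard) hu2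
    (c := c) (hc ▸ Subgroup.card_dvd_of_le hTC)
  obtain ⟨g, hgM, hgv⟩ := hconj v (h.X_le (hM0 hvM0)) hv
  set C := X ⊓ Subgroup.centralizer ({v} : Set G) with hC
  have hdiv' : 2 ^ c ∣ Nat.card C := hdiv
  -- move the centraliser of `v` to the one of `u`
  set R := C.map (MulAut.conj g⁻¹).toMonoidHom with hR
  have hRM : R ≤ M := by
    rintro _ ⟨y, hy, rfl⟩
    exact mul_mem (mul_mem (inv_mem hgM) (h.X_le hy.1)) (inv_mem (inv_mem hgM))
  have hRu : ∀ y ∈ R, Commute y u := by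
    rintro _ ⟨y, hy, rfl⟩
    have hyv : y * v = v * y := mem_centralizer_singleton_iff.1 hy.2
    show g⁻¹ * y * g⁻¹⁻¹ * u = u * (g⁻¹ * y * g⁻¹⁻¹)
    rw [inv_inv, ← hgv] at *
    calc g⁻¹ * y * g * u = g⁻¹ * (y * (g * u * g⁻¹)) * g := by group
      _ = g⁻¹ * (g * u * g⁻¹ * y) * g := by rw [hyv]
      _ = u * (g⁻¹ * y * g) := by group
  have hR2 : IsPGroup 2 R := (h.X_two.to_le inf_le_left).map _
  have hRcard : Nat.card R = Nat.card C := Subgroup.card_map_of_injective (MulAut.conj g⁻¹).injective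
  have hRT : Nat.card R = Nat.card T := by
    refine le_antisymm (h.T_max R hRM hR2 hRu) ?_
    rw [hRcard, hc]
    exact Nat.le_of_dvd Nat.card_pos hdiv'
  -- conjugate it to `T`
  set CM := M ⊓ Subgroup.centralizer ({u} : Set G) with hCM
  have hmaxCM : ∀ A : Subgroup G, A ≤ CM → IsPGroup 2 A → Nat.card A = Nat.card T →
      ¬ 2 ∣ (A.subgroupOf CM).index := by
    intro A hA hA2 hcA hd
    obtain ⟨Q, hQ⟩ := IsPGroup.exists_le_sylow (hA2.comap_subtype (K := CM))
    have hle : Nat.card ((Q : Subgroup CM).map CM.subtype) ≤ Nat.card T :=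
      h.T_max _ ((map_subtype_le _).trans inf_le_left) (Q.2.map _) (by
        rintro _ ⟨y, -, rfl⟩
        exact mem_centralizer_singleton_iff.1 (mem_inf.1 y.2).2)
    rw [Subgroup.card_map_of_injective CM.subtype_injective, ← hcA,
      ← Nat.card_congr (Subgroup.subgroupOfEquivOfLe hA).toEquiv] at hle
    rw [Subgroup.eq_of_le_of_card_ge (show A.subgroupOf CM ≤ Q from hQ) hle] at hd
    exact Q.not_dvd_index hd
  have hRCM : R ≤ CM := fun y hy => ⟨hRM hy, mem_centralizer_singleton_iff.2 (hRu y hy).eq⟩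
  have hTCM : T ≤ CM := le_inf (h.T_le.trans h.X_le) hTC
  let P1 : Sylow 2 CM := (hR2.comap_subtype (K := CM)).toSylow (hmaxCM R hRCM hR2 hRT)
  let P2 : Sylow 2 CM := ((h.X_two.to_le h.T_le).comap_subtype (K := CM)).toSylow
    (hmaxCM T hTCM (h.X_two.to_le h.T_le) rfl)
  obtain ⟨k, hk⟩ := MulAction.exists_smul_eq CM P1 P2
  have hk' : ∀ y ∈ R, (k : G) * y * (k : G)⁻¹ ∈ T := fun y hy => by
    have h1 : k * ⟨y, hRCM hy⟩ * k⁻¹ ∈ ((k • P1 : Sylow 2 CM) : Subgroup CM) :=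
      ⟨⟨y, hRCM hy⟩, hy, rfl⟩
    rw [hk] at h1
    exact h1
  set m := (k : G) * g⁻¹ with hm
  have hmM : m ∈ M := mul_mem (mem_inf.1 k.2).1 (inv_mem hgM)
  have hmv : m * v * m⁻¹ = u := by
    have hku : (k : G) * u = u * k := mem_centralizer_singleton_iff.1 (mem_inf.1 k.2).2
    rw [hm, ← hgv]
    calc (k : G) * g⁻¹ * (g * u * g⁻¹) * ((k : G) * g⁻¹)⁻¹ = (k : G) * u * (k : G)⁻¹ := by group
      _ = u := by rw [hku, mul_inv_cancel_right]
  have hmC : ∀ y ∈ C, m * y * m⁻¹ ∈ T := fun y hy => by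
    have := hk' _ ⟨y, hy, rfl⟩
    rwa [show (k : G) * ((MulAut.conj g⁻¹).toMonoidHom y) * (k : G)⁻¹ = m * y * m⁻¹ by
      show (k : G) * (g⁻¹ * y * g⁻¹⁻¹) * (k : G)⁻¹ = _
      rw [hm]; group] at this
  have hmap : C.map (MulAut.conj m).toMonoidHom = T := Subgroup.eq_of_le_of_card_ge
    (by rintro _ ⟨y, hy, rfl⟩; exact hmC y hy)
    (by rw [Subgroup.card_map_of_injective (MulAut.conj m).injective, ← hRcard, hRT])
  -- both conjugates of `X` normalise `T`
  set NT := M ⊓ Subgroup.normalizer (T : Set G) with hNT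
  have hXNT : X ≤ NT := fun x hx => by
    refine ⟨h.X_le hx, Subgroup.mem_normalizer_fintype fun y hy => ?_⟩
    have h1 := mul_mem (h.E_le (h.comm_mem hx (h.T_le hy))) hy
    rwa [inv_mul_cancel_right] at h1
  set X' := X.map (MulAut.conj m).toMonoidHom with hX'
  have hX'NT : X' ≤ NT := by
    rintro _ ⟨x, hx, rfl⟩
    refine ⟨M.mul_mem (M.mul_mem hmM (h.X_le hx)) (M.inv_mem hmM), Subgroup.mem_normalizer_fintype fun y hy => ?_⟩
    rw [SetLike.mem_coe, ← hmap] at hy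
    obtain ⟨z, hz, rfl⟩ := hy
    refine hmap.le ⟨x * z * x⁻¹, ⟨X.mul_mem (X.mul_mem hx hz.1) (X.inv_mem hx), ?_⟩, ?_⟩
    · have h1 : x * z * x⁻¹ * z⁻¹ ∈ E := h.comm_mem hx hz.1
      have h2 : x * z * x⁻¹ = (x * z * x⁻¹ * z⁻¹) * z := (inv_mul_cancel_right _ _).symm
      rw [h2]
      exact mul_mem (mem_centralizer_singleton_iff.2 (h.E_cen _ h1 v (hM0 hvM0)).eq) hz.2
    · show m * (x * z * x⁻¹) * m⁻¹ = (m * x * m⁻¹) * (m * z * m⁻¹) * (m * x * m⁻¹)⁻¹
      group
  have hodd : ∀ A : Subgroup G, A ≤ NT → IsPGroup 2 A → Nat.card A = Nat.card X → ¬ 2 ∣ (A.subgroupOf NT).index := by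
    intro A hA _ hcA hd
    have h1 : A.index = (A.subgroupOf NT).index * NT.index := by
      rw [← Subgroup.relIndex, Subgroup.relIndex_mul_index hA]
    have hX1 : A.index = X.index := by
      have e1 := A.card_mul_index
      rw [← X.card_mul_index, hcA] at e1
      exact Nat.eq_of_mul_eq_mul_left Nat.card_pos e1
    exact hXidx (hX1 ▸ h1 ▸ dvd_mul_of_dvd_left hd _)
  let Q1 : Sylow 2 NT := ((h.X_two.map _).comap_subtype (K := NT)).toSylow
    (hodd X' hX'NT (h.X_two.map _) (Subgroup.card_map_of_injective (MulAut.conj m).injective))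
  let Q2 : Sylow 2 NT := (h.X_two.comap_subtype (K := NT)).toSylow (hodd X hXNT h.X_two rfl)
  obtain ⟨l, hl⟩ := MulAction.exists_smul_eq NT Q1 Q2
  set w := (l : G) * m with hw
  have hwM : w ∈ M := mul_mem (mem_inf.1 l.2).1 hmM
  have hwX : ∀ x ∈ X, w * x * w⁻¹ ∈ X := fun x hx => by
    have h1 : l * ⟨m * x * m⁻¹, hX'NT ⟨x, hx, rfl⟩⟩ * l⁻¹ ∈ ((l • Q1 : Sylow 2 NT) : Subgroup NT) :=
      ⟨⟨m * x * m⁻¹, hX'NT ⟨x, hx, rfl⟩⟩, ⟨x, hx, rfl⟩, rfl⟩
    rw [hl] at h1
    rw [show w * x * w⁻¹ = (l : G) * (m * x * m⁻¹) * (l : G)⁻¹ by rw [hw]; group]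
    exact h1
  have hwN : ∀ y, w * y * w⁻¹ ∈ X ↔ y ∈ X :=
    fun y => (Subgroup.mem_normalizer_iff.1 (Subgroup.mem_normalizer_fintype hwX) y).symm
  have hwn := h.mem_xNorm hwM hwN
  -- the image of `v` is in the coset
  have hlu : w * v * w⁻¹ = (l : G) * u * (l : G)⁻¹ := by
    rw [← hmv, hw]; group
  have hT' : w * v * w⁻¹ ∈ T := hlu ▸ (Subgroup.mem_normalizer_iff.1 (mem_inf.1 l.2).2 u).1 h.u_mem
  have hsq : (w * v * w⁻¹) * (w * v * w⁻¹) = 1 := by
    rw [hlu]
    calc (l : G) * u * (l : G)⁻¹ * ((l : G) * u * (l : G)⁻¹) = (l : G) * (u * u) * (l : G)⁻¹ := by group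
      _ = 1 := by rw [hu2, mul_one, mul_inv_cancel]
  rcases h.T_inv _ hT' hsq with hE | hE
  · -- an element of `E` is central, while `u` is not
    have h1 : v ∈ E := (h.E_char w hwM hwN v).1 hE
    rw [hlu] at hE
    have hXv : C = X := le_antisymm inf_le_left fun x hx =>
      ⟨hx, mem_centralizer_singleton_iff.2 (h.E_cen _ h1 x hx).symm.eq⟩
    have hTX : T = X := Subgroup.eq_of_le_of_card_ge h.T_le (by rw [← hRT, hRcard, hXv])
    obtain ⟨c', hc', e⟩ := h.trans _ hE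
    rw [((h.mem_T c').1 (hTX.symm ▸ hc')).2.eq, mul_inv_cancel_right] at e
    have h6 : (l : G) * u * (l : G)⁻¹ = 1 := mul_eq_left.1 e.symm
    have h7 : u = 1 := by
      have := congrArg (fun z => (l : G)⁻¹ * z * (l : G)) h6
      simpa [mul_assoc] using this
    exact absurd h.ou (by rw [h7, orderOf_one]; norm_num)
  · have h1 := hgamma _ (inv_mem hwn)
    have h2 : w⁻¹ * (u⁻¹ * (w * v * w⁻¹)) * w⁻¹⁻¹ ∈ E :=
      (Subgroup.mem_normalizer_iff.1 (mem_inf.1 (inv_mem hwn)).2 _).1 hE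
    have h3 : u⁻¹ * v ∈ E := by
      have := mul_mem h1 h2
      rwa [show u⁻¹ * (w⁻¹ * u * w⁻¹⁻¹) * (w⁻¹ * (u⁻¹ * (w * v * w⁻¹)) * w⁻¹⁻¹) = u⁻¹ * v by group] at this
    exact hu0 ((inv_mem_iff (H := M0)).1 ((M0.mul_mem_cancel_right hvM0).1 (hE0 h3)))

end XCfg

/-- The cosets of `E` in `X`. -/
abbrev XVec (X E : Subgroup G) : Type u := X ⧸ E.subgroupOf X

section Vectors

variable {M X T E : Subgroup G} {u : G}

/-- The elements of `xNorm` permuting the cosets by conjugation. -/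
def xPerm (M X E : Subgroup G) : xNorm M X E →* Equiv.Perm (XVec X E) :=
  have hmem : ∀ (g : xNorm M X E) (y : X), (g : G) * y * (g : G)⁻¹ ∈ X := fun g y =>
    (Subgroup.mem_normalizer_iff.1 (mem_inf.1 (mem_inf.1 g.2).1).2 _).1 y.2
  have hmap : ∀ (g : xNorm M X E) (y z : X), (QuotientGroup.mk y : XVec X E) = QuotientGroup.mk z →
      (QuotientGroup.mk ⟨_, hmem g y⟩ : XVec X E) = QuotientGroup.mk ⟨_, hmem g z⟩ := fun g y z e => by
    rw [QuotientGroup.eq, mem_subgroupOf] at e ⊢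
    have := (Subgroup.mem_normalizer_iff.1 (mem_inf.1 g.2).2 _).1 e
    simpa [mul_assoc] using this
  let f : xNorm M X E → XVec X E → XVec X E := fun g =>
    Quotient.lift (fun y => QuotientGroup.mk ⟨_, hmem g y⟩) fun y z e => hmap g y z (Quotient.sound e)
  have hone : ∀ q, f 1 q = q := fun q => QuotientGroup.induction_on q fun y => by
    show (QuotientGroup.mk ⟨_, hmem 1 y⟩ : XVec X E) = _
    congr 1
    exact Subtype.ext (by simp)
  have hmul : ∀ g k q, f (g * k) q = f g (f k q) := fun g k q => QuotientGroup.induction_on q fun y => by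
    show (QuotientGroup.mk ⟨_, hmem (g * k) y⟩ : XVec X E) = QuotientGroup.mk ⟨_, hmem g ⟨_, hmem k y⟩⟩
    congr 1
    exact Subtype.ext (by simp [mul_assoc])
  { toFun := fun g =>
      { toFun := f g
        invFun := f g⁻¹
        left_inv := fun q => by rw [← hmul, inv_mul_cancel, hone]
        right_inv := fun q => by rw [← hmul, mul_inv_cancel, hone] }
    map_one' := Equiv.ext hone
    map_mul' := fun g k => Equiv.ext (hmul g k) }

theorem xPerm_mk (g : xNorm M X E) {y z : X} (e : (g : G) * y * (g : G)⁻¹ = z) :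
    xPerm M X E g (QuotientGroup.mk y) = QuotientGroup.mk z :=
  congrArg QuotientGroup.mk (Subtype.ext e)

theorem xVec_eq_iff {y z : X} : (QuotientGroup.mk y : XVec X E) = QuotientGroup.mk z ↔ (y : G)⁻¹ * z ∈ E := by
  rw [QuotientGroup.eq, mem_subgroupOf]; rfl

theorem mem_ker_xPerm (g : xNorm M X E) : g ∈ (xPerm M X E).ker ↔ (g : G) ∈ xKer M X E := by
  rw [MonoidHom.mem_ker]
  constructor
  · intro e
    refine ⟨g.2, fun y hy => ?_⟩
    have h1 := Equiv.congr_fun e (QuotientGroup.mk (⟨y, hy⟩ : X))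
    exact xVec_eq_iff.1 (((xPerm_mk g (z := ⟨_, (Subgroup.mem_normalizer_iff.1
      (mem_inf.1 (mem_inf.1 g.2).1).2 _).1 hy⟩) rfl).symm.trans h1).symm)
  · intro hg
    refine Equiv.ext fun q => QuotientGroup.induction_on q fun y => ?_
    show xPerm M X E g (QuotientGroup.mk y) = QuotientGroup.mk y
    refine (xPerm_mk g (z := ⟨_, (Subgroup.mem_normalizer_iff.1
      (mem_inf.1 (mem_inf.1 g.2).1).2 _).1 y.2⟩) rfl).trans (xVec_eq_iff.2 ?_).symm
    exact hg.2 y y.2

namespace XCfg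

variable (h : XCfg M X T E u)
include h

theorem normal_sub : (E.subgroupOf X).Normal := ⟨fun e he c => by
  rw [mem_subgroupOf] at he ⊢
  show (c : G) * e * (c : G)⁻¹ ∈ E
  rw [← (h.E_cen _ he _ c.2).eq, mul_inv_cancel_right]
  exact he⟩

/-- The cosets with an involution are at most half of those outside `T`, and two. -/
theorem ncard_singular_le {n t : ℕ} (hn : Nat.card (XVec X E) = n) (ht : Nat.card T = t * Nat.card E) :
    2 * {q : XVec X E | q ≠ QuotientGroup.mk 1 ∧ ∃ y : X, QuotientGroup.mk y = q ∧ (y : G) * y = 1}.ncard + t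
      ≤ n + 2 := by
  classical
  haveI := h.normal_sub
  set P := {q : XVec X E | q ≠ QuotientGroup.mk 1 ∧ ∃ y : X, QuotientGroup.mk y = q ∧ (y : G) * y = 1} with hP
  set TV := (QuotientGroup.mk : X → XVec X E) '' {y : X | (y : G) ∈ T} with hTV
  set uX : X := ⟨u, h.u_X⟩ with huX
  have hTVcard : TV.ncard = t := by
    have h1 : TV.ncard * Nat.card E = Nat.card T := by
      have hle : E.subgroupOf X ≤ T.subgroupOf X := fun y hy => h.E_le hy
      have e : TV = ((T.subgroupOf X).map (QuotientGroup.mk' (E.subgroupOf X)) : Set (XVec X E)) := rfl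
      rw [e, ← Nat.card_coe_set_eq, ← Nat.card_congr (Subgroup.subgroupOfEquivOfLe h.T_le).toEquiv,
        ← Nat.card_congr (Subgroup.subgroupOfEquivOfLe h.E_le_X).toEquiv]
      have e1 : ((T.subgroupOf X).map (QuotientGroup.mk' (E.subgroupOf X))).index = (T.subgroupOf X).index :=
        Subgroup.index_map_eq _ (QuotientGroup.mk'_surjective _) (by rwa [QuotientGroup.ker_mk'])
      have e2 := ((T.subgroupOf X).map (QuotientGroup.mk' (E.subgroupOf X))).card_mul_index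
      have e3 := (T.subgroupOf X).card_mul_index
      have e4 : Nat.card (XVec X E) * Nat.card (E.subgroupOf X) = Nat.card X := by
        rw [show Nat.card (XVec X E) = (E.subgroupOf X).index from rfl, Subgroup.index_mul_card]
      rw [e1] at e2
      rw [← e4, ← e2] at e3
      refine Nat.eq_of_mul_eq_mul_right (Nat.pos_of_ne_zero
        (Subgroup.index_ne_zero_of_finite (H := T.subgroupOf X))) ?_
      rw [e3, SetLike.coe_sort_coe]; ring
    rw [ht] at h1
    exact Nat.eq_of_mul_eq_mul_right Nat.card_pos h1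
  have hin : P ∩ TV ⊆ {QuotientGroup.mk uX} := by
    rintro q ⟨⟨hq, y, rfl, hy⟩, z, hz, hzy⟩
    have h1 : (y : G) ∈ T := by
      have := mul_mem (show (z : G) ∈ T from hz) (h.E_le (xVec_eq_iff.1 hzy))
      rwa [mul_inv_cancel_left] at this
    rcases h.T_inv _ h1 hy with he | he
    · exact absurd (xVec_eq_iff.2 (by rw [OneMemClass.coe_one, mul_one]; exact inv_mem he)) hq
    · exact (xVec_eq_iff.2 he).symm
  set f : XVec X E → XVec X E := fun q => (QuotientGroup.mk uX : XVec X E) * q with hf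
  have hout : f '' (P \ TV) ⊆ (P ∪ TV)ᶜ := by
    rintro _ ⟨q, ⟨⟨-, y, rfl, hy⟩, hnT⟩, rfl⟩ hmem
    refine hnT ⟨y, ?_, rfl⟩
    rcases hmem with ⟨-, z, hz, hzz⟩ | ⟨z, hz, hzz⟩
    · refine (h.mem_T _).2 ⟨y.2, ?_⟩
      simp only [hf, ← QuotientGroup.mk_mul] at hz
      have he := xVec_eq_iff.1 hz
      have hu2 : u * u = 1 := by rw [← pow_two, ← h.ou, pow_orderOf_eq_one]
      have e2 := h.E_sq _ he
      have hcz := h.E_cen _ he (z : G) z.2
      have h2 : (u * y) * (u * y) = 1 := by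
        have e : u * y = (z : G) * ((z : G)⁻¹ * ((uX * y : X) : G)) := by rw [mul_inv_cancel_left]; rfl
        rw [e]
        calc (z : G) * ((z : G)⁻¹ * ↑(uX * y)) * ((z : G) * ((z : G)⁻¹ * ↑(uX * y)))
            = (z : G) * (((z : G)⁻¹ * ↑(uX * y)) * z) * ((z : G)⁻¹ * ↑(uX * y)) := by group
          _ = (z : G) * (z * ((z : G)⁻¹ * ↑(uX * y))) * ((z : G)⁻¹ * ↑(uX * y)) := by rw [hcz.eq]
          _ = ((z : G) * z) * (((z : G)⁻¹ * ↑(uX * y)) * ((z : G)⁻¹ * ↑(uX * y))) := by group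
          _ = 1 := by rw [hzz, e2, mul_one]
      show (y : G) * u = u * y
      calc (y : G) * u = u * u * (y * u) * (y * y) := by rw [hu2, hy, one_mul, mul_one]
        _ = u * (u * y * (u * y)) * y := by group
        _ = u * y := by rw [h2, mul_one]
    · simp only [hf, ← QuotientGroup.mk_mul] at hzz
      have h1 : ((uX * y : X) : G) ∈ T := by
        have := mul_mem (show (z : G) ∈ T from hz) (h.E_le (xVec_eq_iff.1 hzz))
        rwa [mul_inv_cancel_left] at this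
      exact (T.mul_mem_cancel_left h.u_mem).1 h1
  have h1 : (P \ TV).ncard ≤ ((P ∪ TV)ᶜ).ncard :=
    (Set.ncard_image_of_injective _ fun a b e => mul_left_cancel e).symm.le.trans
      (Set.ncard_le_ncard hout (Set.toFinite _))
  have h2 := Set.ncard_add_ncard_compl (P ∪ TV)
  have h3 : (P ∪ TV).ncard = (P \ TV).ncard + TV.ncard := by
    rw [← Set.sdiff_union_self, Set.ncard_union_eq Set.disjoint_sdiff_left (Set.toFinite _) (Set.toFinite _)]
  have h4 : (P ∩ TV).ncard ≤ 1 := (Set.ncard_le_ncard hin (Set.toFinite _)).trans (by simp)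
  have h5 := Set.ncard_inter_add_ncard_sdiff_eq_ncard P TV (Set.toFinite _)
  omega

/-- The normaliser has two-part at most twice `X` on the cosets. -/
theorem not_four (hbound : ∀ S : Subgroup G, S ≤ M → IsPGroup 2 S → Nat.card S ≤ 2 * Nat.card X) :
    ¬ 4 ∣ Nat.card (xPerm M X E).range := by
  intro h4
  haveI : Fact (Nat.Prime 2) := ⟨Nat.prime_two⟩
  obtain ⟨k, hk⟩ := IsPGroup.iff_card.1 h.X_two
  have e : Nat.card (xPerm M X E).range * Nat.card (xPerm M X E).ker = Nat.card (xNorm M X E) := by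
    rw [← Subgroup.index_ker, mul_comm]; exact Subgroup.card_mul_index _
  have hle : X.subgroupOf (xNorm M X E) ≤ (xPerm M X E).ker := fun g hg =>
    (mem_ker_xPerm g).2 (h.X_le_xKer hg)
  have hdvd : 2 ^ (k + 2) ∣ Nat.card (xNorm M X E) := by
    rw [← e, pow_add, mul_comm]
    refine Nat.mul_dvd_mul h4 ?_
    have := Subgroup.card_dvd_of_le hle
    rwa [Nat.card_congr (Subgroup.subgroupOfEquivOfLe h.X_le_xNorm).toEquiv, hk] at this
  obtain ⟨S, hS⟩ := Sylow.exists_subgroup_card_pow_prime 2 hdvd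
  have hb := hbound (S.map (xNorm M X E).subtype)
    ((map_subtype_le _).trans (inf_le_left.trans inf_le_left)) ((IsPGroup.of_card hS).map _)
  rw [Subgroup.card_map_of_injective (xNorm M X E).subtype_injective, hS, hk, pow_add] at hb
  have := Nat.two_pow_pos k
  omega

/-- A semiregular torus and a small two-part leave `u` in its coset. -/
theorem gamma_of_semiregular (h4 : ¬ 4 ∣ Nat.card (xPerm M X E).range) {K : Subgroup G} (hK : K ≤ xNorm M X E)
    (hKodd : Odd (Nat.card K)) (hKu : ∀ k ∈ K, Commute k u) {m n t : ℕ} (hm : (xKer M X E).relIndex K = m)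
    (hfree : ∀ k ∈ K, ∀ g ∈ xNorm M X E, (g * u * g⁻¹)⁻¹ * (k * (g * u * g⁻¹) * k⁻¹) ∈ E →
      k ∈ xKer M X E ∨ u⁻¹ * (g * u * g⁻¹) ∈ E)
    (hn : Nat.card X = n * Nat.card E) (ht : Nat.card T = t * Nat.card E) (hsize : n + 2 ≤ 2 * (1 + m) ^ 2 + t)
    (hbig : n < 2 ^ m ∨ (m = 7 ∧ n ≤ 2 ^ 7)) :
    ∀ g ∈ xNorm M X E, u⁻¹ * (g * u * g⁻¹) ∈ E := by
  classical
  haveI := h.normal_sub
  haveI hcomm : IsMulCommutative (XVec X E) := ⟨⟨fun p q => by
    induction p using QuotientGroup.induction_on with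
    | _ y =>
      induction q using QuotientGroup.induction_on with
      | _ z =>
        rw [← QuotientGroup.mk_mul, ← QuotientGroup.mk_mul]
        refine (xVec_eq_iff.2 ?_)
        have := h.comm_mem (inv_mem z.2) (inv_mem y.2)
        simpa [mul_assoc] using this⟩⟩
  letI : CommGroup (XVec X E) := { (inferInstance : Group (XVec X E)) with mul_comm := fun p q => hcomm.is_comm.comm p q }
  have hnV : Nat.card (XVec X E) = n := by
    refine Nat.eq_of_mul_eq_mul_right (Nat.card_pos (α := E)) ?_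
    rw [← hn, ← Nat.card_congr (Subgroup.subgroupOfEquivOfLe h.E_le_X).toEquiv,
      show Nat.card (XVec X E) = (E.subgroupOf X).index from rfl, Subgroup.index_mul_card]
  set ψ := xPerm M X E with hψ
  let H : Subgroup (Equiv.Perm (XVec X E)) := ψ.range
  have hmulψ : ∀ (g : xNorm M X E) (p q : XVec X E), ψ g (p * q) = ψ g p * ψ g q := fun g p q => by
    induction p using QuotientGroup.induction_on with
    | _ y =>
      induction q using QuotientGroup.induction_on with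
      | _ z =>
        have hy := (Subgroup.mem_normalizer_iff.1 (mem_inf.1 (mem_inf.1 g.2).1).2 _).1 y.2
        have hz := (Subgroup.mem_normalizer_iff.1 (mem_inf.1 (mem_inf.1 g.2).1).2 _).1 z.2
        rw [← QuotientGroup.mk_mul, xPerm_mk g (z := ⟨_, mul_mem hy hz⟩) (by simp [mul_assoc]),
          xPerm_mk g (z := ⟨_, hy⟩) rfl, xPerm_mk g (z := ⟨_, hz⟩) rfl, ← QuotientGroup.mk_mul]
        rfl
  let V := Additive (XVec X E)
  letI : DistribMulAction H V :=
    { smul := fun φ x => Additive.ofMul (φ.1 (Additive.toMul x))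
      one_smul := fun x => rfl
      mul_smul := fun φ φ' x => rfl
      smul_zero := by
        rintro ⟨_, g, rfl⟩
        show ψ g 1 = 1
        have := hmulψ g 1 1
        rw [mul_one] at this
        exact mul_eq_left.1 this.symm
      smul_add := by
        rintro ⟨_, g, rfl⟩ p q
        exact hmulψ g (Additive.toMul p) (Additive.toMul q) }
  let v : V := Additive.ofMul (QuotientGroup.mk (⟨u, h.u_X⟩ : X))
  let K' : Subgroup H := (K.subgroupOf (xNorm M X E)).map ψ.rangeRestrict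
  have hKv : ∀ k ∈ K', k • v = v := by
    rintro _ ⟨k, hk, rfl⟩
    exact xPerm_mk k (z := ⟨u, h.u_X⟩) (by
      show (k : G) * u * (k : G)⁻¹ = u
      rw [(hKu (k : G) hk).eq, mul_inv_cancel_right])
  have hK'card : Nat.card K' = m := by
    rw [← hm, ← Subgroup.card_map_of_injective (K := K') H.subtype_injective, Subgroup.map_map]
    have e : (H.subtype.comp ψ.rangeRestrict) = ψ := MonoidHom.ext fun _ => rfl
    rw [e]
    have e3 : ψ.ker = (xKer M X E).subgroupOf (xNorm M X E) := Subgroup.ext fun g =>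
      (mem_ker_xPerm g).trans mem_subgroupOf.symm
    rw [← Subgroup.relIndex_ker, e3, Subgroup.relIndex_subgroupOf hK]
  have hKodd' : Odd (Nat.card K') := by
    rw [hK'card, ← hm]
    exact hKodd.of_dvd_nat (Subgroup.relIndex_dvd_card _ _)
  have hu2 : u * u = 1 := by rw [← pow_two, ← h.ou, pow_orderOf_eq_one]
  have hsemi : ∀ k ∈ K', ∀ x ∈ orbit H v, x ≠ v → k • x = x → k = 1 := by
    rintro _ ⟨k, hk, rfl⟩ x ⟨⟨_, g, rfl⟩, hx⟩ hxv e
    set y : X := ⟨_, (Subgroup.mem_normalizer_iff.1 (mem_inf.1 (mem_inf.1 g.2).1).2 _).1 h.u_X⟩ with hy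
    have hxy : x = Additive.ofMul (QuotientGroup.mk y : XVec X E) :=
      hx.symm.trans (xPerm_mk g (y := (⟨u, h.u_X⟩ : X)) rfl)
    subst hxy
    have hz := (Subgroup.mem_normalizer_iff.1 (mem_inf.1 (mem_inf.1 k.2).1).2 _).1 y.2
    have e1 : (QuotientGroup.mk (⟨_, hz⟩ : X) : XVec X E) = QuotientGroup.mk y :=
      (xPerm_mk k (y := y) rfl).symm.trans e
    have hE : (y : G)⁻¹ * ((k : G) * y * (k : G)⁻¹) ∈ E := xVec_eq_iff.1 e1.symm
    rcases hfree k hk g g.2 hE with h1 | h1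
    · exact Subtype.ext ((mem_ker_xPerm k).2 h1)
    · exact absurd (congrArg Additive.ofMul (xVec_eq_iff.2 h1).symm) hxv
  have hV2 : ∀ x : V, x + x = 0 := fun x => by
    obtain ⟨y, hy⟩ := QuotientGroup.mk_surjective (Additive.toMul x)
    show (Additive.toMul x) * (Additive.toMul x) = (1 : XVec X E)
    rw [← hy, ← QuotientGroup.mk_mul, QuotientGroup.eq_one_iff, mem_subgroupOf]
    exact h.X_sq _ y.2
  have hsub : (orbit H v).ncard ≤ (1 + Nat.card K') ^ 2 := by
    have h1 := h.ncard_singular_le hnV ht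
    have h2 : (orbit H v).ncard ≤
        {q : XVec X E | q ≠ QuotientGroup.mk 1 ∧ ∃ y : X, QuotientGroup.mk y = q ∧ (y : G) * y = 1}.ncard := by
      refine Set.ncard_le_ncard_of_injOn Additive.toMul ?_ (fun _ _ _ _ e => Additive.toMul.injective e)
        (Set.toFinite _)
      rintro x ⟨⟨_, g, rfl⟩, rfl⟩
      set y : X := ⟨_, (Subgroup.mem_normalizer_iff.1 (mem_inf.1 (mem_inf.1 g.2).1).2 _).1 h.u_X⟩ with hy
      refine ⟨fun e => ?_, y, (xPerm_mk g (y := (⟨u, h.u_X⟩ : X)) rfl).symm, ?_⟩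
      · have e1 := (xPerm_mk g (y := (⟨u, h.u_X⟩ : X)) (z := y) rfl).symm.trans e
        have h3 := inv_mem_iff.1 (by simpa using xVec_eq_iff.1 e1 : ((y : G))⁻¹ ∈ E)
        exact h.u_notin ((Subgroup.mem_normalizer_iff.1 (mem_inf.1 g.2).2 u).2 h3)
      · show ((g : G) * u * (g : G)⁻¹) * ((g : G) * u * (g : G)⁻¹) = 1
        calc (g : G) * u * (g : G)⁻¹ * ((g : G) * u * (g : G)⁻¹) = (g : G) * (u * u) * (g : G)⁻¹ := by group
          _ = 1 := by rw [hu2, mul_one, mul_inv_cancel]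
    rw [hK'card]
    omega
  have horb := OrbitVectors.orbit_singleton (H := H) (V := V) hV2 h4 v K' hKv hKodd' hsemi hsub
    (by rw [hK'card, show Nat.card V = n from hnV]; exact hbig)
  intro g hg
  have h1 : (⟨ψ ⟨g, hg⟩, ⟨g, hg⟩, rfl⟩ : H) • v ∈ orbit H v := mem_orbit _ _
  rw [horb, Set.mem_singleton_iff] at h1
  set z : X := ⟨g * u * g⁻¹, (Subgroup.mem_normalizer_iff.1 (mem_inf.1 (mem_inf.1 hg).1).2 _).1 h.u_X⟩ with hz
  exact xVec_eq_iff.1 ((xPerm_mk (⟨g, hg⟩ : xNorm M X E) (y := (⟨u, h.u_X⟩ : X)) (z := z) rfl).symm.trans h1).symm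

/-- A subgroup of index two in `X` over `E` without `u`. -/
theorem exists_half : ∃ M0 : Subgroup G, M0 ≤ X ∧ 2 * Nat.card M0 = Nat.card X ∧ E ≤ M0 ∧ u ∉ M0 := by
  classical
  haveI : Nonempty {N : Subgroup G // E ≤ N ∧ N ≤ X ∧ u ∉ N} := ⟨⟨E, le_rfl, h.E_le_X, h.u_notin⟩⟩
  obtain ⟨⟨N, hEN, hNX, huN⟩, hmax⟩ := Finite.exists_max
    fun N : {N : Subgroup G // E ≤ N ∧ N ≤ X ∧ u ∉ N} => Nat.card (N : Subgroup G)
  refine ⟨N, hNX, ?_, hEN, huN⟩
  have hsplit : ∀ y ∈ X, y ∈ N ∨ u⁻¹ * y ∈ N := by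
    intro y hy
    by_contra hno
    push Not at hno
    let N' : Subgroup G :=
      { carrier := {z | z ∈ X ∧ (z ∈ N ∨ y⁻¹ * z ∈ N)}
        one_mem' := ⟨one_mem _, Or.inl (one_mem _)⟩
        mul_mem' := by
          rintro z w ⟨hz, hz'⟩ ⟨hw, hw'⟩
          refine ⟨mul_mem hz hw, ?_⟩
          have hcen : ∀ s ∈ X, ∀ t ∈ X, (s * t * s⁻¹ * t⁻¹) ∈ N := fun s hs t ht => hEN (h.comm_mem hs ht)
          rcases hz' with h1 | h1 <;> rcases hw' with h2 | h2
          · exact Or.inl (mul_mem h1 h2)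
          · refine Or.inr ?_
            have e : y⁻¹ * (z * w) = (y⁻¹ * z * y⁻¹⁻¹ * z⁻¹) * z * (y⁻¹ * w) := by group
            rw [e]
            exact mul_mem (mul_mem (hcen _ (inv_mem hy) _ hz) h1) h2
          · refine Or.inr ?_
            rw [← mul_assoc]
            exact mul_mem h1 h2
          · refine Or.inl ?_
            have e : z * w = y * (y⁻¹ * z) * y⁻¹ * (y * y) * (y⁻¹ * w) := by group
            rw [e]
            refine mul_mem (mul_mem ?_ (hEN (h.X_sq y hy))) h2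
            have := mul_mem (hcen y hy _ (mul_mem (inv_mem hy) hz)) h1
            rwa [inv_mul_cancel_right] at this
        inv_mem' := by
          rintro z ⟨hz, hz'⟩
          refine ⟨inv_mem hz, hz'.imp inv_mem fun h1 => ?_⟩
          have e : y⁻¹ * z⁻¹ = (y * y)⁻¹ * (y * (y⁻¹ * z)⁻¹ * y⁻¹) := by group
          rw [e]
          refine mul_mem (inv_mem (hEN (h.X_sq y hy))) ?_
          have := mul_mem (hEN (h.comm_mem hy (inv_mem (mul_mem (inv_mem hy) hz)))) (inv_mem h1)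
          rwa [inv_mul_cancel_right] at this }
    have hu : u ∈ N' := by
      by_contra hu
      have hle := hmax ⟨N', fun e he => ⟨h.E_le_X he, Or.inl (hEN he)⟩, fun z hz => hz.1, hu⟩
      have heq : N = N' := Subgroup.eq_of_le_of_card_ge (fun z hz => ⟨hNX hz, Or.inl hz⟩) hle
      exact hno.1 (heq.ge ⟨hy, Or.inr (by rw [inv_mul_cancel]; exact one_mem _)⟩)
    rcases hu.2 with h1 | h1
    · exact huN h1
    · exact hno.2 (by simpa using inv_mem h1)
  have hidx : (N.subgroupOf X).index = 2 := by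
    rw [Subgroup.index_eq_two_iff]
    refine ⟨⟨u, h.u_X⟩, fun y => ?_⟩
    simp only [mem_subgroupOf, Subgroup.coe_mul]
    by_cases hy : (y : G) ∈ N
    · exact Or.inr ⟨hy, fun h1 => huN ((N.mul_mem_cancel_left hy).1 h1)⟩
    · refine Or.inl ⟨?_, hy⟩
      have h1 := (hsplit y y.2).resolve_left hy
      have e : (y : G) * u = ((y : G) * u * (y : G)⁻¹ * u⁻¹) * (u * y) := by group
      have e2 : u * (y : G) = (u * u) * (u⁻¹ * y) := by group
      rw [e, e2]
      exact mul_mem (hEN (h.comm_mem y.2 h.u_X)) (mul_mem (hEN (h.X_sq u h.u_X)) h1)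
  rw [← Nat.card_congr (Subgroup.subgroupOfEquivOfLe hNX).toEquiv, mul_comm, ← hidx, Subgroup.card_mul_index]

/-- The Suzuki case: no transfer is possible. -/
theorem false_of_suzuki (h2 : ∀ H : Subgroup G, H.index ≠ 2) (hM : ¬ 2 ∣ M.index)
    (hconj : ∀ v ∈ M, IsConj u v → ∃ g ∈ M, g * u * g⁻¹ = v) {r : ℕ} (hr : 3 ≤ r) (hodd : Odd r)
    (hE : Nat.card E = 2 ^ r) (hT : Nat.card T = 2 * 2 ^ r * 2 ^ r) (hX : Nat.card X = 2 * 2 ^ r * 2 ^ r * 2 ^ r)
    (hbound : ∀ S : Subgroup G, S ≤ M → IsPGroup 2 S → Nat.card S ≤ 2 * Nat.card X)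
    {K : Subgroup G} (hK : K ≤ xNorm M X E) (hKodd : Odd (Nat.card K)) (hKu : ∀ k ∈ K, Commute k u)
    (hm : (xKer M X E).relIndex K = 2 ^ r - 1)
    (hfree : ∀ k ∈ K, ∀ y ∈ X, y⁻¹ * (k * y * k⁻¹) ∈ E → k ∈ xKer M X E ∨ y ∈ E ∨ u⁻¹ * y ∈ E) :
    False := by
  obtain ⟨M0, hM0, hcard, hE0, hu0⟩ := h.exists_half
  refine h.false_of_transfer h2 hM hconj ?_ hM0 hcard hE0 hu0
  refine h.gamma_of_semiregular (h.not_four hbound) hK hKodd hKu hm (fun k hk g hg e => ?_) (n := 2 * 2 ^ r * 2 ^ r)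
    (t := 2 * 2 ^ r) (by rw [hX, hE]) (by rw [hT, hE]) ?_ ?_
  · rcases hfree k hk _ ((Subgroup.mem_normalizer_iff.1 (mem_inf.1 (mem_inf.1 hg).1).2 _).1 h.u_X) e with h1 | h1 | h1
    · exact Or.inl h1
    · exact absurd ((Subgroup.mem_normalizer_iff.1 (mem_inf.1 hg).2 u).2 h1) h.u_notin
    · exact Or.inr h1
  · have := Nat.one_le_two_pow (n := r)
    rw [Nat.add_sub_cancel' this]
    nlinarith
  · rcases Nat.lt_or_ge r 4 with h4 | h4
    · obtain rfl : r = 3 := by omega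
      exact Or.inr ⟨by norm_num, by norm_num⟩
    · refine Or.inl ?_
      rw [show 2 * 2 ^ r * 2 ^ r = 2 ^ (2 * r + 1) by ring]
      refine Nat.pow_lt_pow_right one_lt_two ?_
      have : ∀ s, 4 ≤ s → 2 * s + 2 < 2 ^ s := by
        intro s hs
        induction s, hs using Nat.le_induction with
        | base => norm_num
        | succ s _ ih => rw [pow_succ]; omega
      have := this r h4
      omega

end XCfg

end Vectors

end Cfsg.Agent.GoodInvol
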