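import Cfsg.Agent.Lib.GoodInvol.Local
import Cfsg.Agent.Lib.GoodInvol.CaseBGamma
import Cfsg.Agent.Lib.GoodInvol.CaseBL2.SylowOrbit
import Cfsg.Agent.Lib.GoodInvol.LemmaT.CosetTrans

/-!
# An involution without companion: the two-subgroup of the endgame

`BaseCfg` is the situation at `u`: `⟨u⟩` is the pointwise part and every element of `T` acts as one of `Q`, so
`T = ⟨u⟩ × Q`. With translations of `u E` a Sylow subgroup `X` of the centraliser of `E` normalising `u E` is an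
`XCfg`, and for the types other than the unitary one a complement of `T` gives the semiregular torus on `X / E`.
-/

set_option autoImplicit false
set_option linter.style.haveILetI false
set_option linter.unusedSectionVars false

namespace Cfsg.Agent.GoodInvol

open Subgroup MulAction

universe u

variable {G : Type u} [Group G] [Finite G] {Ω : Type u} [MulAction G Ω] [Finite Ω] [FaithfulSMul G Ω] {D : Set G}

/-- The image in `G` of a Sylow subgroup of the point stabiliser of a centraliser. -/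
abbrev tSub {u : G} {a : Ω} (T : Sylow 2 (ptC u a)) : Subgroup G :=
  (T : Subgroup (ptC u a)).map (ptC u a).subtype

/-- The centraliser of `E` in the normaliser of `u E` at `a`. -/
abbrev cSub (u : G) (a : Ω) (E : Subgroup G) : Subgroup G :=
  cosetNorm E u ⊓ stabilizer G a ⊓ centralizer (E : Set G)

/-- The image in `G` of a Sylow subgroup of `cSub`. -/
abbrev xSub {u : G} {a : Ω} {E : Subgroup G} (S : Sylow 2 (cSub u a E)) : Subgroup G :=
  (S : Subgroup (cSub u a E)).map (cSub u a E).subtype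

/-- The situation at `u`. -/
structure BaseCfg (D : Set G) (u : G) (a x : Ω) (T : Sylow 2 (ptC u a)) (E Q K K1 : Subgroup G) (r e : ℕ) :
    Prop where
  hu : orderOf u = 2
  hbad : ¬ OneFix Ω u
  ha : u • a = a
  hx : u • x = x
  hxa : x ≠ a
  hE : ESet D u a (tSub T) E
  hL : Local D u a x (tSub T) E Q K K1 r e
  hW : ∀ g ∈ wker Ω u (tSub T), g = 1 ∨ g = u
  hall : ∀ t ∈ tSub T, ∃ y ∈ Q, ∀ z : Ω, u • z = z → t • z = y • z

/-- An element of odd and of 2-power order is one. -/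
theorem eq_one_of_odd_two {g : G} {n k : ℕ} (hn : Odd n) (h1 : g ^ n = 1) (h2 : orderOf g = 2 ^ k) : g = 1 :=
  orderOf_eq_one_iff.1 (Nat.eq_one_of_dvd_coprimes (Nat.Coprime.pow_left k (Nat.coprime_two_left.2 hn))
    (by rw [h2]) (orderOf_dvd_of_pow_eq_one h1))

/-- Conjugates of `u` fixing `a` are conjugate in the stabiliser of `a`. -/
theorem Crit.exists_conj_stab (h : Crit D Ω) {u : G} (hu : orderOf u = 2) {a : Ω} (ha : u • a = a) :
    ∀ v ∈ stabilizer G a, IsConj u v → ∃ g ∈ stabilizer G a, g * u * g⁻¹ = v := by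
  intro v hv hc
  obtain ⟨c, rfl⟩ := isConj_iff.1 hc
  have hfix : u • c⁻¹ • a = c⁻¹ • a := by
    rw [mem_stabilizer_iff, mul_smul, mul_smul] at hv
    exact eq_inv_smul_iff.2 hv
  obtain ⟨d, hd, hda⟩ := h.exists_smul_fix hu ha hfix
  refine ⟨c * d, mem_stabilizer_iff.2 (by rw [mul_smul, hda, smul_inv_smul]), ?_⟩
  rw [show c * d * u * (c * d)⁻¹ = c * (d * u * d⁻¹) * c⁻¹ by group, mul_inv_eq_iff_eq_mul.2 hd.eq]

namespace BaseCfg

variable {u : G} {a x : Ω} {T : Sylow 2 (ptC u a)} {E Q K K1 : Subgroup G} {r e : ℕ}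
  (B : BaseCfg D u a x T E Q K K1 r e)
include B

theorem tSub_le : tSub T ≤ ptC u a := map_subtype_le _

theorem tSub_two : IsPGroup 2 (tSub T) := T.2.map _

theorem mem_u {t : G} (ht : t ∈ tSub T) : Commute t u := (mem_ptC.1 (B.tSub_le ht)).1

theorem mem_a {t : G} (ht : t ∈ tSub T) : t • a = a := (mem_ptC.1 (B.tSub_le ht)).2

theorem fix_smul {g : G} (hg : Commute g u) {z : Ω} (hz : u • z = z) : u • g • z = g • z := by
  rw [← mul_smul, ← hg.eq, mul_smul, hz]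

theorem u_mem : u ∈ tSub T := by
  haveI : Fact (Nat.Prime 2) := ⟨Nat.prime_two⟩
  set u0 : ptC u a := ⟨u, mem_ptC.2 ⟨Commute.refl u, B.ha⟩⟩
  have hcen : u0 ∈ center (ptC u a) := mem_center_iff.2 fun g => Subtype.ext (mem_ptC.1 g.2).1.eq
  haveI : (zpowers u0).Normal := ⟨fun n hn g => by
    obtain ⟨i, rfl⟩ := mem_zpowers_iff.1 hn
    rw [(mem_center_iff.1 (zpow_mem hcen i) g), mul_inv_cancel_right]
    exact zpow_mem (mem_zpowers u0) i⟩
  have hP : IsPGroup 2 (zpowers u0) := IsPGroup.of_card (n := 1) (by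
    rw [Nat.card_zpowers, ← Subgroup.orderOf_coe, pow_one]; exact B.hu)
  exact ⟨u0, IsPGroup.le_sylow_of_normal hP T (mem_zpowers u0), rfl⟩

/-- A 2-element of `genC` fixing `a` and a second fixed point is one. -/
theorem two_fix (h : Crit D Ω) {g : G} (hg : g ∈ genC D u) (hga : g • a = a) {p : Ω} (hp : u • p = p)
    (hpa : p ≠ a) (hgp : g • p = p) (h2 : ∃ k, orderOf g = 2 ^ k) : g = 1 := by
  haveI : Fact (Nat.Prime 2) := ⟨Nat.prime_two⟩
  set g0 : ptC u a := ⟨g, mem_ptC.2 ⟨commute_of_genC hg, hga⟩⟩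
  obtain ⟨n, hn⟩ := h2
  have hP : IsPGroup 2 (zpowers g0) := IsPGroup.of_card (n := n) (by
    rw [Nat.card_zpowers, ← Subgroup.orderOf_coe]; exact hn)
  obtain ⟨T', hT'⟩ := hP.exists_le_sylow
  obtain ⟨c, hc⟩ := MulAction.exists_smul_eq (ptC u a) T' T
  have hm : c * g0 * c⁻¹ ∈ (T : Subgroup (ptC u a)) := by
    rw [← hc, Sylow.coe_subgroup_smul]
    exact ⟨g0, hT' (mem_zpowers g0), rfl⟩
  obtain ⟨hcu, hca⟩ := mem_ptC.1 c.2
  set g' := (c : G) * g * (c : G)⁻¹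
  have hg'Q : g' ∈ Q := B.hL.mem_Q.2 ⟨⟨_, hm, rfl⟩, h.conj_genC hcu hg⟩
  set p' := (c : G) • p
  have hp' : u • p' = p' := B.fix_smul hcu hp
  have hp'a : p' ≠ a := fun e' => hpa (MulAction.injective (c : G) (e'.trans hca.symm))
  obtain ⟨y, ⟨hy, hyp⟩, huniq⟩ := B.hL.reg p' hp' hp'a
  have h1 : g' * y = y := huniq _ ⟨mul_mem hg'Q hy, by
    rw [mul_smul, hyp, show g' • p' = p' by rw [mul_smul, mul_smul, inv_smul_smul, hgp]]⟩
  exact conj_eq_one_iff.1 (mul_eq_right.1 h1)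

theorem u_notMem : u ∉ Q := fun hu => by
  have h1 : u ∈ kerCore Ω u := B.hL.kernel_le ⟨B.hL.Q_gen hu, fun z hz => hz⟩
  have h2 := Subgroup.orderOf_dvd_natCard _ h1
  rw [B.hu] at h2
  exact Nat.not_even_iff_odd.2 (Crit.odd_kerCore (Ω := Ω) u) (even_iff_two_dvd.2 h2)

/-- `T = ⟨u⟩ × Q`. -/
theorem mem_T {t : G} (ht : t ∈ tSub T) : t ∈ Q ∨ u * t ∈ Q := by
  obtain ⟨y, hy, hty⟩ := B.hall t ht
  obtain ⟨w, hw, rfl⟩ := B.hL.exists_wker_mul ht hy hty
  rcases B.hW w hw with rfl | rfl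
  · exact Or.inl (by rwa [mul_one])
  · refine Or.inr ?_
    rwa [(commute_of_genC (B.hL.Q_gen hy)).eq, ← mul_assoc, Invol.mul_self B.hu, one_mul]

/-- The square of an element of `T` is one of an element of `Q`. -/
theorem exists_root {t : G} (ht : t ∈ tSub T) : ∃ y ∈ Q, (t = y ∨ t = u * y) ∧ t * t = y * y := by
  rcases B.mem_T ht with h1 | h1
  · exact ⟨t, h1, Or.inl rfl, rfl⟩
  refine ⟨u * t, h1, Or.inr (by rw [← mul_assoc, Invol.mul_self B.hu, one_mul]), ?_⟩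
  rw [(B.mem_u ht).mul_mul_mul_comm, Invol.mul_self B.hu, one_mul]

theorem cen_E {t : G} (ht : t ∈ tSub T) {z : G} (hz : z ∈ E) : Commute t z := by
  obtain ⟨y, hy, hty, -⟩ := B.exists_root ht
  rcases hty with rfl | rfl
  · exact (B.hL.cen z hz _ hy).symm
  · exact ((B.mem_u (B.hE.le hz)).symm).mul_left (B.hL.cen z hz _ hy).symm

theorem sq_T {t : G} (ht : t ∈ tSub T) : t * t ∈ E := by
  obtain ⟨y, hy, -, hsq⟩ := B.exists_root ht
  exact hsq ▸ B.hL.sq y hy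

theorem inv_T {t : G} (ht : t ∈ tSub T) (h1 : t * t = 1) : t ∈ E ∨ u⁻¹ * t ∈ E := by
  obtain ⟨y, hy, hty, hsq⟩ := B.exists_root ht
  have hyE := B.hL.mem_eset y hy (hsq ▸ h1)
  rcases hty with rfl | rfl
  · exact Or.inl hyE
  · exact Or.inr (by rwa [inv_mul_cancel_left])

theorem card_T : Nat.card (tSub T) = 2 * 2 ^ (e * r) := by
  have hidx : (Q.subgroupOf (tSub T)).index = 2 := by
    rw [Subgroup.index_eq_two_iff]
    refine ⟨⟨u, B.u_mem⟩, fun b => ?_⟩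
    simp only [mem_subgroupOf, Subgroup.coe_mul]
    have hc : (b : G) * u = u * b := (B.mem_u b.2).eq
    by_cases hb : (b : G) ∈ Q
    · exact Or.inr ⟨hb, fun h1 => B.u_notMem ((Q.mul_mem_cancel_left hb).1 h1)⟩
    · exact Or.inl ⟨hc ▸ (B.mem_T b.2).resolve_left hb, hb⟩
  rw [← Subgroup.card_mul_index (Q.subgroupOf (tSub T)), hidx,
    Nat.card_congr (Subgroup.subgroupOfEquivOfLe B.hL.Q_le).toEquiv, B.hL.card_Q, mul_comm]

/-- `T` is a largest 2-subgroup centralising `u` at `a`. -/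
theorem T_max {R : Subgroup G} (hR : R ≤ stabilizer G a) (hR2 : IsPGroup 2 R) (hRu : ∀ y ∈ R, Commute y u) :
    Nat.card R ≤ Nat.card (tSub T) := by
  haveI : Fact (Nat.Prime 2) := ⟨Nat.prime_two⟩
  have hle : R ≤ ptC u a := fun y hy => mem_ptC.2 ⟨hRu y hy, hR hy⟩
  obtain ⟨S, hS⟩ := (hR2.comap_subtype : IsPGroup 2 (R.subgroupOf (ptC u a))).exists_le_sylow
  calc Nat.card R = Nat.card (R.subgroupOf (ptC u a)) :=
        (Nat.card_congr (Subgroup.subgroupOfEquivOfLe hle).toEquiv).symm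
    _ ≤ Nat.card (S : Subgroup (ptC u a)) := Subgroup.card_le_of_le hS
    _ = Nat.card (tSub T) := by
      rw [card_map_of_injective (ptC u a).subtype_injective, S.card_eq_multiplicity, T.card_eq_multiplicity]

theorem eq_tSub {R : Subgroup G} (hR : R ≤ stabilizer G a) (hR2 : IsPGroup 2 R) (hRu : ∀ y ∈ R, Commute y u)
    (hTR : tSub T ≤ R) : R = tSub T :=
  (Subgroup.eq_of_le_of_card_ge hTR (B.T_max hR hR2 hRu)).symm

theorem conj_E_of_K {k : G} (hk : k ∈ K) {z : G} (hz : z ∈ E) : k * z * k⁻¹ ∈ E :=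
  (B.hL.K_normE k (mem_sup_left hk) z).2 hz

theorem K_nn {k : G} (hk : k ∈ K) : k ∈ cosetNorm E u ⊓ stabilizer G a :=
  ⟨mem_cosetNorm_of_conj (B.hL.K_normE k (mem_sup_left hk))
    (by rw [(B.hL.K_commute_u hk).eq, mul_inv_cancel_right, inv_mul_cancel]; exact one_mem E),
    mem_stabilizer_iff.2 (B.hL.K_fix k hk).1⟩

/-- An element of `genC` fixing `a` and normalising `E` acts on `E` as one of `K`. -/
theorem exists_K {g : G} (hg : g ∈ genC D u) (hga : g • a = a) (hgE : ∀ z ∈ E, g * z * g⁻¹ ∈ E) :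
    ∃ k ∈ K, ∀ z ∈ E, g * z * g⁻¹ = k * z * k⁻¹ := by
  obtain ⟨y, ⟨hy, hyx⟩, -⟩ := B.hL.reg (g • x) (B.fix_smul (commute_of_genC hg) B.hx)
    fun e' => B.hxa (MulAction.injective g (e'.trans hga.symm))
  obtain ⟨k, hk, hkz⟩ := B.hL.K_full (y⁻¹ * g) (mul_mem (inv_mem (B.hL.Q_gen hy)) hg)
    (by rw [mul_smul, hga, inv_smul_eq_iff, B.mem_a (B.hL.Q_le hy)])
    (by rw [mul_smul, ← hyx, inv_smul_smul])
  refine ⟨k, hk, fun z hz => ?_⟩
  have e1 : y⁻¹ * g * z * (y⁻¹ * g)⁻¹ = g * z * g⁻¹ := by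
    rw [show y⁻¹ * g * z * (y⁻¹ * g)⁻¹ = y⁻¹ * (g * z * g⁻¹) * y by group,
      mul_assoc, (B.hL.cen _ (hgE z hz) y hy).eq, inv_mul_cancel_left]
  exact B.hE.inj _ (hgE z hz) _ (B.conj_E_of_K hk hz) fun p hp => e1 ▸ hkz z hz p hp

/-- Translations of `u E`, or eight elements. -/
theorem translations_or (h : Crit D Ω) (hB : Below.{u} (Nat.card G)) (hgen : closure D = ⊤) :
    (∀ z ∈ E, ∃ g ∈ cosetNorm E u ⊓ stabilizer G a, (∀ w ∈ E, g * w * g⁻¹ = w) ∧ g * u * g⁻¹ = u * z) ∨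
      (Nat.card E = 8 ∧ 168 ∣ Nat.card ↥(cosetNorm E u ⊓ stabilizer G a)) := by
  refine coset_translations B.hE.sq (fun z hz f hf => (B.hE.comm z hz f hf).eq) ?_
    (fun g hg w hw => (hg.1.1 w).2 hw) (fun g hg => by rw [hg.1.2 u, inv_mul_cancel]; exact one_mem E)
    (fun z hz => h.exists_conj_coset hB hgen B.hu B.hbad B.ha B.tSub_le B.hE hz) (fun k hk => B.K_nn hk)
    (fun k hk => (B.hL.K_commute_u hk).eq) B.hL.K_trans (fun k hk l hl z _ => ?_) fun g hg hgu k hk => ?_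
  · obtain ⟨z, hz, -, -, hz1, -, -⟩ := B.hE.two
    exact ⟨z, hz, hz1⟩
  · rw [show k * (l * z * l⁻¹) * k⁻¹ = (k * l) * z * (k * l)⁻¹ by group,
      (B.hL.K_comm k (mem_sup_left hk) l (mem_sup_left hl)).eq]
    group
  · have hgE : ∀ z ∈ E, g⁻¹ * z * g ∈ E := fun z hz =>
      (hg.1.1 _).1 (by rwa [show g * (g⁻¹ * z * g) * g⁻¹ = z by group])
    obtain ⟨k', hk', hkk⟩ := B.exists_K (g := g * k * g⁻¹) (h.conj_genC hgu (B.hL.K_le hk))
      (by rw [mul_smul, mul_smul, inv_smul_eq_iff.2 (mem_stabilizer_iff.1 hg.2).symm, (B.hL.K_fix k hk).1]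
          exact hg.2)
      fun z hz => by
        rw [show g * k * g⁻¹ * z * (g * k * g⁻¹)⁻¹ = g * (k * (g⁻¹ * z * g) * k⁻¹) * g⁻¹ by group]
        exact (hg.1.1 _).2 (B.conj_E_of_K hk (hgE z hz))
    refine ⟨k', hk', fun z hz => ?_⟩
    rw [← hkk _ ((hg.1.1 z).2 hz)]
    group

/-- The two-subgroup `X`, with the data used later. -/
theorem exists_x (h : Crit D Ω) (hB : Below.{u} (Nat.card G))
    (htr : ∀ z ∈ E, ∃ g ∈ cosetNorm E u ⊓ stabilizer G a, (∀ w ∈ E, g * w * g⁻¹ = w) ∧ g * u * g⁻¹ = u * z)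
    (hcentV : ∀ S : Sylow 2 (cSub u a E), tSub T ≤ xSub S →
      (∀ c ∈ xSub S, ∀ t ∈ tSub T, c * t * c⁻¹ ∈ tSub T) → (∀ f ∈ E, ∃ c ∈ xSub S, c * u * c⁻¹ = u * f) →
      ∀ g ∈ xSub S, ∀ t ∈ tSub T, t⁻¹ * (g * t * g⁻¹) ∈ E ∨ u⁻¹ * (t⁻¹ * (g * t * g⁻¹)) ∈ E)
    (hpolar : ∀ y ∈ Q, ∀ c ∈ E, (∀ z ∈ Q, z * y * z⁻¹ * y⁻¹ = 1 ∨ z * y * z⁻¹ * y⁻¹ = c) → y ∈ E) :
    ∃ S : Sylow 2 (cSub u a E),
      XCfg (stabilizer G a) (xSub S) (tSub T) E u ∧
        Nat.card (xSub S) = 2 ^ r * (2 * 2 ^ (e * r)) := by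
  classical
  haveI : Fact (Nat.Prime 2) := ⟨Nat.prime_two⟩
  have hTCc : tSub T ≤ (cSub u a E) := fun t ht => ⟨⟨mem_cosetNorm_of_conj (fun z => by
      constructor
      · intro hz
        have e1 := (B.cen_E ht hz).eq
        have h1 : t * z * t⁻¹ = z := by
          calc t * z * t⁻¹ = t⁻¹ * (t * (t * z * t⁻¹)) := (inv_mul_cancel_left t _).symm
            _ = t⁻¹ * ((t * z * t⁻¹) * t) := by rw [e1]
            _ = z := by group
        exact h1 ▸ hz
      · intro hz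
        rw [(B.cen_E ht hz).eq, mul_inv_cancel_right]
        exact hz)
      (by rw [(B.mem_u ht).eq, mul_inv_cancel_right, inv_mul_cancel]; exact one_mem E),
    mem_stabilizer_iff.2 (B.mem_a ht)⟩, mem_centralizer_iff.2 fun z hz => (B.cen_E ht hz).symm.eq⟩
  obtain ⟨S, hS⟩ := ((B.tSub_two).comap_subtype : IsPGroup 2 ((tSub T).subgroupOf (cSub u a E))).exists_le_sylow
  refine ⟨S, ?_⟩
  set X := xSub S with hX
  have hXC : X ≤ (cSub u a E) := map_subtype_le _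
  have hX2 : IsPGroup 2 X := S.2.map _
  have hTX : tSub T ≤ X := fun t ht => ⟨⟨t, hTCc ht⟩, hS ht, rfl⟩
  have hXa : X ≤ stabilizer G a := fun y hy => (hXC hy).1.2
  have hXE : ∀ z ∈ E, ∀ y ∈ X, Commute z y := fun z hz y hy => mem_centralizer_iff.1 (hXC hy).2 z hz
  have hmemT : ∀ y : G, y ∈ tSub T ↔ y ∈ X ∧ Commute y u := by
    have e1 := B.eq_tSub (R := X ⊓ centralizer ({u} : Set G)) (inf_le_left.trans hXa) (hX2.to_le inf_le_left)
      (fun y hy => mem_centralizer_singleton_iff.1 hy.2)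
      fun t ht => ⟨hTX ht, mem_centralizer_singleton_iff.2 (B.mem_u ht).eq⟩
    exact fun y => ⟨fun hy => ⟨hTX hy, B.mem_u hy⟩,
      fun hy => e1 ▸ ⟨hy.1, mem_centralizer_singleton_iff.2 hy.2.eq⟩⟩
  have hval : ∀ c ∈ X, ∃ f ∈ E, c * u * c⁻¹ = u * f := fun c hc =>
    ⟨u⁻¹ * (c * u * c⁻¹), ((hXC hc).1.1.2 u).2 (by rw [inv_mul_cancel]; exact one_mem E),
      (mul_inv_cancel_left _ _).symm⟩
  have huE : ∀ f ∈ E, Commute u f := fun f hf => B.cen_E B.u_mem hf
  have hXT : ∀ c ∈ X, ∀ t ∈ tSub T, c * t * c⁻¹ ∈ tSub T := by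
    intro c hc t ht
    refine (hmemT _).2 ⟨mul_mem (mul_mem hc (hTX ht)) (inv_mem hc), ?_⟩
    obtain ⟨f, hf, hcf⟩ := hval c⁻¹ (inv_mem hc)
    have h1 : Commute t (c⁻¹ * u * c⁻¹⁻¹) := hcf ▸ (B.mem_u ht).mul_right (B.cen_E ht hf)
    have h2 := h1.map (MulAut.conj c).toMonoidHom
    simpa [mul_assoc] using h2
  have htrans : ∀ f ∈ E, ∃ c ∈ X, c * u * c⁻¹ = u * f := by
    intro f hf
    have horb : SixInv.orb ((cSub u a E) ⊓ ⊤) u = (fun f => u * f) '' (E : Set G) := by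
      rw [inf_top_eq]
      ext z
      constructor
      · rintro ⟨g, hg, rfl⟩
        exact ⟨u⁻¹ * (g * u * g⁻¹), (hg.1.1.2 u).2 (by rw [inv_mul_cancel]; exact one_mem E),
          mul_inv_cancel_left _ _⟩
      · rintro ⟨f, hf, rfl⟩
        obtain ⟨g, hg, hgc, hgu⟩ := htr f hf
        exact ⟨g, ⟨hg, mem_centralizer_iff.2 fun w hw => (mul_inv_eq_iff_eq_mul.1 (hgc w hw)).symm⟩, hgu⟩
    obtain ⟨s, hs, hsu⟩ := exists_conj_of_sylow S (C := ⊤) (fun _ _ _ _ => mem_top _) horb (r := r)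
      (by rw [Set.ncard_image_of_injective _ (mul_right_injective u), ← Nat.card_coe_set_eq]; exact B.hL.card_eset)
      (z := u * f) ⟨f, hf, rfl⟩
    exact ⟨s, hs.1, hsu⟩
  have hcV := hcentV S hTX hXT htrans
  have hsq : ∀ c ∈ X, c * c ∈ E := by
    intro c hc
    obtain ⟨f, hf, hcf⟩ := hval c hc
    have hff := B.hE.sq f hf
    have hcc : c * c ∈ tSub T := (hmemT _).2 ⟨mul_mem hc hc, by
      show c * c * u = u * (c * c)
      calc c * c * u = c * (c * u * c⁻¹) * c := by group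
        _ = c * (u * f) * c := by rw [hcf]
        _ = (c * u * c⁻¹) * (c * f * c⁻¹) * (c * c) := by group
        _ = u * f * f * (c * c) := by rw [hcf, mul_inv_eq_iff_eq_mul.2 (hXE f hf c hc).symm.eq]
        _ = u * (c * c) := by rw [mul_assoc u f f, hff, mul_one]⟩
    obtain ⟨y, hy, hcy, hyy⟩ := B.exists_root hcc
    have hyE : y ∈ E := by
      refine hpolar y hy f hf fun z hz => ?_
      set d := z⁻¹ * (c * z * c⁻¹) with hd
      have hcz : c * z * c⁻¹ = z * d := (mul_inv_cancel_left _ _).symm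
      have hcd : c * d * c⁻¹ = d ∨ c * d * c⁻¹ = d * f := by
        rcases hcV c hc z (B.hL.Q_le hz) with h1 | h1
        · exact Or.inl (mul_inv_eq_iff_eq_mul.2 (hXE d h1 c hc).symm.eq)
        · refine Or.inr ?_
          have e1 : c * d * c⁻¹ = (c * u * c⁻¹) * (c * (u⁻¹ * d) * c⁻¹) := by group
          rw [e1, hcf, mul_inv_eq_iff_eq_mul.2 (hXE _ h1 c hc).symm.eq, mul_assoc,
            (B.hE.comm f hf _ h1).eq, ← mul_assoc, mul_inv_cancel_left]
      have hdd : d * d = 1 := by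
        rcases hcV c hc z (B.hL.Q_le hz) with h1 | h1
        · exact B.hE.sq d h1
        · rw [show d = u * (u⁻¹ * d) from (mul_inv_cancel_left _ _).symm,
            (huE _ h1).symm.mul_mul_mul_comm, Invol.mul_self B.hu, B.hE.sq _ h1, one_mul]
      have h2 : (c * c) * z * (c * c)⁻¹ = z ∨ (c * c) * z * (c * c)⁻¹ = z * f := by
        have e1 : (c * c) * z * (c * c)⁻¹ = (c * z * c⁻¹) * (c * d * c⁻¹) := by
          rw [show (c * c) * z * (c * c)⁻¹ = c * (c * z * c⁻¹) * c⁻¹ by group, hcz,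
            show c * (z * d) * c⁻¹ = (c * z * c⁻¹) * (c * d * c⁻¹) by group, hcz]
        rcases hcd with h3 | h3
        · exact Or.inl (by rw [e1, hcz, h3, mul_assoc, hdd, mul_one])
        · exact Or.inr (by rw [e1, hcz, h3, mul_assoc z, ← mul_assoc d d f, hdd, one_mul])
      have h4 : y * z * y⁻¹ = (c * c) * z * (c * c)⁻¹ := by
        rcases hcy with e1 | e1
        · rw [e1]
        · have huz : u * z = z * u := (B.mem_u (B.hL.Q_le hz)).symm.eq
          rw [e1, show u * y * z * (u * y)⁻¹ = u * (y * z * y⁻¹) * u⁻¹ by group]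
          have hc' : Commute u (y * z * y⁻¹) := (commute_of_genC
            ((genC D u).mul_mem ((genC D u).mul_mem (B.hL.Q_gen hy) (B.hL.Q_gen hz))
              ((genC D u).inv_mem (B.hL.Q_gen hy)))).symm
          rw [hc'.eq, mul_inv_cancel_right]
      have h5 : z * y * z⁻¹ * y⁻¹ = z * (y * z * y⁻¹)⁻¹ := by group
      rw [h5, h4]
      rcases h2 with h3 | h3
      · exact Or.inl (by rw [h3, mul_inv_cancel])
      · refine Or.inr ?_
        rw [h3, mul_inv_rev, inv_eq_of_mul_eq_one_left hff, ← mul_assoc,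
          ((B.hL.cen f hf z hz).symm).eq, mul_inv_cancel_right]
    rcases hcy with e1 | e1
    · exact e1 ▸ hyE
    · exfalso
      have h1 : Commute c u := by
        have h2 : Commute c (u * y) := e1 ▸ (Commute.refl c).mul_right (Commute.refl c)
        have h3 := h2.mul_right (hXE y hyE c hc).symm
        rwa [mul_assoc, B.hE.sq y hyE, mul_one] at h3
      have h4 := B.sq_T ((hmemT c).2 ⟨hc, h1⟩)
      rw [e1] at h4
      exact B.u_notMem (B.hL.eset_le ((E.mul_mem_cancel_right hyE).1 h4))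
  have hcomm : ∀ y ∈ X, ∀ z ∈ X, y * z * y⁻¹ * z⁻¹ ∈ E := by
    intro y hy z hz
    have h1 := hsq _ (mul_mem hy hz)
    have h2 := hsq _ hy
    have h3 := hsq _ hz
    have e1 : y * z * y⁻¹ * z⁻¹ = (y * z * (y * z)) * (z * z)⁻¹ * (z * (y * y)⁻¹ * z⁻¹) := by group
    rw [e1, (hXE _ (inv_mem h2) z hz).symm.eq, mul_inv_cancel_right]
    exact mul_mem (mul_mem h1 (inv_mem h3)) (inv_mem h2)
  refine ⟨{
    X_le := hXa
    X_two := hX2
    ou := B.hu
    u_mem := B.u_mem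
    u_notin := fun hu => B.u_notMem (B.hL.eset_le hu)
    E_le := B.hE.le
    mem_T := hmemT
    E_cen := hXE
    E_sq := B.hE.sq
    X_sq := hsq
    T_inv := fun y hy => B.inv_T hy
    trans := htrans
    T_max := fun R hR hR2 hRu => B.T_max hR hR2 hRu
    E_char := fun g _ hgX => ?_ }, ?_⟩
  · have hsub : ∀ f ∈ E, g * f * g⁻¹ ∈ E := fun f hf => by
      obtain ⟨c, hc, hcu⟩ := htrans f hf
      have h1 := hcomm _ ((hgX u⁻¹).2 (inv_mem (hTX B.u_mem))) _ ((hgX c).2 hc)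
      rw [show f = u⁻¹ * (c * u * c⁻¹) by rw [hcu, inv_mul_cancel_left]]
      rwa [show g * u⁻¹ * g⁻¹ * (g * c * g⁻¹) * (g * u⁻¹ * g⁻¹)⁻¹ * (g * c * g⁻¹)⁻¹ =
        g * (u⁻¹ * (c * u * c⁻¹)) * g⁻¹ by group] at h1
    exact fun y => (Subgroup.mem_normalizer_iff.1 (Subgroup.mem_normalizer_fintype hsub) y).symm
  · have horb : SixInv.orb X u = (fun f => u * f) '' (E : Set G) := by
      ext z
      constructor
      · rintro ⟨g, hg, rfl⟩
        obtain ⟨f, hf, hgf⟩ := hval g hg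
        exact ⟨f, hf, hgf.symm⟩
      · rintro ⟨f, hf, rfl⟩
        exact htrans f hf
    have hinf : X ⊓ centralizer ({u} : Set G) = tSub T := by
      ext y
      rw [mem_inf, mem_centralizer_singleton_iff]
      exact (hmemT y).symm
    rw [← SixInv.orb_card X u, horb, hinf, B.card_T,
      Set.ncard_image_of_injective _ (mul_right_injective u), ← Nat.card_coe_set_eq]
    exact congrArg (· * _) B.hL.card_eset

/-- Outside the unitary type a complement of `T` is a semiregular torus on `X / E`. -/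
theorem exists_torus_x (h : Crit D Ω) (he : e ≠ 3)
    {S : Sylow 2 (cSub u a E)}
    (hX : XCfg (stabilizer G a) (xSub S) (tSub T) E u) :
    ∃ K' : Subgroup G, K' ≤ xNorm (stabilizer G a) (xSub S) E ∧
      Odd (Nat.card K') ∧ (∀ k ∈ K', Commute k u) ∧
      (xKer (stabilizer G a) (xSub S) E).relIndex K' = 2 ^ r - 1 ∧
      ∀ k ∈ K', ∀ y ∈ xSub S, y⁻¹ * (k * y * k⁻¹) ∈ E →
        k ∈ xKer (stabilizer G a) (xSub S) E ∨ y ∈ E ∨ u⁻¹ * y ∈ E := by
  classical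
  haveI : Fact (Nat.Prime 2) := ⟨Nat.prime_two⟩
  set X := xSub S with hXdef
  set N := xNorm (stabilizer G a) X E ⊓ centralizer ({u} : Set G) with hN
  have hNE : ∀ g ∈ N, ∀ z ∈ E, g * z * g⁻¹ ∈ E := fun g hg z hz =>
    (mem_normalizer_iff.1 (mem_inf.1 hg.1).2 z).1 hz
  let J : Subgroup G :=
    { carrier := {g | g ∈ N ∧ ∃ k ∈ K, ∀ z ∈ E, g * z * g⁻¹ = k * z * k⁻¹}
      one_mem' := ⟨one_mem _, 1, one_mem _, fun _ _ => rfl⟩
      mul_mem' := by
        rintro g g' ⟨hg, k, hk, hgk⟩ ⟨hg', k', hk', hgk'⟩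
        refine ⟨mul_mem hg hg', k * k', mul_mem hk hk', fun z hz => ?_⟩
        rw [show g * g' * z * (g * g')⁻¹ = g * (g' * z * g'⁻¹) * g⁻¹ by group, hgk' z hz,
          hgk _ (B.conj_E_of_K hk' hz)]
        group
      inv_mem' := by
        rintro g ⟨hg, k, hk, hgk⟩
        refine ⟨inv_mem hg, k⁻¹, inv_mem hk, fun z hz => ?_⟩
        have h1 := hgk _ (B.conj_E_of_K (inv_mem hk) hz)
        rw [show k * (k⁻¹ * z * k⁻¹⁻¹) * k⁻¹ = z by group] at h1
        conv_lhs => rw [← h1]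
        group }
  have hmemJ : ∀ g, g ∈ J ↔ g ∈ N ∧ ∃ k ∈ K, ∀ z ∈ E, g * z * g⁻¹ = k * z * k⁻¹ := fun g => Iff.rfl
  have hJu : ∀ g ∈ J, Commute g u := fun g hg => mem_centralizer_singleton_iff.1 ((hmemJ g).1 hg).1.2
  have hJa : J ≤ stabilizer G a := fun g hg => (mem_inf.1 (mem_inf.1 ((hmemJ g).1 hg).1.1).1).1
  have hJX : ∀ g ∈ J, ∀ y, g * y * g⁻¹ ∈ X ↔ y ∈ X := fun g hg y =>
    (mem_normalizer_iff.1 (mem_inf.1 (mem_inf.1 ((hmemJ g).1 hg).1.1).1).2 y).symm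
  have hTJ : tSub T ≤ J := fun t ht => ⟨⟨hX.X_le_xNorm (hX.T_le ht),
    mem_centralizer_singleton_iff.2 (B.mem_u ht).eq⟩, 1, one_mem _, fun z hz => by
    rw [(B.cen_E ht hz).eq, mul_inv_cancel_right]; group⟩
  haveI hnT : ((tSub T).subgroupOf J).Normal := ⟨fun n hn g => by
    refine mem_subgroupOf.2 ((hX.mem_T _).2 ⟨(hJX g g.2 n).2 (hX.T_le hn), ?_⟩)
    exact ((hJu g g.2).mul_left (B.mem_u hn)).mul_left (hJu g g.2).inv_left⟩
  have hodd : ¬ 2 ∣ ((tSub T).subgroupOf J).index := by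
    obtain ⟨P, hP⟩ := (B.tSub_two.comap_subtype : IsPGroup 2 ((tSub T).subgroupOf J)).exists_le_sylow
    have h1 := B.eq_tSub (R := (P : Subgroup J).map J.subtype) ((map_subtype_le _).trans hJa) (P.2.map _)
      (fun y ⟨c, _, e'⟩ => e' ▸ hJu c c.2) fun t ht => ⟨⟨t, hTJ ht⟩, hP ht, rfl⟩
    have h2 : (P : Subgroup J) = (tSub T).subgroupOf J := by
      rw [← h1, subgroupOf, comap_map_eq_self_of_injective J.subtype_injective]
    rw [← h2]
    exact P.not_dvd_index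
  have hcop : Nat.Coprime (Nat.card ((tSub T).subgroupOf J)) ((tSub T).subgroupOf J).index := by
    obtain ⟨n, hn⟩ := IsPGroup.iff_card.1 (B.tSub_two.comap_subtype : IsPGroup 2 ((tSub T).subgroupOf J))
    rw [show Nat.card ((tSub T).subgroupOf J) = 2 ^ n from hn]
    exact Nat.Coprime.pow_left n (Nat.prime_two.coprime_iff_not_dvd.2 hodd)
  obtain ⟨H, hH⟩ := exists_right_complement'_of_coprime hcop
  set K' := H.map J.subtype with hK'
  have hK'J : K' ≤ J := map_subtype_le _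
  have hK'odd : Odd (Nat.card K') := by
    rw [hK', card_map_of_injective J.subtype_injective, ← hH.symm.index_eq_card]
    exact Nat.not_even_iff_odd.1 fun h1 => hodd (even_iff_two_dvd.1 h1)
  have hsplit : ∀ g ∈ J, ∃ t ∈ tSub T, ∃ k ∈ K', g = t * k := fun g hg => by
    obtain ⟨⟨t, k⟩, htk⟩ := hH.surjective ⟨g, hg⟩
    exact ⟨((t : J) : G), mem_subgroupOf.1 t.2, ((k : J) : G), mem_map_of_mem _ k.2,
      (congrArg Subtype.val htk).symm⟩
  -- every element of `K` is realised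
  have hreal : ∀ k ∈ K, ∃ g ∈ K', ∀ z ∈ E, g * z * g⁻¹ = k * z * k⁻¹ := by
    intro k hk
    have hkN := B.K_nn hk
    have hkC : ∀ y ∈ (cSub u a E), k * y * k⁻¹ ∈ (cSub u a E) := fun y hy =>
      ⟨Subgroup.mul_mem _ (Subgroup.mul_mem _ hkN hy.1) (Subgroup.inv_mem _ hkN), mem_centralizer_iff.2 fun z hz => by
        have hz' : k⁻¹ * z * k ∈ E := by
          have := B.conj_E_of_K (inv_mem hk) hz
          rwa [inv_inv] at this
        calc z * (k * y * k⁻¹) = k * ((k⁻¹ * z * k) * y) * k⁻¹ := by group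
          _ = k * (y * (k⁻¹ * z * k)) * k⁻¹ := by rw [mem_centralizer_iff.1 hy.2 _ hz']
          _ = _ := by group⟩
    set X' := X.map (MulAut.conj k).toMonoidHom with hX'
    have hX'C : X' ≤ (cSub u a E) := by
      rintro _ ⟨y, hy, rfl⟩
      exact hkC y (map_subtype_le _ hy)
    obtain ⟨S', hS'⟩ := ((hX.X_two.map _).comap_subtype : IsPGroup 2 (X'.subgroupOf (cSub u a E))).exists_le_sylow
    obtain ⟨c, hc⟩ := MulAction.exists_smul_eq (cSub u a E) S' S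
    set g1 := (c : G) * k with hg1
    have hg1X : ∀ y ∈ X, g1 * y * g1⁻¹ ∈ X := fun y hy => by
      have h1 : k * y * k⁻¹ ∈ X' := ⟨y, hy, rfl⟩
      refine ⟨c * ⟨_, hX'C h1⟩ * c⁻¹, ?_, ?_⟩
      · rw [← hc, Sylow.coe_subgroup_smul]
        exact ⟨⟨_, hX'C h1⟩, hS' h1, rfl⟩
      · show (c : G) * (k * y * k⁻¹) * (c : G)⁻¹ = _
        rw [hg1]; group
    have hg1N : g1 ∈ cosetNorm E u ⊓ stabilizer G a := mul_mem c.2.1 hkN
    have hg1E : ∀ z ∈ E, g1 * z * g1⁻¹ = k * z * k⁻¹ := fun z hz => by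
      rw [hg1, show (c : G) * k * z * ((c : G) * k)⁻¹ = c * (k * z * k⁻¹) * (c : G)⁻¹ by group,
        ← mem_centralizer_iff.1 c.2.2 _ (B.conj_E_of_K hk hz), mul_inv_cancel_right]
    obtain ⟨d, hd, hdu⟩ := hX.trans _ ((hg1N.1.2 u).2 (by rw [inv_mul_cancel]; exact one_mem E))
    rw [mul_inv_cancel_left] at hdu
    set g2 := d⁻¹ * g1 with hg2
    have hg2J : g2 ∈ J := by
      refine ⟨⟨Subgroup.mul_mem _ (Subgroup.inv_mem _ (hX.X_le_xNorm hd)) (hX.mem_xNorm hg1N.2 fun y =>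
        (mem_normalizer_iff.1 (Subgroup.mem_normalizer_fintype hg1X) y).symm),
        mem_centralizer_singleton_iff.2 ?_⟩, k, hk, fun z hz => ?_⟩
      · calc g2 * u = d⁻¹ * (g1 * u * g1⁻¹) * g1 := by rw [hg2]; group
          _ = d⁻¹ * (d * u * d⁻¹) * g1 := by rw [hdu]
          _ = u * g2 := by rw [hg2]; group
      · rw [hg2, show d⁻¹ * g1 * z * (d⁻¹ * g1)⁻¹ = d⁻¹ * (g1 * z * g1⁻¹) * d by group, hg1E z hz,
          mul_assoc, (hX.E_cen _ (B.conj_E_of_K hk hz) d hd).eq, inv_mul_cancel_left]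
    obtain ⟨t, ht, g, hg, he'⟩ := hsplit g2 hg2J
    refine ⟨g, hg, fun z hz => ?_⟩
    have h1 := ((hmemJ g2).1 hg2J).1
    have e1 : g2 * z * g2⁻¹ = k * z * k⁻¹ := by
      rw [hg2, show d⁻¹ * g1 * z * (d⁻¹ * g1)⁻¹ = d⁻¹ * (g1 * z * g1⁻¹) * d by group, hg1E z hz,
        mul_assoc, (hX.E_cen _ (B.conj_E_of_K hk hz) d hd).eq, inv_mul_cancel_left]
    rw [← e1, he', show t * g * z * (t * g)⁻¹ = t * (g * z * g⁻¹) * t⁻¹ by group,
      (B.cen_E ht (hNE g ((hmemJ g).1 (hK'J hg)).1 z hz)).eq, mul_inv_cancel_right]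
  -- the centraliser of a non-trivial element of `E`
  have hfpf : ∀ g ∈ K', ∀ z ∈ E, z ≠ 1 → Commute g z → ∀ w ∈ E, Commute g w := by
    intro g hg z hz hz1 hgz w hw
    obtain ⟨k, hk, hgk⟩ := ((hmemJ g).1 (hK'J hg)).2
    have hkz : Commute k z := mul_inv_eq_iff_eq_mul.1 (by
      rw [← hgk z hz, hgz.eq, mul_inv_cancel_right])
    have hk1 := fixCore_le _ (mem_kerCore.1 (B.hL.K_fpf k hk z hz hz1 hkz)).1
    refine mul_inv_eq_iff_eq_mul.1 ((hgk w hw).trans ?_)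
    refine B.hE.inj _ (B.conj_E_of_K hk hw) w hw fun p hp => ?_
    rw [mul_smul, mul_smul, inv_smul_eq_iff.2 (hk1 p hp).symm,
      hk1 _ (B.fix_smul (B.mem_u (B.hE.le hw)) hp)]
  have hker : ∀ g ∈ K', (∀ w ∈ E, Commute g w) → g ∈ xKer (stabilizer G a) X E := by
    intro g hg hgE
    have hgJ := hK'J hg
    have hgu := hJu g hgJ
    obtain ⟨m, hm⟩ : ∃ m, g ^ m = 1 ∧ Odd m :=
      ⟨orderOf g, pow_orderOf_eq_one g, hK'odd.of_dvd_nat (Subgroup.orderOf_dvd_natCard _ hg)⟩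
    obtain ⟨y, hy, hgy⟩ := B.hL.cent he g (mem_ptC.2 ⟨hgu, hJa hgJ⟩) fun w hw => hgE w hw
    have hfix : ∀ p : Ω, u • p = p → g • p = p := by
      have hpow : ∀ i : ℕ, ∀ p : Ω, u • p = p → (g ^ i) • p = (y ^ i) • p := by
        intro i
        induction i with
        | zero => intro p _; simp
        | succ i ih =>
          intro p hp
          rw [pow_succ, pow_succ, mul_smul, mul_smul, ← hgy p hp,
            ih _ (B.fix_smul hgu hp)]
      have hy2 : ∃ k, orderOf y = 2 ^ k := by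
        obtain ⟨k, hk⟩ := IsPGroup.iff_orderOf.1 B.tSub_two ⟨y, B.hL.Q_le hy⟩
        exact ⟨k, by rwa [Subgroup.orderOf_mk] at hk⟩
      have hym : y ^ m = 1 := by
        refine B.two_fix h (pow_mem (B.hL.Q_gen hy) m) ((stabilizer G a).pow_mem (B.mem_a (B.hL.Q_le hy)) m)
          B.hx B.hxa ?_ ?_
        · rw [← hpow m x B.hx, hm.1, one_smul]
        · obtain ⟨k, hk⟩ := IsPGroup.iff_orderOf.1 B.tSub_two ⟨y ^ m, pow_mem (B.hL.Q_le hy) m⟩
          exact ⟨k, by rwa [Subgroup.orderOf_mk] at hk⟩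
      have hy1 : y = 1 := eq_one_of_odd_two hm.2 hym hy2.choose_spec
      intro p hp
      rw [hgy p hp, hy1, one_smul]
    have hT : ∀ t ∈ tSub T, Commute g t := by
      have hQ : ∀ z ∈ Q, Commute g z := fun z hz => by
        have hzT := B.hL.Q_le hz
        have h1 : g * z * g⁻¹ ∈ tSub T :=
          (hX.mem_T _).2 ⟨(hJX g hgJ z).2 (hX.T_le hzT), (hgu.mul_left (B.mem_u hzT)).mul_left hgu.inv_left⟩
        have h2 : g * z * g⁻¹ * z⁻¹ ∈ genC D u :=
          (genC D u).mul_mem (h.conj_genC hgu (B.hL.Q_gen hz)) ((genC D u).inv_mem (B.hL.Q_gen hz))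
        refine mul_inv_eq_iff_eq_mul.1 (mul_inv_eq_one.1 (B.two_fix h h2
          (B.mem_a (mul_mem h1 (inv_mem hzT))) B.hx B.hxa ?_ ?_))
        · have hz' : u • z⁻¹ • x = z⁻¹ • x := B.fix_smul (B.mem_u hzT).inv_left B.hx
          rw [mul_smul, mul_smul, mul_smul, inv_smul_eq_iff.2 (hfix _ hz').symm, smul_inv_smul,
            hfix x B.hx]
        · obtain ⟨k, hk⟩ := IsPGroup.iff_orderOf.1 B.tSub_two ⟨_, mul_mem h1 (inv_mem hzT)⟩
          exact ⟨k, by rwa [Subgroup.orderOf_mk] at hk⟩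
      intro t ht
      obtain ⟨z, hz, htz, -⟩ := B.exists_root ht
      rcases htz with rfl | rfl
      · exact hQ _ hz
      · exact hgu.mul_right (hQ _ hz)
    refine ⟨((hmemJ g).1 hgJ).1.1, fun c hc => ?_⟩
    set t := c⁻¹ * (g * c * g⁻¹) with ht
    have htT : t ∈ tSub T := by
      refine (hX.mem_T _).2 ⟨mul_mem (inv_mem hc) ((hJX g hgJ c).2 hc), ?_⟩
      obtain ⟨f, hf, hcu⟩ : ∃ f ∈ E, c * u * c⁻¹ = u * f :=
        ⟨u⁻¹ * (c * u * c⁻¹), ((map_subtype_le _ hc : c ∈ (cSub u a E)).1.1.2 u).2 (by rw [inv_mul_cancel]; exact one_mem E),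
          (mul_inv_cancel_left _ _).symm⟩
      have h1 : g * c * g⁻¹ * u * (g * c * g⁻¹)⁻¹ = c * u * c⁻¹ := by
        rw [show g * c * g⁻¹ * u * (g * c * g⁻¹)⁻¹ = g * (c * (g⁻¹ * u * g) * c⁻¹) * g⁻¹ by group,
          show g⁻¹ * u * g = u by rw [mul_assoc, ← hgu.eq, inv_mul_cancel_left], hcu,
          (hgu.mul_right (hgE f hf)).eq, mul_inv_cancel_right]
      show t * u = u * t
      calc t * u = c⁻¹ * (g * c * g⁻¹ * u * (g * c * g⁻¹)⁻¹) * (g * c * g⁻¹) := by rw [ht]; group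
        _ = u * t := by rw [h1, ht]; group
    have hpow : ∀ i : ℕ, g ^ i * c * (g ^ i)⁻¹ = c * t ^ i := by
      intro i
      induction i with
      | zero => simp
      | succ i ih =>
        rw [pow_succ' g, show g * g ^ i * c * (g * g ^ i)⁻¹ = g * (g ^ i * c * (g ^ i)⁻¹) * g⁻¹ by group, ih,
          show g * (c * t ^ i) * g⁻¹ = (g * c * g⁻¹) * (g * t ^ i * g⁻¹) by group,
          ((hT t htT).pow_right i).eq, mul_inv_cancel_right, pow_succ' t, ← mul_assoc c t,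
          show c * t = g * c * g⁻¹ by rw [ht, mul_inv_cancel_left]]
    have htm : t ^ m = 1 := by
      have h1 := hpow m
      rwa [hm.1, inv_one, mul_one, one_mul, left_eq_mul] at h1
    obtain ⟨k, hk⟩ := IsPGroup.iff_orderOf.1 B.tSub_two ⟨t, htT⟩
    rw [eq_one_of_odd_two hm.2 htm (by rwa [Subgroup.orderOf_mk] at hk)]
    exact one_mem E
  refine ⟨K', fun g hg => ((hmemJ g).1 (hK'J hg)).1.1, hK'odd, fun g hg => hJu g (hK'J hg), ?_, ?_⟩
  · obtain ⟨z0, hz0, -, -, hz01, -, -⟩ := B.hE.two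
    have horb : SixInv.orb K' z0 = (E : Set G) \ {1} := by
      ext z
      constructor
      · rintro ⟨g, hg, rfl⟩
        exact ⟨hNE g ((hmemJ g).1 (hK'J hg)).1 z0 hz0, fun e' => hz01 (conj_eq_one_iff.1 e')⟩
      · rintro ⟨hz, hz1⟩
        obtain ⟨k, hk, hkz⟩ := B.hL.K_trans z0 hz0 z hz hz01 hz1
        obtain ⟨g, hg, hgk⟩ := hreal k hk
        exact ⟨g, hg, (hgk z0 hz0).trans hkz⟩
    have hinf : K' ⊓ centralizer ({z0} : Set G) = K' ⊓ xKer (stabilizer G a) X E := by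
      ext g
      rw [mem_inf, mem_inf, mem_centralizer_singleton_iff]
      refine and_congr_right fun hg => ⟨fun hgz => hker g hg (hfpf g hg z0 hz0 hz01 hgz), fun hgX => ?_⟩
      obtain ⟨c, hc, hcu⟩ := hX.trans z0 hz0
      have hgu : Commute g u := hJu g (hK'J hg)
      set f := c⁻¹ * (g * c * g⁻¹) with hf
      have hfE : f ∈ E := hgX.2 c hc
      have hfu : Commute f u := B.mem_u (B.hE.le hfE)
      refine mul_inv_eq_iff_eq_mul.1 (mul_left_cancel (a := u) ?_)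
      calc u * (g * z0 * g⁻¹) = (g * u * g⁻¹) * (g * z0 * g⁻¹) := by rw [hgu.eq, mul_inv_cancel_right]
        _ = g * (c * u * c⁻¹) * g⁻¹ := by rw [hcu]; group
        _ = (g * c * g⁻¹) * (g * u * g⁻¹) * (g * c * g⁻¹)⁻¹ := by group
        _ = (c * f) * u * (c * f)⁻¹ := by rw [hgu.eq, mul_inv_cancel_right, hf, mul_inv_cancel_left]
        _ = c * (f * u * f⁻¹) * c⁻¹ := by group
        _ = u * z0 := by rw [hfu.eq, mul_inv_cancel_right, hcu]
    have h1 := SixInv.orb_card K' z0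
    rw [horb, hinf, Set.ncard_sdiff_singleton_of_mem (one_mem E),
      show (E : Set G).ncard = 2 ^ r by rw [← Nat.card_coe_set_eq]; exact B.hL.card_eset] at h1
    rw [← Subgroup.inf_relIndex_right]
    have h2 := Subgroup.card_mul_index ((xKer (stabilizer G a) X E ⊓ K').subgroupOf K')
    rw [Nat.card_congr (Subgroup.subgroupOfEquivOfLe inf_le_right).toEquiv, ← h1, inf_comm] at h2
    rw [relIndex, inf_comm]
    rw [mul_comm (2 ^ r - 1)] at h2
    exact Nat.eq_of_mul_eq_mul_left Nat.card_pos h2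
  · intro k hk c hc hck
    have hku : Commute k u := hJu k (hK'J hk)
    set f := c⁻¹ * (k * c * k⁻¹) with hf
    by_cases hcT : c ∈ tSub T
    · by_cases h1 : c * c = 1
      · exact Or.inr (B.inv_T hcT h1)
      · refine Or.inl (hker k hk (hfpf k hk _ (B.sq_T hcT) h1 (mul_inv_eq_iff_eq_mul.1 ?_)))
        calc k * (c * c) * k⁻¹ = (k * c * k⁻¹) * (k * c * k⁻¹) := by group
          _ = (c * f) * (c * f) := by rw [hf, mul_inv_cancel_left]
          _ = (c * c) * (f * f) := (hX.E_cen f hck c hc).mul_mul_mul_comm c f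
          _ = c * c := by rw [hX.E_sq f hck, mul_one]
    · set z := u⁻¹ * (c * u * c⁻¹) with hzd
      have hz : z ∈ E := ((map_subtype_le _ hc : c ∈ (cSub u a E)).1.1.2 u).2 (by rw [inv_mul_cancel]; exact one_mem E)
      have hz1 : z ≠ 1 := fun e' => hcT ((hX.mem_T c).2 ⟨hc, mul_inv_eq_iff_eq_mul.1 (inv_mul_eq_one.1 e').symm⟩)
      refine Or.inl (hker k hk (hfpf k hk z hz hz1 (mul_inv_eq_iff_eq_mul.1 ?_)))
      have hfu : Commute f u := B.mem_u (B.hE.le hck)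
      calc k * z * k⁻¹ = (k * u * k⁻¹)⁻¹ * ((k * c * k⁻¹) * (k * u * k⁻¹) * (k * c * k⁻¹)⁻¹) := by
            rw [hzd]; group
        _ = u⁻¹ * ((c * f) * u * (c * f)⁻¹) := by rw [hku.eq, mul_inv_cancel_right, hf, mul_inv_cancel_left]
        _ = u⁻¹ * (c * (f * u * f⁻¹) * c⁻¹) := by group
        _ = z := by rw [hfu.eq, mul_inv_cancel_right]

end BaseCfg

end Cfsg.Agent.GoodInvol
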