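import Cfsg.Agent.Lib.GoodInvol.Orbit

/-!
# The core of the pointwise stabiliser of a fixed point set

For an involution `u` fixing two points let `Δ` fix its fixed points. A member commuting with `u` is isolated in
`Δ<d>`, so it centralises `Δ` modulo the odd core of `Δ`.
-/

set_option autoImplicit false
set_option linter.style.haveILetI false
set_option linter.unusedSectionVars false

namespace Cfsg.Agent.GoodInvol

open Subgroup MulAction

universe u v

variable {G : Type u} [Group G] {Ω : Type v} [MulAction G Ω] {D : Set G}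

/-- The pointwise stabiliser of the fixed points of `w`. -/
def fixStab (Ω : Type v) [MulAction G Ω] (w : G) : Subgroup G where
  carrier := {g | ∀ z : Ω, w • z = z → g • z = z}
  one_mem' := fun z _ => one_smul G z
  mul_mem' := fun {g k} hg hk z hz => by rw [mul_smul, hk z hz, hg z hz]
  inv_mem' := fun {g} hg z hz => inv_smul_eq_iff.2 (hg z hz).symm

theorem mem_fixStab {w g : G} : g ∈ fixStab Ω w ↔ ∀ z : Ω, w • z = z → g • z = z := Iff.rfl

/-- Its odd core, as a subgroup of `G`. -/
def fixCore (Ω : Type v) [MulAction G Ω] (w : G) : Subgroup G :=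
  (Cfsg.pPrimeCore 2 (fixStab Ω w)).map (fixStab Ω w).subtype

theorem fixCore_le (w : G) : fixCore Ω w ≤ fixStab Ω w := map_subtype_le _

theorem conj_fixStab {w g x : G} (hg : Commute g w) (hx : x ∈ fixStab Ω w) : g * x * g⁻¹ ∈ fixStab Ω w := by
  intro z hz
  rw [mul_smul, mul_smul, hx (g⁻¹ • z) (by rw [← mul_smul, ← hg.inv_left.eq, mul_smul, hz]), smul_inv_smul]

variable [Finite G]

theorem odd_fixCore (w : G) : Odd (Nat.card (fixCore Ω w)) := by
  haveI : Fact (Nat.Prime 2) := ⟨Nat.prime_two⟩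
  rw [fixCore, card_map_of_injective (subtype_injective _)]
  exact Nat.coprime_two_right.1 (PBasic.pPrimeCore_coprime 2 _)

theorem fixCore_conj_fixStab {w g x : G} (hg : g ∈ fixStab Ω w) (hx : x ∈ fixCore Ω w) :
    g * x * g⁻¹ ∈ fixCore Ω w := by
  haveI hn : (Cfsg.pPrimeCore 2 (fixStab Ω w)).Normal := Cfsg.Agent.FittingCores.pPrimeCore_normal 2
  obtain ⟨y, hy, rfl⟩ := hx
  exact ⟨⟨g, hg⟩ * y * ⟨g, hg⟩⁻¹, hn.conj_mem y hy _, rfl⟩

theorem fixCore_conj {w g x : G} (hg : Commute g w) (hx : x ∈ fixCore Ω w) : g * x * g⁻¹ ∈ fixCore Ω w := by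
  haveI : Fact (Nat.Prime 2) := ⟨Nat.prime_two⟩
  let ψ : fixStab Ω w ≃* fixStab Ω w :=
    { toFun := fun y => ⟨g * y * g⁻¹, conj_fixStab hg y.2⟩
      invFun := fun y => ⟨g⁻¹ * y * g⁻¹⁻¹, conj_fixStab hg.inv_left y.2⟩
      left_inv := fun y => Subtype.ext (by simp [mul_assoc])
      right_inv := fun y => Subtype.ext (by simp [mul_assoc])
      map_mul' := fun y z => Subtype.ext (by simp [mul_assoc]) }
  obtain ⟨y, hy, rfl⟩ := hx
  have := mem_map_of_mem ψ.toMonoidHom hy
  rw [PBasic.map_pPrimeCore_equiv] at this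
  exact ⟨ψ y, this, rfl⟩

/-- A member preserving the fixed points centralises the pointwise stabiliser modulo the odd core. -/
theorem Crit.commutator_mem_fixCore (h : Crit D Ω) {w : G} (hbad : ¬ OneFix Ω w) {d : G} (hd : d ∈ D)
    (hdw : Commute d w) {g : G} (hg : g ∈ fixStab Ω w) : g * d * g⁻¹ * d⁻¹ ∈ fixCore Ω w := by
  classical
  haveI : Fact (Nat.Prime 2) := ⟨Nat.prime_two⟩
  set Δ := fixStab Ω w with hΔ
  have hdd := Invol.mul_self (h.invol d hd)
  -- the subgroup generated by `Δ` and `d`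
  let X : Subgroup G :=
    { carrier := {x | x ∈ Δ ∨ x * d ∈ Δ}
      one_mem' := Or.inl (one_mem Δ)
      mul_mem' := by
        have hconj : ∀ x ∈ Δ, d * x * d⁻¹ ∈ Δ := fun x hx => conj_fixStab hdw hx
        rintro x y (hx | hx) (hy | hy)
        · exact Or.inl (mul_mem hx hy)
        · exact Or.inr (by rw [mul_assoc]; exact mul_mem hx hy)
        · refine Or.inr ?_
          have := mul_mem hx (hconj y hy)
          rwa [Invol.inv_self (h.invol d hd), show x * d * (d * y * d) = x * (d * d) * y * d by group, hdd,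
            mul_one] at this
        · refine Or.inl ?_
          have := mul_mem hx (hconj _ hy)
          rwa [Invol.inv_self (h.invol d hd), show x * d * (d * (y * d) * d) = x * (d * d) * y * (d * d) by group,
            hdd, mul_one, mul_one] at this
      inv_mem' := by
        rintro x (hx | hx)
        · exact Or.inl (inv_mem hx)
        · refine Or.inr ?_
          have := inv_mem (conj_fixStab hdw hx : d * (x * d) * d⁻¹ ∈ Δ)
          rwa [show (d * (x * d) * d⁻¹)⁻¹ = x⁻¹ * d⁻¹ by group, Invol.inv_self (h.invol d hd)] at this }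
  have hdX : d ∈ X := Or.inr (by rw [hdd]; exact one_mem Δ)
  have hΔX : Δ ≤ X := fun x hx => Or.inl hx
  set dX : X := ⟨d, hdX⟩ with hdXdef
  have hiso : Cfsg.IsIsolated dX := by
    intro c hc
    refine Subtype.ext ?_
    show (c : G) * d * (c : G)⁻¹ = d
    refine (h.eq_of_fixAct hbad hd (h.conj c d hd) (congrArg Subtype.val hc.eq) fun z hz => ?_).symm
    have hfd : w • d • z = d • z := by rw [← mul_smul, ← hdw.eq, mul_smul, hz]
    rcases c.2 with hc2 | hc2
    · have e1 : (c : G)⁻¹ • z = z := (inv_mem hc2 : (c : G)⁻¹ ∈ Δ) z hz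
      rw [mul_smul, mul_smul, e1, hc2 _ hfd]
    · have e1 : (c : G) • z = d • z := by
        have := hc2 _ hfd
        rwa [← mul_smul, mul_assoc, hdd, mul_one] at this
      have e3 : (c : G)⁻¹ • z = d • z := by
        refine inv_smul_eq_iff.2 ?_
        have := hc2 z hz
        rw [mul_smul] at this
        exact this.symm
      have e4 : (c : G) • z = d • z := e1
      rw [mul_smul, mul_smul, e3, ← mul_smul d d z, hdd, one_smul, e4]
  have hz := BrauerSuzuki.zStar X dX (by rw [← Subgroup.orderOf_coe]; exact h.invol d hd) hiso ⟨g, hΔX hg⟩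
  -- the part of the core inside `Δ`
  haveI hXn : (Cfsg.pPrimeCore 2 X).Normal := Cfsg.Agent.FittingCores.pPrimeCore_normal 2
  set N : Subgroup Δ := (Cfsg.pPrimeCore 2 X).comap (inclusion hΔX) with hN
  have hNc : (Nat.card N).Coprime 2 := by
    refine Nat.Coprime.coprime_dvd_left ?_ (PBasic.pPrimeCore_coprime 2 X)
    exact Subgroup.card_dvd_of_injective
      (((inclusion hΔX).comp N.subtype).codRestrict (Cfsg.pPrimeCore 2 X) fun x => x.2)
      (fun a b e => Subtype.ext (inclusion_injective hΔX (congrArg Subtype.val e)))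
  have hle := PBasic.le_pPrimeCore (hXn.comap (inclusion hΔX)) hNc
  have hmem : g * d * g⁻¹ * d⁻¹ ∈ Δ := by
    have := mul_mem hg (conj_fixStab hdw (inv_mem hg) : d * g⁻¹ * d⁻¹ ∈ Δ)
    rwa [show g * (d * g⁻¹ * d⁻¹) = g * d * g⁻¹ * d⁻¹ by group] at this
  exact ⟨⟨_, hmem⟩, hle (show inclusion hΔX ⟨_, hmem⟩ ∈ Cfsg.pPrimeCore 2 X from hz), rfl⟩

/-- An element of the pointwise stabiliser is carried past such a member modulo the odd core. -/
theorem Crit.mul_swap_fixCore (h : Crit D Ω) {w : G} (hbad : ¬ OneFix Ω w) {d : G} (hd : d ∈ D)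
    (hdw : Commute d w) {g : G} (hg : g ∈ fixStab Ω w) : ∃ o ∈ fixCore Ω w, d * g = o * g * d := by
  refine ⟨(g * d * g⁻¹ * d⁻¹)⁻¹, inv_mem (h.commutator_mem_fixCore hbad hd hdw hg), ?_⟩
  group

end Cfsg.Agent.GoodInvol
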