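import Cfsg.Agent.Lib.GoodInvol.Contain
import Cfsg.Agent.Lib.GoodInvol.FourCore

/-!
# The pointwise part of a Sylow 2-subgroup

For a 2-group `T` in the stabiliser of `a` in the centraliser of `w` let `wker w T` be its part fixing every point fixed
by `w`. It centralises the elementary subgroup, all its involutions fix exactly the points fixed by `w`, and it meets
its conjugate under an element moving those points trivially.
-/

set_option autoImplicit false
set_option linter.style.haveILetI false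
set_option linter.unusedSectionVars false

namespace Cfsg.Agent.GoodInvol

open Subgroup MulAction

universe u v

variable {G : Type u} [Group G]

/-- The part of `T` fixing every point fixed by `w`. -/
def wker (Ω : Type v) [MulAction G Ω] (w : G) (T : Subgroup G) : Subgroup G := T ⊓ fixStab Ω w

theorem mem_wker {Ω : Type v} [MulAction G Ω] {w x : G} {T : Subgroup G} :
    x ∈ wker Ω w T ↔ x ∈ T ∧ ∀ z : Ω, w • z = z → x • z = z := Iff.rfl

theorem mem_wker_self {Ω : Type v} [MulAction G Ω] {w : G} {T : Subgroup G} (hw : w ∈ T) : w ∈ wker Ω w T :=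
  ⟨hw, fun _ hz => hz⟩

variable [Finite G] {Ω : Type u} [MulAction G Ω] [Finite Ω] [FaithfulSMul G Ω] {D : Set G}

omit [Finite Ω] [FaithfulSMul G Ω] in
/-- The pointwise part commutes with the members of `T` commuting with `w`. -/
theorem Crit.commute_wker (h : Crit D Ω) {w : G} (hbad : ¬ OneFix Ω w) {T : Subgroup G} (hT2 : IsPGroup 2 T)
    {x d : G} (hx : x ∈ wker Ω w T) (hdT : d ∈ T) (hd : d ∈ D) (hdw : Commute d w) : Commute x d := by
  haveI : Fact (Nat.Prime 2) := ⟨Nat.prime_two⟩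
  have hc := h.commutator_mem_fixCore hbad hd hdw hx.2
  have hcT : x * d * x⁻¹ * d⁻¹ ∈ T := mul_mem (mul_mem (mul_mem hx.1 hdT) (inv_mem hx.1)) (inv_mem hdT)
  obtain ⟨k, hk⟩ := IsPGroup.iff_orderOf.1 hT2 ⟨_, hcT⟩
  rw [Subgroup.orderOf_mk] at hk
  have h1 : orderOf (x * d * x⁻¹ * d⁻¹) = 1 := by
    refine Nat.eq_one_of_dvd_coprimes ?_ (by rw [hk]) (Subgroup.orderOf_dvd_natCard _ hc)
    exact Nat.Coprime.pow_left k (Nat.coprime_two_left.2 (odd_fixCore (Ω := Ω) w))
  have h2 : x * d * x⁻¹ * d⁻¹ = 1 := orderOf_eq_one_iff.1 h1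
  exact mul_inv_eq_iff_eq_mul.1 (mul_inv_eq_one.1 h2)

omit [Finite Ω] [FaithfulSMul G Ω] in
/-- The pointwise part centralises the elementary subgroup. -/
theorem Crit.commute_wker_eset (h : Crit D Ω) {w : G} (hbad : ¬ OneFix Ω w) {a : Ω} {T E : Subgroup G}
    (hT2 : IsPGroup 2 T) (hT : T ≤ ptC w a) (hE : ESet D w a T E) {x e : G} (hx : x ∈ wker Ω w T) (he : e ∈ E) :
    Commute x e := by
  rcases (hE.mem e).1 he with rfl | ⟨heD, heT⟩
  · exact Commute.one_right x
  · exact h.commute_wker hbad hT2 hx heT heD (mem_ptC.1 (hT heT)).1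

omit [Finite G] [Finite Ω] [FaithfulSMul G Ω] in
/-- The elementary subgroup meets the pointwise part trivially. -/
theorem Crit.wker_inf_eset (h : Crit D Ω) {w : G} (hbad : ¬ OneFix Ω w) {a : Ω} {T E : Subgroup G}
    (hE : ESet D w a T E) : wker Ω w T ⊓ E = ⊥ := by
  rw [eq_bot_iff]
  intro x hx
  obtain ⟨hx1, hx2⟩ := mem_inf.1 hx
  rcases (hE.mem x).1 hx2 with rfl | ⟨hxD, -⟩
  · exact one_mem _
  · exfalso
    unfold OneFix at hbad
    push Not at hbad
    obtain ⟨p, q, hp, hq, hpq⟩ := hbad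
    exact hpq (h.unique x hxD p q (hx1.2 p hp) (hx1.2 q hq))

omit [Finite G] [Finite Ω] [FaithfulSMul G Ω] in
/-- An involution of the pointwise part fixes two points. -/
theorem not_oneFix_of_wker {w : G} (hbad : ¬ OneFix Ω w) {T : Subgroup G} {x : G} (hx : x ∈ wker Ω w T) :
    ¬ OneFix Ω x := fun hone => hbad fun p q hp hq => hone p q (hx.2 p hp) (hx.2 q hq)

namespace Crit

variable (h : Crit D Ω) (hB : Below.{u} (Nat.card G)) (hgen : closure D = ⊤)
include h hB hgen

/-- An involution of the pointwise part fixes exactly the points fixed by `w`. -/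
theorem fix_iff_of_wker {w : G} (hw : orderOf w = 2) (hbad : ¬ OneFix Ω w) {a : Ω} {T : Subgroup G}
    (hT : T ≤ ptC w a) {x : G} (hx : x ∈ wker Ω w T) (hx2 : orderOf x = 2) (z : Ω) : x • z = z ↔ w • z = z :=
  ⟨fun hz => h.fix_eq_of_subset hB hgen hw hbad hx2 (not_oneFix_of_wker hbad hx) (mem_ptC.1 (hT hx.1)).1.symm
    hx.2 z hz, hx.2 z⟩

/-- The pointwise part meets a conjugate trivially unless the fixed points are preserved. -/
theorem eq_one_of_conj_wker {w : G} (hw : orderOf w = 2) (hbad : ¬ OneFix Ω w) {a : Ω} {T : Subgroup G}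
    (hT2 : IsPGroup 2 T) (hT : T ≤ ptC w a) {g : G} (hg : ∃ z : Ω, w • z = z ∧ w • g • z ≠ g • z) {x : G}
    (hx : x ∈ wker Ω w T) (hgx : g * x * g⁻¹ ∈ wker Ω w T) : x = 1 := by
  by_contra hx1
  obtain ⟨z, hz, hgz⟩ := hg
  obtain ⟨k, hk⟩ := IsPGroup.iff_orderOf.1 hT2 ⟨x, hx.1⟩
  rw [Subgroup.orderOf_mk] at hk
  rcases k with _ | k
  · exact hx1 (orderOf_eq_one_iff.1 (by rw [hk, pow_zero]))
  have hy2 : orderOf (x ^ 2 ^ k) = 2 := by
    rw [orderOf_pow' _ (by positivity), hk, Nat.gcd_eq_right (pow_dvd_pow 2 (Nat.le_succ k)), pow_succ,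
      Nat.mul_div_cancel_left _ (by positivity)]
  have hy : x ^ 2 ^ k ∈ wker Ω w T := pow_mem hx _
  have hgy : g * x ^ 2 ^ k * g⁻¹ ∈ wker Ω w T := by
    rw [← conj_pow]
    exact pow_mem hgx _
  refine hgz ((h.fix_iff_of_wker hB hgen hw hbad hT hgy (by rw [Invol.order_conj, hy2]) (g • z)).1 ?_)
  rw [mul_smul, mul_smul, inv_smul_smul, hy.2 z hz]

/-- An element mapping `w` to `w * e` with `e` in the elementary subgroup moves the fixed points. -/
theorem exists_moved_of_coset {w : G} (hw : orderOf w = 2) (hbad : ¬ OneFix Ω w) {e g : G} (he : e ∈ D)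
    (hg : g * w * g⁻¹ = w * e) : ∃ z : Ω, w • z = z ∧ w • g • z ≠ g • z := by
  by_contra! hall
  have hb := hbad
  unfold OneFix at hb
  push Not at hb
  obtain ⟨p, q, hp, hq, hpq⟩ := hb
  have key : ∀ z : Ω, w • z = z → e • g • z = g • z := fun z hz => by
    have h1 : (w * e) • g • z = g • z := by
      rw [← hg, mul_smul, mul_smul, inv_smul_smul, hz]
    have h2 : e • g • z = w • g • z := by
      conv_rhs => rw [← h1, mul_smul, ← mul_smul, Invol.mul_self hw, one_smul]
    rw [h2, hall z hz]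
  exact hpq (MulAction.injective g (h.unique e he _ _ (key p hp) (key q hq)))

/-- The pointwise parts at `w` and at a conjugate in `w E` meet trivially. -/
theorem wker_inf_conj {w : G} (hw : orderOf w = 2) (hbad : ¬ OneFix Ω w) {a : Ω} {T : Subgroup G}
    (hT2 : IsPGroup 2 T) (hT : T ≤ ptC w a) {e g : G} (he : e ∈ D) (hg : g * w * g⁻¹ = w * e) {x : G}
    (hx : x ∈ wker Ω w T) (hgx : g * x * g⁻¹ ∈ wker Ω w T) : x = 1 :=
  h.eq_one_of_conj_wker hB hgen hw hbad hT2 hT (h.exists_moved_of_coset hB hgen hw hbad he hg) hx hgx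

end Crit

end Cfsg.Agent.GoodInvol
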