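import Cfsg.Agent.Lib.GoodInvol.Sub

/-!
# No subgroup of index two

The members are all conjugate and two commuting ones have a member as product, so a group generated by them
has no subgroup of index two.
-/

set_option autoImplicit false
set_option linter.style.haveILetI false
set_option linter.unusedSectionVars false

namespace Cfsg.Agent.GoodInvol

open Subgroup MulAction

universe u

variable {G : Type u} [Group G] [Finite G] {D : Set G} {Ω : Type u} [MulAction G Ω] [Finite Ω] [FaithfulSMul G Ω]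

/-- All members are conjugate. -/
theorem Crit.isConj_of_two (h : Crit D Ω) (h2 : ∃ x y : Ω, x ≠ y) {d e : G} (hd : d ∈ D) (he : e ∈ D) :
    ∃ g : G, g * d * g⁻¹ = e := by
  obtain ⟨x, y, hxy⟩ := h2
  haveI : Nonempty Ω := ⟨x⟩
  obtain ⟨p, hp⟩ := h.exists_fix (h.invol d hd)
  obtain ⟨q, hq⟩ := h.exists_fix (h.invol e he)
  by_cases hpq : p = q
  · obtain ⟨z, hz⟩ : ∃ z : Ω, p ≠ z := by
      by_cases hpx : p = x
      · exact ⟨y, hpx ▸ hxy⟩
      · exact ⟨x, hpx⟩
    obtain ⟨c, hc, hcz⟩ := h.exists_at z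
    obtain ⟨g, -, hg, -⟩ := h.exists_conj hd hc hp hcz hz
    obtain ⟨k, -, hk, -⟩ := h.exists_conj hc he hcz hq (hpq ▸ hz.symm)
    refine ⟨k * g, ?_⟩
    rw [mul_inv_rev, ← hk, ← hg]
    group
  · obtain ⟨g, -, hg, -⟩ := h.exists_conj hd he hp hq hpq
    exact ⟨g, hg⟩

/-- In the minimal situation with an involution fixing two points there is no subgroup of index two. -/
theorem Crit.index_ne_two (h : Crit D Ω) (hB : Below.{u} (Nat.card G)) (hgen : closure D = ⊤) {w : G}
    (hw : orderOf w = 2) {x y : Ω} (hx : w • x = x) (hy : w • y = y) (hxy : x ≠ y) (M : Subgroup G) :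
    M.index ≠ 2 := by
  intro hM
  haveI : M.Normal := Subgroup.normal_of_index_eq_two hM
  obtain ⟨d, hd, e, he, hde, hc, -, -⟩ := h.exists_pair_of_below hB hgen hw hx hy hxy
  have hdeD := h.mul_mem_of_commute ⟨x, y, hxy⟩ hd he hc hde
  have hin : ∀ a ∈ D, ∀ b ∈ D, a ∈ M → b ∈ M := fun a ha b hb haM => by
    obtain ⟨g, hg⟩ := h.isConj_of_two ⟨x, y, hxy⟩ ha hb
    exact hg ▸ ‹M.Normal›.conj_mem a haM g
  have hdM : d ∈ M := by
    by_contra hdM
    have heM : e ∉ M := fun heM => hdM (hin e he d hd heM)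
    exact hdM (hin _ hdeD d hd ((Subgroup.mul_mem_iff_of_index_two hM).2 (iff_of_false hdM heM)))
  have htop : M = ⊤ := by
    rw [eq_top_iff, ← hgen, closure_le]
    exact fun a ha => hin d hd a ha hdM
  rw [htop, index_top] at hM
  norm_num at hM

end Cfsg.Agent.GoodInvol
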