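import Cfsg.Agent.Lib.Suzuki.TorType
import Cfsg.Agent.Lib.OddChar.OddTheorem

/-!
# Odd subgroups of the Suzuki groups

Their orders divide `q - 1` or `q ± R + 1`, `R ^ 2 = 2 q`.
-/

set_option autoImplicit false
set_option linter.style.haveILetI false

namespace Cfsg.Agent.GoodInvol.SzOdd

open Cfsg.Agent.Suzuki

variable {F : Type*} [Field F] [Fintype F] {m : ℕ}

/-- An odd subgroup has order dividing `q - 1` or `q ± R + 1`. -/
theorem odd_card_dvd (h : SzField F m) {K : Subgroup (Cfsg.Sz F m)} (hodd : Odd (Nat.card K)) :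
    Nat.card K ∣ 2 ^ (2 * m + 1) - 1 ∨ Nat.card K ∣ 2 ^ (2 * m + 1) + 2 ^ (m + 1) + 1 ∨
      Nat.card K ∣ 2 ^ (2 * m + 1) + 1 - 2 ^ (m + 1) := by
  by_cases hbot : K = ⊥
  · exact Or.inl (by rw [hbot, Subgroup.card_bot]; exact one_dvd _)
  haveI hsol : Group.IsSolvable K := OddChar.oddSolvable K hodd
  have hR : 2 ^ (m + 1) ≤ 2 ^ (2 * m + 1) := Nat.pow_le_pow_right two_pos (by omega)
  rcases solvable_le h hsol hbot with ⟨p, hp, hfix⟩ | ⟨C, e, hC, hkind, hle⟩
  · obtain ⟨u, rfl⟩ := exists_smul_pinf h hp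
    have hsub : K.map (MulAut.conj u⁻¹).toMonoidHom ≤ borel F m := by
      rintro _ ⟨z, hz, rfl⟩
      show (u⁻¹ * z * u⁻¹⁻¹) • Cfsg.suzukiPointInfinity F = Cfsg.suzukiPointInfinity F
      rw [inv_inv, mul_smul, mul_smul, hfix z hz, inv_smul_smul]
    have hd := Subgroup.card_dvd_of_le hsub
    rw [Subgroup.card_map_of_injective (MulAut.conj u⁻¹).injective, card_borel h] at hd
    refine Or.inl (Nat.Coprime.dvd_of_dvd_mul_left ?_ hd)
    exact ((hodd.coprime_two_right).pow_right (2 * m + 1)).pow_right 2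
  · have hd := Subgroup.card_dvd_of_le hle
    rw [hC.card_normalizer] at hd
    have hd' : Nat.card K ∣ Nat.card C := Nat.Coprime.dvd_of_dvd_mul_left (by
      rcases hC.he with rfl | rfl
      · exact hodd.coprime_two_right
      · exact hodd.coprime_two_right.pow_right 2) hd
    rcases hkind with ⟨u, rfl⟩ | hm
    · refine Or.inl ?_
      rwa [Subgroup.card_map_of_injective (MulAut.conj u).injective, card_torus h] at hd'
    · obtain ⟨A, B, -, -, hA, hB, -, -, hall⟩ := exists_tori h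
      rcases hall C hm with e' | e'
      · exact Or.inr (Or.inl (by rwa [ConjTo.card_eq h e', hA] at hd'))
      · refine Or.inr (Or.inr ?_)
        rw [ConjTo.card_eq h e', hB] at hd'
        rwa [show 2 ^ (2 * m + 1) + 1 - 2 ^ (m + 1) = 2 ^ (2 * m + 1) - 2 ^ (m + 1) + 1 by omega]

end Cfsg.Agent.GoodInvol.SzOdd
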