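import Cfsg.Agent.Lib.GoodInvol.FixParams
import Cfsg.Agent.Lib.GoodInvol.LocalDefs
import Cfsg.Agent.Lib.GoodInvol.OrbitVectors
import Cfsg.Agent.Lib.GoodInvol.SzOdd

/-!
# The two-part of the number of points in the Suzuki case

The centres of a moved point are an orbit of an odd subgroup of the Suzuki group induced on the fixed points, so
their number divides `q - 1` or `q ± R + 1`, and the count bounds the two-part of `|Omega| - 1`.
-/

set_option autoImplicit false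
set_option linter.style.haveILetI false
set_option linter.unusedSectionVars false

namespace Cfsg.Agent.GoodInvol

open Subgroup MulAction

universe u

/-- Odd subgroups of a Bender group with parameters `(r, 2)`. -/
theorem BenderParams.odd_card_dvd {L : Type u} [Group L] [Finite L] (hL : SEBender.IsBender L) {r : ℕ}
    (hP : BenderParams L r 2) {K : Subgroup L} (hK : Odd (Nat.card K)) :
    Nat.card K ∣ 2 ^ r - 1 ∨ Nat.card K ∣ 2 ^ r + 2 ^ ((r + 1) / 2) + 1 ∨
      Nat.card K ∣ 2 ^ r + 1 - 2 ^ ((r + 1) / 2) := by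
  classical
  haveI : Fact (Nat.Prime 2) := ⟨Nat.prime_two⟩
  have huniq : ∀ {n e : ℕ}, BenderParams L n e → n = r ∧ e = 2 := fun {n e} hn => by
    let P : Sylow 2 L := default
    obtain ⟨h1, h2⟩ := hn.sylow P
    obtain ⟨h1', h2'⟩ := hP.sylow P
    rw [h1] at h1'
    rw [h2] at h2'
    have e1 := Nat.pow_right_injective le_rfl h2'
    have e2 := Nat.pow_right_injective le_rfl h1'
    subst e1
    exact ⟨rfl, Nat.eq_of_mul_eq_mul_right (by have := hP.two_le; omega) e2⟩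
  rcases hL with ⟨F, _, _, ⟨n, hn, hF⟩, ⟨f⟩⟩ | ⟨F, _, _, m, hm, hF, ⟨f⟩⟩ | ⟨F, _, _, n, hn, hF, ⟨f⟩⟩
  · haveI : CharP F 2 := charP_of_card_eq_prime_pow hF
    obtain ⟨g⟩ := SEMain.psl_equiv_sl (F := F)
    exact absurd (huniq ((params_sl_two hn hF).congr (f.trans g))).2 (by norm_num)
  · have h : Suzuki.SzField F m := ⟨hm, hF⟩
    let g := f.trans (Suzuki.minorEquiv h).symm
    obtain rfl := (huniq ((params_sz h).congr g)).1
    have hK' : Odd (Nat.card (K.map g.toMonoidHom)) := by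
      rwa [Subgroup.card_map_of_injective g.injective]
    have := SzOdd.odd_card_dvd h hK'
    rwa [Subgroup.card_map_of_injective g.injective, show (2 * m + 1 + 1) / 2 = m + 1 by omega] at *
  · exact absurd (huniq ((params_psu hn hF).congr f)).2 (by norm_num)

theorem exists_central_invol_of_two {L : Type u} [Group L] [Finite L] {S : Subgroup L} (hS : IsPGroup 2 S) {s : L}
    (hs : s ∈ S) (hs1 : s ≠ 1) : ∃ z : L, orderOf z = 2 ∧ ∀ y ∈ S, Commute y z := by
  haveI : Fact (Nat.Prime 2) := ⟨Nat.prime_two⟩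
  haveI : Nontrivial S := ⟨⟨⟨s, hs⟩, 1, fun e => hs1 (congrArg Subtype.val e)⟩⟩
  haveI := hS.center_nontrivial
  obtain ⟨k, hk⟩ := IsPGroup.iff_card.1 (hS.to_subgroup (Subgroup.center S))
  have hk1 : 2 ∣ Nat.card (Subgroup.center S) := by
    have h1 : 1 < Nat.card (Subgroup.center S) := Finite.one_lt_card
    rw [hk] at h1 ⊢
    exact dvd_pow_self 2 (by rintro rfl; norm_num at h1)
  obtain ⟨z, hz⟩ := exists_prime_orderOf_dvd_card' 2 hk1
  refine ⟨((z : S) : L), by rw [Subgroup.orderOf_coe, Subgroup.orderOf_coe, hz], fun y hy => ?_⟩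
  exact congrArg Subtype.val (Subgroup.mem_center_iff.1 z.2 ⟨y, hy⟩)

variable {G : Type u} [Group G] [Finite G] {Ω : Type u} [MulAction G Ω] [Finite Ω] [FaithfulSMul G Ω] {D : Set G}

namespace Crit

variable (h : Crit D Ω) (hB : Below.{u} (Nat.card G)) (hgen : closure D = ⊤)
include h hB hgen

/-- The elements of `genC` fixing a moved point have odd order. -/
theorem odd_genC_stab {w : G} (hw : orderOf w = 2) (hbad : ¬ OneFix Ω w)
    (hker : genC D w ⊓ fixStab Ω w ≤ kerCore Ω w) {x : Ω} (hx : w • x ≠ x) :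
    Odd (Nat.card ↥(genC D w ⊓ stabilizer G x)) := by
  classical
  haveI : Fact (Nat.Prime 2) := ⟨Nat.prime_two⟩
  haveI : Nonempty Ω := ⟨x⟩
  by_contra hev
  rw [Nat.not_odd_iff_even, even_iff_two_dvd] at hev
  obtain ⟨g0, hg0⟩ := exists_prime_orderOf_dvd_card' 2 hev
  obtain ⟨g, hgY⟩ := g0
  rw [Subgroup.orderOf_mk] at hg0
  obtain ⟨hgC, hgx⟩ := mem_inf.1 hgY
  have hgw : Commute g w := commute_of_genC hgC
  -- the image on the fixed points
  set C := Subgroup.centralizer ({w} : Set G) with hC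
  set π := toPermHom C (fixSub Ω w) with hπ
  have hb := hbad
  unfold OneFix at hb
  push Not at hb
  obtain ⟨p, q, hp, hq, hpq⟩ := hb
  have hCrit : Crit (cenD D w) (fixSub Ω w) := h.centralizer hw
  have hGoal : Goal (cenD D w) (fixSub Ω w) := goal_centralizer hB h hgen hw hp
  have hpqF : (⟨p, hp⟩ : fixSub Ω w) ≠ ⟨q, hq⟩ := fun e => hpq (congrArg Subtype.val e)
  obtain ⟨hse, -⟩ := se_induced hCrit hGoal hpqF
  have hmemI : ∀ k ∈ genC D w, ∀ hk : Commute k w,
      π ⟨k, mem_centralizer_singleton_iff.2 hk.eq⟩ ∈ induced (cenD D w) (fixSub Ω w) := by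
    intro k hk
    induction hk using Subgroup.closure_induction with
    | mem d hd => exact fun _ => mem_map_of_mem π (subset_closure hd.1)
    | one =>
      exact fun _ => by
        rw [show (⟨1, _⟩ : C) = 1 from rfl, map_one]; exact one_mem _
    | mul k l hk hl ih1 ih2 =>
      exact fun _ => by
        rw [show (⟨k * l, _⟩ : C) = ⟨k, mem_centralizer_singleton_iff.2 (commute_of_genC hk).eq⟩ *
          ⟨l, mem_centralizer_singleton_iff.2 (commute_of_genC hl).eq⟩ from rfl, map_mul]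
        exact mul_mem (ih1 (commute_of_genC hk)) (ih2 (commute_of_genC hl))
    | inv k hk ih =>
      exact fun _ => by
        rw [show (⟨k⁻¹, _⟩ : C) = (⟨k, mem_centralizer_singleton_iff.2 (commute_of_genC hk).eq⟩ : C)⁻¹ from rfl,
          map_inv]
        exact inv_mem (ih (commute_of_genC hk))
  set gC : C := ⟨g, mem_centralizer_singleton_iff.2 hgw.eq⟩ with hgCdef
  have hgπ : π gC ≠ 1 := fun e => by
    have hfix : ∀ z : Ω, w • z = z → g • z = z := fun z hz =>
      congrArg Subtype.val (Equiv.congr_fun e ⟨z, hz⟩)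
    have hd := Subgroup.orderOf_dvd_natCard _ (hker (mem_inf.2 ⟨hgC, hfix⟩))
    rw [hg0] at hd
    exact Nat.not_even_iff_odd.2 (odd_kerCore (Ω := Ω) w) (even_iff_two_dvd.2 hd)
  obtain ⟨d0, hd0, hd0p⟩ := Set.nonempty_of_ncard_ne_zero (h.odd_cdat hw hp).pos.ne'
  have hd0C : (⟨d0, mem_centralizer_singleton_iff.2 hd0p.eq⟩ : C) ∈ cenD D w := hd0.1
  have hgI : π gC ∈ induced (cenD D w) (fixSub Ω w) := hmemI g hgC hgw
  have hdI : π ⟨d0, mem_centralizer_singleton_iff.2 hd0p.eq⟩ ∈ induced (cenD D w) (fixSub Ω w) :=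
    mem_map_of_mem π (subset_closure hd0C)
  have ho1 : orderOf (⟨_, hgI⟩ : induced (cenD D w) (fixSub Ω w)) = 2 := by
    refine Invol.order_two_of_sq (Subtype.ext ?_) fun e => hgπ (congrArg Subtype.val e)
    show π gC * π gC = 1
    rw [← map_mul, show gC * gC = 1 from Subtype.ext (Invol.mul_self hg0), map_one]
  have ho2 : orderOf (⟨_, hdI⟩ : induced (cenD D w) (fixSub Ω w)) = 2 := by
    refine Invol.order_two_of_sq (Subtype.ext ?_) fun e => ?_
    · show π _ * π _ = 1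
      rw [← map_mul, show (⟨d0, _⟩ : C) * ⟨d0, mem_centralizer_singleton_iff.2 hd0p.eq⟩ = 1 from
        Subtype.ext (Invol.mul_self (h.invol _ hd0.1)), map_one]
    · have e' : π ⟨d0, mem_centralizer_singleton_iff.2 hd0p.eq⟩ = 1 := congrArg Subtype.val e
      exact hpq (h.unique d0 hd0.1 p q hd0.2
        (congrArg Subtype.val (Equiv.congr_fun e' ⟨q, hq⟩)))
  obtain ⟨k, hk⟩ := isConj_iff.1 (Invol.se_isConj hse ho2 ho1)
  obtain ⟨kc, -, hkc⟩ := mem_map.1 k.2
  set d : G := (kc : G) * d0 * (kc : G)⁻¹ with hd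
  have hdD : d ∈ cmem D w := by
    refine ⟨h.conj _ _ hd0.1, ?_⟩
    have := (kc * (⟨d0, mem_centralizer_singleton_iff.2 hd0p.eq⟩ : C) * kc⁻¹).2
    exact mem_centralizer_singleton_iff.1 this
  have hact : ∀ z : Ω, w • z = z → g • z = d • z := fun z hz => by
    have e1 : π (kc * (⟨d0, mem_centralizer_singleton_iff.2 hd0p.eq⟩ : C) * kc⁻¹) = π gC := by
      rw [map_mul, map_mul, map_inv, hkc]
      exact congrArg Subtype.val hk
    exact (congrArg Subtype.val (Equiv.congr_fun e1 ⟨z, hz⟩)).symm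
  have hfixprod : g * d ∈ fixStab Ω w := fun z hz => by
    have hdz : w • d • z = d • z := by rw [← mul_smul, ← hdD.2.eq, mul_smul, hz]
    rw [mul_smul, hact _ hdz, ← mul_smul, Invol.mul_self (h.invol d hdD.1), one_smul]
  have hodd : Odd (orderOf (g * d)) := (odd_kerCore (Ω := Ω) w).of_dvd_nat
    (Subgroup.orderOf_dvd_natCard _ (hker (mem_inf.2 ⟨mul_mem hgC (mem_genC_of_cmem hdD), hfixprod⟩)))
  obtain ⟨c, -, hc⟩ := Invol.conj_of_odd hg0 (h.invol d hdD.1) hodd
  have hgD : g ∈ D := by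
    have := h.conj c⁻¹ d hdD.1
    rwa [← hc, show c⁻¹ * (c * g * c⁻¹) * c⁻¹⁻¹ = g by group] at this
  obtain ⟨z, hz⟩ := h.exists_fix hg0 (Ω := Ω)
  have hwz := h.fix_of_cmem (show g ∈ cmem D w from ⟨hgD, hgw⟩) hz
  exact hx (h.unique g hgD x z hgx hz ▸ hwz)

/-- In the Suzuki case the number of centres divides `q - 1` or `q ± R + 1`. -/
theorem centres_dvd {w : G} (hw : orderOf w = 2) (hbad : ¬ OneFix Ω w)
    (hker : genC D w ⊓ fixStab Ω w ≤ kerCore Ω w) {a : Ω} (ha : w • a = a) {T E : Subgroup G}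
    (hT : T ≤ ptC w a) (hE : ESet D w a T E) {r : ℕ} (hcE : Nat.card E = 2 ^ r)
    (hfix : (fixSet Ω w).ncard = 2 ^ (2 * r) + 1) {x : Ω} (hx : w • x ≠ x) :
    (centres D w x).ncard ∣ 2 ^ r - 1 ∨ (centres D w x).ncard ∣ 2 ^ r + 2 ^ ((r + 1) / 2) + 1 ∨
      (centres D w x).ncard ∣ 2 ^ r + 1 - 2 ^ ((r + 1) / 2) := by
  classical
  haveI : Nonempty Ω := ⟨x⟩
  obtain ⟨r', e, hP, hf', hE'⟩ := h.exists_fix_params hB hgen hw hbad ha hT hE
  obtain rfl : r = r' := Nat.pow_right_injective le_rfl (hcE.symm.trans hE')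
  obtain rfl : e = 2 := by
    rw [hfix, add_left_inj] at hf'
    have := Nat.pow_right_injective le_rfl hf'
    exact (Nat.eq_of_mul_eq_mul_right (by have := hP.two_le; omega) this).symm
  set C := Subgroup.centralizer ({w} : Set G) with hC
  set π := toPermHom C (fixSub Ω w) with hπ
  have hb := hbad
  unfold OneFix at hb
  push Not at hb
  obtain ⟨p, q, hp, hq, hpq⟩ := hb
  have hpqF : (⟨p, hp⟩ : fixSub Ω w) ≠ ⟨q, hq⟩ := fun e' => hpq (congrArg Subtype.val e')
  have hCrit : Crit (cenD D w) (fixSub Ω w) := h.centralizer hw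
  have hGoal : Goal (cenD D w) (fixSub Ω w) := goal_centralizer hB h hgen hw hp
  set Y := genC D w ⊓ stabilizer G x with hY
  have hYC : Y ≤ C := inf_le_left.trans (genC_le_centralizer D w)
  set I := induced (cenD D w) (fixSub Ω w) with hI
  set Y' := (Y.subgroupOf C).map π with hY'
  have hY'I : Y' ≤ I := by
    rintro _ ⟨k, hk, rfl⟩
    refine mem_map_of_mem π ?_
    have hk1 : (k : G) ∈ genC D w := (mem_inf.1 hk).1
    have hmap : (Subgroup.closure (cenD D w)).map C.subtype = genC D w := by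
      rw [MonoidHom.map_closure]
      refine congrArg Subgroup.closure (Set.ext fun z => ⟨?_, fun hz => ?_⟩)
      · rintro ⟨c, hc, rfl⟩
        exact ⟨hc, mem_centralizer_singleton_iff.1 c.2⟩
      · exact ⟨⟨z, mem_centralizer_singleton_iff.2 hz.2.eq⟩, hz.1, rfl⟩
    rw [← hmap] at hk1
    obtain ⟨c, hc, hck⟩ := hk1
    rwa [← Subtype.ext hck]
  have hY'odd : Odd (Nat.card Y') := by
    refine ((h.odd_genC_stab hB hgen hw hbad hker hx).of_dvd_nat ?_ : _)
    rw [← Nat.card_congr (Subgroup.subgroupOfEquivOfLe hYC).toEquiv]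
    exact Subgroup.card_map_dvd _ _
  -- the members acting as `w` at `x`
  obtain ⟨f, hf, hfx⟩ := h.exists_at x
  obtain ⟨d0, hd0, hd0w, hd0x, -⟩ := h.exists_partner hw (fun hwD => hbad (h.oneFix_of_mem hwD)) hf hfx hx
  have hd0s : d0 ∈ csig D w x := ⟨⟨hd0, hd0w⟩, hd0x⟩
  obtain ⟨p0, hp0⟩ := h.exists_fix (h.invol d0 hd0) (Ω := Ω)
  set P0 : fixSub Ω w := ⟨p0, h.fix_of_cmem hd0s.1 hp0⟩ with hP0
  have horb : centres D w x = Subtype.val '' (orbit Y' P0) := by
    ext z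
    constructor
    · rintro ⟨c, hc, hcz⟩
      have hodd := h.odd_mul_swap (Ne.symm hx) (show c ∈ swap D x (w • x) from ⟨hc.1.1, hc.2⟩)
        (show d0 ∈ swap D x (w • x) from ⟨hd0, hd0x⟩)
      obtain ⟨n, hn⟩ := h.exists_pow_conj hc.1.1 hd0 hodd
      have hgY : (c * d0) ^ n ∈ Y := by
        refine pow_mem (mem_inf.2 ⟨mul_mem (mem_genC_of_cmem hc.1) (mem_genC_of_cmem hd0s.1), ?_⟩) n
        show (c * d0) • x = x
        rw [mul_smul, hd0x, ← mul_smul, hc.1.2.eq, mul_smul, hc.2, ← mul_smul, Invol.mul_self hw, one_smul]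
      set g := (c * d0) ^ n
      have hgz : g • p0 = z := by
        refine h.unique c hc.1.1 _ _ ?_ hcz
        rw [← hn, mul_smul, mul_smul, inv_smul_smul, hp0]
      exact ⟨_, ⟨⟨π ⟨g, hYC hgY⟩, mem_map_of_mem π hgY⟩, rfl⟩, hgz⟩
    · rintro ⟨_, ⟨⟨_, k, hk, rfl⟩, rfl⟩, rfl⟩
      refine ⟨(k : G) * d0 * (k : G)⁻¹, ⟨⟨h.conj _ _ hd0, ?_⟩, ?_⟩, ?_⟩
      · have := (k * (⟨d0, mem_centralizer_singleton_iff.2 hd0w⟩ : C) * k⁻¹).2
        exact mem_centralizer_singleton_iff.1 this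
      · have hkx : (k : G) • x = x := (mem_inf.1 hk).2
        have hkw : (k : G) * w = w * k := mem_centralizer_singleton_iff.1 k.2
        rw [mul_smul, mul_smul, show ((k : G))⁻¹ • x = x from inv_smul_eq_iff.2 hkx.symm, hd0x, ← mul_smul, hkw,
          mul_smul, hkx]
      · show ((k : G) * d0 * (k : G)⁻¹) • ((k : G) • p0) = (k : G) • p0
        rw [mul_smul, mul_smul, inv_smul_smul, hp0]
  have hdvd : (centres D w x).ncard ∣ Nat.card (Y'.subgroupOf I) := by
    rw [horb, Set.ncard_image_of_injective _ Subtype.val_injective,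
      Nat.card_congr (Subgroup.subgroupOfEquivOfLe hY'I).toEquiv, ← Nat.card_coe_set_eq,
      Nat.card_congr (orbitEquivQuotientStabilizer Y' P0)]
    exact Subgroup.card_quotient_dvd_card _
  have hR : ¬ BrauerSuzuki.RankOne I → SEBender.IsBender I := fun hR =>
    ((induced_outcome hCrit hGoal hpqF).resolve_left fun e1 => hR e1.1).1
  have hBender : SEBender.IsBender I := by
    refine hR fun hR1 => ?_
    haveI : Fact (Nat.Prime 2) := ⟨Nat.prime_two⟩
    let S : Sylow 2 I := default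
    obtain ⟨-, h2⟩ := hP.sylow S
    have h2r := hP.two_le
    have h4 : 3 ≤ {z : I | z ∈ (S : Subgroup I) ∧ z * z = 1}.ncard := by
      rw [h2]
      have : 2 ^ 2 ≤ 2 ^ r := Nat.pow_le_pow_right two_pos h2r
      omega
    obtain ⟨s, hs⟩ := Set.nonempty_of_ncard_ne_zero (s := {z : I | z ∈ (S : Subgroup I) ∧ z * z = 1} \ {1})
      (by rw [Set.ncard_sdiff_singleton_of_mem (show (1 : I) ∈ {z : I | z ∈ (S : Subgroup I) ∧ z * z = 1} from
        ⟨one_mem _, one_mul 1⟩)]; omega)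
    obtain ⟨zc, hzc⟩ := exists_central_invol_of_two S.2 hs.1.1 hs.2
    have hle : {z : I | z ∈ (S : Subgroup I) ∧ z * z = 1} ⊆ {1, zc} := by
      rintro z ⟨hzS, hz⟩
      by_cases hz1 : z = 1
      · exact Or.inl hz1
      · exact Or.inr (hR1 z zc (Invol.order_two_of_sq hz hz1) hzc.1 (hzc.2 z hzS))
    have h5 := Set.ncard_le_ncard hle (Set.toFinite _)
    have h6 : ({1, zc} : Set I).ncard ≤ 2 := (Set.ncard_insert_le _ _).trans (by simp)
    omega
  have hoddI : Odd (Nat.card (Y'.subgroupOf I)) := by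
    rwa [Nat.card_congr (Subgroup.subgroupOfEquivOfLe hY'I).toEquiv]
  rcases BenderParams.odd_card_dvd hBender hP hoddI with e | e | e
  · exact Or.inl (hdvd.trans e)
  · exact Or.inr (Or.inl (hdvd.trans e))
  · exact Or.inr (Or.inr (hdvd.trans e))

/-- The two-part of the number of the other points. -/
theorem not_dvd_card_pred {w : G} (hw : orderOf w = 2) (hbad : ¬ OneFix Ω w)
    (hker : genC D w ⊓ fixStab Ω w ≤ kerCore Ω w) {a : Ω} (ha : w • a = a) {T E : Subgroup G}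
    (hT : T ≤ ptC w a) (hE : ESet D w a T E) {r : ℕ} (hr : 3 ≤ r) (hrodd : Odd r) (hcE : Nat.card E = 2 ^ r)
    (hfix : (fixSet Ω w).ncard = 2 ^ (2 * r) + 1) : ¬ 2 ^ (3 * r + 2) ∣ Nat.card Ω - 1 := by
  classical
  intro hdvd
  by_cases hmoved : ∀ x : Ω, w • x = x
  · have e : fixSet Ω w = Set.univ := Set.eq_univ_of_forall hmoved
    rw [e, Set.ncard_univ] at hfix
    rw [hfix, Nat.add_sub_cancel] at hdvd
    exact absurd (Nat.pow_dvd_pow_iff_le_right (x := 2) (by norm_num) |>.1 hdvd) (by omega)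
  push Not at hmoved
  obtain ⟨x, hx⟩ := hmoved
  obtain ⟨d, hd, hdw⟩ := Set.nonempty_of_ncard_ne_zero (h.odd_cdat hw ha).pos.ne'
  have hdm : d ∈ cmem D w := ⟨hd.1, hdw⟩
  obtain ⟨kx, hkap, hmu, hkx, hnc, hile, -⟩ := h.exists_centre_count hB hgen hw hbad hx hdm
  have hmv := h.card_moved_eq hB hgen hw hbad ha hx
  have hN := h.card_cdat_kap hB hgen hw hbad ha hE hT hdm
  rw [hmu, hN, hkap, hcE, hfix, Nat.add_sub_cancel] at hmv
  have hcomp := Set.ncard_add_ncard_compl (fixSet Ω w)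
  rw [hfix] at hcomp
  set q := 2 ^ r with hq
  have hhq : 2 ^ (2 * r) = q ^ 2 := by rw [hq, ← pow_mul, mul_comm]
  set nc := (centres D w x).ncard
  set i := iota Ω w x with hi
  set c := (fixSet Ω w)ᶜ.ncard
  have h1 : c * nc = (q ^ 2 + 1) * ((q - 1) * i) * q ^ 2 := by
    refine Nat.eq_of_mul_eq_mul_right hkx.pos ?_
    rw [hhq] at hmv
    calc c * nc * kx = c * (nc * kx) := by ring
      _ = _ := hmv
      _ = (q ^ 2 + 1) * ((q - 1) * i) * q ^ 2 * kx := by ring
  have hn : Nat.card Ω - 1 = c + q ^ 2 := by rw [← hcomp, hhq]; omega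
  have h2 : 2 ^ (3 * r + 2) ∣ q ^ 2 * (nc + (q ^ 2 + 1) * (q - 1) * i) := by
    have : 2 ^ (3 * r + 2) ∣ (c + q ^ 2) * nc := (hn ▸ hdvd).mul_right nc
    rw [add_mul, h1] at this
    rwa [show q ^ 2 * (nc + (q ^ 2 + 1) * (q - 1) * i) = (q ^ 2 + 1) * ((q - 1) * i) * q ^ 2 + q ^ 2 * nc by ring]
  rw [show 2 ^ (3 * r + 2) = q ^ 2 * 2 ^ (r + 2) by rw [hq, ← pow_mul, ← pow_add]; congr 1; ring] at h2
  have h3 := Nat.dvd_of_mul_dvd_mul_left (by positivity) h2
  obtain ⟨m, hm⟩ := hrodd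
  refine OrbitVectors.suzuki_two_part (R := 2 ^ ((r + 1) / 2)) hr ?_ ?_ (odd_iota w x) hile
    (h.centres_dvd hB hgen hw hbad hker ha hT hE hcE hfix hx) h3
  · exact dvd_trans (by norm_num) (pow_dvd_pow 2 (show 2 ≤ (r + 1) / 2 by omega))
  · have h4 : 2 ^ ((r + 1) / 2) * 2 ≤ 2 ^ r := by
      rw [← pow_succ]; exact Nat.pow_le_pow_right two_pos (by omega)
    have := Nat.one_lt_two_pow (n := (r + 1) / 2) (by omega)
    omega

/-- When only order two fixes a second point, two-groups at `a` have order at most `2 ^ (3 r + 2)`. -/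
theorem card_two_group_le {w : G} (hw : orderOf w = 2) (hbad : ¬ OneFix Ω w)
    (hker : genC D w ⊓ fixStab Ω w ≤ kerCore Ω w) {a : Ω} (ha : w • a = a) {T E : Subgroup G}
    (hT : T ≤ ptC w a) (hE : ESet D w a T E) {r : ℕ} (hr : 3 ≤ r) (hrodd : Odd r) (hcE : Nat.card E = 2 ^ r)
    (hfix : (fixSet Ω w).ncard = 2 ^ (2 * r) + 1)
    (hP : ∀ R : Subgroup G, IsPGroup 2 R → (∀ g ∈ R, g • a = a) → (∃ z : Ω, z ≠ a ∧ ∀ g ∈ R, g • z = z) →
      Nat.card R ≤ 2)
    {S : Subgroup G} (hS2 : IsPGroup 2 S) (hSa : ∀ g ∈ S, g • a = a) : Nat.card S ≤ 2 ^ (3 * r + 2) := by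
  classical
  haveI : Fact (Nat.Prime 2) := ⟨Nat.prime_two⟩
  obtain ⟨k, hk⟩ := IsPGroup.iff_card.1 hS2
  by_contra hlt
  push Not at hlt
  rw [hk] at hlt
  have hk' := (Nat.pow_lt_pow_iff_right one_lt_two).1 hlt
  refine h.not_dvd_card_pred hB hgen hw hbad hker ha hT hE hr hrodd hcE hfix ?_
  have e : ({a}ᶜ : Set Ω).ncard = Nat.card Ω - 1 := by rw [Set.ncard_compl, Set.ncard_singleton]
  rw [← e]
  refine dvd_ncard_of_orbits (G := S) _ (fun g z hz e' => hz ?_) fun z hz => ?_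
  · exact smul_left_cancel (g : G) ((show (g : G) • z = a from e').trans (hSa g g.2).symm)
  · have hst : Nat.card (stabilizer S z) ≤ 2 := by
      rw [← Subgroup.card_map_of_injective (K := stabilizer S z) S.subtype_injective]
      refine hP _ ((hS2.to_subgroup _).map _) ?_ ⟨z, hz, ?_⟩
      · rintro _ ⟨g, -, rfl⟩; exact hSa _ g.2
      · rintro _ ⟨g, hg, rfl⟩; exact hg
    have hos : (orbit S z).ncard * Nat.card (stabilizer S z) = 2 ^ k := by
      rw [← hk, ← Nat.card_coe_set_eq, Nat.card_congr (orbitEquivQuotientStabilizer S z), ← Subgroup.index_eq_card,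
        Subgroup.index_mul_card]
    obtain ⟨i, hi, hoi⟩ := (Nat.dvd_prime_pow Nat.prime_two).1 (Dvd.intro _ hos)
    rw [hoi] at hos ⊢
    refine pow_dvd_pow 2 ?_
    by_contra hh
    push Not at hh
    have h1 : 2 ^ k ≤ 2 ^ i * 2 := hos ▸ Nat.mul_le_mul_left _ hst
    rw [← pow_succ] at h1
    have := (Nat.pow_le_pow_iff_right one_lt_two).1 h1
    omega

end Crit

end Cfsg.Agent.GoodInvol
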