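import Cfsg.Agent.Lib.GoodInvol.CaseBSplit
import Cfsg.Agent.Lib.GoodInvol.SzBound
import Cfsg.Agent.Lib.GoodInvol.IndexTwo

/-!
# Case B, Suzuki type without a 2-group of order four on two points

The configuration at `u` and the bound on the 2-subgroups at `a` feed the transfer.
-/

set_option autoImplicit false
set_option linter.style.haveILetI false

namespace Cfsg.Agent.GoodInvol

open Subgroup MulAction

universe u

/-- The stabiliser of a point has odd index. -/
theorem Crit.odd_index_stab {G : Type u} [Group G] [Finite G] {Ω : Type u} [MulAction G Ω] [Finite Ω]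
    {D : Set G} (h : Crit D Ω) (a : Ω) : ¬ 2 ∣ (stabilizer G a).index := by
  haveI : Nonempty Ω := ⟨a⟩
  haveI : IsPretransitive G Ω := ⟨fun p q => by
    obtain ⟨g, -, hg⟩ := h.exists_smul p q
    exact ⟨g, hg⟩⟩
  rw [index_stabilizer_of_transitive]
  exact h.odd_card.not_two_dvd_nat

/-- Suzuki type, no 2-group of order four on two points: impossible. -/
theorem smallStmt_two : SmallStmt.{u} 2 := by
  intro G _ _ D Ω _ _ _ hB h hgen u a x T E Q K K1 r L hL
  obtain ⟨X, K', hX, hr3, hrodd, hE, hT, hXc, hK', hodd, hKu, hrel, hfree⟩ :=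
    h.exists_xcfg_suzuki hB hgen L.hu L.hbad L.ha L.hx L.hxa L.hE hL L.hW
  have hfix : (fixSet Ω u).ncard = 2 ^ (2 * r) + 1 := hL.card_fix
  refine hX.false_of_suzuki (h.index_ne_two hB hgen L.hu L.ha L.hx L.hxa.symm) (h.odd_index_stab a)
    (h.exists_conj_stab L.hu L.ha) hr3 hrodd hE hT hXc (fun S hS hS2 => ?_) hK' hodd hKu hrel hfree
  refine (h.card_two_group_le hB hgen L.hu L.hbad hL.kernel_le L.ha (map_subtype_le _) L.hE hr3 hrodd hE hfix
    (fun R hR hRa ⟨z, hz, hRz⟩ => L.hsmall R hR a z hz.symm hRa hRz) hS2 fun g hg => hS hg).trans (le_of_eq ?_)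
  rw [hXc, show 3 * r + 2 = r + r + r + 2 by ring, pow_add, pow_add, pow_add]
  ring

end Cfsg.Agent.GoodInvol
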