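import Mathlib.Tactic
import Mathlib.Data.Nat.Prime.Basic

/-!
# Arithmetic for nested fixed point sets

If `2 ^ t + 1` divides the order of a Bender group with parameters `r`, `e` and `t < e * r`, the count bounds at
two nested fixed point sets exclude one another.
-/

set_option autoImplicit false

namespace Cfsg.Agent.GoodInvol.FieldBound

/-- A common divisor of `2 ^ t + 1` and `2 ^ m - 1` is small unless `2 * t ∣ m`. -/
theorem two_mul_dvd_or {t m d : ℕ} (ht : 1 ≤ t) (hd : d ∣ 2 ^ t + 1) (hm : d ∣ 2 ^ m - 1) :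
    2 * t ∣ m ∨ ∃ g, 3 * g ≤ t ∧ d ∣ 2 ^ g + 1 := by
  have hodd : Odd d := by
    refine Odd.of_dvd_nat ?_ hd
    exact (Nat.even_pow.2 ⟨even_two, by omega⟩).add_one
  have h2t : d ∣ 2 ^ (2 * t) - 1 := by
    refine hd.trans ⟨2 ^ t - 1, ?_⟩
    rw [mul_comm 2 t, pow_mul]
    simpa using Nat.sq_sub_sq (2 ^ t) 1
  have hG : d ∣ 2 ^ Nat.gcd (2 * t) m - 1 := by
    rw [← Nat.pow_sub_one_gcd_pow_sub_one]
    exact Nat.dvd_gcd h2t hm
  have hcop : ∀ k, k ∣ t → Nat.Coprime d (2 ^ k - 1) := fun k hk => by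
    refine Nat.coprime_of_dvd fun p hp hpd hpk => ?_
    have h1 : p ∣ 2 ^ t - 1 := hpk.trans (Nat.pow_sub_one_dvd_pow_sub_one 2 hk)
    have h3 : p ∣ 2 ^ t + 1 := hpd.trans hd
    have h4 : p ∣ 2 := by
      have := Nat.dvd_sub h3 h1
      rwa [show 2 ^ t + 1 - (2 ^ t - 1) = 2 by have := Nat.one_le_two_pow (n := t); omega] at this
    rw [(Nat.prime_dvd_prime_iff_eq hp Nat.prime_two).1 h4] at hpd
    exact Nat.not_even_iff_odd.2 hodd (even_iff_two_dvd.2 hpd)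
  set G := Nat.gcd (2 * t) m with hGdef
  by_cases hGt : G ∣ t
  · refine Or.inr ⟨0, by omega, ?_⟩
    have := hcop G hGt
    rw [Nat.Coprime, Nat.gcd_eq_left hG] at this
    rw [this]
    exact one_dvd _
  obtain ⟨g, hg⟩ : 2 ∣ G := by
    by_contra h2
    exact hGt ((Nat.prime_two.coprime_iff_not_dvd.2 h2).symm.dvd_of_dvd_mul_left (Nat.gcd_dvd_left _ _))
  have hgt : g ∣ t := Nat.dvd_of_mul_dvd_mul_left two_pos (hg ▸ Nat.gcd_dvd_left (2 * t) m)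
  have hdg : d ∣ 2 ^ g + 1 := by
    refine (hcop g hgt).dvd_of_dvd_mul_right ?_
    rw [hg, mul_comm 2 g, pow_mul] at hG
    rwa [show (2 ^ g) ^ 2 - 1 = (2 ^ g + 1) * (2 ^ g - 1) by simpa using Nat.sq_sub_sq (2 ^ g) 1] at hG
  obtain ⟨k, hk⟩ := hgt
  rcases lt_or_ge k 2 with hk2 | hk2
  · left
    have hkt : g = t := by interval_cases k <;> omega
    rw [← hkt, ← hg]
    exact Nat.gcd_dvd_right _ _
  · refine Or.inr ⟨g, ?_, hdg⟩
    rcases Nat.eq_or_lt_of_le hk2 with hk3 | hk3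
    · exfalso
      exact hGt (hg ▸ ⟨1, by rw [hk, ← hk3]; ring⟩)
    · calc 3 * g ≤ k * g := Nat.mul_le_mul_right g hk3
        _ = t := by rw [hk, mul_comm]

theorem not_dvd_small {t g : ℕ} (ht : 1 ≤ t) (hg : 3 * g ≤ t) : ¬ 2 ^ t + 1 ∣ 2 ^ g + 1 := fun hd => by
  have := Nat.le_of_dvd (Nat.succ_pos _) hd
  have h2 : 2 ^ g < 2 ^ t := Nat.pow_lt_pow_right one_lt_two (by omega)
  omega

/-- `2 ^ t + 1` dividing `2 ^ (2 * r) - 1` forces `t ∣ r`. -/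
theorem dvd_of_single {t r : ℕ} (ht : 1 ≤ t) (hd : 2 ^ t + 1 ∣ 2 ^ (2 * r) - 1) : t ∣ r := by
  rcases two_mul_dvd_or ht dvd_rfl hd with h | ⟨g, hg, h⟩
  · exact Nat.dvd_of_mul_dvd_mul_left two_pos h
  · exact absurd h (not_dvd_small ht hg)

theorem coprime_pow {t : ℕ} (ht : 1 ≤ t) (k : ℕ) : Nat.Coprime (2 ^ t + 1) (2 ^ k) := by
  exact Nat.Coprime.pow_right _ (Nat.coprime_two_right.2 (Nat.even_pow.2 ⟨even_two, by omega⟩).add_one)

theorem half_of_dvd_lt {t M : ℕ} (h : t ∣ M) (hlt : t < M) : 2 * t ≤ M := by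
  obtain ⟨k, rfl⟩ := h
  rcases lt_or_ge k 2 with hk | hk
  · interval_cases k <;> omega
  · calc 2 * t ≤ k * t := Nat.mul_le_mul_right t hk
      _ = t * k := mul_comm _ _

theorem upper_le_cube {hu qu : ℕ} (hq : qu ≤ hu) : hu * (qu + hu * (qu - 1)) ≤ hu ^ 3 := by
  rcases Nat.eq_zero_or_pos qu with h0 | h0
  · subst h0; simp
  obtain ⟨c, rfl⟩ := Nat.exists_eq_add_of_le hq
  obtain ⟨b, rfl⟩ := Nat.exists_eq_add_of_le h0
  rw [Nat.add_sub_cancel_left]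
  nlinarith [Nat.zero_le (c * b), Nat.zero_le (c * c)]

theorem upper_lt_sq {hu qu : ℕ} (h0 : 0 < qu) (hq : qu < hu) : hu * (qu + hu * (qu - 1)) < hu ^ 2 * qu := by
  obtain ⟨c, rfl⟩ := Nat.exists_eq_add_of_lt hq
  obtain ⟨b, rfl⟩ := Nat.exists_eq_add_of_le h0
  rw [Nat.add_sub_cancel_left]
  nlinarith [Nat.zero_le (c * b), Nat.zero_le (c * c)]

/-- The bounds from two nested fixed point sets exclude one another. -/
theorem false_of_bounds {t s r e N : ℕ} (ht : 1 ≤ t) (hr : 2 ≤ r) (hst : s ≤ t) (hsr : s ≤ r) (hte : t < e * r)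
    (hdvd : (e = 1 ∧ 2 ^ t + 1 ∣ 2 ^ r * (2 ^ (2 * r) - 1)) ∨
      (e = 2 ∧ 2 ^ t + 1 ∣ (2 ^ r) ^ 2 * (((2 ^ r) ^ 2 + 1) * (2 ^ r - 1))) ∨
      (e = 3 ∧ 2 ^ t + 1 ∣ (2 ^ r) ^ 3 * ((2 ^ (6 * r) - 1) * (2 ^ (2 * r) - 1))))
    (hup : N ≤ 2 ^ t * (2 ^ s + 2 ^ t * (2 ^ s - 1))) (hlow : 2 ^ (e * r + r) ≤ N) : False := by
  have hqh : 2 ^ s ≤ 2 ^ t := Nat.pow_le_pow_right two_pos hst
  have hcube : 2 ^ (e * r + r) ≤ 2 ^ (3 * t) := by
    rw [mul_comm 3 t, pow_mul]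
    exact hlow.trans (hup.trans (upper_le_cube hqh))
  have h3 := (Nat.pow_le_pow_iff_right (le_refl 2)).1 hcube
  rcases hdvd with ⟨rfl, hd⟩ | ⟨rfl, hd⟩ | ⟨rfl, hd⟩
  · have hlt : t < r := by omega
    have := half_of_dvd_lt (dvd_of_single ht ((coprime_pow ht r).dvd_of_dvd_mul_left hd)) hlt
    omega
  · rw [← pow_mul] at hd
    have hd2 := (coprime_pow ht (r * 2)).dvd_of_dvd_mul_left hd
    have hd4 : 2 ^ t + 1 ∣ 2 ^ (2 * (2 * r)) - 1 := by
      refine hd2.trans ?_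
      rw [show 2 * (2 * r) = r * 4 by ring, pow_mul 2 r 4, show 2 ^ (r * 2) = (2 ^ r) ^ 2 from pow_mul 2 r 2]
      generalize 2 ^ r = q
      rw [show q ^ 4 - 1 = (q ^ 2 + 1) * ((q + 1) * (q - 1)) by
        rw [show (q + 1) * (q - 1) = q ^ 2 - 1 by simpa using (Nat.sq_sub_sq q 1).symm,
          show (q ^ 2 + 1) * (q ^ 2 - 1) = (q ^ 2) ^ 2 - 1 by simpa using (Nat.sq_sub_sq (q ^ 2) 1).symm, ← pow_mul]]
      exact mul_dvd_mul_left _ (dvd_mul_left _ _)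
    have h2 := half_of_dvd_lt (dvd_of_single ht hd4) (by omega)
    have htr : t = r := by omega
    rw [htr] at hd2
    obtain ⟨c, hc⟩ : ∃ c, 2 ^ r = c + 4 := ⟨2 ^ r - 4, by
      have : 2 ^ 2 ≤ 2 ^ r := Nat.pow_le_pow_right two_pos hr
      omega⟩
    rw [show 2 ^ (r * 2) = (2 ^ r) ^ 2 from pow_mul 2 r 2, hc] at hd2
    have h4 : c + 4 + 1 ∣ 4 := by
      have e1 : ((c + 4) ^ 2 + 1) * (c + 4 - 1) + 4 = (c + 4 + 1) * ((c + 4) ^ 2 - 2 * (c + 4) + 3) := by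
        rw [show c + 4 - 1 = c + 3 by omega, show (c + 4) ^ 2 - 2 * (c + 4) = (c + 4) * (c + 2) by
          rw [show (c + 4) ^ 2 = (c + 4) * (c + 2) + 2 * (c + 4) by ring, Nat.add_sub_cancel]]
        ring
      have := Dvd.intro _ e1.symm
      exact (Nat.dvd_add_right hd2).1 this
    have := Nat.le_of_dvd (by norm_num) h4
    omega
  · rw [← pow_mul] at hd
    have hd2 := (coprime_pow ht (r * 3)).dvd_of_dvd_mul_left hd
    have hgg : 2 ^ t + 1 ∣ Nat.gcd (2 ^ t + 1) (2 ^ (6 * r) - 1) * Nat.gcd (2 ^ t + 1) (2 ^ (2 * r) - 1) :=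
      (Nat.dvd_gcd dvd_rfl hd2).trans (Nat.gcd_mul_right_dvd_mul_gcd _ _ _)
    have hbound : 2 * t ≤ 3 * r := by
      rcases two_mul_dvd_or ht (Nat.gcd_dvd_left _ _) (Nat.gcd_dvd_right (2 ^ t + 1) (2 ^ (6 * r) - 1)) with
        hA | ⟨g, hg, hA⟩
      · exact half_of_dvd_lt (Nat.dvd_of_mul_dvd_mul_left two_pos
          (hA.trans (dvd_of_eq (by ring : 6 * r = 2 * (3 * r))))) hte
      rcases two_mul_dvd_or ht (Nat.gcd_dvd_left _ _) (Nat.gcd_dvd_right (2 ^ t + 1) (2 ^ (2 * r) - 1)) with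
        hB | ⟨g', hg', hB⟩
      · exact half_of_dvd_lt ((Nat.dvd_of_mul_dvd_mul_left two_pos hB).trans (dvd_mul_left r 3)) hte
      have hle := Nat.le_of_dvd (by positivity) (hgg.trans (mul_dvd_mul hA hB))
      by_contra hcon
      -- otherwise `t` is large
      have hG : ∃ G, g ≤ G ∧ g' ≤ G ∧ 3 * G ≤ t := ⟨max g g', le_max_left _ _, le_max_right _ _, by omega⟩
      obtain ⟨G, hgG, hg'G, hG3⟩ := hG
      have hle2 : 2 ^ t + 1 ≤ (2 ^ G + 1) * (2 ^ G + 1) :=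
        hle.trans (Nat.mul_le_mul (Nat.succ_le_succ (Nat.pow_le_pow_right two_pos hgG))
          (Nat.succ_le_succ (Nat.pow_le_pow_right two_pos hg'G)))
      have h8 : 2 ^ G * 2 ^ G * 2 ^ G ≤ 2 ^ t := by
        rw [← pow_add, ← pow_add]
        exact Nat.pow_le_pow_right two_pos (by omega)
      rcases lt_or_ge G 2 with hG2 | hG2
      · have ht3 : t ≤ 3 := by
          by_contra ht4
          have : 2 ^ 4 ≤ 2 ^ t := Nat.pow_le_pow_right two_pos (by omega)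
          interval_cases G <;> omega
        omega
      · have h4 : 4 ≤ 2 ^ G := (Nat.pow_le_pow_right two_pos hG2 : 2 ^ 2 ≤ 2 ^ G)
        generalize 2 ^ G = x at hle2 h8 h4
        generalize 2 ^ t = y at hle2 h8
        nlinarith
    rcases Nat.eq_or_lt_of_le hst with hst' | hst'
    · omega
    have h4 : 2 ^ (3 * r + r) < 2 ^ (2 * t + s) := by
      refine lt_of_le_of_lt (hlow.trans hup)
        (lt_of_lt_of_eq (upper_lt_sq (by positivity) (Nat.pow_lt_pow_right one_lt_two hst')) ?_)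
      rw [← pow_mul, ← pow_add, mul_comm t 2]
    have h5 := (Nat.pow_lt_pow_iff_right one_lt_two).1 h4
    omega

end Cfsg.Agent.GoodInvol.FieldBound
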