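import Cfsg.Agent.Lib.GoodInvol.FixParams
import Cfsg.Agent.Lib.GoodInvol.FieldBound
import Cfsg.Agent.Lib.GoodInvol.Kernel

/-!
# Nested fixed point sets of commuting involutions are equal

If `u`, `v` commute and each fixes two points, with every point fixed by `u` fixed by `v`, then the members commuting
with `u` lift to ones commuting with both, so the number of points fixed by `u` divides the order of the group induced
on those fixed by `v`; the counts at `u` and at `v` then exclude a proper inclusion.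
-/

set_option autoImplicit false
set_option linter.style.haveILetI false
set_option linter.unusedSectionVars false

namespace Cfsg.Agent.GoodInvol

open Subgroup MulAction

universe u

variable {G : Type u} [Group G] [Finite G] {Ω : Type u} [MulAction G Ω] [Finite Ω] [FaithfulSMul G Ω] {D : Set G}

namespace Crit

variable (h : Crit D Ω) (hB : Below.{u} (Nat.card G)) (hgen : closure D = ⊤)
include h hB hgen

/-- An image on the fixed points of `u` has a lift commuting with an involution fixing them all. -/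
theorem exists_kap_commute {u v : G} (hu : orderOf u = 2) (hub : ¬ OneFix Ω u) (hv : orderOf v = 2)
    (huv : Commute u v) (hsub : ∀ z : Ω, u • z = z → v • z = z) {a : Ω} (ha : u • a = a)
    {T E : Subgroup G} (hT : T ≤ ptC u a) (hE : ESet D u a T E) {d : G} (hd : d ∈ cmem D u) :
    ∃ c ∈ kap D Ω u d, Commute c v := by
  classical
  have hodd : Odd (kap D Ω u d).ncard := by
    have h1 := h.odd_cdat hu ha
    rw [h.card_cdat_kap hB hgen hu hub ha hE hT hd] at h1
    exact (Nat.odd_mul.1 h1).2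
  by_contra hcon
  push Not at hcon
  have hvv := Invol.inv_self hv
  refine Nat.not_even_iff_odd.2 hodd (even_ncard_of_invol (Set.toFinite _) (fun c => v * c * v⁻¹)
    (fun c hc => ⟨⟨h.conj v c hc.1.1, ?_⟩, fun z hz => ?_⟩) (fun c _ => ?_) fun c hc e => hcon c hc ?_)
  · exact ((huv.symm.mul_left hc.1.2).mul_left huv.symm.inv_left)
  · have hcz : u • c • z = c • z := by rw [← mul_smul, ← hc.1.2.eq, mul_smul, hz]
    rw [mul_smul, mul_smul, inv_smul_eq_iff.2 (hsub z hz).symm, hsub _ hcz]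
    exact hc.2 z hz
  · show v * (v * c * v⁻¹) * v⁻¹ = c
    rw [hvv, ← mul_assoc, ← mul_assoc, Invol.mul_self hv, one_mul, mul_assoc, Invol.mul_self hv, mul_one]
  · exact (mul_inv_eq_iff_eq_mul.1 (show v * c * v⁻¹ = c from e)).symm

/-- The elementary subgroup at `u` is no larger than the one at an involution fixing more. -/
theorem card_eset_le_of_subset {u v : G} (hu : orderOf u = 2) (hub : ¬ OneFix Ω u) (hv : orderOf v = 2)
    (huv : Commute u v) (hsub : ∀ z : Ω, u • z = z → v • z = z) {a : Ω} (ha : u • a = a)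
    {T E : Subgroup G} (hT : T ≤ ptC u a) (hE : ESet D u a T E) {T' E' : Subgroup G} (hT' : T' ≤ ptC v a)
    (hE' : ESet D v a T' E') : Nat.card E ≤ Nat.card E' := by
  classical
  have key : ∀ e : E, ∃ f : E', ((e : G) = 1 → f = 1) ∧
      ((e : G) ≠ 1 → (f : G) ≠ 1 ∧ ∀ z : Ω, u • z = z → (f : G) • z = (e : G) • z) := by
    intro e
    by_cases he : (e : G) = 1
    · exact ⟨1, fun _ => rfl, fun h1 => absurd he h1⟩
    have heD : (e : G) ∈ D := (((hE.mem e).1 e.2).resolve_left he).1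
    obtain ⟨hew, hea⟩ := mem_ptC.1 (hT (hE.le e.2))
    obtain ⟨c, hc, hcv⟩ := h.exists_kap_commute hB hgen hu hub hv huv hsub ha hT hE (d := (e : G)) ⟨heD, hew⟩
    obtain ⟨f, hf, hfD, hfz⟩ := hE'.lift c hc.1.1 (mem_ptC.2 ⟨hcv, by rw [hc.2 a ha, hea]⟩)
    refine ⟨⟨f, hf⟩, fun h1 => absurd h1 he, fun _ => ⟨Invol.ne_one (h.invol f hfD), fun z hz => ?_⟩⟩
    show f • z = (e : G) • z
    rw [hfz z (hsub z hz), hc.2 z hz]
  choose f hf1 hf using key
  refine Nat.card_le_card_of_injective f fun e e' hee => Subtype.ext ?_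
  by_cases he : (e : G) = 1 <;> by_cases he' : (e' : G) = 1
  · rw [he, he']
  · exact absurd (show (f e' : G) = 1 by rw [← hee, hf1 e he]; rfl) (hf e' he').1
  · exact absurd (show (f e : G) = 1 by rw [hee, hf1 e' he']; rfl) (hf e he).1
  · refine hE.inj _ e.2 _ e'.2 fun z hz => ?_
    rw [← (hf e he).2 z hz, hee, (hf e' he').2 z hz]

/-- The number of points fixed by `u` divides the order of the group induced on those fixed by `v`. -/
theorem card_fix_dvd_induced {u v : G} (hu : orderOf u = 2) (hub : ¬ OneFix Ω u) (hv : orderOf v = 2)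
    (huv : Commute u v) (hsub : ∀ z : Ω, u • z = z → v • z = z) {a : Ω} (ha : u • a = a)
    {T E : Subgroup G} (hT : T ≤ ptC u a) (hE : ESet D u a T E) :
    (fixSet Ω u).ncard ∣ Nat.card (induced (cenD D v) (fixSub Ω v)) := by
  classical
  haveI : Nonempty Ω := ⟨a⟩
  set C := Subgroup.centralizer ({v} : Set G) with hC
  set π := toPermHom C (fixSub Ω v) with hπ
  set D2 : Set C := {c : C | (c : G) ∈ D ∧ Commute (c : G) u} with hD2
  set K := (closure D2).map π with hK
  have hCrit : Crit (cenD D v) (fixSub Ω v) := h.centralizer hv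
  have hKI : K ≤ induced (cenD D v) (fixSub Ω v) :=
    map_mono (closure_mono fun c (hc : c ∈ D2) => hc.1)
  have hat : ∀ p : Ω, u • p = p → ∃ c : C, c ∈ D2 ∧ (c : G) • p = p := by
    intro p hp
    obtain ⟨d, hd, hdu⟩ := Set.nonempty_of_ncard_ne_zero (h.odd_cdat hu hp).pos.ne'
    obtain ⟨c, hc, hcv⟩ := h.exists_kap_commute hB hgen hu hub hv huv hsub ha hT hE (d := d) ⟨hd.1, hdu⟩
    exact ⟨⟨c, mem_centralizer_singleton_iff.2 hcv.eq⟩, ⟨hc.1.1, hc.1.2⟩, by
      show c • p = p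
      rw [hc.2 p hp, hd.2]⟩
  set aF : fixSub Ω v := ⟨a, hsub a ha⟩ with haF
  have horb : orbit K aF = {z : fixSub Ω v | u • (z : Ω) = z} := by
    ext z
    constructor
    · rintro ⟨g, rfl⟩
      obtain ⟨k, hk, hkg⟩ := mem_map.1 g.2
      have hku : Commute (k : G) u := by
        clear hkg
        induction hk using Subgroup.closure_induction with
        | mem c hc => exact hc.2
        | one => exact Commute.one_left u
        | mul c c' _ _ ihc ihc' => exact ihc.mul_left ihc'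
        | inv c _ ihc => exact ihc.inv_left
      show u • ((g : Equiv.Perm (fixSub Ω v)) aF : Ω) = ((g : Equiv.Perm (fixSub Ω v)) aF : Ω)
      rw [← hkg]
      show u • (k : G) • a = (k : G) • a
      rw [← mul_smul, ← hku.eq, mul_smul, ha]
    · intro hz
      by_cases hza : z = aF
      · rw [hza]; exact mem_orbit_self _
      obtain ⟨c, hc, hca⟩ := hat a ha
      obtain ⟨c', hc', hcz⟩ := hat z hz
      obtain ⟨g, hg, -, hgz⟩ := hCrit.exists_conj (d := c) (e := c') hc.1 hc'.1 (x := aF) (y := z)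
        (Subtype.ext hca) (Subtype.ext hcz) (Ne.symm hza)
      exact ⟨⟨π g, mem_map_of_mem π (closure_mono (Set.insert_subset hc (Set.singleton_subset_iff.2 hc')) hg)⟩, hgz⟩
  have hc := Nat.card_congr (MulAction.orbitProdStabilizerEquivGroup K aF)
  rw [Nat.card_prod, horb, Nat.card_coe_set_eq] at hc
  have e : ({z : fixSub Ω v | u • (z : Ω) = z}).ncard = (fixSet Ω u).ncard := by
    rw [← Set.ncard_image_of_injective _ Subtype.val_injective]
    congr 1
    ext z
    exact ⟨fun ⟨w, hw, e⟩ => e ▸ hw, fun hz => ⟨⟨z, hsub z hz⟩, hz, rfl⟩⟩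
  rw [e] at hc
  exact (Dvd.intro _ hc).trans (card_dvd_of_le hKI)

/-- Nested fixed point sets of two commuting involutions are equal. -/
theorem fix_eq_of_subset {u v : G} (hu : orderOf u = 2) (hub : ¬ OneFix Ω u) (hv : orderOf v = 2)
    (hvb : ¬ OneFix Ω v) (huv : Commute u v) (hsub : ∀ z : Ω, u • z = z → v • z = z) :
    ∀ z : Ω, v • z = z → u • z = z := by
  classical
  by_contra! hcon
  obtain ⟨x, hvx, hux⟩ := hcon
  obtain ⟨a, ha⟩ : ∃ a : Ω, u • a = a := by
    have hb := hub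
    unfold OneFix at hb
    push Not at hb
    exact ⟨_, hb.choose_spec.choose_spec.1⟩
  have hva := hsub a ha
  haveI : Fact (Nat.Prime 2) := ⟨Nat.prime_two⟩
  obtain ⟨Tu⟩ := (inferInstance : Nonempty (Sylow 2 (ptC u a)))
  obtain ⟨Tv⟩ := (inferInstance : Nonempty (Sylow 2 (ptC v a)))
  obtain ⟨E, hE⟩ := h.exists_eset hB hgen hu hub ha Tu
  obtain ⟨E', hE'⟩ := h.exists_eset hB hgen hv hvb hva Tv
  obtain ⟨s, eu, hPu, hfu, hqu⟩ := h.exists_fix_params hB hgen hu hub ha (map_subtype_le _) hE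
  obtain ⟨r, e, hP, hfv, hqv⟩ := h.exists_fix_params hB hgen hv hvb hva (map_subtype_le _) hE'
  set t := eu * s with ht
  have hsub' : fixSet Ω u ⊂ fixSet Ω v :=
    (Set.ssubset_iff_of_subset fun z hz => hsub z hz).2 ⟨x, hvx, hux⟩
  have hlt : t < e * r := by
    have := Set.ncard_lt_ncard hsub' (Set.toFinite _)
    rw [hfu, hfv] at this
    exact (Nat.pow_lt_pow_iff_right one_lt_two).1 (by omega)
  have heu : 1 ≤ eu := by rcases hPu.dvd with ⟨rfl, -⟩ | ⟨rfl, -⟩ | ⟨rfl, -⟩ <;> omega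
  have hs2 := hPu.two_le
  have hst : s ≤ t := Nat.le_mul_of_pos_left s heu
  have hsr : s ≤ r := by
    have := h.card_eset_le_of_subset hB hgen hu hub hv huv hsub ha (map_subtype_le _) hE (map_subtype_le _) hE'
    rw [hqu, hqv] at this
    exact (Nat.pow_le_pow_iff_right (le_refl 2)).1 this
  have hdvd := h.card_fix_dvd_induced hB hgen hu hub hv huv hsub ha (map_subtype_le _) hE
  rw [hfu] at hdvd
  -- the count at `u`
  obtain ⟨d, hd, hdu⟩ := Set.nonempty_of_ncard_ne_zero (h.odd_cdat hu ha).pos.ne'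
  have hdc : d ∈ cmem D u := ⟨hd.1, hdu⟩
  obtain ⟨d', hd', hdv⟩ := Set.nonempty_of_ncard_ne_zero (h.odd_cdat hv hva).pos.ne'
  have hdc' : d' ∈ cmem D v := ⟨hd'.1, hdv⟩
  obtain ⟨y, hy⟩ : ∃ y : Ω, v • y ≠ y := by
    by_contra! hall
    exact Invol.ne_one hv (FaithfulSMul.eq_of_smul_eq_smul (α := Ω) fun z => by rw [hall z, one_smul])
  have nu := Set.ncard_add_ncard_compl (fixSet Ω u)
  have nv := Set.ncard_add_ncard_compl (fixSet Ω v)
  have cu := h.card_moved_eq hB hgen hu hub ha hux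
  rw [h.card_cdat_kap hB hgen hu hub ha hE (map_subtype_le _) hdc, hfu, hqu, Nat.add_sub_cancel] at cu
  have hle := h.card_kap_le_csig hB hgen hu hub ha hux hdc
  have hκ : 0 < (kap D Ω u d).ncard := Nat.pos_of_ne_zero fun e0 => by
    have := (h.odd_cdat hu ha).pos
    rw [h.card_cdat_kap hB hgen hu hub ha hE (map_subtype_le _) hdc, e0, mul_zero] at this
    omega
  have hup : (fixSet Ω u)ᶜ.ncard ≤ (2 ^ t + 1) * (2 ^ s - 1) * 2 ^ t := by
    refine Nat.le_of_mul_le_mul_right ?_ (lt_of_lt_of_le hκ hle)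
    rw [cu]
    calc (2 ^ t + 1) * ((2 ^ s - 1) * (kap D Ω u d).ncard) * 2 ^ t
        = (2 ^ t + 1) * (2 ^ s - 1) * 2 ^ t * (kap D Ω u d).ncard := by ring
      _ ≤ _ := Nat.mul_le_mul_left _ hle
  -- the count at `v`
  have cv := h.card_moved_eq hB hgen hv hvb hva hy
  rw [h.card_cdat_kap hB hgen hv hvb hva hE' (map_subtype_le _) hdc', hfv, hqv, Nat.add_sub_cancel] at cv
  obtain ⟨kx, hk1, hk2, hkx, -, hι, hcf⟩ := h.exists_centre_count hB hgen hv hvb hy hdc'
  rw [hk1, hk2] at cv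
  rw [hfv] at hcf
  have hlow : (2 ^ r - 1) * 2 ^ (e * r) ≤ (fixSet Ω v)ᶜ.ncard := by
    refine Nat.le_of_mul_le_mul_right ?_ (Nat.succ_pos (2 ^ (e * r)))
    refine le_trans ?_ (Nat.mul_le_mul_left _ hcf)
    refine Nat.le_of_mul_le_mul_right ?_ hkx.pos
    calc (2 ^ r - 1) * 2 ^ (e * r) * (2 ^ (e * r) + 1) * kx
        ≤ (2 ^ r - 1) * 2 ^ (e * r) * (2 ^ (e * r) + 1) * kx * iota Ω v y :=
          Nat.le_mul_of_pos_right _ (odd_iota v y).pos
      _ = (2 ^ (e * r) + 1) * ((2 ^ r - 1) * (iota Ω v y * kx)) * 2 ^ (e * r) := by ring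
      _ = _ := by rw [← cv]; ring
  rw [hfu] at nu
  rw [hfv] at nv
  refine FieldBound.false_of_bounds (N := Nat.card Ω - 1) (le_trans (by omega : 1 ≤ s) hst) hP.two_le hst hsr hlt
    ?_ ?_ ?_
  · rcases hP.dvd with ⟨h1, h2⟩ | ⟨h1, -, h2⟩ | ⟨h1, h2⟩
    · exact Or.inl ⟨h1, hdvd.trans h2⟩
    · exact Or.inr (Or.inl ⟨h1, hdvd.trans h2⟩)
    · exact Or.inr (Or.inr ⟨h1, hdvd.trans h2⟩)
  · have e1 : 2 ^ t * (2 ^ s + 2 ^ t * (2 ^ s - 1)) = 2 ^ t + (2 ^ t + 1) * (2 ^ s - 1) * 2 ^ t := by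
      obtain ⟨b, hb⟩ := Nat.exists_eq_add_of_le (Nat.one_le_two_pow (n := s))
      rw [hb, Nat.add_sub_cancel_left]; ring
    rw [e1]
    omega
  · have e1 : 2 ^ (e * r + r) = 2 ^ (e * r) + (2 ^ r - 1) * 2 ^ (e * r) := by
      obtain ⟨b, hb⟩ := Nat.exists_eq_add_of_le (Nat.one_le_two_pow (n := r))
      rw [pow_add, hb, Nat.add_sub_cancel_left]; ring
    rw [e1]
    omega

end Crit

end Cfsg.Agent.GoodInvol
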