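import Cfsg.Agent.Lib.GoodInvol.CaseBBase
import Cfsg.Agent.Lib.Suzuki.Out

/-!
# An involution without companion, Suzuki type: the data of the endgame

The outer automorphism group is odd, so `T = ⟨u⟩ × Q`; squaring is one-to-one from the cosets of `E` in `Q` onto
`E` and two commuting elements outside `E` have one square. Hence the automorphisms centralising `E` fix the cosets,
the polar form is non-degenerate, and for eight elements an involutory action on `E` is impossible without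
translations.
-/

set_option autoImplicit false
set_option linter.style.haveILetI false
set_option linter.unusedSectionVars false

namespace Cfsg.Agent.GoodInvol

open Subgroup MulAction

universe u

/-- A proper divisor of eight is at most four. -/
theorem le_four_of_dvd_eight {k : ℕ} (hd : k ∣ 8) (hne : k ≠ 8) : k ≤ 4 := by
  have := Nat.le_of_dvd (by norm_num) hd
  interval_cases k <;> omega

/-- For type Suzuki the outer automorphism group has odd order. -/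
theorem odd_out_of_params {L : Type u} [Group L] [Finite L] (hL : SEBender.IsBender L) {r : ℕ}
    (hP : BenderParams L r 2) : Odd (Nat.card (Cfsg.Out L)) := by
  rcases hL with ⟨F, _, _, ⟨n, hn, hF⟩, ⟨f⟩⟩ | ⟨F, _, _, m, hm, hF, ⟨f⟩⟩ | ⟨F, _, _, n, hn, hF, ⟨f⟩⟩
  · haveI : CharP F 2 := by
      haveI : Fact (Nat.Prime 2) := ⟨Nat.prime_two⟩
      exact charP_of_card_eq_prime_pow hF
    obtain ⟨g⟩ := SEMain.psl_equiv_sl (F := F)
    exact absurd (((params_sl_two hn hF).congr (f.trans g)).unique hP).2 (by norm_num)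
  · have h : Suzuki.SzField F m := ⟨hm, hF⟩
    rw [Suzuki.card_out_congr (f.trans (Suzuki.minorEquiv h).symm).symm, Suzuki.card_out h]
    exact odd_two_mul_add_one m
  · exact absurd (((params_psu hn hF).congr f).unique hP).2 (by norm_num)

variable {G : Type u} [Group G] [Finite G] {Ω : Type u} [MulAction G Ω] [Finite Ω] [FaithfulSMul G Ω] {D : Set G}

/-- Every element of `T` acts as one of `Q`. -/
theorem Crit.hall_suzuki (h : Crit D Ω) (hB : Below.{u} (Nat.card G)) (hgen : closure D = ⊤) {u : G}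
    (hu : orderOf u = 2) (hbad : ¬ OneFix Ω u) {a x : Ω} (ha : u • a = a) (hx : u • x = x) (hxa : x ≠ a)
    {T : Sylow 2 (ptC u a)} {E Q K K1 : Subgroup G} {r : ℕ} (hE : ESet D u a (tSub T) E)
    (hL : Local D u a x (tSub T) E Q K K1 r 2) :
    ∀ t ∈ tSub T, ∃ y ∈ Q, ∀ z : Ω, u • z = z → t • z = y • z := by
  classical
  haveI : Fact (Nat.Prime 2) := ⟨Nat.prime_two⟩
  set I := induced (cenD D u) (fixSub Ω u) with hIdef
  have hI := h.isBender_induced hB hgen hu hbad ha hE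
  obtain ⟨r', e', hP', hfix', hqE'⟩ := h.exists_fix_params hB hgen hu hbad ha (map_subtype_le _) hE
  have hr' : r' = r := Nat.pow_right_injective le_rfl (hqE'.symm.trans hL.card_eset)
  have he' : e' = 2 := by
    subst hr'
    have h1 := hL.card_fix
    rw [hfix'] at h1
    exact Nat.eq_of_mul_eq_mul_right (by have := hL.two_le; omega)
      (Nat.pow_right_injective le_rfl (Nat.add_right_cancel h1))
  subst he' hr'
  have hOut := odd_out_of_params hI hP'
  have hTC : tSub T ≤ ptC u a := map_subtype_le _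
  have hTa : ∀ t ∈ tSub T, t • a = a := fun t ht => (mem_ptC.1 (hTC ht)).2
  intro t ht
  obtain ⟨htu, hta⟩ := mem_ptC.1 (hTC ht)
  obtain ⟨y, ⟨hy, hyx⟩, -⟩ := hL.reg (t • x) (by rw [← mul_smul, ← htu.eq, mul_smul, hx])
    fun e => hxa (MulAction.injective t (e.trans hta.symm))
  refine ⟨y, hy, ?_⟩
  set t' := y⁻¹ * t with ht'
  have ht'T : t' ∈ tSub T := mul_mem (inv_mem (hL.Q_le hy)) ht
  obtain ⟨ht'u, ht'a⟩ := mem_ptC.1 (hTC ht'T)
  have ht'x : t' • x = x := by rw [ht', mul_smul, ← hyx, inv_smul_smul]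
  suffices hfix : ∀ z : Ω, u • z = z → t' • z = z by
    intro z hz
    have := hfix z hz
    rw [ht', mul_smul, inv_smul_eq_iff] at this
    exact this
  -- the automorphism induced on the Bender group is inner
  set c : Equiv.Perm (fixSub Ω u) := fixAct u a ⟨t', mem_ptC.2 ⟨ht'u, ht'a⟩⟩ with hc
  obtain ⟨n, hn⟩ := IsPGroup.iff_orderOf.1 (T.2.map (ptC u a).subtype) ⟨t', ht'T⟩
  rw [Subgroup.orderOf_mk] at hn
  have hcn : c ^ 2 ^ n = 1 := by
    rw [hc, ← map_pow, show (⟨t', mem_ptC.2 ⟨ht'u, ht'a⟩⟩ : ptC u a) ^ 2 ^ n = 1 from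
      Subtype.ext (by simp [← hn, pow_orderOf_eq_one]), map_one]
  have hcI : ∀ l : genC D u, c * genAct D Ω u l * c⁻¹ =
      genAct D Ω u ⟨t' * l * t'⁻¹, h.conj_genC ht'u l.2⟩ := fun l => by
    rw [mul_inv_eq_iff_eq_mul]
    refine Equiv.ext fun q => Subtype.ext ?_
    rw [Equiv.Perm.mul_apply, Equiv.Perm.mul_apply, hc, fixAct_apply, genAct_apply, genAct_apply, fixAct_apply]
    show t' • (l : G) • (q : Ω) = (t' * (l : G) * t'⁻¹) • t' • (q : Ω)
    simp only [← mul_smul, mul_assoc, inv_mul_cancel, mul_one]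
  have hcN : c ∈ normalizer (I : Set (Equiv.Perm (fixSub Ω u))) :=
    Subgroup.mem_normalizer_fintype fun i hi => by
      obtain ⟨l, hl⟩ := genHom_surjective (D := D) (Ω := Ω) u ⟨i, hi⟩
      rw [show i = genAct D Ω u l from (congrArg Subtype.val hl).symm, hcI]
      exact (genHom D Ω u _).2
  set cN : normalizer (I : Set (Equiv.Perm (fixSub Ω u))) := ⟨c, hcN⟩ with hcNd
  set α : MulAut I := I.normalizerMonoidHom cN with hα
  have hαn : α ^ 2 ^ n = 1 := by
    rw [hα, ← map_pow, show cN ^ 2 ^ n = 1 from Subtype.ext hcn, map_one]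
  have hinn : α ∈ Cfsg.Inn I := by
    rw [← QuotientGroup.eq_one_iff]
    refine orderOf_eq_one_iff.1 (Nat.eq_one_of_dvd_coprimes
      (Nat.Coprime.pow_left n (Nat.coprime_two_left.2 hOut)) ?_ (orderOf_dvd_natCard _))
    exact orderOf_dvd_of_pow_eq_one (by rw [← QuotientGroup.mk_pow, hαn, QuotientGroup.mk_one])
  obtain ⟨v, hv⟩ := hinn
  have h1 : (v : Equiv.Perm (fixSub Ω u))⁻¹ * c = 1 := by
    have hCrit : Crit (cenD D u) (fixSub Ω u) := h.centralizer hu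
    refine eq_one_of_comm hCrit (goal_centralizer hB h hgen hu ha)
      (show (⟨a, ha⟩ : fixSub Ω u) ≠ ⟨x, hx⟩ from fun e => hxa (congrArg Subtype.val e).symm) fun i hi => ?_
    have h2' : (v : Equiv.Perm (fixSub Ω u)) * i * (v : Equiv.Perm (fixSub Ω u))⁻¹ = c * i * c⁻¹ :=
      congrArg (fun f : MulAut I => ((f ⟨i, hi⟩ : I) : Equiv.Perm (fixSub Ω u))) hv
    calc (v : Equiv.Perm (fixSub Ω u))⁻¹ * c * i
        = (v : Equiv.Perm (fixSub Ω u))⁻¹ * (c * i * c⁻¹) * c := by group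
      _ = i * ((v : Equiv.Perm (fixSub Ω u))⁻¹ * c) := by rw [← h2']; group
  obtain ⟨l, hl⟩ := genHom_surjective (D := D) (Ω := Ω) u v
  have hlc : ∀ z : Ω, u • z = z → (l : G) • z = t' • z := fun z hz => by
    have h3 : genAct D Ω u l = c := by
      rw [← inv_mul_eq_one.1 h1]
      exact congrArg Subtype.val hl
    have h4 := congrArg (fun f : Equiv.Perm (fixSub Ω u) => ((f ⟨z, hz⟩ : fixSub Ω u) : Ω)) h3
    exact h4
  -- a lift of 2-power order is trivial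
  obtain ⟨k, m, hm, hk⟩ := Nat.exists_eq_two_pow_mul_odd (orderOf_pos (l : G)).ne'
  have hpow : ∀ i : ℕ, ∀ z : Ω, u • z = z → ((l : G) ^ i) • z = (t' ^ i) • z := by
    intro i
    induction i with
    | zero => intro z _; simp
    | succ i ih =>
      intro z hz
      rw [pow_succ, pow_succ, mul_smul, mul_smul, hlc z hz,
        ih _ (by rw [← mul_smul, ← ht'u.eq, mul_smul, hz])]
  have hlm : (l : G) ^ m = 1 := by
    set g := (l : G) ^ m with hg
    have hga : g • a = a := (hpow m a ha).trans ((stabilizer G a).pow_mem ht'a m)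
    have hgx : g • x = x := (hpow m x hx).trans ((stabilizer G x).pow_mem ht'x m)
    have hgord : ∃ j, orderOf g = 2 ^ j := ⟨k, by
      rw [hg, orderOf_pow' _ hm.pos.ne', hk, Nat.gcd_eq_right (dvd_mul_left _ _), Nat.mul_div_cancel _ hm.pos]⟩
    have hgL : g ∈ genC D u := pow_mem l.2 m
    set g0 : ptC u a := ⟨g, mem_ptC.2 ⟨commute_of_genC hgL, hga⟩⟩
    obtain ⟨j, hj⟩ := hgord
    have hP : IsPGroup 2 (zpowers g0) := IsPGroup.of_card (n := j) (by
      rw [Nat.card_zpowers, ← Subgroup.orderOf_coe]; exact hj)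
    obtain ⟨T', hT'⟩ := hP.exists_le_sylow
    obtain ⟨d, hd⟩ := MulAction.exists_smul_eq (ptC u a) T' T
    have hdm : d * g0 * d⁻¹ ∈ (T : Subgroup (ptC u a)) := by
      rw [← hd, Sylow.coe_subgroup_smul]
      exact ⟨g0, hT' (mem_zpowers g0), rfl⟩
    obtain ⟨hdu, hda⟩ := mem_ptC.1 d.2
    have hgQ : (d : G) * g * (d : G)⁻¹ ∈ Q := hL.mem_Q.2 ⟨⟨_, hdm, rfl⟩, h.conj_genC hdu hgL⟩
    have hp : u • (d : G) • x = (d : G) • x := by rw [← mul_smul, ← hdu.eq, mul_smul, hx]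
    obtain ⟨w, ⟨hw, hwp⟩, huniq⟩ := hL.reg _ hp fun e => hxa (MulAction.injective (d : G) (e.trans hda.symm))
    have h5 : (d : G) * g * (d : G)⁻¹ * w = w := huniq _ ⟨mul_mem hgQ hw, by
      rw [mul_smul, hwp, mul_smul, mul_smul, inv_smul_smul, hgx]⟩
    exact conj_eq_one_iff.1 (mul_eq_right.1 h5)
  obtain ⟨j, hj⟩ := exists_pow_eq_self_of_coprime (n := m) (x := t')
    (by rw [hn]; exact Nat.Coprime.pow_right n (Nat.coprime_two_right.2 hm))
  intro z hz
  have h6 : ∀ p : Ω, u • p = p → (t' ^ m) • p = p := fun p hp => by rw [← hpow m p hp, hlm, one_smul]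
  rw [← hj]
  clear hj
  induction j with
  | zero => simp
  | succ j ih => rw [pow_succ, mul_smul, h6 z hz, ih]

namespace BaseCfg

variable {u : G} {a x : Ω} {T : Sylow 2 (ptC u a)} {E Q K K1 : Subgroup G} {r : ℕ}
  (B : BaseCfg D u a x T E Q K K1 r 2)
include B

theorem eight_le : 8 ≤ 2 ^ r := by
  obtain ⟨m, hm⟩ := B.hL.odd_r rfl
  have h3 : 3 ≤ r := by have := B.hL.two_le; omega
  calc 8 = 2 ^ 3 := rfl
    _ ≤ 2 ^ r := Nat.pow_le_pow_right two_pos h3

/-- Squaring is one-to-one on the cosets of `E` outside `E`. -/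
theorem sq_inj {y z : G} (hy : y ∈ Q) (hz : z ∈ Q) (hyE : y ∉ E) (hzE : z ∉ E) (he : y * y = z * z) :
    y⁻¹ * z ∈ E := by
  classical
  obtain ⟨y0, hy0, hy0E⟩ : ∃ y0 ∈ Q, y0 ∉ E := ⟨y, hy, hyE⟩
  have hne : ∀ w ∈ Q, w ∉ E → w * w ≠ 1 := fun w hw hwE e => hwE (B.hL.mem_eset w hw e)
  have hroot : ∀ w : (↑((E : Set G) \ {1}) : Type u), ∃ v ∈ Q, v ∉ E ∧ v * v = (w : G) := by
    intro w
    obtain ⟨k, hk, hkw⟩ := B.hL.K_trans _ (B.hL.sq y0 hy0) w w.2.1 (hne y0 hy0 hy0E) w.2.2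
    refine ⟨k * y0 * k⁻¹, (B.hL.K_normQ k (mem_sup_left hk) y0).2 hy0,
      fun e => hy0E ((B.hL.K_normE k (mem_sup_left hk) y0).1 e), ?_⟩
    rw [← hkw]
    group
  choose ρ hρQ hρE hρ using hroot
  have hsqmul : ∀ w ∈ Q, ∀ f ∈ E, (w * f) * (w * f) = w * w := fun w hw f hf => by
    rw [(B.hL.cen f hf w hw).mul_mul_mul_comm w f, B.hE.sq f hf, mul_one]
  let f : (↑((E : Set G) \ {1}) : Type u) × E → (↑((Q : Set G) \ (E : Set G)) : Type u) := fun p =>
    ⟨ρ p.1 * p.2, Q.mul_mem (hρQ p.1) (B.hL.eset_le p.2.2), fun e => hρE p.1 ((E.mul_mem_cancel_right p.2.2).1 e)⟩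
  have hfinj : Function.Injective f := fun p p' e => by
    have e1 : ρ p.1 * p.2 = ρ p'.1 * p'.2 := congrArg Subtype.val e
    have h1 : p.1 = p'.1 := Subtype.ext (by
      rw [← hρ p.1, ← hρ p'.1, ← hsqmul _ (hρQ p.1) _ p.2.2, e1, hsqmul _ (hρQ p'.1) _ p'.2.2])
    rw [h1] at e1
    exact Prod.ext h1 (Subtype.ext (mul_left_cancel e1))
  have hfb : Function.Bijective f := by
    rw [Nat.bijective_iff_injective_and_card]
    refine ⟨hfinj, ?_⟩
    rw [Nat.card_prod, Nat.card_coe_set_eq, Nat.card_coe_set_eq,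
      Set.ncard_sdiff (show (E : Set G) ⊆ Q from B.hL.eset_le), Set.ncard_sdiff_singleton_of_mem (one_mem E),
      show (Q : Set G).ncard = 2 ^ (2 * r) from (Nat.card_coe_set_eq _).symm.trans B.hL.card_Q,
      show (E : Set G).ncard = 2 ^ r from (Nat.card_coe_set_eq _).symm.trans B.hL.card_eset,
      show Nat.card E = 2 ^ r from B.hL.card_eset, Nat.sub_mul, one_mul, ← pow_add, two_mul]
  obtain ⟨⟨w, f1⟩, hyw⟩ := hfb.2 ⟨y, hy, hyE⟩
  obtain ⟨⟨w', f2⟩, hzw⟩ := hfb.2 ⟨z, hz, hzE⟩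
  have hy' : ρ w * f1 = y := congrArg Subtype.val hyw
  have hz' : ρ w' * f2 = z := congrArg Subtype.val hzw
  have hww : w = w' := Subtype.ext (by
    rw [← hρ w, ← hρ w', ← hsqmul _ (hρQ w) _ f1.2, hy', he, ← hz', hsqmul _ (hρQ w') _ f2.2])
  subst hww
  rw [← hy', ← hz', show (ρ w * (f1 : G))⁻¹ * (ρ w * f2) = (f1 : G)⁻¹ * f2 by group]
  exact mul_mem (inv_mem f1.2) f2.2

/-- Two elements of `T` with one square differ by an element of `⟨u⟩ E`. -/
theorem omega_of_sq {t t' : G} (ht : t ∈ tSub T) (ht' : t' ∈ tSub T) (he : t * t = t' * t') :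
    t⁻¹ * t' ∈ E ∨ u⁻¹ * (t⁻¹ * t') ∈ E := by
  obtain ⟨y, hy, hty, hsq⟩ := B.exists_root ht
  obtain ⟨y', hy', hty', hsq'⟩ := B.exists_root ht'
  have hyy : y⁻¹ * y' ∈ E := by
    have e1 : y * y = y' * y' := hsq.symm.trans (he.trans hsq')
    by_cases hyE : y ∈ E
    · exact mul_mem (inv_mem hyE) (B.hL.mem_eset y' hy' (e1 ▸ B.hE.sq y hyE))
    · refine B.sq_inj hy hy' hyE (fun h' => hyE (B.hL.mem_eset y hy ?_)) e1
      rw [e1]; exact B.hE.sq y' h'
  have huy : Commute u (y⁻¹) := (commute_of_genC (B.hL.Q_gen hy)).symm.inv_right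
  rcases hty with rfl | rfl <;> rcases hty' with rfl | rfl
  · exact Or.inl hyy
  · refine Or.inr ?_
    rwa [show u⁻¹ * (t⁻¹ * (u * y')) = u⁻¹ * (t⁻¹ * u) * y' by group, ← huy.eq, inv_mul_cancel_left]
  · refine Or.inr ?_
    rw [show u⁻¹ * ((u * y)⁻¹ * t') = u⁻¹ * y⁻¹ * u⁻¹ * t' by group, Invol.inv_self B.hu, huy.eq, mul_assoc _ u u,
      Invol.mul_self B.hu, mul_one]
    exact hyy
  · exact Or.inl (by rwa [show (u * y)⁻¹ * (u * y') = y⁻¹ * y' by group])

theorem hcentV : ∀ g : G, (∀ t ∈ tSub T, g * t * g⁻¹ ∈ tSub T) → (∀ z ∈ E, Commute g z) →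
    ∀ t ∈ tSub T, t⁻¹ * (g * t * g⁻¹) ∈ E ∨ u⁻¹ * (t⁻¹ * (g * t * g⁻¹)) ∈ E := by
  intro g hgT hgE t ht
  refine B.omega_of_sq ht (hgT t ht) ?_
  rw [show g * t * g⁻¹ * (g * t * g⁻¹) = g * (t * t) * g⁻¹ by group, (hgE _ (B.sq_T ht)).eq, mul_inv_cancel_right]

theorem hpolar : ∀ y ∈ Q, ∀ c ∈ E, (∀ z ∈ Q, z * y * z⁻¹ * y⁻¹ = 1 ∨ z * y * z⁻¹ * y⁻¹ = c) → y ∈ E := by
  classical
  intro y hy c _ hval
  by_contra hyE
  set C : Set G := {z | z ∈ Q ∧ z * y * z⁻¹ * y⁻¹ = 1} with hC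
  have hcom : ∀ z : G, z * y * z⁻¹ * y⁻¹ = 1 → Commute z y := fun z e =>
    mul_inv_eq_iff_eq_mul.1 (mul_inv_eq_one.1 e)
  have hCsub : C ⊆ (E : Set G) ∪ (fun f => y * f) '' (E : Set G) := by
    rintro z ⟨hz, hzy⟩
    by_cases hzE : z ∈ E
    · exact Or.inl hzE
    refine Or.inr ⟨y⁻¹ * z, B.sq_inj hy hz hyE hzE ?_, mul_inv_cancel_left _ _⟩
    exact B.hL.comm_sq rfl y hy z hz hyE hzE (hcom z hzy).symm
  have hEc : (E : Set G).ncard = 2 ^ r := (Nat.card_coe_set_eq _).symm.trans B.hL.card_eset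
  have hCle : C.ncard ≤ 2 * 2 ^ r := by
    refine (Set.ncard_le_ncard hCsub (Set.toFinite _)).trans ((Set.ncard_union_le _ _).trans ?_)
    have := Set.ncard_image_le (f := fun f => y * f) (E : Set G).toFinite
    omega
  have hQsub : ∃ z1 : G, (Q : Set G) ⊆ C ∪ (fun w => z1 * w) '' C := by
    by_cases hall : (Q : Set G) ⊆ C
    · exact ⟨1, fun z hz => Or.inl (hall hz)⟩
    obtain ⟨z1, hz1, hz1C⟩ := Set.not_subset.1 hall
    refine ⟨z1, fun z hz => ?_⟩
    by_cases hzC : z ∈ C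
    · exact Or.inl hzC
    refine Or.inr ⟨z1⁻¹ * z, ⟨mul_mem (inv_mem hz1) hz, ?_⟩, mul_inv_cancel_left _ _⟩
    have e1 := (hval z hz).resolve_left fun e => hzC ⟨hz, e⟩
    have e2 := (hval z1 hz1).resolve_left fun e => hz1C ⟨hz1, e⟩
    have e3 : z * y * z⁻¹ = z1 * y * z1⁻¹ := mul_right_cancel (b := y⁻¹) (e1.trans e2.symm)
    rw [show z1⁻¹ * z * y * (z1⁻¹ * z)⁻¹ * y⁻¹ = z1⁻¹ * (z * y * z⁻¹) * z1 * y⁻¹ by group, e3]
    group
  obtain ⟨z1, hQ⟩ := hQsub
  have hQc : (Q : Set G).ncard = 2 ^ r * 2 ^ r := by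
    rw [← Nat.card_coe_set_eq, ← pow_add, ← two_mul]; exact B.hL.card_Q
  have h1 := (Set.ncard_le_ncard hQ (Set.toFinite _)).trans (Set.ncard_union_le _ _)
  have h2 := Set.ncard_image_le (f := fun w => z1 * w) C.toFinite
  have h8 := B.eight_le
  have h3 : 8 * 2 ^ r ≤ 2 ^ r * 2 ^ r := Nat.mul_le_mul_right _ h8
  omega

set_option maxHeartbeats 1600000 in
/-- Translations of `u E`. -/
theorem translations (h : Crit D Ω) (hB : Below.{u} (Nat.card G)) (hgen : closure D = ⊤) :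
    ∀ z ∈ E, ∃ g ∈ cosetNorm E u ⊓ stabilizer G a, (∀ w ∈ E, g * w * g⁻¹ = w) ∧ g * u * g⁻¹ = u * z := by
  classical
  haveI : Fact (Nat.Prime 2) := ⟨Nat.prime_two⟩
  rcases B.translations_or h hB hgen with h1 | ⟨h8, -⟩
  · exact h1
  by_contra hno
  set N := cosetNorm E u ⊓ stabilizer G a with hN
  have hNE : ∀ g ∈ N, ∀ w ∈ E, g * w * g⁻¹ ∈ E := fun g hg w hw => (hg.1.1 w).2 hw
  -- no translation at all
  have hnone : ∀ g ∈ N, (∀ w ∈ E, g * w * g⁻¹ = w) → Commute g u := by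
    intro g hg hgE
    by_contra hgu
    set z0 := u⁻¹ * (g * u * g⁻¹) with hz0d
    have hz0 : z0 ∈ E := (hg.1.2 u).2 (by rw [inv_mul_cancel]; exact one_mem E)
    have hz01 : z0 ≠ 1 := fun e => hgu (mul_inv_eq_iff_eq_mul.1 (inv_mul_eq_one.1 e).symm)
    refine hno fun z hz => ?_
    rcases eq_or_ne z 1 with rfl | hz1
    · exact ⟨1, one_mem _, fun w _ => by group, by group⟩
    obtain ⟨k, hk, hkz⟩ := B.hL.K_trans z0 hz0 z hz hz01 hz1
    refine ⟨k * g * k⁻¹, N.mul_mem (N.mul_mem (B.K_nn hk) hg) (N.inv_mem (B.K_nn hk)), fun w hw => ?_, ?_⟩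
    · have hw' := B.conj_E_of_K (inv_mem hk) hw
      rw [show k * g * k⁻¹ * w * (k * g * k⁻¹)⁻¹ = k * (g * (k⁻¹ * w * k⁻¹⁻¹) * g⁻¹) * k⁻¹ by group, hgE _ hw']
      group
    · have hku := B.hL.K_commute_u hk
      calc k * g * k⁻¹ * u * (k * g * k⁻¹)⁻¹ = k * (g * (k⁻¹ * u * k) * g⁻¹) * k⁻¹ := by group
        _ = k * (g * u * g⁻¹) * k⁻¹ := by rw [mul_assoc k⁻¹ u k, ← hku.eq, inv_mul_cancel_left]
        _ = (k * u * k⁻¹) * (k * z0 * k⁻¹) := by rw [hz0d]; group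
        _ = u * z := by rw [hku.eq, mul_inv_cancel_right, hkz]
  -- the action on `E`
  let ρ : N →* MulAut E :=
    { toFun := fun g =>
        { toFun := fun w => ⟨(g : G) * w * (g : G)⁻¹, hNE g g.2 w w.2⟩
          invFun := fun w => ⟨((g⁻¹ : N) : G) * w * ((g⁻¹ : N) : G)⁻¹, hNE _ (g⁻¹ : N).2 w w.2⟩
          left_inv := fun w => Subtype.ext (by simp [mul_assoc])
          right_inv := fun w => Subtype.ext (by simp [mul_assoc])
          map_mul' := fun v w => Subtype.ext (show (g : G) * ((v : G) * w) * (g : G)⁻¹ =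
            ((g : G) * v * (g : G)⁻¹) * ((g : G) * w * (g : G)⁻¹) by group) }
      map_one' := MulEquiv.ext fun w => Subtype.ext (by simp)
      map_mul' := fun g k => MulEquiv.ext fun w => Subtype.ext (by simp [mul_assoc]) }
  have hρ : ∀ (g : N) (w : E), ((ρ g w : E) : G) = (g : G) * w * (g : G)⁻¹ := fun _ _ => rfl
  have hker : ∀ g : N, g ∈ ρ.ker → ∀ w ∈ E, (g : G) * w * (g : G)⁻¹ = w := fun g hg w hw => by
    rw [← hρ g ⟨w, hw⟩, MonoidHom.mem_ker.1 hg]
    rfl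
  have hker' : ∀ g : N, (∀ w ∈ E, (g : G) * w * (g : G)⁻¹ = w) → g ∈ ρ.ker := fun g hg =>
    MonoidHom.mem_ker.2 (MulEquiv.ext fun w => Subtype.ext (hg w w.2))
  -- it has even order
  have heven : 2 ∣ Nat.card ρ.range := by
    have horb : SixInv.orb N u = (fun f => u * f) '' (E : Set G) := by
      ext z
      constructor
      · rintro ⟨g, hg, rfl⟩
        exact ⟨u⁻¹ * (g * u * g⁻¹), (hg.1.2 u).2 (by rw [inv_mul_cancel]; exact one_mem E),
          mul_inv_cancel_left _ _⟩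
      · rintro ⟨f, hf, rfl⟩
        obtain ⟨g, hg, hgu⟩ := h.exists_conj_coset hB hgen B.hu B.hbad B.ha B.tSub_le B.hE hf
        exact ⟨g, hg, hgu⟩
    have h1 := SixInv.orb_card N u
    rw [horb, Set.ncard_image_of_injective _ (mul_right_injective u), ← Nat.card_coe_set_eq,
      show Nat.card (E : Set G) = 8 from h8] at h1
    have h2 : Nat.card ρ.ker ∣ Nat.card ↥(N ⊓ centralizer ({u} : Set G)) := by
      rw [← card_map_of_injective (K := ρ.ker) N.subtype_injective]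
      refine card_dvd_of_le ?_
      rintro _ ⟨g, hg, rfl⟩
      exact ⟨g.2, mem_centralizer_singleton_iff.2 (hnone g g.2 (hker g hg)).eq⟩
    obtain ⟨d, hd⟩ := h2
    have h3 : Nat.card ρ.range * Nat.card ρ.ker = Nat.card N := by
      rw [← Subgroup.index_ker, mul_comm]; exact Subgroup.card_mul_index _
    refine ⟨4 * d, Nat.eq_of_mul_eq_mul_right (Nat.card_pos (α := ρ.ker)) ?_⟩
    rw [h3, ← h1, hd]
    ring
  obtain ⟨⟨_, g0, rfl⟩, hg0⟩ := exists_prime_orderOf_dvd_card' 2 heven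
  rw [← Subgroup.orderOf_coe] at hg0
  change orderOf (ρ g0) = 2 at hg0
  -- an element normalising `T` with this action
  set Y := ρ.ker.map N.subtype with hY
  have hYE : ∀ g ∈ Y, g ∈ N ∧ (∀ w ∈ E, g * w * g⁻¹ = w) := fun g ⟨c, hc, e⟩ => e ▸ ⟨c.2, hker c hc⟩
  have hYu : ∀ g ∈ Y, Commute g u := fun g hg => hnone g (hYE g hg).1 (hYE g hg).2
  have hTY : tSub T ≤ Y := fun t ht => by
    have htN : t ∈ N := ⟨mem_cosetNorm_of_conj (fun w => (Subgroup.mem_normalizer_iff.1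
      (Subgroup.mem_normalizer_fintype (fun w (hw : w ∈ (E : Set G)) =>
        show t * w * t⁻¹ ∈ E by rw [(B.cen_E ht hw).eq, mul_inv_cancel_right]; exact hw)) w).symm)
      (by rw [(B.mem_u ht).eq, mul_inv_cancel_right, inv_mul_cancel]; exact one_mem E),
      mem_stabilizer_iff.2 (B.mem_a ht)⟩
    exact ⟨⟨t, htN⟩, hker' _ fun w hw => by rw [(B.cen_E ht hw).eq, mul_inv_cancel_right], rfl⟩
  set T0 := (tSub T).map (MulAut.conj (g0 : G)).toMonoidHom with hT0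
  have hT0Y : T0 ≤ Y := by
    rintro _ ⟨t, ht, rfl⟩
    obtain ⟨c, hc, e⟩ := hTY ht
    exact ⟨g0 * c * g0⁻¹, (inferInstance : ρ.ker.Normal).conj_mem c hc g0, by rw [← e]; rfl⟩
  obtain ⟨P1, hP1⟩ := ((B.tSub_two.map _).comap_subtype : IsPGroup 2 (T0.subgroupOf Y)).exists_le_sylow
  obtain ⟨P2, hP2⟩ := (B.tSub_two.comap_subtype : IsPGroup 2 ((tSub T).subgroupOf Y)).exists_le_sylow
  have hP2T : (P2 : Subgroup Y).map Y.subtype = tSub T :=
    B.eq_tSub ((map_subtype_le _).trans fun g hg => (hYE g hg).1.2) (P2.2.map _)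
      (fun g ⟨c, _, e⟩ => e ▸ hYu c c.2) fun t ht => ⟨⟨t, hTY ht⟩, hP2 ht, rfl⟩
  obtain ⟨c, hc⟩ := MulAction.exists_smul_eq Y P1 P2
  set g := (c : G) * (g0 : G) with hg
  have hgN : g ∈ N := N.mul_mem (hYE c c.2).1 g0.2
  have hgT : ∀ t ∈ tSub T, g * t * g⁻¹ ∈ tSub T := fun t ht => by
    have h1 : (g0 : G) * t * (g0 : G)⁻¹ ∈ T0 := ⟨t, ht, rfl⟩
    rw [← hP2T]
    refine ⟨c * ⟨_, hT0Y h1⟩ * c⁻¹, ?_, ?_⟩
    · rw [← hc, Sylow.coe_subgroup_smul]
      exact ⟨⟨_, hT0Y h1⟩, hP1 h1, rfl⟩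
    · show (c : G) * ((g0 : G) * t * (g0 : G)⁻¹) * (c : G)⁻¹ = _
      rw [hg]; group
  have hact : ∀ w ∈ E, g * w * g⁻¹ = (g0 : G) * w * (g0 : G)⁻¹ := fun w hw => by
    rw [hg, show (c : G) * g0 * w * ((c : G) * g0)⁻¹ = c * ((g0 : G) * w * (g0 : G)⁻¹) * (c : G)⁻¹ by group,
      (hYE c c.2).2 _ (hNE _ g0.2 w hw)]
  set τ := ρ g0 with hτ
  have hτ1 : τ ≠ 1 := fun e => by rw [e, orderOf_one] at hg0; norm_num at hg0
  have hτ2 : ∀ w : E, τ (τ w) = w := fun w => by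
    have h1 : τ * τ = 1 := Invol.mul_self hg0
    exact MulEquiv.ext_iff.1 h1 w
  -- its fixed points
  let F : Subgroup E :=
    { carrier := {w | τ w = w}
      one_mem' := map_one τ
      mul_mem' := fun {v w} hv hw => by
        show τ (v * w) = v * w
        rw [map_mul, show τ v = v from hv, show τ w = w from hw]
      inv_mem' := fun {v} hv => by
        show τ v⁻¹ = v⁻¹
        rw [map_inv, show τ v = v from hv] }
  have hEc : ∀ v w : E, v * w = w * v := fun v w => Subtype.ext (B.hE.comm v v.2 w w.2).eq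
  let φ : E →* E := MonoidHom.mk' (fun w => w * τ w) fun v w => by
    rw [map_mul, mul_assoc v w, ← mul_assoc w (τ v), hEc w (τ v), mul_assoc (τ v) w, ← mul_assoc v]
  have hsqE : ∀ w : E, w * w = 1 := fun w => Subtype.ext (B.hE.sq w w.2)
  have hφk : φ.ker = F := Subgroup.ext fun w => by
    show w * τ w = 1 ↔ τ w = w
    exact ⟨fun e => mul_left_cancel (e.trans (hsqE w).symm), fun e => by rw [e, hsqE]⟩
  have hφr : φ.range ≤ F := by
    rintro _ ⟨w, rfl⟩
    show τ (w * τ w) = w * τ w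
    rw [map_mul, hτ2, hEc]
  have hF8 : 8 ≤ Nat.card F * Nat.card F := by
    rw [← h8, ← φ.ker.card_mul_index, Subgroup.index_ker, hφk]
    exact Nat.mul_le_mul_left _ (card_le_of_le hφr)
  have hF4 : Nat.card F ≤ 4 := by
    have hd := Subgroup.card_subgroup_dvd_card F
    rw [h8] at hd
    have hne : Nat.card F ≠ 8 := fun e => hτ1 (MulEquiv.ext fun w => by
      have hw : w ∈ F := by rw [Subgroup.eq_top_of_card_eq F (e.trans h8.symm)]; exact mem_top _
      exact hw)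
    exact le_four_of_dvd_eight hd hne
  obtain ⟨⟨pa, hpaF⟩, hpa⟩ : ∃ p : F, p ≠ 1 := by
    haveI : Nontrivial F := Finite.one_lt_card_iff_nontrivial.1 (by
      by_contra h'; have := Nat.mul_le_mul (not_lt.1 h') (not_lt.1 h'); omega)
    exact exists_ne 1
  obtain ⟨pb, hpbF, hpb1, hpba⟩ : ∃ p ∈ F, p ≠ 1 ∧ p ≠ pa := by
    by_contra! hno'
    have h3 : (F : Set E).ncard ≤ ({1, pa} : Set E).ncard := Set.ncard_le_ncard (fun p hp => by
      by_cases hp1 : p = 1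
      · exact Or.inl hp1
      · exact Or.inr (hno' p hp hp1)) (Set.toFinite _)
    have h4 : Nat.card F ≤ 2 := by
      rw [← SetLike.coe_sort_coe, Nat.card_coe_set_eq]
      exact h3.trans ((Set.ncard_insert_le _ _).trans (by rw [Set.ncard_singleton]))
    have := Nat.mul_le_mul h4 h4
    omega
  have hpa1 : pa ≠ 1 := fun e => hpa (Subtype.ext e)
  -- their roots
  obtain ⟨y0, hy0, hy0E⟩ : ∃ y0 ∈ Q, y0 ∉ E := by
    by_contra! hle
    have h1 := Subgroup.card_le_of_le (show Q ≤ E from hle)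
    rw [B.hL.card_Q, B.hL.card_eset] at h1
    have := (Nat.pow_le_pow_iff_right (le_refl 2)).1 h1
    have := B.hL.two_le
    omega
  have hroot : ∀ w : E, w ≠ 1 → ∃ v ∈ Q, v ∉ E ∧ v * v = (w : G) := by
    intro w hw
    obtain ⟨k, hk, hkw⟩ := B.hL.K_trans _ (B.hL.sq y0 hy0) w w.2 (fun e => hy0E (B.hL.mem_eset _ hy0 e))
      fun e => hw (Subtype.ext e)
    refine ⟨k * y0 * k⁻¹, (B.hL.K_normQ k (mem_sup_left hk) y0).2 hy0,
      fun e => hy0E ((B.hL.K_normE k (mem_sup_left hk) y0).1 e), ?_⟩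
    rw [← hkw]
    group
  obtain ⟨ya, hya, hyaE, hyaa⟩ := hroot pa hpa1
  obtain ⟨yb, hyb, hybE, hybb⟩ := hroot pb hpb1
  have hfixF : ∀ w : E, w ∈ F → g * (w : G) * g⁻¹ = w := fun w hw => by
    rw [hact w w.2, ← hρ g0 w]
    exact congrArg Subtype.val hw
  have hmove : ∀ v ∈ Q, g * (v * v) * g⁻¹ = v * v → ∃ o : G, o ∈ tSub T ∧ o * o = 1 ∧
      (∀ t ∈ tSub T, Commute o t) ∧ g * v * g⁻¹ = v * o := by
    intro v hv hfix
    have hvT := B.hL.Q_le hv
    refine ⟨v⁻¹ * (g * v * g⁻¹), mul_mem (inv_mem hvT) (hgT v hvT), ?_, ?_, (mul_inv_cancel_left _ _).symm⟩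
    all_goals
      rcases B.omega_of_sq hvT (hgT v hvT) (by rw [← hfix]; group) with h1 | h1
    · exact B.hE.sq _ h1
    · rw [show v⁻¹ * (g * v * g⁻¹) = u * (u⁻¹ * (v⁻¹ * (g * v * g⁻¹))) from (mul_inv_cancel_left _ _).symm,
        (B.cen_E B.u_mem h1).symm.mul_mul_mul_comm, Invol.mul_self B.hu, B.hE.sq _ h1, one_mul]
    · exact fun t ht => (B.cen_E ht h1).symm
    · intro t ht
      rw [show v⁻¹ * (g * v * g⁻¹) = u * (u⁻¹ * (v⁻¹ * (g * v * g⁻¹))) from (mul_inv_cancel_left _ _).symm]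
      exact (B.mem_u ht).symm.mul_left (B.cen_E ht h1).symm
  obtain ⟨oa, hoaT, hoa2, hoac, hoa⟩ := hmove ya hya (by rw [hyaa]; exact hfixF pa hpaF)
  obtain ⟨ob, hobT, hob2, hobc, hob⟩ := hmove yb hyb (by rw [hybb]; exact hfixF pb hpbF)
  set w := ya * yb with hw
  have hwQ : w ∈ Q := mul_mem hya hyb
  have hwfix : g * (w * w) * g⁻¹ = w * w := by
    have e1 : g * w * g⁻¹ = w * (oa * ob) := by
      rw [hw, show g * (ya * yb) * g⁻¹ = (g * ya * g⁻¹) * (g * yb * g⁻¹) by group, hoa, hob,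
        mul_assoc ya oa, ← mul_assoc oa yb, (hoac yb (B.hL.Q_le hyb)).eq, mul_assoc yb oa, mul_assoc]
    have hc : Commute (oa * ob) w := (hoac w (B.hL.Q_le hwQ)).mul_left (hobc w (B.hL.Q_le hwQ))
    rw [show g * (w * w) * g⁻¹ = (g * w * g⁻¹) * (g * w * g⁻¹) by group, e1, hc.mul_mul_mul_comm,
      (hoac ob hobT).symm.mul_mul_mul_comm, hoa2, hob2, one_mul, mul_one]
  set pw : E := ⟨w * w, B.hL.sq w hwQ⟩ with hpw
  have hpwF : pw ∈ F := Subtype.ext (by
    show ((τ pw : E) : G) = w * w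
    rw [hτ, hρ, ← hact _ pw.2]
    exact hwfix)
  have hwE : w ∉ E := fun hwE => by
    refine hpba (Subtype.ext ?_)
    rw [← hybb, ← hyaa, show yb = ya⁻¹ * w by rw [hw, inv_mul_cancel_left],
      (B.hL.cen w hwE _ (inv_mem hya)).mul_mul_mul_comm, B.hE.sq w hwE, mul_one, ← mul_inv_rev,
      inv_eq_of_mul_eq_one_left (B.hE.sq _ (B.hL.sq ya hya))]
  have hne1 : pw ≠ 1 := fun e => hwE (B.hL.mem_eset w hwQ (congrArg Subtype.val e))
  have hnea : pw ≠ pa := fun e => hybE (by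
    have h1 := B.sq_inj hya hwQ hyaE hwE (hyaa.trans (congrArg Subtype.val e).symm)
    rwa [hw, inv_mul_cancel_left] at h1)
  have hneb : pw ≠ pb := fun e => hyaE (by
    have h1 := B.sq_inj hyb hwQ hybE hwE (hybb.trans (congrArg Subtype.val e).symm)
    have h2 : ya = yb * ((yb⁻¹ * w) * yb⁻¹) := by rw [hw]; group
    rw [h2, (B.hL.cen _ h1 _ (inv_mem hyb)).eq, mul_inv_cancel_left]
    exact h1)
  -- so the fixed points are four and the roots commute
  have hall : ∀ p ∈ F, p = 1 ∨ p = pa ∨ p = pb ∨ p = pa * pb := by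
    intro p hp
    by_contra hcon
    push Not at hcon
    obtain ⟨hc1, hc2, hc3, hc4⟩ := hcon
    have hab1 : pa * pb ≠ 1 := fun e => hpba (mul_left_cancel (e.trans (hsqE pa).symm))
    have habA : pa * pb ≠ pa := fun e => hpb1 (mul_eq_left.1 e)
    have habB : pa * pb ≠ pb := fun e => hpa1 (mul_eq_right.1 e)
    have hsub : ({1, pa, pb, pa * pb, p} : Finset E) ⊆ (F : Set E).toFinite.toFinset := by
      intro q hq
      simp only [Finset.mem_insert, Finset.mem_singleton] at hq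
      rw [Set.Finite.mem_toFinset]
      rcases hq with rfl | rfl | rfl | rfl | rfl
      exacts [one_mem F, hpaF, hpbF, mul_mem hpaF hpbF, hp]
    have h5 := Finset.card_le_card hsub
    rw [← Set.ncard_eq_toFinset_card _ (Set.toFinite _), ← Nat.card_coe_set_eq] at h5
    have h6 : ({1, pa, pb, pa * pb, p} : Finset E).card = 5 := by
      rw [Finset.card_insert_of_notMem (by simp [Ne.symm hpa1, Ne.symm hpb1, Ne.symm hab1, Ne.symm hc1]),
        Finset.card_insert_of_notMem (by simp [Ne.symm hpba, Ne.symm habA, Ne.symm hc2]),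
        Finset.card_insert_of_notMem (by simp [Ne.symm habB, Ne.symm hc3]),
        Finset.card_insert_of_notMem (by simp [Ne.symm hc4]), Finset.card_singleton]
    rw [h6, SetLike.coe_sort_coe] at h5
    omega
  rcases hall pw hpwF with e | e | e | e
  · exact hne1 e
  · exact hnea e
  · exact hneb e
  have h1 : w * w = (ya * ya) * (yb * yb) := by
    rw [hyaa, hybb]; exact congrArg Subtype.val e
  have hcab : Commute ya yb := by
    have h2 : ya * (yb * ya) * yb = ya * (ya * yb) * yb := by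
      calc ya * (yb * ya) * yb = w * w := by rw [hw]; group
        _ = _ := by rw [h1]; group
    exact (mul_left_cancel (mul_right_cancel h2)).symm
  refine hpba (Subtype.ext ?_)
  rw [← hyaa, ← hybb]
  exact (B.hL.comm_sq rfl ya hya yb hyb hyaE hybE hcab).symm

end BaseCfg

/-- The data of the endgame for the type Suzuki. -/
theorem Crit.exists_xcfg_suzuki (h : Crit D Ω) (hB : Below.{u} (Nat.card G)) (hgen : closure D = ⊤) {u : G}
    (hu : orderOf u = 2) (hbad : ¬ OneFix Ω u) {a x : Ω} (ha : u • a = a) (hx : u • x = x) (hxa : x ≠ a)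
    {T : Sylow 2 (ptC u a)} {E Q K K1 : Subgroup G} {r : ℕ} (hE : ESet D u a (tSub T) E)
    (hL : Local D u a x (tSub T) E Q K K1 r 2) (hW : ∀ g ∈ wker Ω u (tSub T), g = 1 ∨ g = u) :
    ∃ X K' : Subgroup G, XCfg (stabilizer G a) X (tSub T) E u ∧ 3 ≤ r ∧ Odd r ∧ Nat.card E = 2 ^ r ∧
      Nat.card (tSub T) = 2 * 2 ^ r * 2 ^ r ∧ Nat.card X = 2 * 2 ^ r * 2 ^ r * 2 ^ r ∧
      K' ≤ xNorm (stabilizer G a) X E ∧ Odd (Nat.card K') ∧ (∀ k ∈ K', Commute k u) ∧
      (xKer (stabilizer G a) X E).relIndex K' = 2 ^ r - 1 ∧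
      ∀ k ∈ K', ∀ y ∈ X, y⁻¹ * (k * y * k⁻¹) ∈ E → k ∈ xKer (stabilizer G a) X E ∨ y ∈ E ∨ u⁻¹ * y ∈ E := by
  have B : BaseCfg D u a x T E Q K K1 r 2 :=
    ⟨hu, hbad, ha, hx, hxa, hE, hL, hW, h.hall_suzuki hB hgen hu hbad ha hx hxa hE hL⟩
  obtain ⟨S, hX, hcard⟩ := B.exists_x h hB (B.translations h hB hgen)
    (fun S _ hn _ g hg => B.hcentV g (hn g hg) fun z hz =>
      (mem_centralizer_iff.1 (map_subtype_le _ hg : g ∈ cSub u a E).2 z hz).symm) B.hpolar
  obtain ⟨K', hK', hodd, hKu, hrel, hfree⟩ := B.exists_torus_x h (by norm_num) hX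
  have hodd_r := hL.odd_r rfl
  have hr3 : 3 ≤ r := by
    obtain ⟨m, hm⟩ := hodd_r
    have := hL.two_le
    omega
  have hpow : 2 ^ (2 * r) = 2 ^ r * 2 ^ r := by rw [← pow_add, two_mul]
  refine ⟨xSub S, K', hX, hr3, hodd_r, hL.card_eset, ?_, ?_, hK', hodd, hKu, hrel, hfree⟩
  · rw [B.card_T, hpow, mul_assoc]
  · rw [hcard, hpow]; ring

end Cfsg.Agent.GoodInvol
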