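import Cfsg.Agent.Lib.GoodInvol.Local

/-!
# The centre of the regular subgroup

In every Bender group an element central in a Sylow 2-subgroup squares to one, so the elements central in the regular
subgroup lie in the elementary subgroup, for every type.
-/

set_option autoImplicit false
set_option linter.style.haveILetI false
set_option linter.unusedSectionVars false

namespace Cfsg.Agent.GoodInvol

open Subgroup MulAction

universe u

theorem psu_center_sq {F : Type} [Field F] [Fintype F] {n : ℕ} (hn : 2 ≤ n) (hF : Fintype.card F = (2 ^ n) ^ 2)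
    (P : Sylow 2 (Cfsg.PSU 3 F (2 ^ n))) :
    ∀ y ∈ (P : Subgroup (Cfsg.PSU 3 F (2 ^ n))), (∀ z ∈ (P : Subgroup (Cfsg.PSU 3 F (2 ^ n))), Commute y z) →
      y * y = 1 := by
  classical
  obtain ⟨_, σ, _, hne, hσ, hq⟩ := SU3Sylow.setup (by omega : 1 ≤ n) hF
  obtain ⟨f⟩ := SU3Sylow.sylow_PSU_equiv hne (by omega) hσ hq P
  intro y hy hyc
  have hc : f ⟨y, hy⟩ ∈ Subgroup.center (SU3Sylow.Heis σ) := Subgroup.mem_center_iff.2 fun z => by
    obtain ⟨z, rfl⟩ := f.surjective z
    rw [← map_mul, ← map_mul]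
    exact congrArg f (Subtype.ext (hyc z z.2).symm.eq)
  refine congrArg Subtype.val (show (⟨y, hy⟩ : (P : Subgroup (Cfsg.PSU 3 F (2 ^ n)))) * ⟨y, hy⟩ = 1 from
    f.injective ?_)
  rw [map_mul, map_one, SU3Sylow.Heis.mul_self_eq_one_iff]
  exact (SU3Sylow.Heis.mem_center_iff hne _).1 hc

/-- An element central in a Sylow 2-subgroup of a Bender group squares to one. -/
theorem bender_center_sq {L : Type u} [Group L] [Finite L] (hL : SEBender.IsBender L) (P : Sylow 2 L) :
    ∀ y ∈ (P : Subgroup L), (∀ z ∈ (P : Subgroup L), Commute y z) → y * y = 1 := by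
  haveI : Fact (Nat.Prime 2) := ⟨Nat.prime_two⟩
  rcases hL with ⟨F, _, _, ⟨n, hn, hF⟩, ⟨f⟩⟩ | ⟨F, _, _, m, hm, hF, ⟨f⟩⟩ | ⟨F, _, _, n, hn, hF, ⟨f⟩⟩
  · haveI : CharP F 2 := charP_of_card_eq_prime_pow hF
    obtain ⟨g⟩ := SEMain.psl_equiv_sl (F := F)
    exact (((torus_sl_two hn hF).congr (f.trans g)) P).center (by norm_num)
  · have h : Suzuki.SzField F m := ⟨hm, hF⟩
    exact (((torus_sz h).congr (f.trans (Suzuki.minorEquiv h).symm)) P).center (by norm_num)
  · intro y hy hyc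
    set P' := P.mapSurjective (f := f.toMonoidHom) f.surjective with hP'
    have hm : ∀ z, z ∈ (P : Subgroup L) → f z ∈ (P' : Subgroup (Cfsg.PSU 3 F (2 ^ n))) :=
      fun z hz => ⟨z, hz, rfl⟩
    refine f.injective ?_
    rw [map_mul, map_one]
    refine psu_center_sq hn hF P' _ (hm y hy) ?_
    rintro _ ⟨z, hz, rfl⟩
    exact (hyc z hz).map f

variable {G : Type u} [Group G] [Finite G] {Ω : Type u} [MulAction G Ω] [Finite Ω] [FaithfulSMul G Ω] {D : Set G}

namespace Crit

variable (h : Crit D Ω) (hB : Below.{u} (Nat.card G)) (hgen : closure D = ⊤)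
include h hB hgen

/-- The centre of the regular subgroup lies in the elementary subgroup. -/
theorem local_center {w : G} (hw : orderOf w = 2) (hbad : ¬ OneFix Ω w) {a x0 : Ω} (ha : w • a = a)
    (hx0 : w • x0 = x0) (hxa : x0 ≠ a) (T : Sylow 2 (ptC w a)) {E Q K K1 : Subgroup G} {r ε : ℕ}
    (hE : ESet D w a ((T : Subgroup (ptC w a)).map (ptC w a).subtype) E)
    (hL : Local D w a x0 ((T : Subgroup (ptC w a)).map (ptC w a).subtype) E Q K K1 r ε) :
    ∀ y ∈ Q, (∀ z ∈ Q, Commute y z) → y ∈ E := by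
  classical
  haveI : Fact (Nat.Prime 2) := ⟨Nat.prime_two⟩
  set T' := (T : Subgroup (ptC w a)).map (ptC w a).subtype with hT'
  have hT : T' ≤ ptC w a := map_subtype_le _
  obtain ⟨r', e', hP', hf', -⟩ := h.exists_fix_params hB hgen hw hbad ha hT hE
  set ρ : Q →* induced (cenD D w) (fixSub Ω w) := (genHom D Ω w).comp (inclusion hL.Q_gen) with hρ
  have hinj : Function.Injective ρ := fun y z e => by
    have h1 : (y : G) • x0 = (z : G) • x0 := genHom_eq_iff.1 e x0 hx0
    obtain ⟨v, -, hv⟩ := hL.reg ((y : G) • x0) (by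
      rw [← mul_smul, ← (commute_of_genC (hL.Q_gen y.2)).eq, mul_smul, hx0]) fun e' =>
        hxa (MulAction.injective (y : G) (e'.trans (mem_ptC.1 (hT (hL.Q_le y.2))).2.symm))
    exact Subtype.ext ((hv y ⟨y.2, rfl⟩).trans (hv z ⟨z.2, h1.symm⟩).symm)
  obtain ⟨P, hP⟩ := (((T.2.map _).to_le hL.Q_le).of_surjective ρ.rangeRestrict ρ.rangeRestrict_surjective :
    IsPGroup 2 ρ.range).exists_le_sylow
  have hPρ : (P : Subgroup (induced (cenD D w) (fixSub Ω w))) = ρ.range := by
    refine (eq_of_le_of_card_ge hP ?_).symm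
    rw [Nat.card_congr (MonoidHom.ofInjective hinj).toEquiv.symm, (hP'.sylow P).1, hL.card_Q]
    exact le_of_eq (Nat.add_right_cancel (hf'.symm.trans hL.card_fix))
  intro y hy hyc
  refine hL.mem_eset y hy ?_
  refine congrArg Subtype.val (show (⟨y, hy⟩ : Q) * ⟨y, hy⟩ = 1 from hinj ?_)
  rw [map_mul, map_one]
  refine bender_center_sq (h.isBender_induced hB hgen hw hbad ha hE) P _ (hPρ ▸ ⟨⟨y, hy⟩, rfl⟩) ?_
  intro z hz
  rw [hPρ] at hz
  obtain ⟨z, rfl⟩ := hz
  exact (show Commute (⟨y, hy⟩ : Q) z from Subtype.ext (hyc z z.2).eq).map ρ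

end Crit

end Cfsg.Agent.GoodInvol
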