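import Cfsg.Agent.Lib.GoodInvol.WkerBender
import Cfsg.Agent.Lib.GoodInvol.LocalCenter
import Cfsg.Agent.Lib.GoodInvol.Companion.Chord

/-!
# The pointwise part without pairs, unitary type

An element `x` of the pointwise part other than one and `w` squares to `w`; then each member `e` at `a` gives an element
`d` fixing the two points, squaring to `w` and acting on the regular subgroup as an element of square `e`. Products of
two of these commute with `x`; as such elements square to `x` or its inverse, two of them give a contradiction.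
-/

set_option autoImplicit false
set_option linter.style.haveILetI false
set_option linter.unusedSectionVars false

namespace Cfsg.Agent.GoodInvol

open Subgroup MulAction

universe u

variable {G : Type u} [Group G]

/-- `t` in `T` fixes `x0` and acts on `Q` as the element `z` of it. -/
structure InnerAt {Ω : Type u} [MulAction G Ω] (T Q : Subgroup G) (x0 : Ω) (t z : G) : Prop where
  mem : t ∈ T
  fix : t • x0 = x0
  memQ : z ∈ Q
  conj : ∀ q ∈ Q, t * q * t⁻¹ = z * q * z⁻¹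

namespace InnerAt

variable {Ω : Type u} [MulAction G Ω] {T Q : Subgroup G} {x0 : Ω} {t t' z z' : G}

theorem mul (ht : InnerAt T Q x0 t z) (ht' : InnerAt T Q x0 t' z') : InnerAt T Q x0 (t * t') (z * z') :=
  ⟨T.mul_mem ht.mem ht'.mem, by rw [mul_smul, ht'.fix, ht.fix], Q.mul_mem ht.memQ ht'.memQ, fun q hq => by
    rw [show t * t' * q * (t * t')⁻¹ = t * (t' * q * t'⁻¹) * t⁻¹ by group, ht'.conj q hq,
      ht.conj _ (Q.mul_mem (Q.mul_mem ht'.memQ hq) (Q.inv_mem ht'.memQ))]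
    group⟩

theorem inv (ht : InnerAt T Q x0 t z) : InnerAt T Q x0 t⁻¹ z⁻¹ :=
  ⟨T.inv_mem ht.mem, inv_smul_eq_iff.2 ht.fix.symm, Q.inv_mem ht.memQ, fun q hq => by
    have h1 := ht.conj _ (Q.mul_mem (Q.mul_mem (Q.inv_mem ht.memQ) hq) ht.memQ)
    rw [show z * (z⁻¹ * q * z) * z⁻¹ = q by group] at h1
    rw [inv_inv, inv_inv]
    calc t⁻¹ * q * t = t⁻¹ * (t * (z⁻¹ * q * z) * t⁻¹) * t := by rw [h1]
      _ = _ := by group⟩

end InnerAt

theorem pair_inv {w x : G} (hw : w * w = 1) (hx : x * x = w) : x⁻¹ = x * w :=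
  inv_eq_of_mul_eq_one_right (by rw [← mul_assoc, hx, hw])

/-- A 2-group with a normal subgroup `N`, not inside `{1, w}`, has an element of it fixed by conjugation up to `w`. -/
theorem exists_fixed_mod {S : Type u} [Group S] [Finite S] (hS : IsPGroup 2 S) (N : Set S)
    (hN : ∀ x ∈ N, ∀ t : S, x * t * x⁻¹ * t⁻¹ ∈ N) {w : S} (hw : w * w = 1) (hwc : ∀ t, Commute w t)
    {x : S} (hx : x ∈ N) (hx1 : x ≠ 1) (hxw : x ≠ w) :
    ∃ x ∈ N, x ≠ 1 ∧ x ≠ w ∧ ∀ t : S, t * x * t⁻¹ = x ∨ t * x * t⁻¹ = x * w := by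
  haveI : Fact (Nat.Prime 2) := ⟨Nat.prime_two⟩
  by_contra! hcon
  have := hS.isNilpotent
  obtain ⟨n, hn⟩ := Group.IsNilpotent.nilpotent S
  have key : ∀ k, ∀ y ∈ N, y ∈ Subgroup.upperCentralSeries S k → y = 1 ∨ y = w := fun k => by
    induction k with
    | zero => intro y _ hy; exact Or.inl (by simpa using hy)
    | succ k ih =>
      intro y hyN hy
      by_contra! hy'
      obtain ⟨t, ht1, ht2⟩ := hcon y hyN hy'.1 hy'.2
      rcases ih _ (hN y hyN t) (Subgroup.mem_upperCentralSeries_succ_iff.1 hy t) with h1 | h1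
      · refine ht1 ?_
        rw [mul_inv_eq_one] at h1
        exact mul_inv_eq_iff_eq_mul.2 (mul_inv_eq_iff_eq_mul.1 h1).symm
      · refine ht2 ?_
        rw [mul_inv_eq_iff_eq_mul] at h1
        calc t * y * t⁻¹ = w * (w * t * y) * t⁻¹ := by
              rw [← mul_assoc, ← mul_assoc, hw, one_mul]
          _ = w * (y * t * y⁻¹ * y) * t⁻¹ := by rw [h1]
          _ = w * y := by group
          _ = y * w := (hwc y).eq
  rcases key n x hx (hn ▸ Subgroup.mem_top x) with e | e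
  exacts [hx1 e, hxw e]

variable [Finite G] {Ω : Type u} [MulAction G Ω] [Finite Ω] [FaithfulSMul G Ω] {D : Set G}

namespace Crit

variable (h : Crit D Ω) (hB : Below.{u} (Nat.card G)) (hgen : closure D = ⊤)
include h hB hgen

theorem eq_one_of_fix_translate {w : G} (hw : orderOf w = 2) (hbad : ¬ OneFix Ω w) {a : Ω} {T E : Subgroup G}
    (hT : T ≤ ptC w a) (hE : ESet D w a T E) {e : G} (he : e ∈ E) (he1 : e ≠ 1) {f : G} (hf : f ∈ E)
    (hfix : ∀ p : Ω, (w * e) • p = p → f • p = p) : f = 1 := by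
  by_contra hf1
  exact h.not_oneFix_mul hw hbad (((hE.mem e).1 he).resolve_left he1).1 (mem_ptC.1 (hT (hE.le he))).1
    fun p q hp hq => h.unique f (((hE.mem f).1 hf).resolve_left hf1).1 p q (hfix p hp) (hfix q hq)

section

variable {w : G} {a x0 : Ω} {T E Q K K1 : Subgroup G} {r ε : ℕ} (hT : T ≤ ptC w a)
  (hL : Local D w a x0 T E Q K K1 r ε)
include hT hL

/-- An element of `T` fixing `x0` and centralising `Q` is in the pointwise part. -/
theorem wker_of_commute_reg {t : G} (ht : t ∈ T) (htx : t • x0 = x0) (hc : ∀ q ∈ Q, Commute t q) :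
    t ∈ wker Ω w T := by
  refine ⟨ht, fun p hp => ?_⟩
  by_cases hpa : p = a
  · rw [hpa]; exact (mem_ptC.1 (hT ht)).2
  · obtain ⟨q, ⟨hq, rfl⟩, -⟩ := hL.reg p hp hpa
    rw [← mul_smul, (hc q hq).eq, mul_smul, htx]

theorem wker_of_innerAt_cen {t z : G} (ht : InnerAt T Q x0 t z) (hz : z ∈ E) : t ∈ wker Ω w T :=
  h.wker_of_commute_reg hB hgen hT hL ht.mem ht.fix fun q hq =>
    mul_inv_eq_iff_eq_mul.1 (by rw [ht.conj q hq, (hL.cen z hz q hq).eq, mul_inv_cancel_right])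

/-- No involution outside the pointwise part acts on `Q` as an element of it. -/
theorem wker_of_innerAt_invol (hw : orderOf w = 2) (hbad : ¬ OneFix Ω w) (ha : w • a = a)
    (hx0 : w • x0 = x0) (hxa : x0 ≠ a) (hε : ε = 3) {t z : G} (ht : InnerAt T Q x0 t z) (ht2 : t * t = 1) :
    t ∈ wker Ω w T := by
  classical
  obtain ⟨htw, hta⟩ := mem_ptC.1 (hT ht.mem)
  refine ⟨ht.mem, ?_⟩
  by_contra hcon
  obtain ⟨p, hp, htp⟩ : ∃ p : Ω, w • p = p ∧ t • p ≠ p := by
    by_contra! hall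
    exact hcon hall
  have ht1 : t ≠ 1 := fun e => htp (by rw [e, one_smul])
  obtain ⟨k, e', hC⟩ :=
    h.exists_chord hB hgen hw hbad (Invol.order_two_of_sq ht2 ht1) htw.symm hxa.symm ha hx0 hta ht.fix hp htp
  -- the centraliser of `z` in `Q`
  let f : Q →* Q := MonoidHom.mk' (fun q => ⟨(q : G) * z * (q : G)⁻¹ * z⁻¹,
    Q.mul_mem (Q.mul_mem (Q.mul_mem q.2 ht.memQ) (Q.inv_mem q.2)) (Q.inv_mem ht.memQ)⟩) fun q q' => Subtype.ext (by
      show (q : G) * q' * z * ((q : G) * q')⁻¹ * z⁻¹ = (q : G) * z * (q : G)⁻¹ * z⁻¹ * ((q' : G) * z * (q' : G)⁻¹ * z⁻¹)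
      have h1 := hL.comm q' q'.2 z ht.memQ
      have h2 := hL.comm q q.2 z ht.memQ
      rw [show (q : G) * q' * z * ((q : G) * q')⁻¹ * z⁻¹ =
        (q : G) * ((q' : G) * z * (q' : G)⁻¹ * z⁻¹) * (q : G)⁻¹ * ((q : G) * z * (q : G)⁻¹ * z⁻¹) by group,
        ← (hL.cen _ h1 q q.2).eq, mul_inv_cancel_right, (hL.cen _ h1 _ (hL.eset_le h2)).eq])
  have hrange : Nat.card f.range ∣ 2 ^ r := by
    rw [← hL.card_eset, ← Subgroup.card_map_of_injective (f := Q.subtype) Q.subtype_injective]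
    refine card_dvd_of_le ?_
    rintro _ ⟨_, ⟨q, rfl⟩, rfl⟩
    exact hL.comm q q.2 z ht.memQ
  have hker : 2 ^ (2 * r) ≤ Nat.card f.ker := by
    have h1 : Nat.card f.range * Nat.card f.ker = 2 ^ r * 2 ^ (2 * r) := by
      rw [← pow_add, show r + 2 * r = ε * r by rw [hε]; ring, ← hL.card_Q,
        ← Nat.card_congr (QuotientGroup.quotientKerEquivRange f).toEquiv, ← Subgroup.card_eq_card_quotient_mul_card_subgroup]
    have h2 := Nat.le_of_dvd (by positivity) hrange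
    by_contra! h3
    have := Nat.mul_lt_mul_of_le_of_lt h2 h3 (by positivity)
    omega
  have hqfix : ∀ q : f.ker, w • ((q : Q) : G) • x0 = ((q : Q) : G) • x0 ∧
      t • ((q : Q) : G) • x0 = ((q : Q) : G) • x0 := fun q => by
    obtain ⟨⟨q, hq⟩, hqk⟩ := q
    show w • q • x0 = q • x0 ∧ t • q • x0 = q • x0
    have h1 : q * z * q⁻¹ * z⁻¹ = 1 := congrArg Subtype.val (MonoidHom.mem_ker.1 hqk)
    have hqz : q * z = z * q := mul_inv_eq_iff_eq_mul.1 (mul_inv_eq_one.1 h1)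
    constructor
    · rw [← mul_smul, ← (commute_of_genC (hL.Q_gen hq)).eq, mul_smul, hx0]
    · have h2 : t * q = q * t := mul_inv_eq_iff_eq_mul.1 (by rw [ht.conj q hq, ← hqz, mul_inv_cancel_right])
      rw [← mul_smul, h2, mul_smul, ht.fix]
  have hcount : Nat.card f.ker + 1 ≤ 2 ^ k + 1 := by
    rw [← hC.card_inter]
    set S : Set Ω := Set.range (fun q : f.ker => ((q : Q) : G) • x0) with hS
    have hinj : Function.Injective (fun q : f.ker => ((q : Q) : G) • x0) := fun q q' e => by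
      obtain ⟨v, -, hv⟩ := hL.reg (((q : Q) : G) • x0) (hqfix q).1 fun e' =>
        hxa (MulAction.injective ((q : Q) : G) (e'.trans (mem_ptC.1 (hT (hL.Q_le (q : Q).2))).2.symm))
      exact Subtype.ext (Subtype.ext ((hv _ ⟨(q : Q).2, rfl⟩).trans (hv _ ⟨(q' : Q).2, e.symm⟩).symm))
    have haS : a ∉ S := by
      rintro ⟨q, hq⟩
      exact hxa (MulAction.injective ((q : Q) : G) (hq.trans (mem_ptC.1 (hT (hL.Q_le (q : Q).2))).2.symm))
    rw [← Set.ncard_range_of_injective hinj, ← hS, ← Set.ncard_insert_of_notMem haS]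
    refine Set.ncard_le_ncard (Set.insert_subset ⟨ha, hta⟩ ?_)
    rintro _ ⟨q, rfl⟩
    exact hqfix q
  have hk : 2 * r ≤ k := (Nat.pow_le_pow_iff_right (le_refl 2)).1 (by omega)
  have he : ε * r = k * e' := by
    have := hC.card_fix
    rw [hL.card_fix, Nat.add_right_cancel_iff, ← pow_mul] at this
    exact Nat.pow_right_injective (le_refl 2) this
  have := hL.two_le
  subst hε
  rcases hC.kind with rfl | ⟨rfl, -, -⟩ <;> omega

theorem wker_sq_of_innerAt {t z : G} (ht : InnerAt T Q x0 t z) : t * t ∈ wker Ω w T :=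
  h.wker_of_innerAt_cen hB hgen hT hL (ht.mul ht) (hL.sq z ht.memQ)

end

section

variable (hno : NoPairs G Ω) {w : G} (hw : orderOf w = 2) (hbad : ¬ OneFix Ω w) {a x0 : Ω} (ha : w • a = a)
  (hx0 : w • x0 = x0) (hxa : x0 ≠ a) (T : Sylow 2 (ptC w a)) {E Q K K1 : Subgroup G} {r ε : ℕ}
  (hE : ESet D w a ((T : Subgroup (ptC w a)).map (ptC w a).subtype) E)
  (hL : Local D w a x0 ((T : Subgroup (ptC w a)).map (ptC w a).subtype) E Q K K1 r ε)
include hno hw hbad ha hx0 hxa hE hL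

set_option quotPrecheck false in
local notation "T'" => (T : Subgroup (ptC w a)).map (ptC w a).subtype

/-- An element of the pointwise part of square one is one or `w`; of other ones, the square is `w`, and each member at
`a` then gives an element fixing `x0`, of square `w`, acting as an element of square that member. -/
theorem wker_alternative {e : G} (he : e ∈ E) (he1 : e ≠ 1) {x : G} (hx : x ∈ wker Ω w T') :
    (x = 1 ∨ x = w) ∨ x * x = w ∧ ∃ d z : G, InnerAt T' Q x0 d z ∧ z * z = e ∧ d * d = w := by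
  classical
  haveI : Fact (Nat.Prime 2) := ⟨Nat.prime_two⟩
  have hT : T' ≤ ptC w a := map_subtype_le _
  have hT2 : IsPGroup 2 T' := T.2.map _
  have hxw : Commute x w := (mem_ptC.1 (hT hx.1)).1
  by_cases hx2 : x * x = 1
  · by_cases hx1 : x = 1
    · exact Or.inl (Or.inl hx1)
    · exact Or.inl (Or.inr (hno w x hw hbad (Invol.order_two_of_sq hx2 hx1) hxw.symm hx.2))
  right
  have heD : e ∈ D := (((hE.mem e).1 he).resolve_left he1).1
  have hew : Commute e w := (mem_ptC.1 (hT (hE.le he))).1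
  obtain ⟨g, hgw, hyT, -, hyF⟩ := h.exists_translate_wker hB hgen hw hbad ha T hE he hx
  set y := g * x * g⁻¹ with hy
  obtain ⟨hyw, hya⟩ := mem_ptC.1 (hT hyT)
  have hy2 : y * y ≠ 1 := fun e2 => hx2 (by
    have h1 : g * (x * x) * g⁻¹ = 1 := by rw [← e2, hy]; group
    exact conj_eq_one_iff.1 h1)
  -- it centralises `Q`
  have hyQ : ∀ z ∈ Q, Commute y z := fun z hz => by
    have hzw : Commute z (w * e) := (mem_ptC.1 (hT (hL.Q_le hz))).1.mul_right (hL.cen e he z hz).symm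
    set q0 := y * z * y⁻¹ * z⁻¹ with hq0
    have hq0Q : q0 ∈ Q := Q.mul_mem (hL.mem_Q.2
      ⟨(T').mul_mem ((T').mul_mem hyT (hL.Q_le hz)) ((T').inv_mem hyT), h.conj_genC hyw (hL.Q_gen hz)⟩) (Q.inv_mem hz)
    have hq0F : ∀ p : Ω, (w * e) • p = p → q0 • p = p := fun p hp => by
      have h2 : (w * e) • z⁻¹ • p = z⁻¹ • p := by rw [← mul_smul, ← hzw.inv_left.eq, mul_smul, hp]
      have h3 : y⁻¹ • z⁻¹ • p = z⁻¹ • p := inv_smul_eq_iff.2 (hyF _ h2).symm
      rw [hq0, mul_smul, mul_smul, mul_smul, h3, smul_inv_smul, hyF p hp]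
    have hq02 : q0 * q0 = 1 := h.eq_one_of_fix_translate hB hgen hw hbad hT hE he he1 (hL.sq q0 hq0Q) fun p hp => by
      rw [mul_smul, hq0F p hp, hq0F p hp]
    have h1 := h.eq_one_of_fix_translate hB hgen hw hbad hT hE he he1 (hL.mem_eset q0 hq0Q hq02) hq0F
    exact mul_inv_eq_iff_eq_mul.1 (mul_inv_eq_one.1 (hq0.symm.trans h1))
  obtain ⟨z0, ⟨hz0, hz0x⟩, -⟩ := hL.reg (y • x0) (by rw [← mul_smul, ← hyw.eq, mul_smul, hx0]) fun e' =>
    hxa (MulAction.injective y (e'.trans hya.symm))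
  set d := z0⁻¹ * y with hd
  have hdI : InnerAt T' Q x0 d z0⁻¹ := ⟨(T').mul_mem ((T').inv_mem (hL.Q_le hz0)) hyT,
    by rw [hd, mul_smul, ← hz0x, inv_smul_smul], Q.inv_mem hz0, fun q hq => by
      rw [hd, show z0⁻¹ * y * q * (z0⁻¹ * y)⁻¹ = z0⁻¹ * (y * q * y⁻¹) * z0 by group, (hyQ q hq).eq,
        mul_inv_cancel_right, inv_inv]⟩
  set k := d * d with hk
  have hkW : k ∈ wker Ω w T' := h.wker_sq_of_innerAt hB hgen hT hL hdI
  set f := z0 * z0 with hf
  have hfE : f ∈ E := hL.sq z0 hz0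
  have hfk : Commute k f := hL.Q_wker k hkW f (hL.eset_le hfE)
  have hyy : y * y = f * k := by
    rw [hk, hd, hf, show z0 * z0 * (z0⁻¹ * y * (z0⁻¹ * y)) = z0 * (y * z0⁻¹) * y by group,
      ((hyQ z0 hz0).inv_right).eq, mul_inv_cancel_left]
  have hk4 : k * k = y * y * (y * y) := by
    rw [hyy, show f * k * (f * k) = f * (k * f) * k by group, hfk.eq, ← mul_assoc f f, hE.sq f hfE, one_mul]
  have hkw : Commute k w := (mem_ptC.1 (hT hkW.1)).1
  have hk2 : k * k = 1 := by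
    obtain ⟨n, hn⟩ := IsPGroup.iff_orderOf.1 hT2 ⟨_, (T').mul_mem hkW.1 hkW.1⟩
    rw [Subgroup.orderOf_mk] at hn
    refine h.eq_one_of_fix_both hB hgen hno hw hbad heD hew ⟨n, hn⟩ (hkw.mul_left hkw) (fun p hp => ?_) fun p hp => ?_
    · rw [mul_smul, hkW.2 p hp, hkW.2 p hp]
    · simp only [hk4, mul_smul, hyF p hp]
  have hyyF : ∀ p : Ω, (w * e) • p = p → (y * y) • p = p := fun p hp => by rw [mul_smul, hyF p hp, hyF p hp]
  have hk1 : k ≠ 1 := fun e1 => hy2 (by
    rw [hyy, e1, mul_one]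
    refine h.eq_one_of_fix_translate hB hgen hw hbad hT hE he he1 hfE fun p hp => ?_
    have := hyyF p hp
    rwa [hyy, e1, mul_one] at this)
  have hkw' : k = w := hno w k hw hbad (Invol.order_two_of_sq hk2 hk1) hkw.symm hkW.2
  have hwf : Commute w f := (mem_ptC.1 (hT (hE.le hfE))).1.symm
  rw [hkw', ← hwf.eq] at hyy
  have hwe2 : orderOf (w * e) = 2 := by rw [← hgw, Invol.order_conj, hw]
  have hwf2 : orderOf (w * f) = 2 := by
    refine Invol.order_two_of_sq ?_ (hyy ▸ hy2)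
    rw [hwf.symm.mul_mul_mul_comm, Invol.mul_self hw, hE.sq f hfE, one_mul]
  have hwfe : w * f = w * e := hno (w * e) (w * f) hwe2 (h.not_oneFix_mul hw hbad heD hew) hwf2
    (((Commute.refl w).mul_right hwf).mul_left (hew.mul_right (hE.comm e he f hfE))) fun p hp => by
      rw [← hyy]; exact hyyF p hp
  have hfe : f = e := mul_left_cancel hwfe
  refine ⟨?_, d, z0⁻¹, hdI, ?_, hkw'⟩
  · have h1 : g * (x * x) * g⁻¹ = g * w * g⁻¹ := by
      rw [hgw, ← hfe, ← hyy, hy]; group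
    exact mul_left_cancel (mul_right_cancel h1)
  · rw [show z0⁻¹ * z0⁻¹ = f⁻¹ by rw [hf]; group, hfe]
    exact inv_eq_of_mul_eq_one_right (hE.sq e he)

/-- The pointwise part is `⟨w⟩`: unitary type. -/
theorem wker_eq_unitary (hε : ε = 3) : ∀ x ∈ wker Ω w T', x = 1 ∨ x = w := by
  classical
  haveI : Fact (Nat.Prime 2) := ⟨Nat.prime_two⟩
  have hT : T' ≤ ptC w a := map_subtype_le _
  have hT2 : IsPGroup 2 T' := T.2.map _
  have hww : w * w = 1 := Invol.mul_self hw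
  have hw1 : w ≠ 1 := fun e => by simp [e] at hw
  have hwT : ∀ t ∈ T', Commute w t := fun t ht => (mem_ptC.1 (hT ht)).1.symm
  intro x hx
  by_contra! hx'
  obtain ⟨e0, he0, -, -, he01, -, -⟩ := hE.two
  have hwW : w ∈ wker Ω w T' := by
    have h1 := (wker Ω w T').mul_mem hx hx
    rwa [((h.wker_alternative hB hgen hno hw hbad ha hx0 hxa T hE hL he0 he01 hx).resolve_left
      fun e' => e'.elim hx'.1 hx'.2).1] at h1
  obtain ⟨⟨x, hxT⟩, hxN, hx1, hxw, hfix⟩ := exists_fixed_mod hT2 {v : T' | (v : G) ∈ wker Ω w T'}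
    (fun v hv t => ⟨(T').mul_mem ((T').mul_mem ((T').mul_mem v.2 t.2) ((T').inv_mem v.2)) ((T').inv_mem t.2),
      fun p hp => by
        show ((v : G) * t * (v : G)⁻¹ * (t : G)⁻¹) • p = p
        have h1 : w • (t : G)⁻¹ • p = (t : G)⁻¹ • p := by
          rw [← mul_smul, ((hwT t t.2).inv_right).eq, mul_smul, hp]
        rw [mul_smul, mul_smul, mul_smul, inv_smul_eq_iff.2 (hv.2 _ h1).symm, smul_inv_smul, hv.2 p hp]⟩)
    (w := ⟨w, hwW.1⟩) (Subtype.ext hww) (fun t => Subtype.ext (hwT t t.2).eq)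
    (x := ⟨x, hx.1⟩) hx (fun e => hx'.1 (congrArg Subtype.val e)) (fun e => hx'.2 (congrArg Subtype.val e))
  clear hx hx'
  replace hx : x ∈ wker Ω w T' := hxN
  have hx1' : x ≠ 1 := fun e => hx1 (Subtype.ext e)
  have hxw' : x ≠ w := fun e => hxw (Subtype.ext e)
  have hfix' : ∀ t ∈ T', t * x * t⁻¹ = x ∨ t * x * t⁻¹ = x * w := fun t ht =>
    (hfix ⟨t, ht⟩).imp (congrArg Subtype.val) (congrArg Subtype.val)
  have alt : ∀ e ∈ E, e ≠ 1 → x * x = w ∧ ∃ d z : G, InnerAt T' Q x0 d z ∧ z * z = e ∧ d * d = w :=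
    fun e he he1 => (h.wker_alternative hB hgen hno hw hbad ha hx0 hxa T hE hL he he1 hx).resolve_left
      (fun e' => e'.elim hx1' hxw')
  obtain ⟨e1, he1, e2, he2, h11, h21, h12⟩ := hE.two
  have he3 : e1 * e2 ∈ E := E.mul_mem he1 he2
  have h31 : e1 * e2 ≠ 1 := fun e => h12 (by
    rw [eq_inv_of_mul_eq_one_left e, inv_eq_of_mul_eq_one_right (hE.sq e2 he2)])
  obtain ⟨hxx, d1, z1, hd1, hz1, hdd1⟩ := alt e1 he1 h11
  obtain ⟨-, d2, z2, hd2, hz2, hdd2⟩ := alt e2 he2 h21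
  obtain ⟨-, d3, z3, hd3, hz3, hdd3⟩ := alt (e1 * e2) he3 h31
  have hxI : InnerAt T' Q x0 x 1 := ⟨hx.1, hx.2 x0 hx0, Q.one_mem, fun q hq => by
    rw [(hL.Q_wker x hx q hq).eq]; group⟩
  have hcen : ∀ {t z : G}, InnerAt T' Q x0 t z → t ∈ wker Ω w T' → z ∈ E := fun {t z} ht htW =>
    h.local_center hB hgen hw hbad ha hx0 hxa T hE hL z ht.memQ fun q hq => by
      have h1 := ht.conj q hq
      rw [(hL.Q_wker t htW q hq).eq, mul_inv_cancel_right] at h1
      exact (eq_mul_inv_iff_mul_eq.1 h1).symm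
  -- the pointwise part meets the centraliser of `x` in `⟨x⟩`
  have hcx : ∀ v ∈ wker Ω w T', Commute v x → v = 1 ∨ v = w ∨ v = x ∨ v = x * w := fun v hv hvx => by
    rcases h.wker_alternative hB hgen hno hw hbad ha hx0 hxa T hE hL he1 h11 hv with (e | e) | ⟨hvv, -⟩
    · exact Or.inl e
    · exact Or.inr (Or.inl e)
    have hu : v * x ∈ wker Ω w T' := (wker Ω w T').mul_mem hv hx
    have hu2 : v * x * (v * x) = 1 := by rw [hvx.symm.mul_mul_mul_comm, hvv, hxx, hww]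
    by_cases h1 : v * x = 1
    · refine Or.inr (Or.inr (Or.inr ?_))
      rw [eq_inv_of_mul_eq_one_left h1, pair_inv hww hxx]
    · refine Or.inr (Or.inr (Or.inl ?_))
      have h2 := hno w _ hw hbad (Invol.order_two_of_sq hu2 h1) (hwT _ hu.1) hu.2
      exact mul_right_cancel (h2.trans hxx.symm)
  -- elements outside it commuting with `x` do not square into `⟨w⟩`
  have hsq : ∀ {c z : G}, InnerAt T' Q x0 c z → z ∉ E → Commute c x →
      c * c ≠ 1 ∧ c * c ≠ w ∧ (c * c = x ∨ c * c = x * w) := fun {c z} hc hz hcx' => by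
    have n1 : c * c ≠ 1 := fun e => hz (hcen hc
      (h.wker_of_innerAt_invol hB hgen hT hL hw hbad ha hx0 hxa hε hc e))
    have n2 : c * c ≠ w := fun e => by
      have h1 := h.wker_of_innerAt_invol hB hgen hT hL hw hbad ha hx0 hxa hε (hc.mul hxI)
        (by rw [hcx'.symm.mul_mul_mul_comm, e, hxx, hww])
      have h2 := hcen (hc.mul hxI) h1
      exact hz (by rwa [mul_one] at h2)
    refine ⟨n1, n2, ?_⟩
    rcases hcx _ (h.wker_sq_of_innerAt hB hgen hT hL hc) (hcx'.mul_left hcx') with e | e | e | e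
    exacts [absurd e n1, absurd e n2, Or.inl e, Or.inr e]
  -- no `d` commutes with `x`
  have hflip : ∀ {d z e : G}, InnerAt T' Q x0 d z → z * z = e → e ≠ 1 → d * d = w → d * x * d⁻¹ = x * w :=
    fun {d z e} hd hz he1 hdd => (hfix' d hd.mem).resolve_left fun hc => by
      have hzE : z ∉ E := fun hm => he1 (hz ▸ hE.sq z hm)
      exact (hsq hd hzE (mul_inv_eq_iff_eq_mul.1 hc)).2.1 hdd
  have hcomm : ∀ {d d' : G}, d * x * d⁻¹ = x * w → d' * x * d'⁻¹ = x * w → d ∈ T' → Commute (d * d') x :=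
    fun {d d'} h1 h2 hd => by
      refine mul_inv_eq_iff_eq_mul.1 ?_
      rw [show d * d' * x * (d * d')⁻¹ = d * (d' * x * d'⁻¹) * d⁻¹ by group, h2,
        show d * (x * w) * d⁻¹ = d * x * d⁻¹ * (d * w * d⁻¹) by group, h1, ← (hwT d hd).eq,
        mul_inv_cancel_right, mul_assoc, hww, mul_one]
  have f1 := hflip hd1 hz1 h11 hdd1
  have f2 := hflip hd2 hz2 h21 hdd2
  have f3 := hflip hd3 hz3 h31 hdd3
  have hcenE : ∀ f ∈ E, ∀ q ∈ Q, Commute f q := hL.cen
  have hprod : ∀ {p q ep eq : G}, p ∈ Q → q ∈ Q → p * p = ep → q * q = eq → ep ∈ E → eq ≠ ep → p * q ∉ E :=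
    fun {p q ep eq} hp hq hpp hqq hep hne hm => hne (by
      rw [← hqq, show q * q = p⁻¹ * (p * q) * (p⁻¹ * (p * q)) by group,
        show p⁻¹ * (p * q) * (p⁻¹ * (p * q)) = p⁻¹ * ((p * q) * p⁻¹) * (p * q) by group,
        (hL.cen _ hm _ (Q.inv_mem hp)).eq, show p⁻¹ * (p⁻¹ * (p * q)) * (p * q) = (p * p)⁻¹ * ((p * q) * (p * q)) by group,
        hE.sq _ hm, mul_one, hpp, inv_eq_of_mul_eq_one_right (hE.sq ep hep)])
  have n12 : z1 * z2 ∉ E := hprod hd1.memQ hd2.memQ hz1 hz2 he1 h12.symm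
  have n13 : z1 * z3 ∉ E := hprod hd1.memQ hd3.memQ hz1 hz3 he1 fun e => h21 (mul_left_cancel (e.trans (mul_one e1).symm))
  have n23 : z2⁻¹ * z3 ∉ E := hprod (Q.inv_mem hd2.memQ) hd3.memQ
    (show z2⁻¹ * z2⁻¹ = e2⁻¹ by rw [← hz2]; group) hz3 (E.inv_mem he2) fun e => h11 (by
      rw [inv_eq_of_mul_eq_one_right (hE.sq e2 he2)] at e
      exact mul_right_cancel (e.trans (one_mul e2).symm))
  have hcc := hd1.mul hd2
  have hcc' := hd1.mul hd3
  have hC := hcomm f1 f2 hd1.mem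
  have hC' := hcomm f1 f3 hd1.mem
  obtain ⟨-, -, hv⟩ := hsq hcc n12 hC
  obtain ⟨-, -, hv'⟩ := hsq hcc' n13 hC'
  -- two such elements with the same square
  have main : ∀ {c c' z z' : G}, InnerAt T' Q x0 c z → InnerAt T' Q x0 c' z' → Commute c x → Commute c' x →
      z⁻¹ * z' ∉ E → (c * c = x ∨ c * c = x * w) → c' * c' = c * c → False := fun {c c' z z'} hc hc' hcx' hcx'' hn hs he => by
    set v := c * c with hv
    set k := c' * c⁻¹ * c'⁻¹ * c with hkdef
    have hkI : InnerAt T' Q x0 k (z' * z⁻¹ * z'⁻¹ * z) := ((hc'.mul hc.inv).mul hc'.inv).mul hc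
    have hkW : k ∈ wker Ω w T' := h.wker_of_innerAt_cen hB hgen hT hL hkI (by
      have := hL.comm z' hc'.memQ z⁻¹ (Q.inv_mem hc.memQ)
      rwa [inv_inv] at this)
    have hkx : Commute k x := ((hcx''.mul_left hcx'.inv_left).mul_left hcx''.inv_left).mul_left hcx'
    have hkc : Commute k c ∧ Commute k c' := by
      have hwc : Commute w c ∧ Commute w c' := ⟨hwT c hc.mem, hwT c' hc'.mem⟩
      rcases hcx k hkW hkx with e | e | e | e <;> rw [e]
      exacts [⟨Commute.one_left c, Commute.one_left c'⟩, hwc, ⟨hcx'.symm, hcx''.symm⟩,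
        ⟨hcx'.symm.mul_left hwc.1, hcx''.symm.mul_left hwc.2⟩]
    have hm := hsq (hc.inv.mul hc') hn (hcx'.inv_left.mul_left hcx'')
    have hmk : c⁻¹ * c' * (c⁻¹ * c') = k := by
      calc c⁻¹ * c' * (c⁻¹ * c') = c⁻¹ * k * c⁻¹ * (c' * c') := by rw [hkdef]; group
        _ = k * c⁻¹ * c⁻¹ * v := by rw [← (hkc.1.inv_right).eq, he]
        _ = k := by rw [hv]; group
    rw [hmk] at hm
    have hkk : k * k = 1 := by
      have h1 : c' * k * c⁻¹ * c' = k * (c' * c⁻¹ * c') := by rw [← hkc.2.eq]; group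
      have h2 : c' * c' * c⁻¹ = k * k * c⁻¹ * (c' * c') := by
        calc c' * c' * c⁻¹ = c' * (k * c⁻¹ * c') := by rw [hkdef]; group
          _ = c' * k * c⁻¹ * c' := by group
          _ = k * (c' * c⁻¹ * c') := h1
          _ = _ := by rw [hkdef]; group
      rw [he, show v * c⁻¹ = c by rw [hv]; group, show k * k * c⁻¹ * v = k * k * c by rw [hv]; group] at h2
      exact (right_eq_mul.1 h2)
    rcases hm.2.2 with e | e
    · rw [e, hxx] at hkk; exact hw1 hkk
    · rw [e, (hwT x hx.1).mul_mul_mul_comm, hxx, hww, mul_one] at hkk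
      exact hw1 hkk
  by_cases hvv : d1 * d3 * (d1 * d3) = d1 * d2 * (d1 * d2)
  · refine main hcc hcc' hC hC' ?_ hv hvv
    rwa [show (z1 * z2)⁻¹ * (z1 * z3) = z2⁻¹ * z3 by group]
  refine main hcc hcc'.inv hC hC'.inv_left ?_ hv ?_
  · intro hm
    -- modulo `E` this is `z2⁻¹ z3⁻¹`
    have hrest : z3 * z1⁻¹ * z3⁻¹ * z1⁻¹⁻¹ * (z1 * z1)⁻¹ ∈ E :=
      E.mul_mem (hL.comm z3 hd3.memQ z1⁻¹ (Q.inv_mem hd1.memQ)) (E.inv_mem (hz1 ▸ he1))
    have h2 : z2⁻¹ * z3⁻¹ ∈ E := by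
      have := E.mul_mem hm (E.inv_mem hrest)
      rwa [show (z1 * z2)⁻¹ * (z1 * z3)⁻¹ * (z3 * z1⁻¹ * z3⁻¹ * z1⁻¹⁻¹ * (z1 * z1)⁻¹)⁻¹ = z2⁻¹ * z3⁻¹ by group] at this
    exact hprod (Q.inv_mem hd2.memQ) (Q.inv_mem hd3.memQ)
      (show z2⁻¹ * z2⁻¹ = e2⁻¹ by rw [← hz2]; group) (show z3⁻¹ * z3⁻¹ = (e1 * e2)⁻¹ by rw [← hz3]; group)
      (E.inv_mem he2) (fun e => h11 (mul_right_cancel ((inv_injective e).trans (one_mul e2).symm))) h2
  · have hinv : x⁻¹ = x * w := pair_inv hww hxx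
    rcases hv with e | e <;> rcases hv' with e' | e'
    · exact absurd (e'.trans e.symm) hvv
    · rw [e, show (d1 * d3)⁻¹ * (d1 * d3)⁻¹ = (d1 * d3 * (d1 * d3))⁻¹ by group, e', ← hinv, inv_inv]
    · rw [e, show (d1 * d3)⁻¹ * (d1 * d3)⁻¹ = (d1 * d3 * (d1 * d3))⁻¹ by group, e', hinv]
    · exact absurd (e'.trans e.symm) hvv

/-- **The pointwise part is `⟨w⟩`** when there are no pairs. -/
theorem wker_eq : ∀ x ∈ wker Ω w T', x = 1 ∨ x = w := by
  by_cases hε : ε = 3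
  · exact h.wker_eq_unitary hB hgen hno hw hbad ha hx0 hxa T hE hL hε
  · exact h.wker_eq_of_local hB hgen hno hw hbad ha T hE hL hε

end

end Crit

end Cfsg.Agent.GoodInvol
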