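import Cfsg.Agent.Lib.GoodInvol.Assembly
import Cfsg.Agent.Lib.GoodInvol.WkerUnitary
import Cfsg.Agent.Lib.GoodInvol.CaseBSuzuki

/-!
# Case B: the split on the 2-groups fixing two points

Either every 2-group fixing two points has order at most two (`SmallCfg`), or an involution `u` is central in one of
largest order, at least four (`LargeCfg`): then `|E| * (f - 1)` divides the orbits at `a`, so `u` is not linear, and
it is not of Suzuki type as every element of `T` acts as one of `Q`.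
-/

set_option autoImplicit false
set_option linter.style.haveILetI false
set_option linter.unusedSectionVars false

namespace Cfsg.Agent.GoodInvol

open Subgroup MulAction

universe u

variable {G : Type u} [Group G] {Ω : Type u} [MulAction G Ω]

/-- Every 2-group fixing two points has order at most two. -/
def SmallPairs (G : Type u) [Group G] (Ω : Type u) [MulAction G Ω] : Prop :=
  ∀ R : Subgroup G, IsPGroup 2 R → ∀ p q : Ω, p ≠ q → (∀ g ∈ R, g • p = p) → (∀ g ∈ R, g • q = q) → Nat.card R ≤ 2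

/-- `u` has least `|E| * (f - 1)` and no 2-group of order four fixes two points. -/
structure SmallCfg (D : Set G) (u : G) (a x : Ω) (T : Sylow 2 (ptC u a)) (E : Subgroup G) : Prop where
  hno : NoPairs G Ω
  hu : orderOf u = 2
  hbad : ¬ OneFix Ω u
  ha : u • a = a
  hx : u • x = x
  hxa : x ≠ a
  hE : ESet D u a (tSub T) E
  hsmall : SmallPairs G Ω
  hW : ∀ g ∈ wker Ω u (tSub T), g = 1 ∨ g = u
  hdvd : ∀ z : Ω, z ≠ a → Nat.card E * ((fixSet Ω u).ncard - 1) ∣ (orbit (stabilizer G a) z).ncard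
  hmin : ∀ v : G, orderOf v = 2 → ¬ OneFix Ω v → v • a = a → ∀ (T' : Sylow 2 (ptC v a)) (E' : Subgroup G),
    ESet D v a (tSub T') E' → Nat.card E * ((fixSet Ω u).ncard - 1) ≤ Nat.card E' * ((fixSet Ω v).ncard - 1)

/-- `u` is central in a largest 2-group `P` fixing two points `a` and `x`, of order at least four. -/
structure LargeCfg (D : Set G) (u : G) (a x : Ω) (T : Sylow 2 (ptC u a)) (E P : Subgroup G) : Prop where
  hno : NoPairs G Ω
  hu : orderOf u = 2
  hbad : ¬ OneFix Ω u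
  ha : u • a = a
  hx : u • x = x
  hxa : x ≠ a
  hE : ESet D u a (tSub T) E
  P_le : P ≤ tSub T
  P_fix : ∀ g ∈ P, g • x = x
  u_mem : u ∈ P
  four_le : 4 ≤ Nat.card P
  P_max : ∀ R : Subgroup G, IsPGroup 2 R → ∀ p q : Ω, p ≠ q → (∀ g ∈ R, g • p = p) → (∀ g ∈ R, g • q = q) →
    Nat.card R ≤ Nat.card P
  hW : ∀ g ∈ wker Ω u (tSub T), g = 1 ∨ g = u
  hdvd : ∀ z : Ω, z ≠ a → Nat.card E * ((fixSet Ω u).ncard - 1) ∣ (orbit (stabilizer G a) z).ncard

/-- The case without 2-groups of order four on two points, for one type. -/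
def SmallStmt (e : ℕ) : Prop :=
  ∀ (G : Type u) [Group G] [Finite G] (D : Set G) (Ω : Type u) [MulAction G Ω] [Finite Ω] [FaithfulSMul G Ω],
    Below.{u} (Nat.card G) → Crit D Ω → closure D = ⊤ →
    ∀ (u : G) (a x : Ω) (T : Sylow 2 (ptC u a)) (E Q K K1 : Subgroup G) (r : ℕ),
      SmallCfg D u a x T E → Local D u a x (tSub T) E Q K K1 r e → False

/-- The case with such a group, unitary type. -/
def LargeStmt : Prop :=
  ∀ (G : Type u) [Group G] [Finite G] (D : Set G) (Ω : Type u) [MulAction G Ω] [Finite Ω] [FaithfulSMul G Ω],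
    Below.{u} (Nat.card G) → Crit D Ω → closure D = ⊤ →
    ∀ (u : G) (a x : Ω) (T : Sylow 2 (ptC u a)) (E P Q K K1 : Subgroup G) (r : ℕ),
      LargeCfg D u a x T E P → Local D u a x (tSub T) E Q K K1 r 3 → False

variable [Finite G] [Finite Ω] [FaithfulSMul G Ω] {D : Set G}

namespace Crit

variable (h : Crit D Ω) (hB : Below.{u} (Nat.card G)) (hgen : closure D = ⊤)
include h hB hgen

/-- For an involution in the centre of a largest 2-group fixing two points, `|E| * (f - 1)` divides the orbits. -/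
theorem dvd_orbit_of_largest {w : G} (hw : orderOf w = 2) (hbad : ¬ OneFix Ω w) {a x : Ω} (ha : w • a = a)
    (hx : w • x = x) (hxa : x ≠ a) {T : Sylow 2 (ptC w a)} {E : Subgroup G} (hE : ESet D w a (tSub T) E)
    {P : Subgroup G} (hP : IsPGroup 2 P) (hPX : P ≤ ptC w a) (hPx : ∀ g ∈ P, g • x = x)
    (hmax : ∀ R : Subgroup G, IsPGroup 2 R → ∀ p q : Ω, p ≠ q → (∀ g ∈ R, g • p = p) → (∀ g ∈ R, g • q = q) →
      Nat.card R ≤ Nat.card P) :
    ∀ z : Ω, z ≠ a → Nat.card E * ((fixSet Ω w).ncard - 1) ∣ (orbit (stabilizer G a) z).ncard := by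
  classical
  haveI : Fact (Nat.Prime 2) := ⟨Nat.prime_two⟩
  intro z hza
  set Ga := stabilizer G a
  obtain ⟨i, hi⟩ := h.exists_fix_pow hB hgen hw hbad
  obtain ⟨j, hj⟩ := IsPGroup.iff_card.1 (fun e => ⟨1, Subtype.ext (by simpa [pow_two] using hE.sq _ e.2)⟩ :
    IsPGroup 2 E)
  have hk : Nat.card E * ((fixSet Ω w).ncard - 1) = 2 ^ (j + i) := by rw [hj, hi, Nat.add_sub_cancel, pow_add]
  have hmain := h.mul_card_dvd_stabilizer hB hgen hw hbad ha hx hxa hE hP hPX hPx
  rw [hk] at hmain ⊢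
  let S : Sylow 2 (stabilizer Ga z) := Classical.arbitrary _
  set R : Subgroup G := ((S : Subgroup (stabilizer Ga z)).map (stabilizer Ga z).subtype).map Ga.subtype with hR
  have hR2 : IsPGroup 2 R := (S.2.map _).map _
  have hRa : ∀ g ∈ R, g • a = a ∧ g • z = z := by
    rintro _ ⟨g, ⟨g', -, rfl⟩, rfl⟩
    exact ⟨(g' : Ga).2, g'.2⟩
  have hRcard : Nat.card R = Nat.card (S : Subgroup (stabilizer Ga z)) := by
    rw [hR, card_map_of_injective (subtype_injective _), card_map_of_injective (subtype_injective _)]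
  have hRP : Nat.card R ∣ Nat.card P := by
    obtain ⟨p, hp⟩ := IsPGroup.iff_card.1 hR2
    obtain ⟨m, hm⟩ := IsPGroup.iff_card.1 hP
    have := hmax R hR2 z a hza (fun g hg => (hRa g hg).2) fun g hg => (hRa g hg).1
    rw [hp, hm] at this ⊢
    exact pow_dvd_pow 2 ((Nat.pow_le_pow_iff_right (le_refl 2)).1 this)
  have hc := Nat.card_congr (MulAction.orbitProdStabilizerEquivGroup Ga z)
  rw [Nat.card_prod, Nat.card_coe_set_eq] at hc
  have h1 : 2 ^ (j + i) * Nat.card P ∣ (orbit Ga z).ncard * (S : Subgroup (stabilizer Ga z)).index * Nat.card P := by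
    refine hmain.trans ?_
    rw [← hc, ← (S : Subgroup (stabilizer Ga z)).card_mul_index, ← hRcard, mul_assoc _ _ (Nat.card P),
      mul_comm (Nat.card R)]
    exact mul_dvd_mul_left _ (mul_dvd_mul_left _ hRP)
  exact (Nat.Coprime.pow_left _ ((Nat.Prime.coprime_iff_not_dvd Nat.prime_two).2 S.not_dvd_index)).dvd_of_dvd_mul_right
    (Nat.dvd_of_mul_dvd_mul_right Nat.card_pos h1)

end Crit

namespace LargeCfg

variable {u : G} {a x : Ω} {T : Sylow 2 (ptC u a)} {E P : Subgroup G} (L : LargeCfg D u a x T E P)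
include L

/-- The type is not Suzuki. -/
theorem false_suzuki (h : Crit D Ω) (hB : Below.{u} (Nat.card G)) (hgen : closure D = ⊤) {Q K K1 : Subgroup G} {r : ℕ}
    (hL : Local D u a x (tSub T) E Q K K1 r 2) : False := by
  classical
  have hall := h.hall_suzuki hB hgen L.hu L.hbad L.ha L.hx L.hxa L.hE hL
  have hle : (P : Set G) ⊆ {1, u} := fun t ht => by
    obtain ⟨y, hy, hty⟩ := hall t (L.P_le ht)
    obtain ⟨v, -, hv⟩ := hL.reg x L.hx L.hxa
    have hy1 : y = 1 := (hv y ⟨hy, (hty x L.hx).symm.trans (L.P_fix t ht)⟩).trans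
      (hv 1 ⟨Q.one_mem, one_smul G x⟩).symm
    exact L.hW t ⟨L.P_le ht, fun z hz => by rw [hty z hz, hy1, one_smul]⟩
  have h4 := L.four_le
  rw [show Nat.card P = (P : Set G).ncard from Nat.card_coe_set_eq _] at h4
  have h2 := h4.trans (Set.ncard_le_ncard hle)
  have h3 := Set.ncard_insert_le (1 : G) {u}
  rw [Set.ncard_singleton] at h3
  omega

end LargeCfg

/-- Case B from the cases left. -/
theorem caseBStmt_of (hSz : SmallStmt.{u} 2) (hU : SmallStmt.{u} 3) (hUL : LargeStmt.{u}) : CaseBStmt.{u} := by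
  intro G _ _ D Ω _ _ _ hB h hgen hno w a T E hw hbad ha hE hf hmin
  classical
  haveI : Fact (Nat.Prime 2) := ⟨Nat.prime_two⟩
  have second : ∀ {v : G}, ¬ OneFix Ω v → ∀ b : Ω, ∃ y, v • y = y ∧ y ≠ b := fun {v} hv b => by
    unfold OneFix at hv
    push Not at hv
    obtain ⟨p, q, hp, hq, hpq⟩ := hv
    by_cases hpb : p = b
    · exact ⟨q, hq, fun e => hpq (hpb.trans e.symm)⟩
    · exact ⟨p, hp, hpb⟩
  by_cases hsm : SmallPairs G Ω
  · obtain ⟨x, hx, hxa⟩ := second hbad a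
    obtain ⟨Q, K, K1, r, e, hL⟩ := h.exists_local hB hgen hw hbad ha hx hxa T hE
    have hdvd := h.dvd_orbit_of_least hB hgen hw hbad ha hE hmin
    have L : SmallCfg D w a x T E := ⟨hno, hw, hbad, ha, hx, hxa, hE, hsm,
      h.wker_eq hB hgen hno hw hbad ha hx hxa T hE hL, hdvd, hmin⟩
    rcases hL.e_cases with rfl | rfl | rfl
    · exact hf (by rw [hL.card_fix, one_mul, hL.card_eset])
    · exact hSz G D Ω hB h hgen w a x T E Q K K1 r L hL
    · exact hU G D Ω hB h hgen w a x T E Q K K1 r L hL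
  -- a largest 2-group fixing two points
  set S : Set (Subgroup G) :=
    {R | IsPGroup 2 R ∧ ∃ p q : Ω, p ≠ q ∧ (∀ g ∈ R, g • p = p) ∧ ∀ g ∈ R, g • q = q} with hS
  have hne : S.Nonempty ∧ ∃ R ∈ S, 2 < Nat.card R := by
    unfold SmallPairs at hsm
    push Not at hsm
    obtain ⟨R, hR, p, q, hpq, hp, hq, hc⟩ := hsm
    exact ⟨⟨R, hR, p, q, hpq, hp, hq⟩, R, ⟨hR, p, q, hpq, hp, hq⟩, hc⟩
  obtain ⟨P, ⟨hP, b, y, hby, hPb, hPy⟩, hmax⟩ := S.exists_max_image (fun R => Nat.card R) (Set.toFinite _) hne.1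
  obtain ⟨R0, hR0, hR0c⟩ := hne.2
  have h2P : 2 < Nat.card P := lt_of_lt_of_le hR0c (hmax R0 hR0)
  have h4P : 4 ≤ Nat.card P := by
    obtain ⟨m, hm⟩ := IsPGroup.iff_card.1 hP
    rw [hm] at h2P ⊢
    have : 1 < m := (Nat.pow_lt_pow_iff_right one_lt_two).1 (by simpa using h2P)
    exact le_trans (by norm_num) (Nat.pow_le_pow_right two_pos this)
  haveI : Nontrivial P := Finite.one_lt_card_iff_nontrivial.1 (by omega)
  obtain ⟨c, hcP, hc1⟩ : ∃ c ∈ P, c ≠ 1 := by
    obtain ⟨c, hc⟩ := exists_ne (1 : P)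
    exact ⟨c, c.2, fun e => hc (Subtype.ext e)⟩
  obtain ⟨u, hu, huc, huP⟩ : ∃ u : G, orderOf u = 2 ∧ (∀ g ∈ P, Commute g u) ∧ u ∈ P := by
    haveI := hP.center_nontrivial
    obtain ⟨k, hk⟩ := IsPGroup.iff_card.1 (hP.to_subgroup (Subgroup.center P))
    have hk1 : 2 ∣ Nat.card (Subgroup.center P) := by
      have h1 : 1 < Nat.card (Subgroup.center P) := Finite.one_lt_card
      rw [hk] at h1 ⊢
      exact dvd_pow_self 2 (by rintro rfl; norm_num at h1)
    obtain ⟨z, hz⟩ := exists_prime_orderOf_dvd_card' 2 hk1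
    exact ⟨((z : P) : G), by rw [Subgroup.orderOf_coe, Subgroup.orderOf_coe, hz],
      fun g hg => congrArg Subtype.val (Subgroup.mem_center_iff.1 z.2 ⟨g, hg⟩), (z : P).2⟩
  have hub : ¬ OneFix Ω u := fun e => hby (e b y (hPb u huP) (hPy u huP))
  have hPX : P ≤ ptC u b := fun g hg => mem_ptC.2 ⟨huc g hg, hPb g hg⟩
  obtain ⟨U, hU'⟩ := (hP.comap_subtype : IsPGroup 2 (P.subgroupOf (ptC u b))).exists_le_sylow
  have hPU : P ≤ tSub U := fun g hg => ⟨⟨g, hPX hg⟩, hU' hg, rfl⟩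
  obtain ⟨F, hF⟩ := h.exists_eset hB hgen hu hub (hPb u huP) U
  have hmax' : ∀ R : Subgroup G, IsPGroup 2 R → ∀ p q : Ω, p ≠ q → (∀ g ∈ R, g • p = p) →
      (∀ g ∈ R, g • q = q) → Nat.card R ≤ Nat.card P := fun R hR p q hpq hp hq =>
    hmax R ⟨hR, p, q, hpq, hp, hq⟩
  have hdvd := h.dvd_orbit_of_largest hB hgen hu hub (hPb u huP) (hPy u huP) hby.symm hF hP hPX hPy hmax'
  by_cases hline : (fixSet Ω u).ncard = Nat.card F + 1
  · exact h.line_false_of_noPairs hB hgen hno hu hub (hPb u huP) U hF hline hdvd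
  obtain ⟨Q, K, K1, r, e, hL⟩ := h.exists_local hB hgen hu hub (hPb u huP) (hPy u huP) hby.symm U hF
  have L : LargeCfg D u b y U F P := ⟨hno, hu, hub, hPb u huP, hPy u huP, hby.symm, hF, hPU, hPy, huP, h4P, hmax',
    h.wker_eq hB hgen hno hu hub (hPb u huP) (hPy u huP) hby.symm U hF hL, hdvd⟩
  rcases hL.e_cases with rfl | rfl | rfl
  · exact hline (by rw [hL.card_fix, one_mul, hL.card_eset])
  · exact L.false_suzuki h hB hgen hL
  · exact hUL G D Ω hB h hgen u b y U F P Q K K1 r L hL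

end Cfsg.Agent.GoodInvol
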