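import Cfsg.Agent.Lib.GoodInvol.LocalDefs
import Cfsg.Agent.Lib.GoodInvol.BenderTorus
import Cfsg.Agent.Lib.GateCons.CoverProof

/-!
# The kernel of the group generated by the members commuting with an involution

The group `genC D u` is perfect, so, its kernel on the fixed points being central modulo the core, that kernel lies
in the core; hence a Sylow 2-subgroup of its point stabiliser maps isomorphically onto one of the induced group.
-/

set_option autoImplicit false
set_option linter.style.haveILetI false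
set_option linter.unusedSectionVars false

namespace Cfsg.Agent.GoodInvol

open Subgroup MulAction

universe u

variable {G : Type u} [Group G] [Finite G] {Ω : Type u} [MulAction G Ω] [Finite Ω] [FaithfulSMul G Ω] {D : Set G}

/-- The action of `genC D u` on the points fixed by `u`. -/
def genAct (D : Set G) (Ω : Type u) [MulAction G Ω] (u : G) : genC D u →* Equiv.Perm (fixSub Ω u) :=
  (toPermHom (Subgroup.centralizer ({u} : Set G)) (fixSub Ω u)).comp (inclusion (genC_le_centralizer D u))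

theorem genAct_apply {u : G} (g : genC D u) (z : fixSub Ω u) :
    ((genAct D Ω u g z : fixSub Ω u) : Ω) = (g : G) • (z : Ω) := rfl

theorem genAct_eq_iff {u : G} {g g' : genC D u} :
    genAct D Ω u g = genAct D Ω u g' ↔ ∀ z : Ω, u • z = z → (g : G) • z = (g' : G) • z := by
  refine ⟨fun e z hz => congrArg Subtype.val (Equiv.congr_fun e ⟨z, hz⟩), fun e => Equiv.ext fun z => Subtype.ext ?_⟩
  rw [genAct_apply, genAct_apply]
  exact e z z.2

theorem mem_ker_genAct {u : G} {g : genC D u} :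
    g ∈ (genAct D Ω u).ker ↔ ∀ z : Ω, u • z = z → (g : G) • z = z := by
  rw [MonoidHom.mem_ker, ← map_one (genAct D Ω u), genAct_eq_iff]
  simp only [OneMemClass.coe_one, one_smul]

theorem range_genAct (u : G) : (genAct D Ω u).range = induced (cenD D u) (fixSub Ω u) := by
  have e : genC D u = (closure (cenD D u)).map (Subgroup.centralizer ({u} : Set G)).subtype := by
    rw [MonoidHom.map_closure, genC]
    congr 1
    ext d
    exact ⟨fun hd => ⟨⟨d, mem_centralizer_singleton_iff.2 hd.2.eq⟩, hd.1, rfl⟩,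
      fun ⟨c, hc, e⟩ => e ▸ ⟨hc, mem_centralizer_singleton_iff.1 c.2⟩⟩
  refine le_antisymm ?_ ?_
  · rintro _ ⟨⟨g, hg⟩, rfl⟩
    obtain ⟨c, hc, hcg⟩ : g ∈ (closure (cenD D u)).map (Subgroup.centralizer ({u} : Set G)).subtype := e ▸ hg
    exact ⟨c, hc, Equiv.ext fun z => Subtype.ext (by
      show (c : G) • (z : Ω) = g • (z : Ω)
      rw [← hcg]; rfl)⟩
  · rintro _ ⟨c, hc, rfl⟩
    have hcg : (c : G) ∈ genC D u := e.symm ▸ ⟨c, hc, rfl⟩
    exact ⟨⟨c, hcg⟩, Equiv.ext fun z => Subtype.ext rfl⟩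

/-- The action, onto the induced group. -/
noncomputable def genHom (D : Set G) (Ω : Type u) [MulAction G Ω] [Finite Ω] [FaithfulSMul G Ω] (u : G) :
    genC D u →* induced (cenD D u) (fixSub Ω u) :=
  (genAct D Ω u).codRestrict _ fun g => range_genAct (D := D) (Ω := Ω) u ▸ ⟨g, rfl⟩

theorem genHom_surjective (u : G) : Function.Surjective (genHom D Ω u) := by
  rintro ⟨i, hi⟩
  obtain ⟨g, rfl⟩ := (range_genAct (D := D) (Ω := Ω) u).symm ▸ hi
  exact ⟨g, rfl⟩

theorem genHom_eq_iff {u : G} {g g' : genC D u} :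
    genHom D Ω u g = genHom D Ω u g' ↔ ∀ z : Ω, u • z = z → (g : G) • z = (g' : G) • z :=
  Iff.trans ⟨fun e => congrArg Subtype.val e, fun e => Subtype.ext e⟩ genAct_eq_iff

theorem genHom_eq_one_iff {u : G} {g : genC D u} :
    genHom D Ω u g = 1 ↔ ∀ z : Ω, u • z = z → (g : G) • z = z := by
  rw [← mem_ker_genAct, MonoidHom.mem_ker]
  exact ⟨fun e => congrArg Subtype.val e, fun e => Subtype.ext e⟩

namespace Crit

variable (h : Crit D Ω)
include h

/-- The induced group is a Bender group. -/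
theorem isBender_induced (hB : Below.{u} (Nat.card G)) (hgen : closure D = ⊤) {u : G} (hu : orderOf u = 2)
    (hbad : ¬ OneFix Ω u) {a : Ω} (ha : u • a = a) {T : Sylow 2 (ptC u a)} {E : Subgroup G}
    (hE : ESet D u a ((T : Subgroup (ptC u a)).map (ptC u a).subtype) E) :
    SEBender.IsBender (induced (cenD D u) (fixSub Ω u)) := by
  obtain ⟨r, e, hP, -⟩ := h.exists_fix_params hB hgen hu hbad ha (map_subtype_le _) hE
  obtain ⟨xF, hax⟩ : ∃ xF : fixSub Ω u, (⟨a, ha⟩ : fixSub Ω u) ≠ xF := by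
    have hb := hbad
    unfold OneFix at hb
    push Not at hb
    obtain ⟨p, q, hp, hq, hpq⟩ := hb
    by_cases hap : a = p
    · exact ⟨⟨q, hq⟩, fun e1 => hpq (hap.symm.trans (congrArg Subtype.val e1))⟩
    · exact ⟨⟨p, hp⟩, fun e1 => hap (congrArg Subtype.val e1)⟩
  rcases induced_outcome (h.centralizer hu) (goal_centralizer hB h hgen hu ha) hax with ⟨hR, -⟩ | ⟨hI, -⟩
  · exfalso
    obtain ⟨d, hd, c, hc, hd1, hc1, hne⟩ := hE.two
    have hcm : ∀ z ∈ E, z ≠ 1 → z ∈ cmem D u := fun z hz hz1 =>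
      ⟨(((hE.mem z).1 hz).resolve_left hz1).1, (mem_ptC.1 (map_subtype_le _ (hE.le hz))).1⟩
    set ψ := genHom D Ω u
    have ho : ∀ (z : G) (hz : z ∈ E) (hz1 : z ≠ 1), orderOf (ψ ⟨z, mem_genC_of_cmem (hcm z hz hz1)⟩) = 2 :=
      fun z hz hz1 => Invol.order_two_of_sq (by
        rw [← map_mul]
        exact genHom_eq_one_iff.2 fun y _ => by
          show (z * z) • y = y
          rw [hE.sq z hz, one_smul]) fun e1 => hz1 (hE.inj z hz 1 (one_mem _) fun y hy => by
            rw [one_smul]; exact genHom_eq_one_iff.1 e1 y hy)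
    refine hne (hE.inj d hd c hc ?_)
    refine genHom_eq_iff.1 (hR _ _ (ho d hd hd1) (ho c hc hc1) ?_)
    show Commute _ _
    refine Commute.map ?_ ψ
    exact Subtype.ext (hE.comm d hd c hc).eq
  · exact hI

/-- The Borel facts of the induced group. -/
theorem borel_induced (hB : Below.{u} (Nat.card G)) (hgen : closure D = ⊤) {u : G} (hu : orderOf u = 2)
    (hbad : ¬ OneFix Ω u) {a : Ω} (ha : u • a = a) {T : Sylow 2 (ptC u a)} {E : Subgroup G}
    (hE : ESet D u a ((T : Subgroup (ptC u a)).map (ptC u a).subtype) E) :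
    BorelFacts (induced (cenD D u) (fixSub Ω u)) :=
  borelFacts (h.isBender_induced hB hgen hu hbad ha hE)

omit [Finite Ω] [FaithfulSMul G Ω] in
/-- The pointwise stabiliser centralises `genC` modulo its core. -/
theorem commutator_genC_mem {u : G} (hbad : ¬ OneFix Ω u) {g : G} (hg : g ∈ fixStab Ω u) {l : G}
    (hl : l ∈ genC D u) : g * l * g⁻¹ * l⁻¹ ∈ fixCore Ω u := by
  induction hl using Subgroup.closure_induction with
  | mem d hd => exact h.commutator_mem_fixCore hbad hd.1 hd.2 hg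
  | one => simp
  | mul l m hl hm ihl ihm =>
    rw [show g * (l * m) * g⁻¹ * (l * m)⁻¹ = (g * l * g⁻¹ * l⁻¹) * (l * (g * m * g⁻¹ * m⁻¹) * l⁻¹) by group]
    exact mul_mem ihl (fixCore_conj (commute_of_genC hl) ihm)
  | inv l hl ihl =>
    rw [show g * l⁻¹ * g⁻¹ * l⁻¹⁻¹ = l⁻¹ * (g * l * g⁻¹ * l⁻¹)⁻¹ * l⁻¹⁻¹ by group]
    exact fixCore_conj (commute_of_genC hl).inv_left (inv_mem ihl)

variable {u : G}

omit [FaithfulSMul G Ω] in
/-- The members commuting with `u` are conjugate in the group they generate. -/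
theorem exists_conj_genC (hu : orderOf u = 2) (hbad : ¬ OneFix Ω u) {d e : G} (hd : d ∈ cmem D u)
    (he : e ∈ cmem D u) : ∃ g ∈ genC D u, g * d * g⁻¹ = e := by
  have key : ∀ d e : G, d ∈ cmem D u → e ∈ cmem D u → ∀ p q : Ω, d • p = p → e • q = q → p ≠ q →
      ∃ g ∈ genC D u, g * d * g⁻¹ = e := fun d e hd he p q hp hq hpq => by
    obtain ⟨g, hg, hge, -⟩ := h.exists_conj hd.1 he.1 hp hq hpq
    refine ⟨g, ?_, hge⟩
    exact closure_mono (Set.insert_subset hd (Set.singleton_subset_iff.2 he)) hg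
  have hb := hbad
  unfold OneFix at hb
  push Not at hb
  obtain ⟨s, t, hs, ht, hst⟩ := hb
  haveI : Nonempty Ω := ⟨s⟩
  obtain ⟨p, hp⟩ := h.exists_fix (h.invol d hd.1)
  obtain ⟨q, hq⟩ := h.exists_fix (h.invol e he.1)
  by_cases hpq : p = q
  · obtain ⟨z, hz, hpz⟩ : ∃ z : Ω, u • z = z ∧ p ≠ z := by
      by_cases hps : p = s
      · exact ⟨t, ht, hps ▸ hst⟩
      · exact ⟨s, hs, hps⟩
    obtain ⟨c, hc, hcu⟩ := Set.nonempty_of_ncard_ne_zero (h.odd_cdat hu hz).pos.ne'
    obtain ⟨g, hg, hgc⟩ := key d c hd ⟨hc.1, hcu⟩ p z hp hc.2 hpz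
    obtain ⟨k, hk, hke⟩ := key c e ⟨hc.1, hcu⟩ he z q hc.2 hq (hpq ▸ hpz.symm)
    refine ⟨k * g, mul_mem hk hg, ?_⟩
    rw [mul_inv_rev, ← hke, ← hgc]
    group
  · exact key d e hd he p q hp hq hpq

/-- The group generated by the members commuting with `u` is perfect. -/
theorem commutator_genC (hu : orderOf u = 2) (hbad : ¬ OneFix Ω u) {a : Ω} {T E : Subgroup G}
    (hT : T ≤ ptC u a) (hE : ESet D u a T E) : commutator (genC D u) = ⊤ := by
  set A := commutator (genC D u)
  let χ : genC D u →* genC D u ⧸ A := QuotientGroup.mk' A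
  have hcomm : ∀ a b : genC D u, χ a * χ b = χ b * χ a := fun a b => by
    rw [← map_mul, ← map_mul]
    refine QuotientGroup.eq.2 ?_
    rw [show (a * b)⁻¹ * (b * a) = b⁻¹ * a⁻¹ * b⁻¹⁻¹ * a⁻¹⁻¹ by group]
    exact Subgroup.commutator_mem_commutator (mem_top _) (mem_top _)
  have hconst : ∀ d e : G, ∀ (hd : d ∈ cmem D u) (he : e ∈ cmem D u),
      χ ⟨d, mem_genC_of_cmem hd⟩ = χ ⟨e, mem_genC_of_cmem he⟩ := fun d e hd he => by
    obtain ⟨g, hg, hge⟩ := h.exists_conj_genC hu hbad hd he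
    rw [show (⟨e, mem_genC_of_cmem he⟩ : genC D u) = ⟨g, hg⟩ * ⟨d, mem_genC_of_cmem hd⟩ * ⟨g, hg⟩⁻¹ from
      Subtype.ext hge.symm, map_mul, map_mul, map_inv, hcomm (⟨g, hg⟩ : genC D u), mul_inv_cancel_right]
  obtain ⟨e, he, f, hf, he1, hf1, hef⟩ := hE.two
  have hcm : ∀ z ∈ E, z ≠ 1 → z ∈ cmem D u := fun z hz hz1 =>
    ⟨(((hE.mem z).1 hz).resolve_left hz1).1, (mem_ptC.1 (hT (hE.le hz))).1⟩
  have hef1 : e * f ≠ 1 := fun h1 => hef (by
    rw [eq_inv_of_mul_eq_one_left h1, inv_eq_of_mul_eq_one_right (hE.sq f hf)])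
  have hone : χ ⟨e, mem_genC_of_cmem (hcm e he he1)⟩ = 1 := by
    have h1 := hconst (e * f) f (hcm _ (mul_mem he hf) hef1) (hcm f hf hf1)
    rw [show (⟨e * f, mem_genC_of_cmem (hcm _ (mul_mem he hf) hef1)⟩ : genC D u) =
      ⟨e, mem_genC_of_cmem (hcm e he he1)⟩ * ⟨f, mem_genC_of_cmem (hcm f hf hf1)⟩ from rfl, map_mul] at h1
    exact mul_eq_right.1 h1
  rw [eq_top_iff]
  rintro ⟨g, hg⟩ -
  rw [← QuotientGroup.eq_one_iff]
  show χ ⟨g, hg⟩ = 1
  induction hg using Subgroup.closure_induction with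
  | mem d hd => rw [← hone]; exact hconst d e hd (hcm e he he1)
  | one => exact map_one χ
  | mul x y hx hy ihx ihy =>
    show χ (⟨x, hx⟩ * ⟨y, hy⟩) = 1
    rw [map_mul, ihx, ihy, one_mul]
  | inv x hx ihx =>
    show χ (⟨x, hx⟩⁻¹) = 1
    rw [map_inv, ihx, inv_one]

variable (hB : Below.{u} (Nat.card G)) (hgen : closure D = ⊤)
include hB hgen

/-- An element of `genC` fixing `a`, of square one on the fixed points, acts as an element of `E`. -/
theorem exists_eset_act (hu : orderOf u = 2) (hbad : ¬ OneFix Ω u) {a : Ω} (ha : u • a = a) {T E : Subgroup G}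
    (hT : T ≤ ptC u a) (hE : ESet D u a T E) {g : G} (hg : g ∈ genC D u) (hga : g • a = a)
    (hg2 : ∀ z : Ω, u • z = z → g • g • z = z) : ∃ e ∈ E, ∀ z : Ω, u • z = z → e • z = g • z := by
  classical
  set ψ := genHom D Ω u
  by_cases h1 : ψ ⟨g, hg⟩ = 1
  · exact ⟨1, one_mem _, fun z hz => by rw [one_smul, (genHom_eq_one_iff.1 h1) z hz]⟩
  obtain ⟨xF, hax⟩ : ∃ xF : fixSub Ω u, (⟨a, ha⟩ : fixSub Ω u) ≠ xF := by
    have hb := hbad
    unfold OneFix at hb
    push Not at hb
    obtain ⟨p, q, hp, hq, hpq⟩ := hb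
    by_cases hap : a = p
    · exact ⟨⟨q, hq⟩, fun e1 => hpq (hap.symm.trans (congrArg Subtype.val e1))⟩
    · exact ⟨⟨p, hp⟩, fun e1 => hap (congrArg Subtype.val e1)⟩
  have hCrit : Crit (cenD D u) (fixSub Ω u) := h.centralizer hu
  have hGoal : Goal (cenD D u) (fixSub Ω u) := goal_centralizer hB h hgen hu ha
  obtain ⟨hse, -⟩ := se_induced hCrit hGoal hax
  obtain ⟨e0, he0, -, -, he01, -, -⟩ := hE.two
  have he0D : e0 ∈ cmem D u := ⟨(((hE.mem e0).1 he0).resolve_left he01).1, (mem_ptC.1 (hT (hE.le he0))).1⟩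
  have ho1 : orderOf (ψ ⟨e0, mem_genC_of_cmem he0D⟩) = 2 := by
    refine Invol.order_two_of_sq ?_ fun e1 => he01 (hE.inj e0 he0 1 (one_mem _) fun z hz => ?_)
    · rw [← map_mul]
      exact genHom_eq_one_iff.2 fun z _ => by
        show (e0 * e0) • z = z
        rw [hE.sq e0 he0, one_smul]
    · rw [one_smul]; exact genHom_eq_one_iff.1 e1 z hz
  have ho2 : orderOf (ψ ⟨g, hg⟩) = 2 := Invol.order_two_of_sq (by
    rw [← map_mul]
    exact genHom_eq_one_iff.2 fun z hz => by
      show (g * g) • z = z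
      rw [mul_smul, hg2 z hz]) h1
  obtain ⟨c, hc⟩ := isConj_iff.1 (Invol.se_isConj hse ho1 ho2)
  obtain ⟨k, rfl⟩ := genHom_surjective (D := D) (Ω := Ω) u c
  rw [← map_inv, ← map_mul, ← map_mul] at hc
  have hact := genHom_eq_iff.1 hc
  set d := (k : G) * e0 * (k : G)⁻¹ with hd
  have hdm : d ∈ cmem D u :=
    ⟨h.conj k e0 he0D.1, ((commute_of_genC k.2).mul_left he0D.2).mul_left (commute_of_genC k.2).inv_left⟩
  obtain ⟨e, he, -, hez⟩ := hE.lift d hdm.1 (mem_ptC.2 ⟨hdm.2, (hact a ha).trans hga⟩)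
  exact ⟨e, he, fun z hz => (hez z hz).trans (hact z hz)⟩

/-- A Sylow 2-subgroup of the stabiliser gives one of `genC`. -/
theorem exists_sylow_genC (hu : orderOf u = 2) (hbad : ¬ OneFix Ω u) {a : Ω} (ha : u • a = a)
    (T : Sylow 2 (ptC u a)) : ∃ S : Sylow 2 (genC D u),
      (S : Subgroup (genC D u)) = ((T : Subgroup (ptC u a)).map (ptC u a).subtype).subgroupOf (genC D u) := by
  classical
  haveI : Fact (Nat.Prime 2) := ⟨Nat.prime_two⟩
  set N : Subgroup (ptC u a) := (genC D u).subgroupOf (ptC u a) with hN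
  haveI hNn : N.Normal := ⟨fun n hn g => h.conj_genC (mem_ptC.1 g.2).1 hn⟩
  obtain ⟨S0, hS0⟩ := PBasic.exists_sylow_subgroupOf T N
  set T' := (T : Subgroup (ptC u a)).map (ptC u a).subtype with hT'
  set P : Subgroup (genC D u) := T'.subgroupOf (genC D u) with hP
  have hP2 : IsPGroup 2 P := (T.2.map _).comap_subtype
  refine ⟨hP2.toSylow ?_, rfl⟩
  set H : Subgroup (genC D u) := (stabilizer G a).subgroupOf (genC D u) with hH
  have hPH : P ≤ H := by
    rintro g ⟨t, -, ht⟩
    show (g : G) • a = a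
    rw [show (g : G) = (t : G) from ht.symm]
    exact (mem_ptC.1 t.2).2
  -- the index of the stabiliser is the number of fixed points
  have hidx : Odd H.index := by
    have e : H = stabilizer (genC D u) a := by ext g; rfl
    rw [e, index_stabilizer]
    have horb : orbit (genC D u) a = fixSet Ω u := by
      ext z
      constructor
      · rintro ⟨g, rfl⟩
        show u • (g : G) • a = (g : G) • a
        rw [← mul_smul, ← (commute_of_genC g.2).eq, mul_smul, ha]
      · intro hz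
        obtain ⟨c, hc, hcz⟩ := (h.centralizer hu).exists_smul (⟨a, ha⟩ : fixSub Ω u) ⟨z, hz⟩
        obtain ⟨g, hg⟩ : toPermHom _ (fixSub Ω u) c ∈ (genAct D Ω u).range :=
          (range_genAct (D := D) (Ω := Ω) u).symm ▸ mem_map_of_mem _ hc
        exact ⟨g, congrArg Subtype.val ((Equiv.congr_fun hg ⟨a, ha⟩).trans hcz)⟩
    rw [horb]
    obtain ⟨j, hj⟩ := h.exists_fix_pow hB hgen hu hbad
    rw [hj]
    rcases j with _ | j
    · exfalso
      obtain ⟨E, hE⟩ := h.exists_eset hB hgen hu hbad ha T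
      have h2 := h.card_eset_dvd hB hgen hu hbad ha (map_subtype_le _) hE
      rw [hj, pow_zero, Nat.add_sub_cancel, Nat.dvd_one] at h2
      obtain ⟨e, he, -, -, he1, -, -⟩ := hE.two
      exact he1 (congrArg Subtype.val ((Nat.card_eq_one_iff_unique.1 h2).1.elim (⟨e, he⟩ : E) 1))
    · exact (Nat.even_pow.2 ⟨even_two, Nat.succ_ne_zero j⟩).add_one
  -- the relative index is that of a Sylow subgroup
  have hrel : P.relIndex H = (S0 : Subgroup N).index := by
    rw [hS0, hP, hH, hT']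
    show _ = ((T : Subgroup (ptC u a)).subgroupOf N).index
    let φ : N ≃ H :=
      { toFun := fun n => ⟨⟨((n : ptC u a) : G), n.2⟩, (mem_ptC.1 (n : ptC u a).2).2⟩
        invFun := fun g => ⟨⟨((g : genC D u) : G), mem_ptC.2 ⟨commute_of_genC (g : genC D u).2, g.2⟩⟩, (g : genC D u).2⟩
        left_inv := fun _ => rfl
        right_inv := fun _ => rfl }
    let ψ : N ≃* H := { φ with map_mul' := fun _ _ => rfl }
    rw [Subgroup.relIndex, ← Subgroup.index_comap_of_surjective _ (f := ψ.toMonoidHom) ψ.surjective]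
    congr 1
    ext n
    show ((n : ptC u a) : G) ∈ (T : Subgroup (ptC u a)).map (ptC u a).subtype ↔ (n : ptC u a) ∈ (T : Subgroup (ptC u a))
    exact mem_map_iff_mem (subtype_injective _)
  intro hd
  rw [← relIndex_mul_index hPH, hrel] at hd
  rcases Nat.prime_two.dvd_mul.1 hd with h2 | h2
  · exact S0.not_dvd_index h2
  · exact Nat.not_even_iff_odd.2 hidx (even_iff_two_dvd.2 h2)

/-- The kernel of the action of `genC` lies in the core. -/
theorem genC_inf_fixStab_le (hu : orderOf u = 2) (hbad : ¬ OneFix Ω u) :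
    genC D u ⊓ fixStab Ω u ≤ kerCore Ω u := by
  classical
  haveI : Fact (Nat.Prime 2) := ⟨Nat.prime_two⟩
  have hb := hbad
  unfold OneFix at hb
  push Not at hb
  obtain ⟨a, x, ha, hx, hax⟩ := hb
  obtain ⟨T⟩ := (inferInstance : Nonempty (Sylow 2 (ptC u a)))
  obtain ⟨E, hE⟩ := h.exists_eset hB hgen hu hbad ha T
  set T' := (T : Subgroup (ptC u a)).map (ptC u a).subtype with hT'
  set L := genC D u with hLdef
  set ψ := genHom D Ω u with hψ
  obtain ⟨S, hS⟩ := h.exists_sylow_genC hB hgen hu hbad ha T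
  set N : Subgroup L := (kerCore Ω u).subgroupOf L with hN
  haveI hNn : N.Normal := ⟨fun n hn g => by
    obtain ⟨h1, h2⟩ := mem_kerCore.1 (show (n : G) ∈ kerCore Ω u from hn)
    have hgu := commute_of_genC g.2
    exact mem_kerCore.2 ⟨fixCore_conj hgu h1, (hgu.mul_left h2).mul_left hgu.inv_left⟩⟩
  have hNker : N ≤ ψ.ker := fun n hn => genHom_eq_one_iff.2 fun z hz => fixCore_le _ (mem_kerCore.1 hn).1 z hz
  set π := QuotientGroup.mk' N with hπ
  set C : Subgroup (L ⧸ N) := ψ.ker.map π with hC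
  haveI : C.Normal := ψ.normal_ker.map π (QuotientGroup.mk'_surjective N)
  -- central modulo the core
  have hcen : ∀ k ∈ ψ.ker, ∀ l : L, π k * π l = π l * π k := fun k hk l => by
    rw [← map_mul, ← map_mul]
    refine QuotientGroup.eq.2 ?_
    have h1 := h.commutator_genC_mem hbad
      (show (k : G)⁻¹ ∈ fixStab Ω u from inv_mem (genHom_eq_one_iff.1 hk : (k : G) ∈ fixStab Ω u)) l.2
    refine mem_kerCore.2 ⟨?_, commute_of_genC (((k * l)⁻¹ * (l * k) : L)).2⟩
    show ((k : G) * (l : G))⁻¹ * ((l : G) * (k : G)) ∈ fixCore Ω u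
    rw [show ((k : G) * (l : G))⁻¹ * ((l : G) * (k : G)) =
      (l : G)⁻¹ * ((k : G)⁻¹ * (l : G) * (k : G)⁻¹⁻¹ * (l : G)⁻¹) * (l : G)⁻¹⁻¹ by group]
    exact fixCore_conj (commute_of_genC l.2).inv_left h1
  have hCZ : C ≤ center (L ⧸ N) := by
    rintro _ ⟨k, hk, rfl⟩
    refine mem_center_iff.2 fun y => ?_
    obtain ⟨l, rfl⟩ := QuotientGroup.mk'_surjective N y
    exact (hcen k hk l).symm
  -- no element of odd order
  have hodd1 : ∀ k ∈ ψ.ker, Odd (orderOf (π k)) → π k = 1 := by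
    intro k hk hodd
    refine (QuotientGroup.eq_one_iff k).2 (mem_kerCore.2 ⟨?_, commute_of_genC k.2⟩)
    set R : Subgroup L := (zpowers (π k)).comap π with hR
    have hRker : R ≤ ψ.ker := by
      intro l hl
      obtain ⟨i, hi⟩ := hl
      have : (k ^ i)⁻¹ * l ∈ N := QuotientGroup.eq.1 (show π (k ^ i) = π l by rw [map_zpow]; exact hi)
      simpa using mul_mem (zpow_mem hk i) (hNker this)
    have hRodd : Odd (Nat.card R) := by
      have hNR : N ≤ R := fun n hn => by
        show π n ∈ zpowers (π k)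
        rw [show π n = 1 from (QuotientGroup.eq_one_iff n).2 hn]
        exact one_mem _
      rw [← card_mul_index (N.subgroupOf R), Nat.card_congr (subgroupOfEquivOfLe hNR).toEquiv]
      refine Odd.mul ?_ ?_
      · refine (odd_kerCore (Ω := Ω) u).of_dvd_nat ?_
        rw [← card_map_of_injective (K := N) (subtype_injective L), hN, subgroupOf_map_subtype]
        exact card_dvd_of_le inf_le_left
      · have e := relIndex_map_map π N R
        rw [QuotientGroup.ker_mk', sup_idem, sup_eq_left.2 hNR, QuotientGroup.map_mk'_self,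
          relIndex_bot_left, hR, map_comap_eq_self_of_surjective (QuotientGroup.mk'_surjective N),
          Nat.card_zpowers] at e
        show Odd (N.relIndex R)
        rw [← e]
        exact hodd
    set R' : Subgroup G := R.map L.subtype ⊔ fixCore Ω u with hR'
    have hRs : R.map L.subtype ≤ fixStab Ω u := by
      rintro _ ⟨l, hl, rfl⟩
      exact genHom_eq_one_iff.1 (hRker hl)
    have hR'le : R' ≤ fixStab Ω u := sup_le hRs (fixCore_le u)
    have hn : ∀ g ∈ fixStab Ω u, ∀ y ∈ R', g * y * g⁻¹ ∈ R' := by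
      intro g hg
      have hle : R' ≤ R'.comap (MulAut.conj g).toMonoidHom := sup_le (fun y ⟨l, hl, e⟩ => by
        subst e
        show g * (l : G) * g⁻¹ ∈ R'
        rw [show g * (l : G) * g⁻¹ = (g * (l : G) * g⁻¹ * (l : G)⁻¹) * l by group]
        exact mul_mem (le_sup_right (a := R.map L.subtype) (h.commutator_genC_mem hbad hg l.2))
          (le_sup_left (b := fixCore Ω u) ⟨l, hl, rfl⟩))
        (fun y hy => le_sup_right (a := R.map L.subtype) (fixCore_conj_fixStab hg hy))
      exact fun y hy => hle hy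
    haveI hR'n : (R'.subgroupOf (fixStab Ω u)).Normal := ⟨fun y hy g => hn g g.2 y hy⟩
    haveI hFn : ((fixCore Ω u).subgroupOf (fixStab Ω u)).Normal :=
      ⟨fun y hy g => fixCore_conj_fixStab g.2 hy⟩
    have hodd' : Odd (Nat.card (R'.subgroupOf (fixStab Ω u))) := by
      rw [hR', subgroupOf_sup hRs (fixCore_le u)]
      set A := (R.map L.subtype).subgroupOf (fixStab Ω u) with hAdef
      set B := (fixCore Ω u).subgroupOf (fixStab Ω u) with hBdef
      have hA : Nat.card A = Nat.card R := by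
        rw [hAdef, Nat.card_congr (subgroupOfEquivOfLe hRs).toEquiv, card_map_of_injective (subtype_injective L)]
      have hB' : Nat.card B = Nat.card (fixCore Ω u) := Nat.card_congr (subgroupOfEquivOfLe (fixCore_le u)).toEquiv
      rw [← card_mul_index (B.subgroupOf (A ⊔ B)), Nat.card_congr (subgroupOfEquivOfLe (le_sup_right : B ≤ A ⊔ B)).toEquiv, hB']
      refine (odd_fixCore (Ω := Ω) u).mul ?_
      show Odd (B.relIndex (A ⊔ B))
      rw [relIndex_sup_right]
      exact hRodd.of_dvd_nat (hA ▸ (Subgroup.relIndex_dvd_card B A))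
    have hle := PBasic.le_pPrimeCore (p := 2) hR'n (Nat.coprime_two_right.2 hodd')
    have hkR : (k : G) ∈ R' := le_sup_left (b := fixCore Ω u) ⟨k, mem_zpowers (π k), rfl⟩
    exact ⟨⟨k, hR'le hkR⟩, hle hkR, rfl⟩
  have hC2 : IsPGroup 2 C := by
    rintro ⟨_, k, hk, rfl⟩
    obtain ⟨j, m, hm, hjm⟩ := Nat.exists_eq_two_pow_mul_odd (orderOf_pos (π k)).ne'
    refine ⟨j, Subtype.ext ?_⟩
    show π k ^ 2 ^ j = 1
    rw [← map_pow]
    refine hodd1 _ (pow_mem hk _) ?_
    rw [map_pow, orderOf_pow' _ (by positivity), hjm, Nat.gcd_eq_right (dvd_mul_right _ _),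
      Nat.mul_div_cancel_left _ (by positivity)]
    exact hm
  have hNeq : N.comap (MonoidHom.id L) = N := rfl
  -- the quotient is the induced group
  have hquot : SEBender.IsBender ((L ⧸ N) ⧸ C) := by
    have e1 : (L ⧸ N) ⧸ C ≃* L ⧸ ψ.ker := QuotientGroup.quotientQuotientEquivQuotient N ψ.ker hNker
    have e2 : L ⧸ ψ.ker ≃* induced (cenD D u) (fixSub Ω u) :=
      QuotientGroup.quotientKerEquivOfSurjective ψ (genHom_surjective u)
    obtain ⟨-, -, hI⟩ : True ∧ True ∧ SEBender.IsBender (induced (cenD D u) (fixSub Ω u)) :=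
      ⟨trivial, trivial, h.isBender_induced hB hgen hu hbad ha hE⟩
    exact isBender_congr (e1.trans e2).symm hI
  -- the Sylow subgroup
  set P := S.mapSurjective (QuotientGroup.mk'_surjective N) with hPdef
  have hTX : ∀ {g : L}, g ∈ (S : Subgroup L) ↔ (g : G) ∈ T' := fun {g} => by rw [hS]; rfl
  have hfixa : ∀ {g : L}, g ∈ (S : Subgroup L) → (g : G) • a = a := fun {g} hg => by
    obtain ⟨t, -, ht⟩ := hTX.1 hg
    rw [← ht]; exact (mem_ptC.1 t.2).2
  have hcov := GateCons.cover (L ⧸ N) C hCZ hC2 hquot P (fun y hy hyC x hx => by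
    obtain ⟨g, hg, rfl⟩ := hy
    obtain ⟨l, hl, rfl⟩ := hx
    have hg2 : g * g ∈ ψ.ker := by
      obtain ⟨k, hk, hk'⟩ := hyC
      have : k⁻¹ * (g * g) ∈ N := QuotientGroup.eq.1 (show π k = π (g * g) by rw [hk', map_mul])
      simpa using mul_mem hk (hNker this)
    obtain ⟨e, he, hez⟩ := h.exists_eset_act hB hgen hu hbad ha (map_subtype_le _) hE g.2 (hfixa hg)
      fun z hz => by rw [← mul_smul]; exact genHom_eq_one_iff.1 hg2 z hz
    have heL : e ∈ L := by
      by_cases he1 : e = 1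
      · rw [he1]; exact one_mem _
      · exact mem_genC_of_cmem ⟨(((hE.mem e).1 he).resolve_left he1).1, (mem_ptC.1 (map_subtype_le _ (hE.le he))).1⟩
    set eL : L := ⟨e, heL⟩
    have heS : eL ∈ (S : Subgroup L) := hTX.2 (hE.le he)
    have hker : eL⁻¹ * g ∈ ψ.ker := by
      rw [MonoidHom.mem_ker, map_mul, map_inv, inv_mul_eq_one]
      exact genHom_eq_iff.2 hez
    have hel : Commute eL l := by
      have hPI := h.borel_induced hB hgen hu hbad ha hE
      have he2 : ψ eL * ψ eL = 1 := by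
        rw [← map_mul]
        refine genHom_eq_one_iff.2 fun z _ => ?_
        show (e * e) • z = z
        rw [hE.sq e he, one_smul]
      have hc := hPI.central (S.mapSurjective (genHom_surjective u)) (ψ eL) ⟨eL, heS, rfl⟩ he2 (ψ l) ⟨l, hl, rfl⟩
      have h1 : (l : G) * e * (l : G)⁻¹ = e := by
        refine hE.inj _ (hE.norm _ (hTX.1 hl) e he) e he fun z hz => ?_
        have h2 : genHom D Ω u (l * eL * l⁻¹) = genHom D Ω u eL := by
          rw [map_mul, map_mul, map_inv, ← hc.eq, mul_inv_cancel_right]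
        exact genHom_eq_iff.1 h2 z hz
      exact Subtype.ext (mul_inv_eq_iff_eq_mul.1 h1).symm
    refine Commute.symm ?_
    show Commute (π g) (π l)
    rw [show g = eL * (eL⁻¹ * g) from (mul_inv_cancel_left eL g).symm, map_mul]
    exact (hel.map π).mul_left (hcen _ hker l))
  have hperf : commutator (L ⧸ N) = ⊤ := by
    have h1 := map_commutator (⊤ : Subgroup L) ⊤ π
    rw [map_top_of_surjective _ (QuotientGroup.mk'_surjective N)] at h1
    rw [_root_.commutator_def, ← h1, ← _root_.commutator_def, h.commutator_genC hu hbad (map_subtype_le _) hE,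
      map_top_of_surjective _ (QuotientGroup.mk'_surjective N)]
  rw [hperf, inf_top_eq] at hcov
  intro g hg
  obtain ⟨hgL, hgS⟩ := mem_inf.1 hg
  have : π ⟨g, hgL⟩ ∈ C := ⟨⟨g, hgL⟩, genHom_eq_one_iff.2 hgS, rfl⟩
  rw [hcov, mem_bot] at this
  exact (show (⟨g, hgL⟩ : L) ∈ N from (QuotientGroup.eq_one_iff (⟨g, hgL⟩ : L)).1 this)

end Crit

end Cfsg.Agent.GoodInvol
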