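import Cfsg.Agent.Lib.GoodInvol.BenderTorus
import Cfsg.Agent.Lib.GoodInvol.Companion.Kind
import Cfsg.Agent.Lib.SU3Sylow.Pairs
import Mathlib.LinearAlgebra.Matrix.Charpoly.Basic
import Mathlib.RingTheory.Coprime.Lemmas

/-!
# Products of two involutions in the unitary groups of degree three

A product of two involutions of `PSU(3, q)`, `q` even, has order dividing `q ^ 2 - 1` or `4`: it lifts to a matrix
with equal traces of it and of its inverse, so this trace lies in `GF(q)` and the roots of its polynomial in `GF(q ^ 2)`.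
-/

set_option autoImplicit false
set_option linter.style.haveILetI false
set_option linter.unusedSectionVars false

namespace Cfsg.Agent.GoodInvol

open Matrix Hermitian Polynomial

universe u

section Field

variable {F : Type} [Field F]

/-- The polynomial of a matrix of determinant one in degree three. -/
theorem cubic_relation (A : Matrix (Fin 3) (Fin 3) F) (hA : A.det = 1) :
    A * A * A - A.trace • (A * A) + A.adjugate.trace • A - 1 = 0 := by
  rw [det_fin_three] at hA
  ext i j
  fin_cases i <;> fin_cases j <;>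
    simp [Matrix.mul_apply, Fin.sum_univ_three, Matrix.trace, adjugate_fin_three] <;>
    first
      | ring1
      | linear_combination hA
      | linear_combination -hA

variable [Fintype F] [DecidableEq F] [CharP F 2]

/-- Three distinct roots. -/
theorem pow_card_pred_eq_one (A : Matrix (Fin 3) (Fin 3) F) {a b c : F} (ha : a ≠ 0) (hb : b ≠ 0) (hc : c ≠ 0)
    (hab : a ≠ b) (hac : a ≠ c) (hbc : b ≠ c)
    (h : (aeval A) ((X - C a) * (X - C b) * (X - C c)) = 0) : A ^ (Fintype.card F - 1) = 1 := by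
  have hroot : ∀ z : F, z ≠ 0 → X - C z ∣ (X ^ (Fintype.card F - 1) - 1 : F[X]) := fun z hz =>
    dvd_iff_isRoot.2 (by simp [IsRoot, FiniteField.pow_card_sub_one_eq_one z hz])
  have hdvd : (X - C a) * (X - C b) * (X - C c) ∣ (X ^ (Fintype.card F - 1) - 1 : F[X]) :=
    IsCoprime.mul_dvd
      (IsCoprime.mul_left (isCoprime_X_sub_C_of_isUnit_sub (sub_ne_zero.2 hac).isUnit)
        (isCoprime_X_sub_C_of_isUnit_sub (sub_ne_zero.2 hbc).isUnit))
      (IsCoprime.mul_dvd (isCoprime_X_sub_C_of_isUnit_sub (sub_ne_zero.2 hab).isUnit) (hroot a ha) (hroot b hb))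
      (hroot c hc)
  obtain ⟨R, hR⟩ := hdvd
  have := congrArg (aeval A) hR
  rw [map_mul, h, zero_mul, map_sub, map_pow, aeval_X, map_one, sub_eq_zero] at this
  exact this

variable {σ : F →+* F} [hi : SU3Sylow.Inv2 σ]

/-- A matrix of `SU(3, q)` with the trace of its inverse equal to its trace. -/
theorem su_order {q : ℕ} (hne : σ ≠ RingHom.id F) (hσ : ∀ x, σ x = x ^ q) {x : Matrix.SpecialLinearGroup (Fin 3) F}
    (hx : x ∈ Cfsg.SU 3 F q) (htr : (x⁻¹).1.trace = x.1.trace) :
    x ^ (Fintype.card F - 1) = 1 ∨ x ^ 4 = 1 := by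
  classical
  set A : Matrix (Fin 3) (Fin 3) F := x.1 with hAdef
  have hdet : A.det = 1 := x.2
  have hadj : A.adjugate = (x⁻¹).1 := (Matrix.SpecialLinearGroup.coe_inv x).symm
  have hfix : σ A.trace = A.trace := by
    have h1 := (HermSU.mem_SU_iff hσ x).1 hx
    have h2 : (A.adjugate).map σ = Aᵀ := by
      have h3 : A.map σ * A.adjugate.map σ = 1 := by
        rw [← Matrix.map_mul, Matrix.mul_adjugate, hdet, one_smul, Matrix.map_one _ (map_zero σ) (map_one σ)]
      calc A.adjugate.map σ = (Aᵀ * A.map σ) * A.adjugate.map σ := by rw [h1, one_mul]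
        _ = Aᵀ := by rw [Matrix.mul_assoc, h3, mul_one]
    have h4 := congrArg Matrix.trace h2
    rw [Matrix.trace_transpose] at h4
    rw [← h4]
    conv_lhs => rw [h4, ← htr, ← hadj]
    simp [Matrix.trace]
  set s := A.trace + 1 with hs
  have hrel : A * A * A + (s + 1) • (A * A) + (s + 1) • A + 1 = 0 := by
    have h1 := cubic_relation A hdet
    rw [hadj, htr] at h1
    have e : s + 1 = A.trace := by rw [hs, add_assoc, CharTwo.add_self_eq_zero, add_zero]
    rw [e]
    simpa [CharTwo.sub_eq_add, sub_eq_add_neg, ← Matrix.ext_iff, CharTwo.neg_eq] using h1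
  have hsσ : σ s = s := by rw [hs, map_add, hfix, map_one]
  have hpow : ∀ n : ℕ, A ^ n = 1 → x ^ n = 1 := fun n hn => Subtype.ext (by
    rw [Matrix.SpecialLinearGroup.coe_pow]; exact hn)
  by_cases hs0 : s = 0
  · refine Or.inr (hpow 4 ?_)
    rw [hs0, zero_add, one_smul, one_smul] at hrel
    have h3 : A * A * A = A * A + A + 1 := by
      ext i j
      have := congrFun (congrFun hrel i) j
      simp only [Matrix.add_apply, Matrix.zero_apply] at this ⊢
      exact CharTwo.add_eq_zero.1 (by linear_combination this)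
    calc A ^ 4 = A * A * A * A := by simp [pow_succ, mul_assoc]
      _ = A * A * A + A * A + A := by rw [h3, add_mul, add_mul, one_mul, h3]
      _ = 1 := by
        rw [h3]
        ext i j
        simp only [Matrix.add_apply]
        linear_combination ((A * A) i j + A i j) * (CharTwo.two_eq_zero (R := F))
  · obtain ⟨l, hl⟩ := SU3Sylow.exists_artin_schreier (α := σ) (map_add σ) (map_mul σ) hi.inv2
      (by by_contra hh; push Not at hh; exact hne (RingHom.ext hh)) (r := (s * s)⁻¹)
      (by rw [map_inv₀, map_mul, hsσ])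
    set b := s * l with hb
    have hb2 : b * b + s * b = 1 := by
      rw [hb, show s * l * (s * l) + s * (s * l) = s * s * (l * l + l) by ring, hl,
        mul_inv_cancel₀ (mul_ne_zero hs0 hs0)]
    have hb0 : b ≠ 0 := fun e => by rw [e] at hb2; simp at hb2
    have hb1 : b ≠ 1 := fun e => by
      rw [e, mul_one, mul_one] at hb2
      exact hs0 (add_left_cancel (hb2.trans (add_zero 1).symm))
    have hc0 : b + s ≠ 0 := fun e => by
      rw [CharTwo.add_eq_zero.1 e, CharTwo.add_self_eq_zero] at hb2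
      exact zero_ne_one hb2
    have hc1 : b + s ≠ 1 := fun e => hb1 (by
      have : b * (b + s) = 1 := by rw [← hb2]; ring
      rwa [e, mul_one] at this)
    refine Or.inl (hpow _ (pow_card_pred_eq_one A (a := 1) (b := b) (c := b + s) one_ne_zero hb0 hc0
      (Ne.symm hb1) (Ne.symm hc1) (fun e => hs0 (left_eq_add.1 e)) ?_))
    have hP : (X - C (1 : F)) * (X - C b) * (X - C (b + s)) = X * X * X + C (s + 1) * (X * X) + C (s + 1) * X + 1 := by
      have e2 : (2 : F[X]) = 0 := CharTwo.two_eq_zero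
      have eb : C b * C b + C s * C b = (1 : F[X]) := by rw [← C_mul, ← C_mul, ← C_add, hb2, C_1]
      simp only [map_add, map_one, CharTwo.sub_eq_add]
      linear_combination (X + 1) * eb + (X * C b + X * X * C b) * e2
    rw [hP, map_add, map_add, map_add, map_mul, map_mul, map_mul, map_mul, aeval_X, aeval_C, map_one,
      Algebra.algebraMap_eq_smul_one]
    simpa [map_mul, aeval_X, Algebra.algebraMap_eq_smul_one, add_smul, add_mul] using hrel

end Field

/-- A product of two involutions of a group with the parameters of `PSU(3, 2 ^ r)`. -/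
theorem BenderParams.prod_invol_order {L : Type u} [Group L] [Finite L] (hL : SEBender.IsBender L) {r : ℕ}
    (hP : BenderParams L r 3) {a b : L} (ha : a * a = 1) (hb : b * b = 1) :
    orderOf (a * b) ∣ 2 ^ (2 * r) - 1 ∨ orderOf (a * b) ∣ 4 := by
  classical
  haveI : Fact (Nat.Prime 2) := ⟨Nat.prime_two⟩
  rcases hL with ⟨F, _, _, ⟨n, hn, hF⟩, ⟨f⟩⟩ | ⟨F, _, _, m, hm, hF, ⟨f⟩⟩ | ⟨F, _, _, n, hn, hF, ⟨f⟩⟩
  · haveI : CharP F 2 := charP_of_card_eq_prime_pow hF
    obtain ⟨g⟩ := SEMain.psl_equiv_sl (F := F)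
    exact absurd (hP.unique ((params_sl_two hn hF).congr (f.trans g))).2 (by norm_num)
  · exact absurd (hP.unique ((params_sz ⟨hm, hF⟩).congr (f.trans (Suzuki.minorEquiv ⟨hm, hF⟩).symm))).2
      (by norm_num)
  · obtain ⟨_, σ, _, hne, hσ, hq⟩ := SU3Sylow.setup (by omega : 1 ≤ n) hF
    obtain rfl : r = n := (hP.unique ((params_psu hn hF).congr f)).1
    have hlift : ∀ c : L, c * c = 1 → ∃ A : Cfsg.SU 3 F (2 ^ r), A * A = 1 ∧
        (QuotientGroup.mk A : Cfsg.PSU 3 F (2 ^ r)) = f c := by
      intro c hc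
      obtain ⟨A, hA⟩ := QuotientGroup.mk_surjective (f c)
      have hAA : A * A ∈ Subgroup.center (Cfsg.SU 3 F (2 ^ r)) := by
        rw [← QuotientGroup.eq_one_iff, QuotientGroup.mk_mul, hA, ← map_mul, hc, map_one]
      have h3 : (A * A) ^ 3 = 1 := by
        refine orderOf_dvd_iff_pow_eq_one.1 ?_
        rw [← Subgroup.orderOf_mk _ hAA]
        refine (orderOf_dvd_natCard _).trans ?_
        rw [HermSU.card_center_SU hne SU3Sylow.Inv2.inv2 hσ (by norm_num : 2 ≤ 3) hq]
        exact Nat.gcd_dvd_left _ _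
      refine ⟨A * (A * A), ?_, ?_⟩
      · rw [← h3]; simp only [pow_succ, pow_zero, one_mul, mul_assoc]
      · rw [QuotientGroup.mk_mul, (QuotientGroup.eq_one_iff _).2 hAA, mul_one, hA]
    obtain ⟨A, hA, hAf⟩ := hlift a ha
    obtain ⟨B, hB, hBf⟩ := hlift b hb
    have hA' : (A : Matrix.SpecialLinearGroup (Fin 3) F) * A = 1 := congrArg Subtype.val hA
    have hB' : (B : Matrix.SpecialLinearGroup (Fin 3) F) * B = 1 := congrArg Subtype.val hB
    have htr : (((A * B : Cfsg.SU 3 F (2 ^ r)) : Matrix.SpecialLinearGroup (Fin 3) F)⁻¹).1.trace =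
        ((A * B : Cfsg.SU 3 F (2 ^ r)) : Matrix.SpecialLinearGroup (Fin 3) F).1.trace := by
      rw [Subgroup.coe_mul, _root_.mul_inv_rev, inv_eq_of_mul_eq_one_right hA', inv_eq_of_mul_eq_one_right hB',
        Matrix.SpecialLinearGroup.coe_mul, Matrix.SpecialLinearGroup.coe_mul, Matrix.trace_mul_comm]
    have hord : orderOf (a * b) ∣ orderOf ((A * B : Cfsg.SU 3 F (2 ^ r)) : Matrix.SpecialLinearGroup (Fin 3) F) := by
      rw [Subgroup.orderOf_coe, ← orderOf_injective f.toMonoidHom f.injective (a * b), MulEquiv.coe_toMonoidHom,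
        map_mul, ← hAf, ← hBf, ← QuotientGroup.mk_mul]
      exact orderOf_map_dvd (QuotientGroup.mk' (Subgroup.center (Cfsg.SU 3 F (2 ^ r)))) (A * B)
    have hc : 2 ^ (2 * r) - 1 = Fintype.card F - 1 := by rw [hF, ← pow_mul, mul_comm]
    rcases su_order hne hσ (A * B).2 htr with h | h
    · exact Or.inl (hc ▸ hord.trans (orderOf_dvd_of_pow_eq_one h))
    · exact Or.inr (hord.trans (orderOf_dvd_of_pow_eq_one h))

end Cfsg.Agent.GoodInvol
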