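import Cfsg.Agent.Lib.GoodInvol.SzBound
import Cfsg.Agent.Lib.GoodInvol.LocalKernel
import Cfsg.Agent.Lib.GoodInvol.UnitaryOrder

/-!
# The centres in the unitary case

A prime other than three dividing `q ^ 2 - q + 1` does not divide the number of centres of a moved point, as a Sylow
subgroup normalised by one of the members fixes its centre; so `q ^ 6` does not divide `|Omega| - 1`.
-/

set_option autoImplicit false
set_option linter.style.haveILetI false
set_option linter.unusedSectionVars false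

namespace Cfsg.Agent.GoodInvol

open Subgroup MulAction

universe u

/-- A Sylow subgroup of a group of odd order invariant under an involutive automorphism. -/
theorem exists_sylow_invariant {Z : Type u} [Group Z] [Finite Z] (p : ℕ) [Fact p.Prime] (hodd : Odd (Nat.card Z))
    (φ : Z ≃* Z) (hφ : ∀ z, φ (φ z) = z) : ∃ P : Sylow p Z, ∀ x ∈ P, φ x ∈ P := by
  classical
  by_contra! hno
  let f : Sylow p Z → Sylow p Z := fun P => Sylow.ofCard ((P : Subgroup Z).map φ.toMonoidHom)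
    (by rw [card_map_of_injective φ.injective]; exact P.card_eq_multiplicity)
  have hf : ∀ P, ((f P : Sylow p Z) : Subgroup Z) = (P : Subgroup Z).map φ.toMonoidHom :=
    fun P => Sylow.coe_ofCard _ _
  have hev := even_ncard_of_invol (s := (Set.univ : Set (Sylow p Z))) (Set.toFinite _) f (fun _ _ => Set.mem_univ _)
    (fun P _ => Sylow.ext (by
      rw [hf, hf, map_map]
      refine (congrArg (fun g => (P : Subgroup Z).map g) ?_).trans (map_id _)
      exact MonoidHom.ext fun z => hφ z))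
    fun P _ he => by
      obtain ⟨x, hx, hxn⟩ := hno P
      refine hxn ?_
      have h1 : φ x ∈ ((f P : Sylow p Z) : Subgroup Z) := hf P ▸ mem_map_of_mem _ hx
      rwa [he] at h1
  rw [Set.ncard_univ] at hev
  exact Nat.not_even_iff_odd.2 (hodd.of_dvd_nat
    (((default : Sylow p Z).card_dvd_index).trans (index_dvd_card _))) hev

variable {G : Type u} [Group G] [Finite G] {Ω : Type u} [MulAction G Ω] [Finite Ω] [FaithfulSMul G Ω] {D : Set G}

namespace Crit

variable (h : Crit D Ω) (hB : Below.{u} (Nat.card G)) (hgen : closure D = ⊤)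
include h hB hgen

/-- A prime prime to every order of a product of two involutions does not divide the number of centres. -/
theorem not_dvd_centres {w : G} (hw : orderOf w = 2) (hbad : ¬ OneFix Ω w)
    (hker : genC D w ⊓ fixStab Ω w ≤ kerCore Ω w) {x : Ω} (hx : w • x ≠ x) {p : ℕ} (hp : p.Prime)
    (hord : ∀ i j : induced (cenD D w) (fixSub Ω w), orderOf i = 2 → orderOf j = 2 → ¬ p ∣ orderOf (i * j)) :
    ¬ p ∣ (centres D w x).ncard := by
  classical
  haveI := Fact.mk hp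
  haveI : Nonempty Ω := ⟨x⟩
  obtain ⟨f, hf, hfx⟩ := h.exists_at x
  obtain ⟨d, hd, hdw, hdx, -⟩ := h.exists_partner hw (fun hwD => hbad (h.oneFix_of_mem hwD)) hf hfx hx
  have hdC : d ∈ cmem D w := ⟨hd, hdw⟩
  have hdL : d ∈ genC D w := mem_genC_of_cmem hdC
  have hd2 := h.invol d hd
  obtain ⟨a, ha⟩ := h.exists_fix hd2 (Ω := Ω)
  have hwa := h.fix_of_cmem hdC ha
  set Z := genC D w ⊓ stabilizer G x with hZ
  have hmemZ : ∀ g, g ∈ Z ↔ g ∈ genC D w ∧ g • x = x := fun g => mem_inf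
  have hodd : Odd (Nat.card Z) := h.odd_genC_stab hB hgen hw hbad hker hx
  -- the centres are an orbit
  have horb : centres D w x = MulAction.orbit Z a := by
    ext z
    constructor
    · rintro ⟨c, hc, hcz⟩
      have hodd' := h.odd_mul_swap (Ne.symm hx) (show c ∈ swap D x (w • x) from ⟨hc.1.1, hc.2⟩)
        (show d ∈ swap D x (w • x) from ⟨hd, hdx⟩)
      obtain ⟨n, hn⟩ := h.exists_pow_conj hc.1.1 hd hodd'
      have hgY : (c * d) ^ n ∈ Z := by
        refine pow_mem ((hmemZ _).2 ⟨mul_mem (mem_genC_of_cmem hc.1) hdL, ?_⟩) n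
        rw [mul_smul, hdx, ← mul_smul, hc.1.2.eq, mul_smul, hc.2, ← mul_smul, Invol.mul_self hw, one_smul]
      refine ⟨⟨_, hgY⟩, h.unique c hc.1.1 _ _ ?_ hcz⟩
      show c • (c * d) ^ n • a = (c * d) ^ n • a
      set g := (c * d) ^ n
      rw [← hn, mul_smul, mul_smul, inv_smul_smul, ha]
    · rintro ⟨g, rfl⟩
      obtain ⟨hgL, hgx⟩ := (hmemZ _).1 g.2
      have hgw : Commute (g : G) w := commute_of_genC hgL
      refine ⟨(g : G) * d * (g : G)⁻¹, ⟨⟨h.conj _ _ hd,
        (hgw.mul_left hdC.2).mul_left hgw.inv_left⟩, ?_⟩, ?_⟩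
      · rw [mul_smul, mul_smul, inv_smul_eq_iff.2 hgx.symm, hdx, ← mul_smul, hgw.eq, mul_smul, hgx]
      · show ((g : G) * d * (g : G)⁻¹) • ((g : G) • a) = (g : G) • a
        rw [mul_smul, mul_smul, inv_smul_smul, ha]
  -- `d` normalises `Z`
  have hnorm : ∀ g ∈ Z, d * g * d⁻¹ ∈ Z := fun g hg => by
    obtain ⟨hgL, hgx⟩ := (hmemZ g).1 hg
    refine (hmemZ _).2 ⟨mul_mem (mul_mem hdL hgL) (inv_mem hdL), ?_⟩
    have hgwx : g • w • x = w • x := by rw [← mul_smul, (commute_of_genC hgL).eq, mul_smul, hgx]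
    rw [Invol.inv_self hd2, mul_smul, mul_smul, hdx, hgwx, ← mul_smul, hdw, mul_smul, hdx, ← mul_smul,
      Invol.mul_self hw, one_smul]
  let φ : Z ≃* Z :=
    { toFun := fun g => ⟨d * g * d⁻¹, hnorm g g.2⟩
      invFun := fun g => ⟨d * g * d⁻¹, hnorm g g.2⟩
      left_inv := fun g => Subtype.ext (by
        show d * (d * (g : G) * d⁻¹) * d⁻¹ = g
        rw [Invol.inv_self hd2, show d * (d * (g : G) * d) * d = (d * d) * g * (d * d) by group,
          Invol.mul_self hd2, one_mul, mul_one])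
      right_inv := fun g => Subtype.ext (by
        show d * (d * (g : G) * d⁻¹) * d⁻¹ = g
        rw [Invol.inv_self hd2, show d * (d * (g : G) * d) * d = (d * d) * g * (d * d) by group,
          Invol.mul_self hd2, one_mul, mul_one])
      map_mul' := fun g k => Subtype.ext (by
        show d * ((g : G) * k) * d⁻¹ = d * (g : G) * d⁻¹ * (d * (k : G) * d⁻¹)
        group) }
  obtain ⟨P, hP⟩ := exists_sylow_invariant p hodd φ fun g => φ.left_inv g
  -- it fixes the centre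
  have hstab : (P : Subgroup Z) ≤ stabilizer Z a := by
    intro g hg
    obtain ⟨hgL, -⟩ := (hmemZ _).1 g.2
    have hgw : Commute (g : G) w := commute_of_genC hgL
    set e := (g : G) * d * (g : G)⁻¹ with he
    have heL : e ∈ genC D w := mul_mem (mul_mem hgL hdL) (inv_mem hgL)
    have hk : g * (φ g)⁻¹ ∈ (P : Subgroup Z) := mul_mem hg (inv_mem (hP g hg))
    have hkv : ((g * (φ g)⁻¹ : Z) : G) = e * d := by
      show (g : G) * (d * (g : G) * d⁻¹)⁻¹ = (g : G) * d * (g : G)⁻¹ * d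
      rw [mul_inv_rev, mul_inv_rev, inv_inv, Invol.inv_self hd2, ← mul_assoc, ← mul_assoc]
    set ψ := genHom D Ω w
    have hact : ∀ z : Ω, w • z = z → e • z = d • z := by
      by_cases h1 : ψ ⟨e, heL⟩ = ψ ⟨d, hdL⟩
      · exact genHom_eq_iff.1 h1
      exfalso
      have hb := hbad
      unfold OneFix at hb
      push Not at hb
      obtain ⟨p1, q1, hp1, hq1, hpq⟩ := hb
      have hord2 : ∀ (c : G) (hcL : c ∈ genC D w), c ∈ D → orderOf (ψ ⟨c, hcL⟩) = 2 := fun c hcL hcD => by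
        refine Invol.order_two_of_sq ?_ fun e1 => hpq (h.unique c hcD _ _ (genHom_eq_one_iff.1 e1 p1 hp1)
          (genHom_eq_one_iff.1 e1 q1 hq1))
        rw [← map_mul, show (⟨c, hcL⟩ : genC D w) * ⟨c, hcL⟩ = 1 from Subtype.ext (Invol.mul_self (h.invol c hcD)),
          map_one]
      have hprod : orderOf (ψ ⟨e, heL⟩ * ψ ⟨d, hdL⟩) ≠ 1 := fun e1 => h1 (by
        rw [eq_inv_of_mul_eq_one_left (orderOf_eq_one_iff.1 e1),
          Invol.inv_self (hord2 d hdL hd)])
      obtain ⟨n, hn⟩ := IsPGroup.iff_orderOf.1 P.2 ⟨_, hk⟩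
      rw [Subgroup.orderOf_mk, ← Subgroup.orderOf_coe, hkv] at hn
      have hdvd : orderOf (ψ ⟨e, heL⟩ * ψ ⟨d, hdL⟩) ∣ p ^ n := by
        rw [← map_mul, ← hn]
        exact (orderOf_map_dvd ψ _).trans (by rw [← Subgroup.orderOf_coe]; rfl)
      obtain ⟨i, -, hi⟩ := (Nat.dvd_prime_pow hp).1 hdvd
      rcases i with _ | i
      · exact hprod hi
      · exact hord _ _ (hord2 e heL (h.conj _ _ hd)) (hord2 d hdL hd) (hi ▸ dvd_pow_self p (Nat.succ_ne_zero i))
    have hga : w • (g : G) • a = (g : G) • a := by rw [← mul_smul, ← hgw.eq, mul_smul, hwa]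
    refine h.unique d hd _ _ ?_ ha
    show d • (g : G) • a = (g : G) • a
    rw [← hact _ hga, he, mul_smul, mul_smul, inv_smul_smul, ha]
  intro hdvd
  refine P.not_dvd_index (hdvd.trans ?_)
  rw [horb, ← Nat.card_coe_set_eq, Nat.card_congr (orbitEquivQuotientStabilizer Z a), ← index_eq_card]
  exact index_dvd_of_le hstab

end Crit

/-- The arithmetic: the centres cannot be `q ^ 3 ∣ c + (q - 1) i`. -/
theorem no_centre_count {q c i : ℕ} (hq : 4 ≤ q) (h2 : 2 ∣ q) (hc : Odd c) (hi : 0 < i) (hic : i ≤ c)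
    (hdiv : c ∣ (q ^ 3 + 1) * (q - 1) * i * q ^ 3) (hco : c.Coprime (q ^ 3))
    (hp : ∀ p : ℕ, p.Prime → p ∣ c → p ∣ q ^ 2 - q + 1 → p = 3)
    (hq3 : q ^ 3 ∣ c + (q - 1) * i) : False := by
  obtain ⟨d, c', i', hd, hcop, rfl, rfl⟩ := Nat.exists_coprime' (Nat.gcd_pos_of_pos_left i hc.pos)
  have hc' : Odd c' := (Nat.odd_mul.1 hc).1
  have hi' : i' ≤ c' := Nat.le_of_mul_le_mul_right hic hd
  have hq3' : q ^ 3 ∣ c' + (q - 1) * i' := by
    refine Nat.Coprime.dvd_of_dvd_mul_right (k := q ^ 3) (n := d) ?_ ?_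
    · exact ((Nat.Coprime.coprime_dvd_left (Dvd.intro_left c' rfl) hco)).symm
    · rwa [add_mul, mul_assoc]
  have hdiv' : c' ∣ (q ^ 3 + 1) * (q - 1) := by
    have h1 : c' * d ∣ (q ^ 3 + 1) * (q - 1) * i' * q ^ 3 * d := hdiv.trans (dvd_of_eq (by ring))
    exact hcop.dvd_of_dvd_mul_right ((Nat.Coprime.coprime_dvd_left (Dvd.intro d rfl) hco).dvd_of_dvd_mul_right
      (Nat.dvd_of_mul_dvd_mul_right hd h1))
  obtain ⟨m, hqm⟩ : ∃ m, q = m + 1 := ⟨q - 1, by omega⟩
  subst hqm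
  have hcube : (m + 1) ^ 3 + 1 = (m + 2) * ((m + 1) ^ 2 - (m + 1) + 1) := by
    rw [show (m + 1) ^ 2 - (m + 1) + 1 = m * m + m + 1 by rw [pow_two, add_mul, one_mul, Nat.add_sub_cancel]; ring]
    ring
  rw [hcube, Nat.add_sub_cancel] at hdiv'
  set s := (m + 1) ^ 2 - (m + 1) + 1 with hs
  have hs' : s = m * m + m + 1 := by
    rw [hs, pow_two, add_mul, one_mul, Nat.add_sub_cancel]; ring
  have hg : c'.gcd s ∣ 3 := by
    have h9 : ¬ 9 ∣ c'.gcd s := fun h9 => by
      have h := h9.trans (Nat.gcd_dvd_right c' s)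
      rw [hs'] at h
      have h' : (m * m + m + 1) % 9 = 0 := Nat.mod_eq_zero_of_dvd h
      rw [Nat.add_mod, Nat.add_mod (m * m), Nat.mul_mod] at h'
      have := Nat.mod_lt m (show 0 < 9 by norm_num)
      interval_cases hm : m % 9 <;> simp_all
    have h3 : ∀ p : ℕ, p.Prime → p ∣ c'.gcd s → p = 3 := fun p pp hpd =>
      hp p pp ((hpd.trans (Nat.gcd_dvd_left _ _)).mul_right _) (hpd.trans (Nat.gcd_dvd_right _ _))
    have hg0 : c'.gcd s ≠ 0 := (Nat.gcd_pos_of_pos_left s hc'.pos).ne'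
    obtain ⟨n, hn⟩ : ∃ n, c'.gcd s = 3 ^ n :=
      ⟨_, Nat.eq_prime_pow_of_unique_prime_dvd hg0 fun {p} pp hpd => h3 p pp hpd⟩
    rcases n with _ | _ | n
    · simp [hn]
    · simp [hn]
    · exact absurd (hn ▸ Dvd.intro_left (3 ^ n) (by ring) : 9 ∣ c'.gcd s) h9
  have h5 : c' ∣ 3 * ((m + 2) * m) := by
    have h6 : c' ∣ s * ((m + 2) * m) := hdiv'.trans (dvd_of_eq (by ring))
    exact ((dvd_gcd_mul_iff_dvd_mul).2 h6).trans (Nat.mul_dvd_mul_right hg _)
  obtain ⟨τ, hτ⟩ := hq3'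
  rw [Nat.add_sub_cancel] at hτ
  have hpos : 0 < τ := by
    rcases Nat.eq_zero_or_pos τ with rfl | h0
    · have := hc'.pos
      omega
    · exact h0
  have hbig : (m + 1) * (m + 1) ≤ c' := by
    refine Nat.le_of_mul_le_mul_left ?_ (show 0 < m + 1 by omega)
    have h6 := Nat.mul_le_mul_left m hi'
    have h7 := Nat.le_mul_of_pos_right ((m + 1) ^ 3) hpos
    rw [show (m + 1) ^ 3 = (m + 1) * ((m + 1) * (m + 1)) by ring] at h7 hτ
    rw [show (m + 1) * c' = m * c' + c' by ring]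
    omega
  obtain ⟨j, hj⟩ := h5
  have hm2 : (m + 1) * (m + 1) = (m + 2) * m + 1 := by ring
  have hodd : Odd (3 * ((m + 2) * m)) := by
    have hev : Even ((m + 1) * (m + 1)) := (even_iff_two_dvd.2 h2).mul_right _
    rw [hm2, Nat.even_add_one, Nat.not_even_iff_odd] at hev
    exact (show Odd 3 by decide).mul hev
  rw [hj] at hodd
  have hj1 : j = 1 := by
    obtain ⟨i0, hi0⟩ := (Nat.odd_mul.1 hodd).2
    rcases i0 with _ | i0
    · omega
    · exfalso
      have h8 : c' * 3 ≤ c' * j := Nat.mul_le_mul_left _ (by omega)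
      omega
  rw [hj1, mul_one] at hj
  have hmτ : m ∣ τ := by
    have h8 : m ∣ (m + 1) ^ 3 * τ := by
      rw [← hτ, ← hj]
      exact dvd_add (dvd_mul_of_dvd_right (dvd_mul_left _ _) 3) (dvd_mul_right _ _)
    refine Nat.Coprime.dvd_of_dvd_mul_left (Nat.Coprime.pow_right 3 ?_) h8
    exact Nat.coprime_self_add_right.2 (Nat.coprime_one_right m)
  have hτ3 : τ < 3 := by
    refine Nat.lt_of_mul_lt_mul_left (a := (m + 1) ^ 3) ?_
    have h6 := Nat.mul_le_mul_left m hi'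
    rw [← hτ, show (m + 1) ^ 3 * 3 = (m + 1) * (3 * ((m + 2) * m + 1)) by ring, mul_add 3, mul_add (m + 1), hj,
      show (m + 1) * c' = m * c' + c' by ring]
    omega
  have := Nat.le_of_dvd hpos hmτ
  omega

/-- A prime other than three dividing `q ^ 2 - q + 1` divides neither `q ^ 2 - 1` nor four. -/
theorem not_dvd_of_dvd_cube_factor {p q : ℕ} (hp : p.Prime) (hp3 : p ≠ 3) (hq : 4 ≤ q) (h2 : 2 ∣ q)
    (hdvd : p ∣ q ^ 2 - q + 1) : ¬ p ∣ q ^ 2 - 1 ∧ ¬ p ∣ 4 := by
  obtain ⟨m, hqm⟩ : ∃ m, q = m + 1 := ⟨q - 1, by omega⟩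
  subst hqm
  rw [pow_two, add_mul, one_mul, Nat.add_sub_cancel] at hdvd
  have hp2 : p ≠ 2 := fun e => by
    rw [e] at hdvd
    obtain ⟨j, hj⟩ := h2
    have : 2 ∣ m * (m + 1) := Dvd.dvd.mul_left ⟨j, hj⟩ m
    omega
  refine ⟨fun h => ?_, fun h => hp2 ((Nat.prime_dvd_prime_iff_eq hp Nat.prime_two).1
    (hp.dvd_of_dvd_pow (show p ∣ 2 ^ 2 from h)))⟩
  rw [show (m + 1) ^ 2 - 1 = (m + 2) * m by
    rw [show (m + 1) ^ 2 = (m + 2) * m + 1 by ring, Nat.add_sub_cancel]] at h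
  rcases (Nat.Prime.dvd_mul hp).1 h with h1 | h1
  · have h3 : p ∣ 3 := by
      have := (Nat.dvd_add_right (dvd_mul_of_dvd_right h1 m)).1
        (show p ∣ m * (m + 2) + (3 : ℕ) from ?_)
      exact this
      have e : m * (m + 1) + 1 + (m + 2) = m * (m + 2) + 3 := by ring
      exact e ▸ dvd_add hdvd h1
    exact hp3 ((Nat.prime_dvd_prime_iff_eq hp Nat.prime_three).1 h3)
  · exact hp.not_dvd_one ((Nat.dvd_add_right (h1.mul_right _)).1 hdvd)

namespace Crit

variable (h : Crit D Ω) (hB : Below.{u} (Nat.card G)) (hgen : closure D = ⊤)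
include h hB hgen

/-- `q ^ 6` does not divide the number of the other points. -/
theorem false_of_pow_six_of {w : G} (hw : orderOf w = 2) (hbad : ¬ OneFix Ω w)
    (hker : genC D w ⊓ fixStab Ω w ≤ kerCore Ω w) {a : Ω} (ha : w • a = a) {T E : Subgroup G}
    (hT : T ≤ ptC w a) (hE : ESet D w a T E) {r : ℕ} (hr : 2 ≤ r) (hcE : Nat.card E = 2 ^ r)
    (hfix : (fixSet Ω w).ncard = 2 ^ (3 * r) + 1)
    (hord : ∀ i j : induced (cenD D w) (fixSub Ω w), orderOf i = 2 → orderOf j = 2 →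
      orderOf (i * j) ∣ (2 ^ r) ^ 2 - 1 ∨ orderOf (i * j) ∣ 4)
    (hdvd : (2 ^ r) ^ 6 ∣ Nat.card Ω - 1) : False := by
  classical
  obtain ⟨x, hx⟩ : ∃ x : Ω, w • x ≠ x := by
    by_contra! hall
    exact Invol.ne_one hw (FaithfulSMul.eq_of_smul_eq_smul (α := Ω) fun z => by rw [hall z, one_smul])
  obtain ⟨d, hd, hdw⟩ := Set.nonempty_of_ncard_ne_zero (h.odd_cdat hw ha).pos.ne'
  have hdm : d ∈ cmem D w := ⟨hd.1, hdw⟩
  obtain ⟨kx, hkap, hmu, hkx, hnc, hile, -⟩ := h.exists_centre_count hB hgen hw hbad hx hdm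
  have hmv := h.card_moved_eq hB hgen hw hbad ha hx
  have hN := h.card_cdat_kap hB hgen hw hbad ha hE hT hdm
  rw [hmu, hN, hkap, hcE, hfix, Nat.add_sub_cancel, show 2 ^ (3 * r) = (2 ^ r) ^ 3 by
    rw [← pow_mul, mul_comm]] at hmv
  have hcomp := Set.ncard_add_ncard_compl (fixSet Ω w)
  rw [hfix, show 2 ^ (3 * r) = (2 ^ r) ^ 3 by rw [← pow_mul, mul_comm]] at hcomp
  set q := 2 ^ r with hq
  have hq4 : 4 ≤ q := (Nat.pow_le_pow_right two_pos hr : 2 ^ 2 ≤ q)
  have hq2 : 2 ∣ q := dvd_pow_self 2 (by omega)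
  set nc := (centres D w x).ncard
  set i := iota Ω w x
  set M := (fixSet Ω w)ᶜ.ncard
  have h1 : M * nc = (q ^ 3 + 1) * (q - 1) * i * q ^ 3 := by
    refine Nat.eq_of_mul_eq_mul_right hkx.pos ?_
    calc M * nc * kx = M * (nc * kx) := by ring
      _ = _ := hmv
      _ = (q ^ 3 + 1) * (q - 1) * i * q ^ 3 * kx := by ring
  have hn : Nat.card Ω - 1 = M + q ^ 3 := by rw [← hcomp]; omega
  refine no_centre_count hq4 hq2 hnc (odd_iota w x).pos hile ⟨M, by rw [← h1, mul_comm]⟩ ?_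
    (fun p pp hpc hps => ?_) ?_
  · rw [hq, ← pow_mul]
    exact Nat.Coprime.pow_right _ (Nat.coprime_two_right.2 hnc)
  · by_contra hp3
    obtain ⟨n1, n2⟩ := not_dvd_of_dvd_cube_factor pp hp3 hq4 hq2 hps
    refine h.not_dvd_centres hB hgen hw hbad hker hx pp (fun i j hi hj hpo => ?_) hpc
    rcases hord i j hi hj with e | e
    · exact n1 (hpo.trans e)
    · exact n2 (hpo.trans e)
  · have h2 : q ^ 3 * q ^ 3 ∣ q ^ 3 * (nc + (q ^ 3 + 1) * (q - 1) * i) := by
      have h3 := (hn ▸ hdvd).mul_right nc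
      rw [add_mul, h1] at h3
      rwa [← pow_add, show q ^ 3 * (nc + (q ^ 3 + 1) * (q - 1) * i) =
        (q ^ 3 + 1) * (q - 1) * i * q ^ 3 + q ^ 3 * nc by ring]
    have h3 := Nat.dvd_of_mul_dvd_mul_left (by positivity) h2
    rw [show nc + (q ^ 3 + 1) * (q - 1) * i = nc + (q - 1) * i + q ^ 3 * ((q - 1) * i) by ring] at h3
    exact (Nat.dvd_add_left (dvd_mul_right _ _)).1 h3

/-- In the unitary case `q ^ 6` does not divide the number of the other points. -/
theorem false_of_pow_six {w : G} (hw : orderOf w = 2) (hbad : ¬ OneFix Ω w) {a x : Ω} (ha : w • a = a)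
    (hx : w • x = x) (hxa : x ≠ a) {T : Sylow 2 (ptC w a)} {E Q K K1 : Subgroup G} {r : ℕ}
    (hE : ESet D w a ((T : Subgroup (ptC w a)).map (ptC w a).subtype) E)
    (hL : Local D w a x ((T : Subgroup (ptC w a)).map (ptC w a).subtype) E Q K K1 r 3)
    (hdvd : (2 ^ r) ^ 6 ∣ Nat.card Ω - 1) : False := by
  obtain ⟨r', e', hP, hf', hE'⟩ := h.exists_fix_params hB hgen hw hbad ha (map_subtype_le _) hE
  obtain rfl : r = r' := Nat.pow_right_injective le_rfl (hL.card_eset.symm.trans hE')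
  obtain rfl : e' = 3 := by
    rw [hL.card_fix, add_left_inj] at hf'
    exact (Nat.eq_of_mul_eq_mul_right (by have := hL.two_le; omega)
      (Nat.pow_right_injective le_rfl hf')).symm
  refine h.false_of_pow_six_of hB hgen hw hbad hL.kernel_le ha (map_subtype_le _) hE hL.two_le hL.card_eset
    hL.card_fix (fun i j hi hj => ?_) hdvd
  rw [← pow_mul, mul_comm r 2]
  exact BenderParams.prod_invol_order (h.isBender_induced hB hgen hw hbad ha hE) hP (Invol.mul_self hi)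
    (Invol.mul_self hj)

end Crit

end Cfsg.Agent.GoodInvol
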