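import Cfsg.Agent.Lib.GoodInvol.Local
import Mathlib.GroupTheory.Nilpotent

/-!
# Actions on the regular 2-subgroup of the unitary type

The centraliser in `Q` of an element outside `E` is abelian of order `q²`. Hence a 2-group centralising `E` has not
`q` cosets of elements moving the cosets of `E` in `Q`, and for eight elements no automorphism whose square fixes
the cosets moves `E`.
-/

set_option autoImplicit false
set_option linter.style.haveILetI false
set_option linter.unusedSectionVars false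

namespace Cfsg.Agent.GoodInvol

open Subgroup MulAction

universe u

variable {G : Type u} [Group G] [Finite G] {Ω : Type u} [MulAction G Ω] [Finite Ω] [FaithfulSMul G Ω] {D : Set G}

namespace Local

variable {u : G} {a x : Ω} {T E Q K K1 : Subgroup G} {r : ℕ} (hL : Local D u a x T E Q K K1 r 3)
include hL

theorem card_Q3 : Nat.card Q = 2 ^ r * 2 ^ r * 2 ^ r := by
  rw [hL.card_Q, ← pow_add, ← pow_add]
  ring_nf

/-- The commutators with an element of `Q`. -/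
theorem exists_commHomQ {y : G} (hy : y ∈ Q) :
    ∃ f : Q →* E, (∀ s : Q, (f s : G) = (s : G) * y * (s : G)⁻¹ * y⁻¹) ∧
      f.ker = (centralizer ({y} : Set G)).subgroupOf Q := by
  have hcomm : ∀ s ∈ Q, s * y * s⁻¹ * y⁻¹ ∈ E := fun s hs => hL.comm s hs y hy
  refine ⟨MonoidHom.mk' (fun s => ⟨(s : G) * y * (s : G)⁻¹ * y⁻¹, hcomm s s.2⟩) fun v w => Subtype.ext ?_,
    fun s => rfl, ?_⟩
  · show (v : G) * w * y * ((v : G) * w)⁻¹ * y⁻¹ =
      ((v : G) * y * (v : G)⁻¹ * y⁻¹) * ((w : G) * y * (w : G)⁻¹ * y⁻¹)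
    have hm := hcomm w w.2
    rw [show (v : G) * w * y * ((v : G) * w)⁻¹ * y⁻¹ =
        (v : G) * ((w : G) * y * (w : G)⁻¹ * y⁻¹) * (y * (v : G)⁻¹ * y⁻¹) by group,
      ← (hL.cen _ hm v v.2).eq, mul_assoc ((w : G) * y * (w : G)⁻¹ * y⁻¹) (v : G),
      show (v : G) * (y * (v : G)⁻¹ * y⁻¹) = (v : G) * y * (v : G)⁻¹ * y⁻¹ by group]
    exact (hL.cen _ hm _ (hL.eset_le (hcomm v v.2))).eq
  · ext s
    rw [MonoidHom.mem_ker, mem_subgroupOf, mem_centralizer_singleton_iff, Subtype.ext_iff, OneMemClass.coe_one]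
    show (s : G) * y * (s : G)⁻¹ * y⁻¹ = 1 ↔ _
    rw [mul_inv_eq_one, mul_inv_eq_iff_eq_mul]

/-- The centraliser of an element outside `E` has order `q²` and index `q` in `Q`. -/
theorem card_cenQ {y : G} (hy : y ∈ Q) (hyE : y ∉ E) :
    ((centralizer ({y} : Set G)).subgroupOf Q).index = 2 ^ r ∧
      Nat.card ↥((centralizer ({y} : Set G)).subgroupOf Q) = 2 ^ r * 2 ^ r := by
  obtain ⟨⟨z, hz, hyz⟩, -⟩ := hL.comm3 rfl y hy hyE
  have hzE : z ∉ E := fun e => hyz (hL.cen z e y hy).symm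
  have hidx : ∀ w ∈ Q, ((centralizer ({w} : Set G)).subgroupOf Q).index ≤ 2 ^ r := fun w hw => by
    obtain ⟨f, -, hf⟩ := hL.exists_commHomQ hw
    rw [← hf, Subgroup.index_ker, ← hL.card_eset]
    exact Subgroup.card_le_card_group _
  set C := (centralizer ({y} : Set G)).subgroupOf Q
  set C' := (centralizer ({z} : Set G)).subgroupOf Q
  have hle : Nat.card ↥(C ⊓ C') ≤ 2 ^ r := by
    rw [← card_map_of_injective (K := C ⊓ C') Q.subtype_injective, ← hL.card_eset]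
    refine Subgroup.card_le_of_le ?_
    rintro _ ⟨w, hw, rfl⟩
    show (w : G) ∈ E
    by_contra hwE
    exact hyz ((hL.comm3 rfl w w.2 hwE).2 y hy z hz (mem_centralizer_singleton_iff.1 (mem_subgroupOf.1 hw.1))
      (mem_centralizer_singleton_iff.1 (mem_subgroupOf.1 hw.2)))
  have h1 := Subgroup.card_mul_index (C ⊓ C')
  have h3 : (C ⊓ C').index ≤ C.index * C'.index := Subgroup.index_inf_le
  rw [hL.card_Q3] at h1
  have hq := Nat.two_pow_pos r
  have h7 : 2 ^ r * 2 ^ r * 2 ^ r ≤ 2 ^ r * (C.index * 2 ^ r) := by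
    rw [← h1]; exact Nat.mul_le_mul hle (h3.trans (Nat.mul_le_mul_left _ (hidx z hz)))
  have h6 : C.index = 2 ^ r :=
    le_antisymm (hidx y hy) (Nat.le_of_mul_le_mul_right (c := 2 ^ r * 2 ^ r) (by linarith) (Nat.mul_pos hq hq))
  refine ⟨h6, Nat.eq_of_mul_eq_mul_right hq ?_⟩
  have h8 := Subgroup.card_mul_index C
  rwa [h6, hL.card_Q3] at h8

theorem exists_outsideQ : ∃ y ∈ Q, y ∉ E := by
  by_contra! hle
  have h1 := Subgroup.card_le_of_le (show Q ≤ E from hle)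
  rw [hL.card_Q, hL.card_eset] at h1
  have := (Nat.pow_le_pow_iff_right (le_refl 2)).1 h1
  have := hL.two_le
  omega

set_option maxHeartbeats 800000 in
/-- A 2-group centralising `E` with `q` cosets of `N` has an element outside `N` fixing every coset of `E` in `Q`. -/
theorem exists_flat (hE : ESet D u a T E) {S N : Subgroup G} (hS : IsPGroup 2 S) (_hNS : N ≤ S)
    (hnorm : ∀ s ∈ S, ∀ y ∈ Q, s * y * s⁻¹ ∈ Q) (hcen : ∀ s ∈ S, ∀ z ∈ E, Commute s z)
    (hbig : 2 ^ r ≤ N.relIndex S) : ∃ s ∈ S, s ∉ N ∧ ∀ y ∈ Q, y⁻¹ * (s * y * s⁻¹) ∈ E := by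
  classical
  haveI : Fact (Nat.Prime 2) := ⟨Nat.prime_two⟩
  by_contra! hcon
  have hQ2 : IsPGroup 2 Q := IsPGroup.of_card hL.card_Q
  set P := Q ⊔ S with hP
  have hP2 : IsPGroup 2 P := IsPGroup.to_sup_of_normal_left' hQ2 hS fun s hs =>
    Subgroup.mem_normalizer_fintype (hnorm s hs)
  -- a class fixed by all
  obtain ⟨v0, hv0, hv0E, hv0fix⟩ : ∃ v ∈ Q, v ∉ E ∧ ∀ s ∈ S, v⁻¹ * (s * v * s⁻¹) ∈ E := by
    obtain ⟨n, hn⟩ := (isNilpotent_iff_lowerCentralSeries (S := P)).1 hP2.isNilpotent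
    have hex : ∃ n, ∀ t ∈ Q, t ∈ P.lowerCentralSeries n → t ∈ E :=
      ⟨n, fun t _ ht => by rw [hn, mem_bot] at ht; rw [ht]; exact one_mem E⟩
    have h0 : Nat.find hex ≠ 0 := fun e => by
      obtain ⟨y, hy, hyE⟩ := hL.exists_outsideQ
      exact hyE ((e ▸ Nat.find_spec hex) y hy (mem_sup_left hy))
    obtain ⟨m, hm⟩ := Nat.exists_eq_succ_of_ne_zero h0
    have h1 := Nat.find_min hex (show m < Nat.find hex by omega)
    push Not at h1
    obtain ⟨v, hv, hvm, hvE⟩ := h1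
    refine ⟨v, hv, hvE, fun s hs => (hm ▸ Nat.find_spec hex) _ (mul_mem (inv_mem hv) (hnorm s hs v hv)) ?_⟩
    rw [Subgroup.lowerCentralSeries_succ]
    have h2 := Subgroup.commutator_mem_commutator (inv_mem hvm) (mem_sup_right hs : s ∈ P)
    rwa [commutatorElement_def, inv_inv, show v⁻¹ * s * v * s⁻¹ = v⁻¹ * (s * v * s⁻¹) by group] at h2
  have hperp : ∀ s ∈ S, ∀ w ∈ Q, w⁻¹ * (s * w * s⁻¹) ∈ E → ∀ t ∈ Q, Commute (t⁻¹ * (s * t * s⁻¹)) w := by
    intro s hs w hw hw1 t ht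
    obtain ⟨f, hf, hfk⟩ := hL.exists_commHomQ hw
    have h2 : (⟨t, ht⟩ : Q)⁻¹ * ⟨s * t * s⁻¹, hnorm s hs t ht⟩ ∈ f.ker := by
      have h1 : f ⟨s * t * s⁻¹, hnorm s hs t ht⟩ = f ⟨t, ht⟩ := Subtype.ext (by
        rw [hf, hf]
        set v := s * t * s⁻¹ with hv
        set o := w⁻¹ * (s * w * s⁻¹) with ho
        have e2 : s * (t * w * t⁻¹ * w⁻¹) * s⁻¹ = t * w * t⁻¹ * w⁻¹ :=
          mul_inv_eq_iff_eq_mul.2 (hcen s hs _ (hL.comm t ht w hw)).eq
        rw [show s * (t * w * t⁻¹ * w⁻¹) * s⁻¹ = v * (s * w * s⁻¹) * v⁻¹ * (s * w * s⁻¹)⁻¹ by rw [hv]; group,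
          show s * w * s⁻¹ = w * o from (mul_inv_cancel_left _ _).symm] at e2
        show v * w * v⁻¹ * w⁻¹ = t * w * t⁻¹ * w⁻¹
        rw [← e2, ← mul_assoc v w o, mul_assoc (v * w) o, (hL.cen o hw1 v⁻¹ (inv_mem (hnorm s hs t ht))).eq]
        group)
      rw [MonoidHom.mem_ker, map_mul, map_inv, h1, inv_mul_cancel]
    rw [hfk] at h2
    exact mem_centralizer_singleton_iff.1 (mem_subgroupOf.1 h2)
  set L := (centralizer ({v0} : Set G)).subgroupOf Q with hLdef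
  have hkey : ∀ v ∈ Q, ¬ Commute v v0 → v * v0 * v⁻¹ = v0⁻¹ := by
    intro v hv hvv0
    let φ : (S ⧸ N.subgroupOf S) × E → L := fun p =>
      ⟨⟨v⁻¹ * (((p.1.out : S) : G) * v * ((p.1.out : S) : G)⁻¹) * p.2,
          Q.mul_mem (mul_mem (inv_mem hv) (hnorm _ (p.1.out).2 v hv)) (hL.eset_le p.2.2)⟩,
        mem_subgroupOf.2 (mem_centralizer_singleton_iff.2
          ((hperp _ (p.1.out).2 v0 hv0 (hv0fix _ (p.1.out).2) v hv).mul_left (hL.cen _ p.2.2 v0 hv0)).eq)⟩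
    have hφ : Function.Injective φ := by
      rintro ⟨p, w, hw⟩ ⟨p', w', hw'⟩ e
      have e1 : v⁻¹ * (((p.out : S) : G) * v * ((p.out : S) : G)⁻¹) * w =
          v⁻¹ * (((p'.out : S) : G) * v * ((p'.out : S) : G)⁻¹) * w' :=
        congrArg (fun q : L => ((q : Q) : G)) e
      set s : G := ((p.out : S) : G) with hs
      set s' : G := ((p'.out : S) : G) with hs'
      have hd : s⁻¹ * s' ∈ S := mul_mem (inv_mem (p.out).2) (p'.out).2
      have e2 : v⁻¹ * (s⁻¹ * s' * v * (s⁻¹ * s')⁻¹) = w * w'⁻¹ := by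
        have e3 : s' * v * s'⁻¹ = s * v * s⁻¹ * (w * w'⁻¹) := by
          rw [← mul_assoc]
          refine eq_mul_inv_of_mul_eq ?_
          exact (mul_left_cancel (a := v⁻¹) (by simpa only [mul_assoc] using e1)).symm
        have hc := hcen s⁻¹ (inv_mem (p.out).2) _ (mul_mem hw (inv_mem hw'))
        rw [show s⁻¹ * s' * v * (s⁻¹ * s')⁻¹ = s⁻¹ * (s' * v * s'⁻¹) * s by group, e3,
          show v⁻¹ * (s⁻¹ * (s * v * s⁻¹ * (w * w'⁻¹)) * s) = s⁻¹ * (w * w'⁻¹) * s by group, hc.eq,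
          inv_mul_cancel_right]
      have hdN : s⁻¹ * s' ∈ N := by
        by_contra hdN
        obtain ⟨t, ht, htE⟩ := hcon _ hd hdN
        set i := t⁻¹ * (s⁻¹ * s' * t * (s⁻¹ * s')⁻¹) with hi
        exact hvv0 ((hL.comm3 rfl i (mul_mem (inv_mem ht) (hnorm _ hd t ht)) htE).2 v hv v0 hv0
          (hperp _ hd v hv (e2 ▸ mul_mem hw (inv_mem hw')) t ht) (hperp _ hd v0 hv0 (hv0fix _ hd) t ht))
      have hpp : p = p' := by
        rw [← p.out_eq', ← p'.out_eq', QuotientGroup.eq]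
        exact mem_subgroupOf.2 hdN
      subst hpp
      exact Prod.ext rfl (Subtype.ext (mul_left_cancel e1))
    have hLc : Nat.card L = 2 ^ r * 2 ^ r := (hL.card_cenQ hv0 hv0E).2
    have hb : Function.Bijective φ := by
      rw [Nat.bijective_iff_injective_and_card]
      refine ⟨hφ, le_antisymm (Nat.card_le_card_of_injective φ hφ) ?_⟩
      rw [hLc, Nat.card_prod, hL.card_eset]
      exact Nat.mul_le_mul_right _ hbig
    obtain ⟨⟨p, w, hw⟩, he⟩ := hb.2 ⟨⟨v0, hv0⟩, mem_subgroupOf.2 (mem_centralizer_singleton_iff.2 rfl)⟩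
    have e1 : v⁻¹ * (((p.out : S) : G) * v * ((p.out : S) : G)⁻¹) * w = v0 :=
      congrArg (fun q : L => ((q : Q) : G)) he
    set s : G := ((p.out : S) : G) with hs
    have hsS : s ∈ S := (p.out).2
    have e2 : s * v * s⁻¹ * w = v * v0 := by rw [← e1]; group
    have e3 : v * v0 * (v * v0) = v * v := by
      rw [← e2, (hL.cen w hw _ (hnorm s hsS v hv)).mul_mul_mul_comm, hE.sq w hw, mul_one,
        show s * v * s⁻¹ * (s * v * s⁻¹) = s * (v * v) * s⁻¹ by group,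
        (hcen s hsS _ (hL.sq v hv)).eq, mul_inv_cancel_right]
    have e4 : v0 * v * v0 = v := by
      rw [mul_assoc v, mul_right_inj] at e3
      rw [mul_assoc]; exact e3
    calc v * v0 * v⁻¹ = v0⁻¹ * (v0 * v * v0) * v⁻¹ := by group
      _ = v0⁻¹ := by rw [e4, mul_inv_cancel_right]
  -- two such with their product
  obtain ⟨⟨z, hz, hzv0⟩, -⟩ := hL.comm3 rfl v0 hv0 hv0E
  have hzv : ¬ Commute z v0 := fun e => hzv0 e.symm
  obtain ⟨s', hs', hss'⟩ : ∃ s' : Q, s' ∉ L ∧ (⟨z, hz⟩ : Q) * s' ∉ L := by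
    by_contra! hno
    have hsub : (Set.univ : Set Q) ⊆ (L : Set Q) ∪ (fun w => (⟨z, hz⟩ : Q)⁻¹ * w) '' L :=
      fun w _ => (em (w ∈ L)).imp id fun hw => ⟨_, hno w hw, inv_mul_cancel_left _ _⟩
    have h1 := (Set.ncard_le_ncard hsub (Set.toFinite _)).trans (Set.ncard_union_le _ _)
    have h2 := Set.ncard_image_le (f := fun w => (⟨z, hz⟩ : Q)⁻¹ * w) (L : Set Q).toFinite
    have h3 : (L : Set Q).ncard = 2 ^ r * 2 ^ r := by
      rw [← Nat.card_coe_set_eq]; exact (hL.card_cenQ hv0 hv0E).2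
    rw [Set.ncard_univ, hL.card_Q3] at h1
    have h4 : 4 ≤ 2 ^ r := (Nat.pow_le_pow_right two_pos hL.two_le : 2 ^ 2 ≤ 2 ^ r)
    have h5 : 4 * (2 ^ r * 2 ^ r) ≤ 2 ^ r * (2 ^ r * 2 ^ r) := Nat.mul_le_mul_right _ h4
    have hq := Nat.two_pow_pos r
    nlinarith [Nat.mul_pos hq hq]
  have hm : ∀ w : Q, w ∉ L → ¬ Commute (w : G) v0 := fun w hw e =>
    hw (mem_subgroupOf.2 (mem_centralizer_singleton_iff.2 e.eq))
  refine hm _ hss' (mul_inv_eq_iff_eq_mul.1 ?_)
  show z * (s' : G) * v0 * (z * (s' : G))⁻¹ = v0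
  rw [show z * (s' : G) * v0 * (z * (s' : G))⁻¹ = z * ((s' : G) * v0 * (s' : G)⁻¹) * z⁻¹ by group,
    hkey _ s'.2 (hm _ hs'), show z * v0⁻¹ * z⁻¹ = (z * v0 * z⁻¹)⁻¹ by group, hkey z hz hzv, inv_inv]

set_option maxHeartbeats 1000000 in
/-- For eight elements an automorphism whose square fixes the cosets of `E` in `Q` centralises `E`. -/
theorem twist_false (hE : ESet D u a T E) (hr : r = 3) {g : G} (hgQ : ∀ y ∈ Q, g * y * g⁻¹ ∈ Q)
    (hgE : ∀ z ∈ E, g * z * g⁻¹ ∈ E) (hg2 : ∀ z ∈ E, Commute (g * g) z)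
    (hg2Q : ∀ y ∈ Q, y⁻¹ * (g * g * y * (g * g)⁻¹) ∈ E) (hmove : ∃ z ∈ E, g * z * g⁻¹ ≠ z) : False := by
  classical
  obtain ⟨z0, hz0, hgz0⟩ := hmove
  have hq8 : 2 ^ r = 8 := by rw [hr]; norm_num
  have h8 : Nat.card E = 8 := hL.card_eset.trans hq8
  have hQc : Nat.card Q = 512 := by rw [hL.card_Q3, hq8]
  -- the fixed points in `E`
  let φ : E →* E := MonoidHom.mk' (fun w => w * ⟨g * w * g⁻¹, hgE w w.2⟩) fun v w => Subtype.ext (by
    show (v : G) * w * (g * (v * w) * g⁻¹) = v * (g * v * g⁻¹) * (w * (g * w * g⁻¹))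
    rw [(hE.comm _ (hgE v v.2) _ w.2).mul_mul_mul_comm]
    group)
  have hφ : ∀ w : E, (φ w : G) = (w : G) * (g * w * g⁻¹) := fun w => rfl
  have hφk : ∀ w : E, w ∈ φ.ker ↔ g * (w : G) * g⁻¹ = w := fun w => by
    rw [MonoidHom.mem_ker, Subtype.ext_iff, hφ, OneMemClass.coe_one]
    exact ⟨fun e => mul_left_cancel (e.trans (hE.sq w w.2).symm), fun e => by rw [e, hE.sq w w.2]⟩
  have hφr : φ.range ≤ φ.ker := by
    rintro _ ⟨w, rfl⟩
    rw [hφk, hφ, show g * ((w : G) * (g * w * g⁻¹)) * g⁻¹ = (g * w * g⁻¹) * ((g * g) * w * (g * g)⁻¹) by group,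
      (hg2 w w.2).eq, mul_inv_cancel_right]
    exact (hE.comm _ (hgE w w.2) _ w.2).eq
  obtain ⟨hF, hI⟩ : Nat.card φ.ker ≤ 4 ∧ Nat.card φ.range ≤ 2 := by
    have h1 := φ.ker.card_mul_index
    rw [Subgroup.index_ker, h8] at h1
    have h2 := Subgroup.card_le_of_le hφr
    have h3 : Nat.card φ.ker ≠ 8 := fun e => hgz0 ((hφk ⟨z0, hz0⟩).1 (by
      rw [Subgroup.eq_top_of_card_eq φ.ker (e.trans h8.symm)]; exact mem_top _))
    have h4 : Nat.card φ.ker ≤ 4 := by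
      have := Subgroup.card_subgroup_dvd_card φ.ker
      rw [h8] at this
      have := Nat.le_of_dvd (by norm_num) this
      interval_cases hk : Nat.card φ.ker <;> omega
    refine ⟨h4, ?_⟩
    interval_cases hk : Nat.card φ.ker <;> omega
  -- the classes fixed by `g`
  let d : Q → Q := fun t => ⟨(t : G)⁻¹ * (g * t * g⁻¹), mul_mem (inv_mem t.2) (hgQ t t.2)⟩
  have hd : ∀ t : Q, (d t : G) = (t : G)⁻¹ * (g * t * g⁻¹) := fun t => rfl
  set O := E.subgroupOf Q with hO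
  have hOc : Nat.card O = 8 := by rw [Nat.card_congr (Subgroup.subgroupOfEquivOfLe hL.eset_le).toEquiv, h8]
  have hcen : ∀ w : Q, w ∈ O → ∀ t : Q, w * t = t * w := fun w hw t =>
    Subtype.ext (hL.cen _ (mem_subgroupOf.1 hw) t t.2).eq
  have hdmul : ∀ t w : Q, d (t * w) = w⁻¹ * d t * w * d w := fun t w => Subtype.ext (by
    show ((t : G) * w)⁻¹ * (g * (t * w) * g⁻¹) = (w : G)⁻¹ * ((t : G)⁻¹ * (g * t * g⁻¹)) * w * ((w : G)⁻¹ * (g * w * g⁻¹))
    group)
  let W : Subgroup Q :=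
    { carrier := {t | d t ∈ O}
      one_mem' := by
        show d 1 ∈ O
        rw [show d 1 = 1 from Subtype.ext (by rw [hd, OneMemClass.coe_one]; group)]
        exact one_mem O
      mul_mem' := fun {v w} hv hw => by
        show d (v * w) ∈ O
        rw [hdmul, show w⁻¹ * d v * w = d v by rw [mul_assoc, hcen _ hv, inv_mul_cancel_left]]
        exact mul_mem hv hw
      inv_mem' := fun {w} hw => by
        show d w⁻¹ ∈ O
        have h1 := hdmul w⁻¹ w
        rw [inv_mul_cancel, show d 1 = 1 from Subtype.ext (by rw [hd, OneMemClass.coe_one]; group)] at h1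
        have h2 : d w⁻¹ = w * (d w)⁻¹ * w⁻¹ := by
          rw [eq_comm, mul_eq_one_iff_eq_inv] at h1
          rw [← h1]; group
        rw [h2, ← hcen _ (inv_mem hw), mul_inv_cancel_right]
        exact inv_mem hw }
  have hW : ∀ w, w ∈ W ↔ (d w : G) ∈ E := fun w => mem_subgroupOf
  have hOW : O ≤ W := fun w hw => by
    rw [hW, hd]
    exact mul_mem (inv_mem (mem_subgroupOf.1 hw)) (hgE w (mem_subgroupOf.1 hw))
  have hdd : ∀ t : Q, d t ∈ W := fun t => by
    rw [hW]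
    set X := g * (t : G) * g⁻¹ with hX
    set e := (t : G)⁻¹ * ((g * g) * t * (g * g)⁻¹) with he
    have heE : e ∈ E := hg2Q t t.2
    have h1 : ((d (d t) : Q) : G) = ((X⁻¹ * t) * (X⁻¹ * t)) * e := by
      rw [hd, hd, he, hX]
      group
    rw [h1]
    exact mul_mem (hL.sq _ (mul_mem (inv_mem (hgQ t t.2)) t.2)) heE
  have hdO : ∀ t w : Q, (d t)⁻¹ * d (t * w) ∈ O → w ∈ W := fun t w hw => by
    rw [hdmul, ← mul_assoc] at hw
    refine (O.mul_mem_cancel_left (mem_subgroupOf.2 ?_)).1 hw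
    have h1 := hL.comm _ (inv_mem (d t).2) _ (inv_mem w.2)
    rw [inv_inv, inv_inv] at h1
    simp only [Subgroup.coe_mul, Subgroup.coe_inv]
    rwa [← mul_assoc, ← mul_assoc]
  let f : Q ⧸ W → W ⧸ O.subgroupOf W := fun p => QuotientGroup.mk ⟨d p.out, hdd _⟩
  have hf : Function.Injective f := fun p p' e => by
    rw [← p.out_eq', ← p'.out_eq', QuotientGroup.eq]
    exact hdO p.out (p.out⁻¹ * p'.out) (by rw [mul_inv_cancel_left]; exact mem_subgroupOf.1 (QuotientGroup.eq.1 e))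
  have hWc := Subgroup.card_mul_index W
  rw [hQc] at hWc
  have hWO : Nat.card W = Nat.card (W ⧸ O.subgroupOf W) * 8 := by
    rw [← hOc, Subgroup.card_eq_card_quotient_mul_card_subgroup (O.subgroupOf W),
      Nat.card_congr (Subgroup.subgroupOfEquivOfLe hOW).toEquiv]
  have hidx : W.index ≤ Nat.card (W ⧸ O.subgroupOf W) := Nat.card_le_card_of_injective f hf
  let C : Q → Subgroup Q := fun y => (centralizer ({(y : G)} : Set G)).subgroupOf Q
  have hmemC : ∀ y w : Q, w ∈ C y ↔ Commute (w : G) y := fun y w =>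
    mem_subgroupOf.trans mem_centralizer_singleton_iff
  have hbound : ∀ y ∈ W, y ∉ O → (∃ t o, o ∈ O ∧ y = d t * o) →
      Nat.card W ≤ 2 * Nat.card ↥(C y ⊓ W) ∧ Nat.card ↥(C y ⊓ W) ≤ 32 := by
    rintro y - hyO ⟨t, o, ho, hy⟩
    constructor
    · obtain ⟨fy, hfy, hfyk⟩ := hL.exists_commHomQ y.2
      obtain ⟨ft, hft, -⟩ := hL.exists_commHomQ t.2
      set η := fy.comp W.subtype with hη
      have hval : η.range ≤ φ.range := by
        rintro _ ⟨⟨w, hw⟩, rfl⟩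
        refine ⟨ft w, Subtype.ext ?_⟩
        show _ = (fy w : G)
        rw [hφ, hft, hfy, hy]
        set c := (w : G) * t * (w : G)⁻¹ * (t : G)⁻¹ with hc
        have hcE : c ∈ E := hL.comm w w.2 t t.2
        set X := g * (t : G) * g⁻¹ with hX
        set o' := (w : G)⁻¹ * (g * w * g⁻¹) with ho'
        have hoc : Commute o' X := hL.cen o' ((hW w).1 hw) X (hgQ t t.2)
        have e1 : g * c * g⁻¹ = (w : G) * X * (w : G)⁻¹ * X⁻¹ := by
          rw [show g * c * g⁻¹ = (g * w * g⁻¹) * X * (g * w * g⁻¹)⁻¹ * X⁻¹ by rw [hc, hX]; group,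
            show g * w * g⁻¹ = (w : G) * o' from (mul_inv_cancel_left _ _).symm, mul_assoc (w : G) o' X, hoc.eq]
          group
        have hoc2 : Commute (o : G) (w : G)⁻¹ := hL.cen _ (mem_subgroupOf.1 ho) _ (inv_mem w.2)
        show c * (g * c * g⁻¹) = (w : G) * ((t : G)⁻¹ * X * o) * (w : G)⁻¹ * ((t : G)⁻¹ * X * o)⁻¹
        rw [e1, show (w : G) * ((t : G)⁻¹ * X * o) * (w : G)⁻¹ * ((t : G)⁻¹ * X * o)⁻¹ =
            (w : G) * (t : G)⁻¹ * X * ((o : G) * (w : G)⁻¹) * ((t : G)⁻¹ * X * o)⁻¹ by group, hoc2.eq,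
          show (w : G) * (t : G)⁻¹ * X * ((w : G)⁻¹ * o) * ((t : G)⁻¹ * X * o)⁻¹ =
            (t : G)⁻¹ * (c⁻¹ * ((w : G) * X * (w : G)⁻¹ * X⁻¹)) * t by rw [hc]; group,
          ← (hL.cen _ (mul_mem (inv_mem hcE) (e1 ▸ hgE c hcE)) _ (inv_mem t.2)).eq, inv_mul_cancel_right,
          inv_eq_of_mul_eq_one_left (hE.sq c hcE)]
      have h1 := Subgroup.card_mul_index η.ker
      rw [Subgroup.index_ker] at h1
      have h2 : Nat.card η.ker = Nat.card ↥(C y ⊓ W) := by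
        rw [← card_map_of_injective W.subtype_injective, hη, ← MonoidHom.comap_ker,
          Subgroup.map_comap_eq, Subgroup.range_subtype, inf_comm, hfyk]
      rw [h2] at h1
      rw [← h1, mul_comm 2]
      exact Nat.mul_le_mul_left _ ((Subgroup.card_le_of_le hval).trans hI)
    · have hyE : (y : G) ∉ E := fun e => hyO (mem_subgroupOf.2 e)
      have hab : ∀ v w : ↥(C y ⊓ W), Commute ((v : Q) : G) ((w : Q) : G) := fun v w =>
        (hL.comm3 rfl _ y.2 hyE).2 _ v.1.2 _ w.1.2 ((hmemC y v).1 v.2.1).symm ((hmemC y w).1 w.2.1).symm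
      let sqH : ↥(C y ⊓ W) →* E := MonoidHom.mk' (fun v => ⟨((v : Q) : G) * ((v : Q) : G), hL.sq _ v.1.2⟩)
        fun v w => Subtype.ext ((hab w v).mul_mul_mul_comm _ _)
      have h1 := Subgroup.card_mul_index sqH.ker
      rw [Subgroup.index_ker] at h1
      have h2 : Nat.card sqH.ker ≤ 8 := by
        rw [← hOc, ← card_map_of_injective (Subgroup.subtype_injective _)]
        refine Subgroup.card_le_of_le ?_
        rintro _ ⟨v, hv, rfl⟩
        exact mem_subgroupOf.2 (hL.mem_eset _ v.1.2 (congrArg Subtype.val (MonoidHom.mem_ker.1 hv)))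
      have h3 : sqH.range ≤ φ.ker := by
        rintro _ ⟨⟨v, hv⟩, rfl⟩
        rw [hφk]
        show g * ((v : G) * v) * g⁻¹ = (v : G) * v
        have ho := (hW v).1 hv.2
        rw [hd] at ho
        rw [show g * ((v : G) * v) * g⁻¹ = (g * v * g⁻¹) * (g * v * g⁻¹) by group,
          show g * v * g⁻¹ = (v : G) * ((v : G)⁻¹ * (g * v * g⁻¹)) from (mul_inv_cancel_left _ _).symm,
          (hL.cen _ ho v v.2).mul_mul_mul_comm, hE.sq _ ho, mul_one]
      rw [← h1]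
      exact (Nat.mul_le_mul h2 ((Subgroup.card_le_of_le h3).trans hF)).trans (by norm_num)
  have hW64 : 64 ≤ Nat.card W := by
    by_contra hlt
    have h1 : 512 ≤ Nat.card W * Nat.card (W ⧸ O.subgroupOf W) := by
      rw [← hWc]; exact Nat.mul_le_mul_left _ hidx
    have h2 : Nat.card (W ⧸ O.subgroupOf W) ≤ 7 := by omega
    have := Nat.mul_le_mul (show Nat.card W ≤ 63 by omega) h2
    omega
  have hexy : ∃ t : Q, d t ∉ O := by
    by_contra! hall
    -- all squares would be fixed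
    obtain ⟨y, hy, hyE⟩ := hL.exists_outsideQ
    obtain ⟨k, hk, hkz⟩ := hL.K_trans _ (hL.sq y hy) z0 hz0 (fun e => hyE (hL.mem_eset y hy e))
      fun e => hgz0 (by rw [e]; group)
    set v := k * y * k⁻¹ with hv
    have hzy : v * v = z0 := by rw [← hkz, hv]; group
    have hvQ : v ∈ Q := (hL.K_normQ k (mem_sup_left hk) y).2 hy
    have ho : (d ⟨v, hvQ⟩ : G) ∈ E := hall ⟨v, hvQ⟩
    rw [hd] at ho
    refine hgz0 ?_
    rw [← hzy, show g * (v * v) * g⁻¹ = (g * v * g⁻¹) * (g * v * g⁻¹) by group,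
      show g * v * g⁻¹ = v * (v⁻¹ * (g * v * g⁻¹)) from (mul_inv_cancel_left _ _).symm,
      (hL.cen _ ho v hvQ).mul_mul_mul_comm, hE.sq _ ho, mul_one]
  obtain ⟨t0, ht0⟩ := hexy
  obtain ⟨hb1, hb2⟩ := hbound (d t0) (hdd t0) ht0 ⟨t0, 1, one_mem O, (mul_one _).symm⟩
  have hbij : Function.Bijective f := by
    rw [Nat.bijective_iff_injective_and_card]
    refine ⟨hf, ?_⟩
    show W.index = _
    have h1 : Nat.card W = 64 := by omega
    have h2 : W.index = 8 := by rw [h1] at hWc; omega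
    have h3 : Nat.card (W ⧸ O.subgroupOf W) = 8 := by omega
    rw [h2, h3]
  obtain ⟨w2, hw2W, hw2C⟩ : ∃ w ∈ W, w ∉ C (d t0) := by
    by_contra! hle
    have h1 : C (d t0) ⊓ W = W := inf_eq_right.2 hle
    rw [h1] at hb2
    omega
  have hw2O : w2 ∉ O := fun e =>
    hw2C ((hmemC _ _).2 (hL.cen _ (mem_subgroupOf.1 e) _ (d t0).2))
  obtain ⟨p, hp⟩ := hbij.2 (QuotientGroup.mk ⟨w2, hw2W⟩)
  obtain ⟨hc1, -⟩ := hbound w2 hw2W hw2O ⟨p.out, (d p.out)⁻¹ * w2, mem_subgroupOf.1 (QuotientGroup.eq.1 hp),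
    (mul_inv_cancel_left _ _).symm⟩
  have hle : (C (d t0) ⊓ W) ⊓ (C w2 ⊓ W) ≤ O := fun w hw => by
    refine mem_subgroupOf.2 ?_
    by_contra hw1
    exact hw2C ((hmemC _ _).2 ((hL.comm3 rfl _ w.2 hw1).2 _ w2.2 _ (d t0).2
      ((hmemC _ _).1 hw.2.1) ((hmemC _ _).1 hw.1.1)))
  have e1 := hOc ▸ Subgroup.card_le_of_le hle
  set C1 := (C (d t0) ⊓ W).subgroupOf W
  set C2 := (C w2 ⊓ W).subgroupOf W
  have c1 := Subgroup.card_mul_index C1
  have c2 := Subgroup.card_mul_index C2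
  have c3 := Subgroup.card_mul_index (C1 ⊓ C2)
  have c4 : (C1 ⊓ C2).index ≤ C1.index * C2.index := Subgroup.index_inf_le
  rw [Nat.card_congr (Subgroup.subgroupOfEquivOfLe inf_le_right).toEquiv] at c1 c2
  have c5 : Nat.card ↥(C1 ⊓ C2) ≤ 8 := by
    rw [← card_map_of_injective W.subtype_injective]
    refine (Subgroup.card_le_of_le ?_).trans e1
    rintro _ ⟨v, hv, rfl⟩
    exact hv
  have i1 : C1.index ≤ 2 := Nat.le_of_mul_le_mul_left (by rw [c1, mul_comm]; exact hb1) Nat.card_pos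
  have i2 : C2.index ≤ 2 := Nat.le_of_mul_le_mul_left (by rw [c2, mul_comm]; exact hc1) Nat.card_pos
  have := Nat.mul_le_mul c5 (c4.trans (Nat.mul_le_mul i1 i2))
  omega

end Local

end Cfsg.Agent.GoodInvol
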