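import Cfsg.Agent.Lib.GoodInvol.CaseBSplit

/-!
# A 2-group at a point when those fixing two points have order at most two

Such a group acts on the other points with stabilisers of order at most two, so half its order divides their number.
-/

set_option autoImplicit false
set_option linter.style.haveILetI false
set_option linter.unusedSectionVars false

namespace Cfsg.Agent.GoodInvol

open Subgroup MulAction

universe u

variable {G : Type u} [Group G] [Finite G] {Ω : Type u} [MulAction G Ω] [Finite Ω]

/-- Half the order of a 2-group fixing a point divides the number of the other points. -/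
theorem Crit.dvd_card_pred_of_small (hsmall : SmallPairs G Ω) {a : Ω} {R : Subgroup G} (hR : IsPGroup 2 R)
    (ha : ∀ g ∈ R, g • a = a) {j : ℕ} (hj : 2 ^ (j + 1) ∣ Nat.card R) : 2 ^ j ∣ Nat.card Ω - 1 := by
  classical
  haveI : Fact (Nat.Prime 2) := ⟨Nat.prime_two⟩
  rw [show Nat.card Ω - 1 = ({a}ᶜ : Set Ω).ncard by rw [Set.ncard_compl, Set.ncard_singleton]]
  refine dvd_ncard_of_orbits (G := R) _ (fun g z hz e' => hz ?_) fun z hz => ?_
  · exact smul_left_cancel (g : G) ((show (g : G) • z = a from e').trans (ha g g.2).symm)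
  · have hst : Nat.card (stabilizer R z) ≤ 2 := by
      rw [← Subgroup.card_map_of_injective (K := stabilizer R z) R.subtype_injective]
      refine hsmall _ ((hR.to_subgroup _).map _) a z (fun e => hz e.symm) ?_ ?_
      · rintro _ ⟨g, -, rfl⟩; exact ha _ g.2
      · rintro _ ⟨g, hg, rfl⟩; exact hg
    obtain ⟨k, hk⟩ := IsPGroup.iff_card.1 hR
    have hos : (orbit R z).ncard * Nat.card (stabilizer R z) = 2 ^ k := by
      rw [← hk, ← Nat.card_coe_set_eq, Nat.card_congr (orbitEquivQuotientStabilizer R z), ← Subgroup.index_eq_card,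
        Subgroup.index_mul_card]
    obtain ⟨i, -, hoi⟩ := (Nat.dvd_prime_pow Nat.prime_two).1 (Dvd.intro _ hos)
    rw [hoi] at hos ⊢
    rw [hk, Nat.pow_dvd_pow_iff_le_right (by norm_num)] at hj
    refine pow_dvd_pow 2 ?_
    have h1 : 2 ^ k ≤ 2 ^ i * 2 := hos ▸ Nat.mul_le_mul_left _ hst
    rw [← pow_succ] at h1
    have := (Nat.pow_le_pow_iff_right one_lt_two).1 h1
    omega

end Cfsg.Agent.GoodInvol
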