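import Cfsg.Agent.Lib.GoodInvol.CaseBGamma

/-!
# A two-subgroup of order twice `q ^ 6`

Let a two-subgroup `S` of order `2 q ^ 5` contain `X` with `Y` central modulo `E` and with squares in `Y`. Of the
cosets of `Y` those with a conjugate of `u` avoid a subgroup of index two, so transfer moves `u Y` in the normaliser
of `S`, to `q` cosets in all, and `M` has a two-subgroup of order `2 q ^ 6`.
-/

set_option autoImplicit false
set_option linter.style.haveILetI false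
set_option linter.unusedSectionVars false

namespace Cfsg.Agent.GoodInvol

open Subgroup MulAction

universe u

variable {G : Type u} [Group G] [Finite G]

/-- The transfer: a Sylow subgroup has a conjugate of an involution in every subgroup of index two. -/
theorem false_of_half (h2 : ∀ H : Subgroup G, H.index ≠ 2) {M : Subgroup G} (hM : ¬ 2 ∣ M.index) {u : G}
    (hu : u * u = 1) {S : Subgroup G} (hS2 : IsPGroup 2 S) (hSM : S ≤ M)
    (hmax : ∀ R : Subgroup G, R ≤ M → IsPGroup 2 R → S ≤ R → R ≤ S) {M0 : Subgroup G} (hM0 : M0 ≤ S)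
    (hcard : 2 * Nat.card M0 = Nat.card S) (hno : ∀ v ∈ M0, ¬ IsConj u v) : False := by
  haveI : Fact (Nat.Prime 2) := ⟨Nat.prime_two⟩
  obtain ⟨P, hP⟩ := IsPGroup.exists_le_sylow (hS2.comap_subtype (K := M))
  have hle : S ≤ (P : Subgroup M).map M.subtype := fun y hy => ⟨⟨y, hSM hy⟩, hP hy, rfl⟩
  have hPM : (P : Subgroup M).map M.subtype = S :=
    le_antisymm (hmax _ (map_subtype_le _) (P.2.map _) hle) hle
  have hidx : ¬ 2 ∣ S.index := by
    rw [← hPM, Subgroup.index_map_subtype, Nat.prime_two.dvd_mul]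
    push Not
    exact ⟨P.not_dvd_index, hM⟩
  let S' : Sylow 2 G := hS2.toSylow hidx
  obtain ⟨v, hv, hcv, -⟩ := TwoXDih.exists_extremal h2 S' (M := M0) hM0 hcard hu (c := 0) (by simp)
  exact hno v hv hcv

namespace XCfg

variable {M X T E : Subgroup G} {u : G}

/-- The normaliser of `S` moves `u Y` to `q` cosets, so there is a two-subgroup of order `2 q ^ 6`. -/
theorem exists_two_group_six (h : XCfg M X T E u) (h2 : ∀ H : Subgroup G, H.index ≠ 2) (hM : ¬ 2 ∣ M.index)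
    (hconj : ∀ v ∈ M, IsConj u v → ∃ g ∈ M, g * u * g⁻¹ = v) {q : ℕ} (hq : 4 ≤ q) {S Y : Subgroup G}
    (hS2 : IsPGroup 2 S) (hXS : X ≤ S) (hSM : S ≤ M) (hEY : E ≤ Y) (hYX : Y ≤ X)
    (hY2 : 2 * Nat.card Y = Nat.card X) (huY : u ∉ Y) (hE : Nat.card E = q) (hT : Nat.card T = 2 * q ^ 3)
    (hX : Nat.card X = 2 * q ^ 4) (hS : Nat.card S = 2 * q ^ 5) (hsq : ∀ s ∈ S, s * s ∈ Y)
    (hYS : ∀ y ∈ Y, ∀ s ∈ S, y * s * y⁻¹ * s⁻¹ ∈ E) (hEcen : ∀ z ∈ E, ∀ s ∈ S, Commute z s)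
    (hcen : ∀ s ∈ S, (∀ t ∈ S, Commute s t) → s ∈ E) (hfix : ∀ s ∈ S, u⁻¹ * (s * u * s⁻¹) ∈ E → s ∈ X)
    (hH : ∀ R : Subgroup G, R ≤ xNorm M X E → IsPGroup 2 R → Nat.card R ≤ 2 * q ^ 5)
    (hK : ∀ a ∈ S, ∀ b ∈ S, a ∉ X → b ∉ X → ∃ g ∈ xNorm M X E, g ∈ Subgroup.normalizer (S : Set G) ∧
      u⁻¹ * (g * u * g⁻¹) ∈ E ∧ b⁻¹ * (g * a * g⁻¹) ∈ X) :
    ∃ R : Subgroup G, R ≤ M ∧ IsPGroup 2 R ∧ 2 * q ^ 6 ≤ Nat.card R := by
  classical
  haveI : Fact (Nat.Prime 2) := ⟨Nat.prime_two⟩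
  have hu2 : u * u = 1 := by rw [← pow_two, ← h.ou, pow_orderOf_eq_one]
  have hui : u⁻¹ = u := inv_eq_of_mul_eq_one_right hu2
  have huS : u ∈ S := hXS h.u_X
  have hYS' : Y ≤ S := hYX.trans hXS
  have hq4 : 0 < q ^ 4 := pow_pos (by omega) 4
  have hYcard : Nat.card Y = q ^ 4 := by omega
  -- `S / Y` is elementary
  have hcomm : ∀ a ∈ S, ∀ b ∈ S, a * b * a⁻¹ * b⁻¹ ∈ Y := fun a ha b hb => by
    rw [show a * b * a⁻¹ * b⁻¹ = a * a * (a⁻¹ * b * (a⁻¹ * b)) * (b⁻¹ * b⁻¹) by group]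
    exact mul_mem (mul_mem (hsq a ha) (hsq _ (mul_mem (inv_mem ha) hb))) (hsq _ (inv_mem hb))
  have hYn : ∀ s ∈ S, ∀ y ∈ Y, s * y * s⁻¹ ∈ Y := fun s hs y hy => by
    have h1 := mul_mem (hcomm s hs y (hYS' hy)) hy
    rwa [inv_mul_cancel_right] at h1
  have hXsplit : ∀ x ∈ X, x ∈ Y ∨ u * x ∈ Y := by
    have hi : (Y.subgroupOf X).index = 2 := by
      have e := (Y.subgroupOf X).card_mul_index
      rw [Nat.card_congr (subgroupOfEquivOfLe hYX).toEquiv, ← hY2, mul_comm 2] at e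
      exact Nat.eq_of_mul_eq_mul_left Nat.card_pos e
    intro x hx
    by_cases hxY : x ∈ Y
    · exact Or.inl hxY
    · refine Or.inr ((mul_mem_iff_of_index_two hi (a := (⟨u, h.u_X⟩ : X)) (b := ⟨x, hx⟩)).2 ?_)
      exact iff_of_false huY hxY
  -- commutators of a conjugate with `Y`, the subgroup commuting with it modulo `E`
  have hcE : ∀ a ∈ S, ∀ e ∈ E, a * e * a⁻¹ = e := fun a ha e he => by
    rw [← (hEcen e he a ha).eq, mul_inv_cancel_right]
  have hsmall : ∀ v ∈ S, IsConj u v → ∀ K' : Subgroup G, K' ≤ S →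
      (∀ s ∈ K', v * s * v⁻¹ * s⁻¹ ∈ E) → Nat.card K' ≤ 2 * q ^ 4 := by
    intro v hv hcv K' hK'S hK'E
    obtain ⟨g, hgM, hgv⟩ := hconj v (hSM hv) hcv
    let φ : K' →* E :=
      { toFun := fun s => ⟨v * s * v⁻¹ * (s : G)⁻¹, hK'E s s.2⟩
        map_one' := Subtype.ext (by simp)
        map_mul' := fun s t => Subtype.ext (by
          show v * ((s : G) * t) * v⁻¹ * ((s : G) * t)⁻¹ = v * s * v⁻¹ * (s : G)⁻¹ * (v * t * v⁻¹ * (t : G)⁻¹)
          calc v * ((s : G) * t) * v⁻¹ * ((s : G) * t)⁻¹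
              = v * s * v⁻¹ * (s : G)⁻¹ * ((s : G) * (v * t * v⁻¹ * (t : G)⁻¹) * (s : G)⁻¹) := by group
            _ = _ := by rw [hcE _ (hK'S s.2) _ (hK'E t t.2)]) }
    have hidx : φ.ker.index ≤ q := by
      rw [Subgroup.index_ker, ← hE]
      exact Nat.card_le_card_of_injective _ Subtype.val_injective
    set R := ((φ.ker).map K'.subtype).map (MulAut.conj g⁻¹).toMonoidHom with hR
    have hRcard : Nat.card R = Nat.card φ.ker := by
      rw [hR, card_map_of_injective (MulAut.conj g⁻¹).injective, card_map_of_injective K'.subtype_injective]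
    have hkS : (φ.ker).map K'.subtype ≤ S := (map_subtype_le _).trans hK'S
    have hker : Nat.card φ.ker ≤ 2 * q ^ 3 := by
      rw [← hRcard, ← hT]
      refine h.T_max R ?_ ((hS2.to_le hkS).map _) ?_
      · rintro _ ⟨y, hy, rfl⟩
        exact mul_mem (mul_mem (inv_mem hgM) (hSM (hkS hy))) (inv_mem (inv_mem hgM))
      · rintro _ ⟨_, ⟨s, hs, rfl⟩, rfl⟩
        have h1 : v * (s : G) * v⁻¹ * (s : G)⁻¹ = 1 := congrArg Subtype.val (MonoidHom.mem_ker.1 hs)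
        have h3 : Commute v (s : G) := mul_inv_eq_iff_eq_mul.1 (mul_inv_eq_one.1 h1)
        rw [← hgv] at h3
        show g⁻¹ * (s : G) * g⁻¹⁻¹ * u = u * (g⁻¹ * (s : G) * g⁻¹⁻¹)
        calc g⁻¹ * (s : G) * g⁻¹⁻¹ * u = g⁻¹ * ((s : G) * (g * u * g⁻¹)) * g := by group
          _ = g⁻¹ * (g * u * g⁻¹ * (s : G)) * g := by rw [h3.eq]
          _ = _ := by group
    calc Nat.card K' = Nat.card φ.ker * φ.ker.index := φ.ker.card_mul_index.symm
      _ ≤ 2 * q ^ 3 * q := Nat.mul_le_mul hker hidx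
      _ = _ := by ring
  let cenMod : G → Subgroup G := fun v =>
    { carrier := {s | s ∈ S ∧ v * s * v⁻¹ * s⁻¹ ∈ E}
      one_mem' := ⟨one_mem S, by simp⟩
      mul_mem' := fun {a b} ha hb => ⟨mul_mem ha.1 hb.1, by
        rw [show v * (a * b) * v⁻¹ * (a * b)⁻¹ = v * a * v⁻¹ * a⁻¹ * (a * (v * b * v⁻¹ * b⁻¹) * a⁻¹) by group,
          hcE a ha.1 _ hb.2]
        exact mul_mem ha.2 hb.2⟩
      inv_mem' := fun {a} ha => ⟨inv_mem ha.1, by
        rw [show v * a⁻¹ * v⁻¹ * a⁻¹⁻¹ = a⁻¹ * (v * a * v⁻¹ * a⁻¹)⁻¹ * a⁻¹⁻¹ by group,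
          hcE _ (inv_mem ha.1) _ (inv_mem ha.2)]
        exact inv_mem ha.2⟩ }
  have hYcen : ∀ v ∈ S, Y ≤ cenMod v := fun v hv y hy => ⟨hYS' hy, by
    have h1 := inv_mem (hYS y hy v hv)
    rwa [show (y * v * y⁻¹ * v⁻¹)⁻¹ = v * y * v⁻¹ * y⁻¹ by group] at h1⟩
  -- the cosets with a conjugate of `u`
  let Pc : G → Prop := fun s => s ∈ S ∧ ∃ y ∈ Y, IsConj u (s * y)
  have hPmul : ∀ {s y}, Pc s → y ∈ Y → Pc (s * y) := fun {s y} hs hy => by
    obtain ⟨hsS, y', hy', hc⟩ := hs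
    exact ⟨mul_mem hsS (hYS' hy), y⁻¹ * y', mul_mem (inv_mem hy) hy', by rwa [mul_assoc, mul_inv_cancel_left]⟩
  have hPcongr : ∀ {s t}, Pc s → s⁻¹ * t ∈ Y → Pc t := fun {s t} hs ht => by
    have h1 := hPmul hs ht
    rwa [mul_inv_cancel_left] at h1
  have hPu : Pc u := ⟨huS, 1, one_mem Y, by rw [mul_one]⟩
  have hPY : ∀ {s}, Pc s → s ∉ Y := fun {s} hs hsY => by
    obtain ⟨hsS, y, hy, hc⟩ := hs
    have hv : s * y ∈ Y := mul_mem hsY hy
    have := hsmall _ (hYS' hv) hc S le_rfl fun t ht => hYS _ hv t ht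
    rw [hS, show q ^ 5 = q ^ 4 * q by ring, ← mul_assoc] at this
    have h5 : 2 * q ^ 4 * 4 ≤ 2 * q ^ 4 * q := Nat.mul_le_mul_left _ hq
    omega
  have hPsq : ∀ {s}, Pc s → s * s ∈ E := fun {s} hs => by
    obtain ⟨hsS, y, hy, hc⟩ := hs
    obtain ⟨g, hg⟩ := isConj_iff.1 hc
    set v := s * y with hvdef
    have hv2 : v * v = 1 := by
      rw [← hg, show g * u * g⁻¹ * (g * u * g⁻¹) = g * (u * u) * g⁻¹ by group, hu2]; group
    have hvS : v ∈ S := mul_mem hsS (hYS' hy)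
    have e : s * s = (v * y⁻¹ * v⁻¹ * y⁻¹⁻¹) * (y⁻¹ * (v * v) * y⁻¹) := by
      rw [hvdef]; group
    rw [e, hv2, mul_one]
    exact mul_mem ((hYcen v hvS) (inv_mem hy)).2 (h.X_sq _ (hYX (inv_mem hy)))
  have hsum : ∀ {a b}, Pc a → Pc b → a⁻¹ * b ∉ Y → ¬ Pc (a * b) := fun {a b} ha hb hne hab => by
    have hab' : a * b * a⁻¹ * b⁻¹ ∈ E := by
      have e : a * b * a⁻¹ * b⁻¹ = a * b * (a * b) * (b⁻¹ * (a * a)⁻¹ * b⁻¹⁻¹) * (b * b)⁻¹ := by group
      rw [e, hcE _ (inv_mem hb.1) _ (inv_mem (hPsq ha))]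
      exact mul_mem (mul_mem (hPsq hab) (inv_mem (hPsq ha))) (inv_mem (hPsq hb))
    have haS := ha.1
    obtain ⟨-, y, hy, hc⟩ := ha
    set v := a * y with hvdef
    have hvS : v ∈ S := mul_mem haS (hYS' hy)
    have hbK : b ∈ cenMod v := ⟨hb.1, by
      rw [hvdef, show a * y * b * (a * y)⁻¹ * b⁻¹ = a * (y * b * y⁻¹ * b⁻¹) * a⁻¹ * (a * b * a⁻¹ * b⁻¹) by group,
        hcE a haS _ (hYS y hy b hb.1)]
      exact mul_mem (hYS y hy b hb.1) hab'⟩
    have hvK : v ∈ cenMod v := ⟨hvS, by simp⟩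
    have hle := hsmall v hvS hc (cenMod v) (fun _ hs => hs.1) fun _ hs => hs.2
    set K' := cenMod v
    have hi : (Y.subgroupOf K').index ≤ 2 := by
      have e := (Y.subgroupOf K').card_mul_index
      rw [Nat.card_congr (subgroupOfEquivOfLe (hYcen v hvS)).toEquiv, hYcard] at e
      rw [← e, mul_comm 2] at hle
      exact Nat.le_of_mul_le_mul_left hle hq4
    have haY : v ∉ Y := hPY (hPmul ⟨haS, y, hy, hc⟩ hy)
    have hbY : b ∉ Y := hPY hb
    rcases (show (Y.subgroupOf K').index = 1 ∨ (Y.subgroupOf K').index = 2 by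
      have := Nat.pos_of_ne_zero (index_ne_zero_of_finite (H := Y.subgroupOf K')); omega) with e1 | e1
    · exact haY (mem_subgroupOf.1 ((index_eq_one.1 e1).symm ▸ mem_top (⟨v, hvK⟩ : K')))
    · have h3 : v * b ∈ Y := mem_subgroupOf.1
        ((mul_mem_iff_of_index_two e1 (a := (⟨v, hvK⟩ : K')) (b := ⟨b, hbK⟩)).2 (iff_of_false haY hbY))
      refine hne ?_
      have e2 : a⁻¹ * b = (a⁻¹ * a⁻¹) * (v * b) * ((v * b)⁻¹ * (a * b)) := by rw [hvdef]; group
      have e3 : (v * b)⁻¹ * (a * b) = b⁻¹ * y⁻¹ * b⁻¹⁻¹ := by rw [hvdef]; group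
      rw [e2, e3]
      exact mul_mem (mul_mem (hsq _ (inv_mem haS)) h3) (hYn _ (inv_mem hb.1) _ (inv_mem hy))
  have hxor0 : ∀ {a}, Pc a → ¬ Pc (a * u) := fun {a} ha hau => by
    by_cases hne : a⁻¹ * u ∈ Y
    · refine hPY hau ?_
      rw [show a * u = a * a * (a⁻¹ * u) by group]
      exact mul_mem (hsq a ha.1) hne
    · exact hsum ha hPu hne hau
  -- the normaliser of `S`
  set N := M ⊓ Subgroup.normalizer (S : Set G) with hN
  have hNS : ∀ g ∈ N, ∀ s, s ∈ S ↔ g * s * g⁻¹ ∈ S := fun g hg => Subgroup.mem_normalizer_iff.1 (mem_inf.1 hg).2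
  have hNS' : ∀ g ∈ N, ∀ t ∈ S, g⁻¹ * t * g ∈ S := fun g hg t ht => by
    have := (hNS g⁻¹ (inv_mem hg) t).1 ht
    rwa [inv_inv] at this
  have hNE : ∀ g ∈ N, ∀ z ∈ E, g * z * g⁻¹ ∈ E := fun g hg z hz => by
    refine hcen _ ((hNS g hg z).1 (hYS' (hEY hz))) fun t ht => ?_
    have h1 := (hEcen z hz _ (hNS' g hg t ht)).map (MulAut.conj g).toMonoidHom
    simpa [mul_assoc] using h1
  have hYchar : ∀ s ∈ S, (∀ t ∈ S, s * t * s⁻¹ * t⁻¹ ∈ E) → s ∈ Y := fun s hs hst => by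
    have hsX : s ∈ X := by
      refine hfix s hs ?_
      have h1 := hst u huS
      rw [show u⁻¹ * (s * u * s⁻¹) = u⁻¹ * (s * u * s⁻¹ * u⁻¹) * u⁻¹⁻¹ by group, hcE _ (inv_mem huS) _ h1]
      exact h1
    refine (hXsplit s hsX).resolve_right fun h1 => ?_
    have hall : ∀ t ∈ S, t ∈ X := fun t ht => by
      refine hfix t ht ?_
      -- `u` commutes with `t` modulo `E`
      set y := u * s with hy
      have hus : u = y * s⁻¹ := by rw [hy, mul_inv_cancel_right]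
      have h3 : u * t * u⁻¹ * t⁻¹ ∈ E := by
        rw [hus, show y * s⁻¹ * t * (y * s⁻¹)⁻¹ * t⁻¹ =
          y * (s⁻¹ * t * s⁻¹⁻¹ * t⁻¹) * y⁻¹ * (y * t * y⁻¹ * t⁻¹) by group]
        have h4 : s⁻¹ * t * s⁻¹⁻¹ * t⁻¹ ∈ E := by
          rw [show s⁻¹ * t * s⁻¹⁻¹ * t⁻¹ = s⁻¹ * (s * t * s⁻¹ * t⁻¹)⁻¹ * s⁻¹⁻¹ by group,
            hcE _ (inv_mem hs) _ (inv_mem (hst t ht))]
          exact inv_mem (hst t ht)
        rw [hcE _ (hYS' h1) _ h4]
        exact mul_mem h4 (hYS y h1 t ht)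
      rw [show u⁻¹ * (t * u * t⁻¹) = u⁻¹ * (u * t * u⁻¹ * t⁻¹)⁻¹ * u⁻¹⁻¹ by group,
        hcE _ (inv_mem huS) _ (inv_mem h3)]
      exact inv_mem h3
    have hle := card_le_of_le (show S ≤ X from hall)
    rw [hS, hX, show q ^ 5 = q ^ 4 * q by ring, ← mul_assoc] at hle
    have h5 : 2 * q ^ 4 * 4 ≤ 2 * q ^ 4 * q := Nat.mul_le_mul_left _ hq
    omega
  have hNY : ∀ g ∈ N, ∀ y ∈ Y, g * y * g⁻¹ ∈ Y := fun g hg y hy => by
    refine hYchar _ ((hNS g hg y).1 (hYS' hy)) fun t ht => ?_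
    have h1 := hNE g hg _ (hYS y hy _ (hNS' g hg t ht))
    rwa [show g * (y * (g⁻¹ * t * g) * y⁻¹ * (g⁻¹ * t * g)⁻¹) * g⁻¹ = g * y * g⁻¹ * t * (g * y * g⁻¹)⁻¹ * t⁻¹ by
      group] at h1
  have hPN : ∀ {g s}, g ∈ N → Pc s → Pc (g * s * g⁻¹) := fun {g s} hg hs => by
    obtain ⟨hsS, y, hy, hc⟩ := hs
    exact ⟨(hNS g hg s).1 hsS, g * y * g⁻¹, hNY g hg y hy, hc.trans (isConj_iff.2 ⟨g, by group⟩)⟩
  -- outside `X` the cosets with a conjugate are none or one in each coset of `X`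
  have hall : ∀ {a}, Pc a → a ∉ X → ∀ b ∈ S, b ∉ X →
      ∃ g ∈ N, g * u * g⁻¹ * u⁻¹ ∈ Y ∧ (b⁻¹ * (g * a * g⁻¹) ∈ Y ∨ (b * u)⁻¹ * (g * a * g⁻¹) ∈ Y) := by
    intro a ha haX b hb hbX
    obtain ⟨g, hg, hgS, hgu, hgab⟩ := hK a ha.1 b hb haX hbX
    refine ⟨g, ⟨(mem_inf.1 (mem_inf.1 hg).1).1, hgS⟩, ?_, ?_⟩
    · rw [show g * u * g⁻¹ * u⁻¹ = u * (u⁻¹ * (g * u * g⁻¹)) * u⁻¹ by group, hcE u huS _ hgu]
      exact hEY hgu
    · rcases hXsplit _ hgab with h1 | h1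
      · exact Or.inl h1
      · exact Or.inr (by rwa [mul_inv_rev, hui, mul_assoc])
  -- the subgroup of index two
  obtain ⟨M0, hM0S, hM0u, hM0P⟩ : ∃ M0 : Subgroup G, M0 ≤ S ∧ (∀ s ∈ S, (s * u ∈ M0 ↔ s ∉ M0)) ∧
      ∀ v ∈ M0, ¬ Pc v := by
    by_cases hex : ∃ a, Pc a ∧ a ∉ X
    · obtain ⟨a, ha, haX⟩ := hex
      have hor : ∀ s ∈ S, Pc s ∨ Pc (s * u) := fun s hs => by
        by_cases hsX : s ∈ X
        · rcases hXsplit s hsX with h1 | h1
          · exact Or.inr (hPcongr hPu (by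
              rw [show u⁻¹ * (s * u) = u⁻¹ * s * u⁻¹⁻¹ by group]
              exact hYn _ (inv_mem huS) _ h1))
          · exact Or.inl (hPcongr hPu (by rwa [hui]))
        · obtain ⟨g, hg, -, h1 | h1⟩ := hall ha haX s hs hsX
          · refine Or.inl (hPcongr (hPN hg ha) ?_)
            have := inv_mem h1
            rwa [mul_inv_rev, inv_inv] at this
          · refine Or.inr (hPcongr (hPN hg ha) ?_)
            have := inv_mem h1
            rwa [mul_inv_rev, inv_inv] at this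
      have hsu : ∀ s ∈ S, (¬ Pc (s * u) ↔ Pc s) := fun s hs =>
        ⟨fun h1 => (hor s hs).resolve_right h1, fun h1 => hxor0 h1⟩
      refine ⟨
        { carrier := {s | s ∈ S ∧ ¬ Pc s}
          one_mem' := ⟨one_mem S, fun h1 => hPY h1 (one_mem Y)⟩
          mul_mem' := fun {a b} ha hb => ⟨mul_mem ha.1 hb.1, fun hab => by
            have hau := (hor a ha.1).resolve_left ha.2
            have hbu := (hor b hb.1).resolve_left hb.2
            by_cases hne : (a * u)⁻¹ * (b * u) ∈ Y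
            · refine hPY hab ?_
              have h3 : a⁻¹ * b ∈ Y := by
                have := hYn u huS _ hne
                rwa [show u * ((a * u)⁻¹ * (b * u)) * u⁻¹ = a⁻¹ * b by group] at this
              rw [show a * b = a * a * (a⁻¹ * b) by group]
              exact mul_mem (hsq a ha.1) h3
            · refine hsum hau hbu hne (hPcongr hab ?_)
              rw [show (a * b)⁻¹ * (a * u * (b * u)) = b⁻¹ * u * b⁻¹⁻¹ * u⁻¹ * (u * u) by group, hu2, mul_one]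
              exact hcomm _ (inv_mem hb.1) u huS⟩
          inv_mem' := fun {a} ha => ⟨inv_mem ha.1, fun h1 => ha.2 (hPcongr h1 (by
            rw [inv_inv]; exact hsq a ha.1))⟩ },
        fun s hs => hs.1, fun s hs => ?_, fun v hv => hv.2⟩
      constructor
      · exact fun h1 h2 => h2.2 ((hsu s hs).1 h1.2)
      · exact fun h1 => ⟨mul_mem hs huS, (hsu s hs).2 (by_contra fun h2 => h1 ⟨hs, h2⟩)⟩
    · obtain ⟨M0, hM0⟩ := (Set.toFinite {H : Subgroup G | H ≤ S ∧ Y ≤ H ∧ u ∉ H}).exists_maximal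
        ⟨Y, hYS', le_rfl, huY⟩
      obtain ⟨hle, hYle, hu0⟩ := hM0.1
      have hor : ∀ s ∈ S, s ∉ M0 → s⁻¹ * u ∈ M0 := by
        intro s hs hsM
        have hn : ∀ m ∈ M0, s⁻¹ * m * s ∈ M0 := fun m hm => by
          have h1 := mul_mem (hYle (hcomm s⁻¹ (inv_mem hs) m (hle hm))) hm
          rwa [inv_mul_cancel_right, inv_inv] at h1
        let M1 : Subgroup G :=
          { carrier := {z | z ∈ S ∧ (z ∈ M0 ∨ s⁻¹ * z ∈ M0)}
            one_mem' := ⟨one_mem S, Or.inl (one_mem M0)⟩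
            mul_mem' := fun {a b} ha hb => ⟨mul_mem ha.1 hb.1, by
              rcases ha.2 with ha' | ha' <;> rcases hb.2 with hb' | hb'
              · exact Or.inl (mul_mem ha' hb')
              · refine Or.inr ?_
                rw [show s⁻¹ * (a * b) = s⁻¹ * a * s * (s⁻¹ * b) by group]
                exact mul_mem (hn a ha') hb'
              · refine Or.inr ?_
                rw [← mul_assoc]
                exact mul_mem ha' hb'
              · refine Or.inl ?_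
                rw [show a * b = s * s * (s⁻¹ * (s⁻¹ * a) * s) * (s⁻¹ * b) by group]
                exact mul_mem (mul_mem (hYle (hsq s hs)) (hn _ ha')) hb'⟩
            inv_mem' := fun {a} ha => ⟨inv_mem ha.1, by
              rcases ha.2 with ha' | ha'
              · exact Or.inl (inv_mem ha')
              · refine Or.inr ?_
                rw [show s⁻¹ * a⁻¹ = s⁻¹ * (s⁻¹ * a)⁻¹ * s * (s⁻¹ * s⁻¹) by group]
                exact mul_mem (hn _ (inv_mem ha')) (hYle (hsq _ (inv_mem hs)))⟩ }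
        have hsub : M0 ≤ M1 := fun m hm => ⟨hle hm, Or.inl hm⟩
        by_contra hcon
        have hu1 : u ∉ M1 := fun h1 => h1.2.elim hu0 hcon
        have hmem : M1 ∈ {H : Subgroup G | H ≤ S ∧ Y ≤ H ∧ u ∉ H} := ⟨fun z hz => hz.1, hYle.trans hsub, hu1⟩
        exact hsM (hM0.2 hmem hsub ⟨hs, Or.inr (by rw [inv_mul_cancel]; exact one_mem M0)⟩)
      refine ⟨M0, hle, fun s hs => ⟨fun h1 h2 => hu0 ?_, fun h1 => ?_⟩, fun v hv hPv => ?_⟩
      · exact (M0.mul_mem_cancel_left h2).1 h1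
      · rw [show s * u = s * s * (s⁻¹ * u) by group]
        exact mul_mem (hYle (hsq s hs)) (hor s hs h1)
      · push Not at hex
        rcases hXsplit v (hex v hPv) with h1 | h1
        · exact hPY hPv h1
        · exact hu0 ((M0.mul_mem_cancel_right hv).1 (hYle h1))
  have hM0card : 2 * Nat.card M0 = Nat.card S := by
    have hi : (M0.subgroupOf S).index = 2 := by
      rw [index_eq_two_iff]
      refine ⟨⟨u, huS⟩, fun b => ?_⟩
      simp only [mem_subgroupOf, Subgroup.coe_mul]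
      by_cases hb : (b : G) ∈ M0
      · exact Or.inr ⟨hb, fun h1 => ((hM0u b b.2).1 h1) hb⟩
      · exact Or.inl ⟨(hM0u b b.2).2 hb, hb⟩
    rw [← (M0.subgroupOf S).card_mul_index, hi, Nat.card_congr (subgroupOfEquivOfLe hM0S).toEquiv, mul_comm]
  have hnoconj : ∀ v ∈ M0, ¬ IsConj u v := fun v hv hc =>
    hM0P v hv ⟨hM0S hv, 1, one_mem Y, by rwa [mul_one]⟩
  -- those fixing the coset of `u`
  let N0 : Subgroup G :=
    { carrier := {g | g ∈ N ∧ u⁻¹ * (g * u * g⁻¹) ∈ Y}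
      one_mem' := ⟨one_mem N, by simp⟩
      mul_mem' := fun {a b} ha hb => ⟨mul_mem ha.1 hb.1, by
        rw [show u⁻¹ * (a * b * u * (a * b)⁻¹) = u⁻¹ * (a * u * a⁻¹) * (a * (u⁻¹ * (b * u * b⁻¹)) * a⁻¹) by group]
        exact mul_mem ha.2 (hNY a ha.1 _ hb.2)⟩
      inv_mem' := fun {a} ha => ⟨inv_mem ha.1, by
        rw [show u⁻¹ * (a⁻¹ * u * a⁻¹⁻¹) = a⁻¹ * (u⁻¹ * (a * u * a⁻¹))⁻¹ * a⁻¹⁻¹ by group]
        exact hNY _ (inv_mem ha.1) _ (inv_mem ha.2)⟩ }
  have hN0N : N0 ≤ N := fun g hg => hg.1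
  have hSN : S ≤ N0 := fun s hs =>
    ⟨⟨hSM hs, Subgroup.le_normalizer hs⟩, by
      have := hcomm u⁻¹ (inv_mem huS) s hs
      rwa [inv_inv, show u⁻¹ * s * u * s⁻¹ = u⁻¹ * (s * u * s⁻¹) by group] at this⟩
  by_cases hmove : N ≤ N0
  · exfalso
    refine false_of_half h2 hM hu2 hS2 hSM (fun R hRM hR2 hSR => ?_) hM0S hM0card hnoconj
    by_contra hgt
    have hlt : S.subgroupOf R < ⊤ := lt_top_iff_ne_top.2 fun e => hgt fun g hg => by
      have : (⟨g, hg⟩ : R) ∈ S.subgroupOf R := e ▸ mem_top _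
      exact this
    haveI : Group.IsNilpotent R := hR2.isNilpotent
    have hnc := Group.normalizerCondition_of_isNilpotent _ hlt
    set R' := (Subgroup.normalizer ((S.subgroupOf R : Subgroup R) : Set R)).map R.subtype with hR'
    have hSR' : S ≤ R' := fun y hy => ⟨⟨y, hSR hy⟩, Subgroup.le_normalizer hy, rfl⟩
    have hR'N : R' ≤ N := by
      rintro _ ⟨s, hs, rfl⟩
      refine ⟨hRM s.2, Subgroup.mem_normalizer_fintype fun y hy => ?_⟩
      exact (Subgroup.mem_normalizer_iff.1 hs ⟨y, hSR hy⟩).1 hy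
    have hR'x : R' ≤ xNorm M X E := fun g hg => by
      obtain ⟨hgN, hgu⟩ := hmove (hR'N hg)
      have hsub : ∀ x ∈ X, g * x * g⁻¹ ∈ X := fun x hx => by
        rcases hXsplit x hx with h1 | h1
        · exact hYX (hNY g hgN x h1)
        · have h3 := mul_mem (mul_mem h.u_X (hYX hgu)) (hYX (hNY g hgN _ h1))
          rwa [mul_inv_cancel_left, show g * u * g⁻¹ * (g * (u * x) * g⁻¹) = g * (u * u * x) * g⁻¹ by group, hu2,
            one_mul] at h3
      exact h.mem_xNorm (mem_inf.1 hgN).1 fun y =>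
        (Subgroup.mem_normalizer_iff.1 (Subgroup.mem_normalizer_fintype hsub) y).symm
    have heq : S = R' := eq_of_le_of_card_ge hSR' (hS ▸ hH R' hR'x (hR2.to_le (map_subtype_le _)))
    exact hnc.not_ge fun s hs => show (s : G) ∈ S from heq.ge ⟨s, hs, rfl⟩
  -- the orbit has `q` cosets
  obtain ⟨g0, hg0, hg0'⟩ := SetLike.not_le_iff_exists.1 hmove
  set a := g0 * u * g0⁻¹ with ha
  have haP : Pc a := hPN hg0 hPu
  have haX : a ∉ X := fun haX => by
    rcases hXsplit a haX with h1 | h1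
    · exact hPY haP h1
    · exact hg0' ⟨hg0, by rwa [hui]⟩
  set Y' := Y.subgroupOf S with hY'
  haveI : Y'.Normal := ⟨fun y hy s => mem_subgroupOf.2 (hYn s s.2 y (mem_subgroupOf.1 hy))⟩
  have hmk : ∀ {s t : S}, (s : S ⧸ Y') = t ↔ (s : G)⁻¹ * t ∈ Y := fun {s t} => by
    rw [QuotientGroup.eq, mem_subgroupOf]; rfl
  let Pb : S ⧸ Y' → Prop := fun c => Pc (c.out : S)
  have hPb : ∀ s : S, Pb s ↔ Pc (s : G) := fun s => by
    have e : ((s : S ⧸ Y').out : S ⧸ Y') = (s : S ⧸ Y') := QuotientGroup.out_eq' _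
    exact ⟨fun h1 => hPcongr h1 (hmk.1 e), fun h1 => hPcongr h1 (hmk.1 e.symm)⟩
  have hor : ∀ s ∈ S, Pc s ∨ Pc (s * u) := fun s hs => by
    by_cases hsX : s ∈ X
    · rcases hXsplit s hsX with h1 | h1
      · exact Or.inr (hPcongr hPu (by
          rw [show u⁻¹ * (s * u) = u⁻¹ * s * u⁻¹⁻¹ by group]
          exact hYn _ (inv_mem huS) _ h1))
      · exact Or.inl (hPcongr hPu (by rwa [hui]))
    · obtain ⟨g, hg, -, h1 | h1⟩ := hall haP haX s hs hsX
      · refine Or.inl (hPcongr (hPN hg haP) ?_)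
        have := inv_mem h1
        rwa [mul_inv_rev, inv_inv] at this
      · refine Or.inr (hPcongr (hPN hg haP) ?_)
        have := inv_mem h1
        rwa [mul_inv_rev, inv_inv] at this
  let ub : S ⧸ Y' := (⟨u, huS⟩ : S)
  have hflip : ∀ c, Pb (c * ub) ↔ ¬ Pb c := fun c => by
    induction c using QuotientGroup.induction_on with | H s => ?_
    rw [show (s : S ⧸ Y') * ub = ((s * ⟨u, huS⟩ : S) : S ⧸ Y') from rfl, hPb, hPb]
    exact ⟨fun h1 h2 => hxor0 h2 h1, fun h1 => (hor s s.2).resolve_left h1⟩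
  have hub : ub * ub = 1 := by
    show ((⟨u, huS⟩ * ⟨u, huS⟩ : S) : S ⧸ Y') = 1
    rw [show (⟨u, huS⟩ * ⟨u, huS⟩ : S) = 1 from Subtype.ext hu2]
    rfl
  have hPcard : Nat.card {c // Pb c} = q := by
    have h2' : Nat.card (S ⧸ Y') = 2 * q := by
      have e := Y'.card_mul_index
      rw [Nat.card_congr (subgroupOfEquivOfLe hYS').toEquiv, hYcard, hS] at e
      rw [← index_eq_card]
      exact Nat.eq_of_mul_eq_mul_left hq4 (e.trans (by ring))
    have h3 : Nat.card {c // ¬ Pb c} = Nat.card {c // Pb c} := Nat.card_congr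
      { toFun := fun c => ⟨c.1 * ub, (hflip c.1).2 c.2⟩
        invFun := fun c => ⟨c.1 * ub, fun h1 => (hflip c.1).1 h1 c.2⟩
        left_inv := fun c => Subtype.ext (by show c.1 * ub * ub = c.1; rw [mul_assoc, hub, mul_one])
        right_inv := fun c => Subtype.ext (by show c.1 * ub * ub = c.1; rw [mul_assoc, hub, mul_one]) }
    rw [← Nat.card_congr (Equiv.sumCompl Pb), Nat.card_sum, h3] at h2'
    omega
  have hgu : ∀ g ∈ N, g * u * g⁻¹ ∈ S := fun g hg => (hNS g hg u).1 huS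
  let f : N → {c // Pb c} := fun g =>
    ⟨((⟨_, hgu g g.2⟩ : S) : S ⧸ Y'), (hPb _).2 (hPN g.2 hPu)⟩
  have hf : ∀ g k : N, f g = f k ↔ (g : G)⁻¹ * k ∈ N0 := fun g k => by
    rw [Subtype.ext_iff, hmk]
    show ((g : G) * u * (g : G)⁻¹)⁻¹ * ((k : G) * u * (k : G)⁻¹) ∈ Y ↔ _
    constructor
    · intro h1
      refine ⟨mul_mem (inv_mem g.2) k.2, ?_⟩
      have h3 := hNY _ (inv_mem g.2) _ h1
      rwa [show (g : G)⁻¹ * (((g : G) * u * (g : G)⁻¹)⁻¹ * ((k : G) * u * (k : G)⁻¹)) * (g : G)⁻¹⁻¹ =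
        u⁻¹ * ((g : G)⁻¹ * k * u * ((g : G)⁻¹ * k)⁻¹) by group] at h3
    · intro h1
      have h3 := hNY _ g.2 _ h1.2
      rwa [show (g : G) * (u⁻¹ * ((g : G)⁻¹ * k * u * ((g : G)⁻¹ * k)⁻¹)) * (g : G)⁻¹ =
        ((g : G) * u * (g : G)⁻¹)⁻¹ * ((k : G) * u * (k : G)⁻¹) by group] at h3
  have hidx : (N0.subgroupOf N).index = q := by
    rw [index_eq_card, ← hPcard]
    refine Nat.card_congr (Equiv.ofBijective (fun c => f c.out) ⟨fun c c' hcc => ?_, ?_⟩)
    · rw [← QuotientGroup.out_eq' c, ← QuotientGroup.out_eq' c', QuotientGroup.eq, mem_subgroupOf]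
      exact (hf _ _).1 hcc
    · rintro ⟨c, hc⟩
      induction c using QuotientGroup.induction_on with | H b => ?_
      have hbP : Pc (b : G) := (hPb b).1 hc
      obtain ⟨k, hk⟩ : ∃ k : N, ((k : G) * u * (k : G)⁻¹)⁻¹ * b ∈ Y := by
        by_cases hbX : (b : G) ∈ X
        · rcases hXsplit _ hbX with h1 | h1
          · exact absurd h1 (hPY hbP)
          · exact ⟨1, by simpa [hui] using h1⟩
        · obtain ⟨g, hg, -, h1 | h1⟩ := hall haP haX b b.2 hbX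
          · refine ⟨⟨g * g0, mul_mem hg hg0⟩, ?_⟩
            have h3 := inv_mem h1
            rw [mul_inv_rev, inv_inv] at h3
            show (g * g0 * u * (g * g0)⁻¹)⁻¹ * (b : G) ∈ Y
            rwa [show g * g0 * u * (g * g0)⁻¹ = g * a * g⁻¹ by rw [ha]; group]
          · refine absurd (hPcongr (hPN hg haP) ?_) (hxor0 hbP)
            have h3 := inv_mem h1
            rwa [mul_inv_rev, inv_inv] at h3
      refine ⟨(k : N ⧸ N0.subgroupOf N), ?_⟩
      have h1 : f (k : N ⧸ N0.subgroupOf N).out = f k := by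
        rw [hf]
        exact mem_subgroupOf.1 (QuotientGroup.eq.1 (QuotientGroup.out_eq' (k : N ⧸ N0.subgroupOf N)))
      exact h1.trans (Subtype.ext (hmk.2 hk))
  have hdvd : Nat.card S * q ∣ Nat.card N := by
    rw [← (N0.subgroupOf N).card_mul_index, hidx, Nat.card_congr (subgroupOfEquivOfLe hN0N).toEquiv]
    exact Nat.mul_dvd_mul_right (card_dvd_of_le hSN) _
  obtain ⟨i, hi⟩ := IsPGroup.iff_card.1 hS2
  obtain ⟨j, hj⟩ := IsPGroup.iff_card.1 (h.X_two.to_le h.E_le_X)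
  rw [hE] at hj
  rw [hi, hj, ← pow_add] at hdvd
  obtain ⟨R, hR⟩ := Sylow.exists_subgroup_card_pow_prime 2 hdvd
  refine ⟨R.map N.subtype, (map_subtype_le _).trans inf_le_left, (IsPGroup.of_card hR).map _, ?_⟩
  rw [card_map_of_injective N.subtype_injective, hR, pow_add, ← hi, ← hj, hS]
  exact le_of_eq (by ring)

end XCfg

end Cfsg.Agent.GoodInvol
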