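import Cfsg.Agent.Lib.GoodInvol.U3Lambda
import Cfsg.Agent.Lib.GoodInvol.U3Growth

/-!
# Translations on the fixed cosets, unitary type

The orbit is `u L`: one coset of each pair outside `E` is in it and all are of one type, so `u` inverts `L`. The
coset translations, on the cosets of `E` in the normaliser, give elements fixing the cosets in `L`; for eight
elements an element moving `E` is excluded by the action on `Q`.
-/

set_option autoImplicit false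
set_option linter.style.haveILetI false
set_option linter.unusedSectionVars false

namespace Cfsg.Agent.GoodInvol

open Subgroup MulAction

universe u

variable {G : Type u} [Group G] [Finite G] {M X T E : Subgroup G} {u : G}

namespace LambdaCfg

variable {Q C0 K : Subgroup G} {r : ℕ} (P : LambdaCfg M X T E u Q C0 K r)
include P

/-- The fixed cosets centralising `u`. -/
theorem comm_u {c : G} (hc : c ∈ C0) (hcu : Commute c u) : c ∈ E ∨ u⁻¹ * c ∈ E := by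
  classical
  have hval : ∀ c : C0, u⁻¹ * ((c : G) * u * (c : G)⁻¹) ∈ E := fun c => by
    have := P.cfg.comm_mem (inv_mem P.cfg.u_X) (P.C0_le c.2)
    rwa [inv_inv, show u⁻¹ * (c : G) * u * (c : G)⁻¹ = u⁻¹ * ((c : G) * u * (c : G)⁻¹) by group] at this
  let ε : C0 →* E := MonoidHom.mk' (fun c => ⟨_, hval c⟩) fun a b => Subtype.ext (by
    show u⁻¹ * ((a : G) * b * u * ((a : G) * b)⁻¹) = (u⁻¹ * (a * u * (a : G)⁻¹)) * (u⁻¹ * (b * u * (b : G)⁻¹))
    rw [show (a : G) * b * u * ((a : G) * b)⁻¹ =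
      (a : G) * u * ((u⁻¹ * (b * u * (b : G)⁻¹)) * (a : G)⁻¹) by group,
      (P.cfg.E_cen _ (hval b) _ (inv_mem (P.C0_le a.2))).eq]
    group)
  have hsur : Function.Surjective ε := fun e => by
    obtain ⟨c, hc', he⟩ := P.exists_comm e.2
    exact ⟨⟨c, hc'⟩, Subtype.ext (by show u⁻¹ * (c * u * c⁻¹) = e; rw [he, inv_mul_cancel_left])⟩
  have hk : Nat.card ε.ker = 2 * 2 ^ r := by
    have h1 := ε.ker.card_mul_index
    rw [Subgroup.index_ker, MonoidHom.range_eq_top.2 hsur, Subgroup.card_top, P.card_E, P.card_C0] at h1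
    exact Nat.eq_of_mul_eq_mul_right (Nat.two_pow_pos r) h1
  have hsub : (E : Set G) ∪ (fun f => u * f) '' (E : Set G) ⊆ (fun c : C0 => (c : G)) '' (ε.ker : Set C0) := by
    intro c hc'
    have hcC : c ∈ C0 := by
      rcases hc' with h1 | ⟨f, hf, rfl⟩
      · exact P.E_le_C0 h1
      · exact mul_mem P.u_C0 (P.E_le_C0 hf)
    have hcomm : Commute c u := by
      rcases hc' with h1 | ⟨f, hf, rfl⟩
      · exact P.cfg.E_cen c h1 u P.cfg.u_X
      · exact (Commute.refl u).mul_left (P.cfg.E_cen f hf u P.cfg.u_X)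
    refine ⟨⟨c, hcC⟩, Subtype.ext ?_, rfl⟩
    show u⁻¹ * (c * u * c⁻¹) = 1
    rw [hcomm.eq, mul_inv_cancel_right, inv_mul_cancel]
  have heq : (E : Set G) ∪ (fun f => u * f) '' (E : Set G) = (fun c : C0 => (c : G)) '' (ε.ker : Set C0) := by
    refine Set.eq_of_subset_of_ncard_le hsub ?_ (Set.toFinite _)
    rw [Set.ncard_image_of_injective _ Subtype.coe_injective, ← Nat.card_coe_set_eq,
      show Nat.card (ε.ker : Set C0) = 2 * 2 ^ r from hk,
      Set.ncard_union_eq (Set.disjoint_left.2 ?_) (Set.toFinite _) (Set.toFinite _),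
      Set.ncard_image_of_injective _ (mul_right_injective u), ← Nat.card_coe_set_eq,
      show Nat.card (E : Set G) = 2 ^ r from P.card_E, two_mul]
    rintro _ hw ⟨f, hf, rfl⟩
    exact P.cfg.u_notin ((E.mul_mem_cancel_right hf).1 hw)
  have hmem : c ∈ (E : Set G) ∪ (fun f => u * f) '' (E : Set G) := by
    rw [heq]
    refine ⟨⟨c, hc⟩, Subtype.ext ?_, rfl⟩
    show u⁻¹ * (c * u * c⁻¹) = 1
    rw [hcu.eq, mul_inv_cancel_right, inv_mul_cancel]
  rcases hmem with h1 | ⟨f, hf, rfl⟩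
  · exact Or.inl h1
  · exact Or.inr (by rw [inv_mul_cancel_left]; exact hf)

/-- The elements in the orbit are `u L`. -/
theorem exists_lambda_gamma : ∃ L : Subgroup G, E ≤ L ∧ L ≤ C0 ∧ Nat.card L = 2 ^ r * 2 ^ r ∧ u ∉ L ∧
    (∀ k ∈ K, ∀ l ∈ L, k * l * k⁻¹ ∈ L) ∧ (∀ c ∈ C0, c ∈ L ∨ u * c ∈ L) ∧
    ∀ c : X, (QuotientGroup.mk c : XVec X E) ∈ P.cfg.gammaSet ↔ u * (c : G) ∈ L := by
  classical
  obtain ⟨L, hEL, hLC, hLc, huL, hKL, hsplit⟩ := P.exists_lambda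
  refine ⟨L, hEL, hLC, hLc, huL, hKL, hsplit, ?_⟩
  haveI := P.cfg.normal_sub
  set Γ := P.cfg.gammaSet with hΓ
  set Γe : Set X := QuotientGroup.mk ⁻¹' Γ with hΓe
  have hΓc : Γe.ncard = 2 ^ r * 2 ^ r := by
    rw [← Nat.card_coe_set_eq, Nat.card_congr (QuotientGroup.preimageMkEquivSubgroupProdSet _ _), Nat.card_prod,
      Nat.card_congr (Subgroup.subgroupOfEquivOfLe P.cfg.E_le_X).toEquiv, P.card_E, Nat.card_coe_set_eq, hΓ, P.gamma]
  have hC : ∀ c : X, c ∈ Γe → (c : G) ∈ C0 := fun c hc => by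
    obtain ⟨g, hg, he⟩ := P.cfg.mem_gammaSet hc
    have := mul_mem (P.sub g hg) (P.E_le_C0 he)
    rwa [mul_inv_cancel_left] at this
  have hnE : ∀ c : X, c ∈ Γe → (c : G) ∉ E := fun c hc hcE => by
    obtain ⟨g, hg, he⟩ := P.cfg.mem_gammaSet hc
    have := mul_mem hcE (inv_mem he)
    rw [mul_inv_rev, inv_inv, mul_inv_cancel_left] at this
    exact P.cfg.u_notin ((Subgroup.mem_normalizer_iff.1 (mem_inf.1 hg).2 u).2 this)
  -- one of each pair
  let φ : Γe → L := fun c => if hc : ((c : X) : G) ∈ L then ⟨_, hc⟩ else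
    ⟨u * ((c : X) : G), (hsplit _ (hC c c.2)).resolve_left hc⟩
  have hone : ∀ c c' : X, c ∈ Γe → c' ∈ Γe → (c' : G) = u * c → (c' : G) ∈ L → False := by
    intro c c' hc hc' e hL'
    have h1 := P.cfg.sq_of_gammaSet hc
    have h2 := P.cfg.sq_of_gammaSet hc'
    rw [e] at h2
    have hcu : Commute (c : G) u := by
      show (c : G) * u = u * c
      calc (c : G) * u = u * u * ((c : G) * u) * (c * c) := by rw [P.u_sq, h1, one_mul, mul_one]
        _ = u * (u * c * (u * c)) * c := by group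
        _ = u * c := by rw [h2, mul_one]
    rcases P.comm_u (hC c hc) hcu with h3 | h3
    · exact hnE c hc h3
    · refine hnE c' hc' ?_
      rwa [e, ← P.u_inv]
  have hφ : Function.Injective φ := by
    rintro ⟨c, hc⟩ ⟨c', hc'⟩ e
    have e' := congrArg Subtype.val e
    simp only [φ] at e'
    refine Subtype.ext (Subtype.ext ?_)
    split_ifs at e' with h1 h2 h2
    · exact e'
    · exact (hone c' c hc' hc e' h1).elim
    · exact (hone c c' hc hc' e'.symm h2).elim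
    · exact mul_left_cancel e'
  have hbij : Function.Bijective φ := by
    rw [Nat.bijective_iff_injective_and_card]
    exact ⟨hφ, by rw [Nat.card_coe_set_eq, hΓc, hLc]⟩
  have hXl : ∀ l ∈ L, l ∈ X := fun l hl => P.C0_le (hLC hl)
  have hpair : ∀ l (hl : l ∈ L), (⟨l, hXl l hl⟩ : X) ∈ Γe ∨
      (⟨u * l, mul_mem P.cfg.u_X (hXl l hl)⟩ : X) ∈ Γe := by
    intro l hl
    obtain ⟨⟨c, hc⟩, e⟩ := hbij.2 ⟨l, hl⟩
    have e' := congrArg Subtype.val e
    simp only [φ] at e'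
    split_ifs at e' with h1
    · left
      convert hc
      exact e'.symm
    · right
      convert hc
      rw [← e', ← mul_assoc, P.u_sq, one_mul]
  have hclass : ∀ c c' : X, c ∈ Γe → (c : G)⁻¹ * c' ∈ E → c' ∈ Γe := fun c c' hc e => by
    show (QuotientGroup.mk c' : XVec X E) ∈ Γ
    rw [← xVec_eq_iff.2 e]
    exact hc
  have hΓinv : ∀ g ∈ xNorm M X E, ∀ c c' : X, c ∈ Γe → (c' : G) = g * c * g⁻¹ → c' ∈ Γe := by
    intro g hg c c' hc e
    obtain ⟨g', hg'⟩ := hc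
    refine ⟨⟨g, hg⟩ * g', ?_⟩
    show xPerm M X E (⟨g, hg⟩ * g') _ = _
    rw [map_mul, Equiv.Perm.mul_apply, show xPerm M X E g' P.cfg.uVec = QuotientGroup.mk c from hg']
    exact xPerm_mk _ e.symm
  -- no coset of `L`
  have hnone : ∀ l (hl : l ∈ L), (⟨l, hXl l hl⟩ : X) ∉ Γe := by
    intro l₀ hl₀ hl₀Γ
    have hall : ∀ l (hl : l ∈ L), l ∉ E → (⟨l, hXl l hl⟩ : X) ∈ Γe := by
      intro l hl hlE
      set f0 := u⁻¹ * (l₀ * u * l₀⁻¹) with hf0
      set f := u⁻¹ * (l * u * l⁻¹) with hf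
      have hval : ∀ x ∈ L, u⁻¹ * (x * u * x⁻¹) ∈ E := fun x hx => by
        have := P.cfg.comm_mem (inv_mem P.cfg.u_X) (hXl x hx)
        rwa [inv_inv, show u⁻¹ * x * u * x⁻¹ = u⁻¹ * (x * u * x⁻¹) by group] at this
      have hne : ∀ x ∈ L, x ∉ E → u⁻¹ * (x * u * x⁻¹) ≠ 1 := fun x hx hxE e => by
        rcases P.comm_u (hLC hx) (mul_inv_eq_iff_eq_mul.1 (inv_mul_eq_one.1 e).symm) with h1 | h1
        · exact hxE h1
        · refine huL ?_
          have := L.mul_mem hx (L.inv_mem (hEL h1))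
          rwa [mul_inv_rev, inv_inv, mul_inv_cancel_left] at this
      obtain ⟨k, hk, hkf⟩ := P.K_trans f0 (hval _ hl₀) f (hval _ hl) (hne _ hl₀ (hnE _ hl₀Γ)) (hne _ hl hlE)
      set l' := k * l₀ * k⁻¹ with hl'
      have hl'L : l' ∈ L := hKL k hk _ hl₀
      have hl'Γ : (⟨l', hXl _ hl'L⟩ : X) ∈ Γe := hΓinv k (P.K_le hk) _ _ hl₀Γ rfl
      have hl'f : l' * u * l'⁻¹ = l * u * l⁻¹ := by
        rw [hl', show k * l₀ * k⁻¹ * u * (k * l₀ * k⁻¹)⁻¹ = k * (l₀ * (k⁻¹ * u * k) * l₀⁻¹) * k⁻¹ by group,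
          mul_assoc k⁻¹ u k, ← (P.K_comm k hk).eq, inv_mul_cancel_left,
          show l₀ * u * l₀⁻¹ = u * f0 by rw [hf0, mul_inv_cancel_left],
          show k * (u * f0) * k⁻¹ = (k * u * k⁻¹) * (k * f0 * k⁻¹) by group, (P.K_comm k hk).eq,
          mul_inv_cancel_right, hkf, hf, mul_inv_cancel_left]
      refine hclass _ _ hl'Γ ?_
      show l'⁻¹ * l ∈ E
      have hc : Commute (l'⁻¹ * l) u := by
        show l'⁻¹ * l * u = u * (l'⁻¹ * l)
        calc l'⁻¹ * l * u = l'⁻¹ * (l * u * l⁻¹) * l := by group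
          _ = l'⁻¹ * (l' * u * l'⁻¹) * l := by rw [hl'f]
          _ = u * (l'⁻¹ * l) := by group
      rcases P.comm_u (C0.mul_mem (C0.inv_mem (hLC hl'L)) (hLC hl)) hc with h1 | h1
      · exact h1
      · refine absurd ?_ huL
        have := L.mul_mem (L.mul_mem (L.inv_mem hl'L) hl) (L.inv_mem (hEL h1))
        rwa [show l'⁻¹ * l * (u⁻¹ * (l'⁻¹ * l))⁻¹ = u by group] at this
    -- moving `l₀` to `u`
    obtain ⟨g, hg, hge⟩ := P.cfg.mem_gammaSet hl₀Γ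
    change (g * u * g⁻¹)⁻¹ * l₀ ∈ E at hge
    obtain ⟨l, hl, hlE, hll⟩ : ∃ l ∈ L, l ∉ E ∧ l₀⁻¹ * l ∉ E := by
      by_contra! hcon
      have hsub : (L : Set G) ⊆ (E : Set G) ∪ (fun f => l₀ * f) '' (E : Set G) := fun l hl => by
        by_cases hlE : l ∈ E
        · exact Or.inl hlE
        · exact Or.inr ⟨_, hcon l hl hlE, mul_inv_cancel_left _ _⟩
      have h1 := (Set.ncard_le_ncard hsub (Set.toFinite _)).trans (Set.ncard_union_le _ _)
      rw [Set.ncard_image_of_injective _ (mul_right_injective l₀), ← Nat.card_coe_set_eq, ← Nat.card_coe_set_eq,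
        show Nat.card (L : Set G) = 2 ^ r * 2 ^ r from hLc, show Nat.card (E : Set G) = 2 ^ r from P.card_E] at h1
      have h3 : 2 ^ 2 ≤ 2 ^ r := Nat.pow_le_pow_right two_pos P.two_le
      nlinarith
    have hback : ∀ y (hy : y ∈ C0), (⟨y, P.C0_le hy⟩ : X) ∈ Γe → (g * u * g⁻¹)⁻¹ * y ∉ E → y ∉ E →
        g⁻¹ * y * g ∈ L ∧ g⁻¹ * y * g ∉ E := by
      intro y hy hyΓ hyne hyE
      have hyX : g⁻¹ * y * g ∈ X := by simpa using P.conjX (inv_mem hg) (P.C0_le hy)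
      have hmemΓ : (⟨_, hyX⟩ : X) ∈ Γe := hΓinv g⁻¹ (inv_mem hg) _ _ hyΓ (by rw [inv_inv])
      have hnE' : g⁻¹ * y * g ∉ E := fun e => hyE (by
        have := P.conjE hg e
        rwa [show g * (g⁻¹ * y * g) * g⁻¹ = y by group] at this)
      refine ⟨?_, hnE'⟩
      by_contra hnL
      have hw := (hsplit _ (hC _ hmemΓ)).resolve_left hnL
      by_cases hwE : u * (g⁻¹ * y * g) ∈ E
      · refine hyne ?_
        have := P.conjE hg hwE
        rw [show g * (u * (g⁻¹ * y * g)) * g⁻¹ = (g * u * g⁻¹) * y by group] at this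
        rwa [show (g * u * g⁻¹)⁻¹ = g * u⁻¹ * g⁻¹ by group, P.u_inv]
      · exact hone ⟨_, hyX⟩ ⟨_, hXl _ hw⟩ hmemΓ (hall _ hw hwE) rfl hw
    have hlne : (g * u * g⁻¹)⁻¹ * l ∉ E := fun e => hll (by
      have := mul_mem (inv_mem hge) e
      rwa [show ((g * u * g⁻¹)⁻¹ * l₀)⁻¹ * ((g * u * g⁻¹)⁻¹ * l) = l₀⁻¹ * l by group] at this)
    have hune : (g * u * g⁻¹)⁻¹ * u ∉ E := fun e => huL (by
      have := mul_mem (inv_mem hge) e
      rw [show ((g * u * g⁻¹)⁻¹ * l₀)⁻¹ * ((g * u * g⁻¹)⁻¹ * u) = l₀⁻¹ * u by group] at this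
      have h2 := L.mul_mem hl₀ (hEL this)
      rwa [mul_inv_cancel_left] at h2)
    have huΓ : (⟨u, P.C0_le P.u_C0⟩ : X) ∈ Γe := ⟨1, by show xPerm M X E 1 P.cfg.uVec = _; rw [map_one]; rfl⟩
    obtain ⟨hxL, hxE⟩ := hback u P.u_C0 huΓ hune P.cfg.u_notin
    obtain ⟨hyL, hyE⟩ := hback l (hLC hl) (hall l hl hlE) hlne hlE
    have hxyE : g⁻¹ * u * g * (g⁻¹ * l * g) ∉ E := fun e => by
      have := P.conjE hg e
      rw [show g * (g⁻¹ * u * g * (g⁻¹ * l * g)) * g⁻¹ = u * l by group] at this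
      refine huL ?_
      have := L.mul_mem (hEL this) (L.inv_mem hl)
      rwa [mul_inv_cancel_right] at this
    have hz : (⟨g⁻¹ * u * g * (g⁻¹ * l * g), hXl _ (L.mul_mem hxL hyL)⟩ : X) ∈ Γe := hall _ (L.mul_mem hxL hyL) hxyE
    have hz' : (⟨u * l, mul_mem P.cfg.u_X (hXl l hl)⟩ : X) ∈ Γe :=
      hΓinv g hg _ _ hz (by show u * l = g * (g⁻¹ * u * g * (g⁻¹ * l * g)) * g⁻¹; group)
    refine hone ⟨u * l, _⟩ ⟨l, hXl l hl⟩ hz' (hall l hl hlE) ?_ hl
    show l = u * (u * l)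
    rw [← mul_assoc, P.u_sq, one_mul]
  intro c
  constructor
  · intro hc
    exact (hsplit _ (hC c hc)).resolve_left fun hcL => hnone _ hcL hc
  · intro hc
    have h1 := (hpair _ hc).resolve_left (hnone _ hc)
    exact hclass ⟨u * (u * c), mul_mem P.cfg.u_X (mul_mem P.cfg.u_X c.2)⟩ c h1 (by
      show (u * (u * (c : G)))⁻¹ * c ∈ E
      rw [← mul_assoc u u, P.u_sq, one_mul, inv_mul_cancel]
      exact one_mem E)

/-- Largest two-subgroups of the normaliser fix the cosets in `L` and `Q`, and the count of translations. -/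
theorem exists_two_group_six (h2 : ∀ H : Subgroup G, H.index ≠ 2) (hM : ¬ 2 ∣ M.index)
    (hconj : ∀ v ∈ M, IsConj u v → ∃ g ∈ M, g * u * g⁻¹ = v) (hTc : Nat.card T = 2 * (2 ^ r) ^ 3)
    (hXc : Nat.card X = 2 * (2 ^ r) ^ 4) (hQc : Nat.card Q = (2 ^ r) ^ 3)
    (hflat : ∀ S N : Subgroup G, IsPGroup 2 S → N ≤ S → (∀ s ∈ S, ∀ y ∈ Q, s * y * s⁻¹ ∈ Q) →
      (∀ s ∈ S, ∀ z ∈ E, Commute s z) → 2 ^ r ≤ N.relIndex S →
      ∃ s ∈ S, s ∉ N ∧ ∀ y ∈ Q, y⁻¹ * (s * y * s⁻¹) ∈ E)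
    (htwist : r = 3 → ∀ g : G, (∀ y ∈ Q, g * y * g⁻¹ ∈ Q) → (∀ z ∈ E, g * z * g⁻¹ ∈ E) →
      (∀ z ∈ E, Commute (g * g) z) → (∀ y ∈ Q, y⁻¹ * (g * g * y * (g * g)⁻¹) ∈ E) → ∀ z ∈ E, g * z * g⁻¹ = z) :
    ∃ R : Subgroup G, R ≤ M ∧ IsPGroup 2 R ∧ 2 * (2 ^ r) ^ 6 ≤ Nat.card R := by
  classical
  haveI : Fact (Nat.Prime 2) := ⟨Nat.prime_two⟩
  have h := P.cfg
  obtain ⟨L, hEL, hLC, hLc, huL, hKL, hsplit, hΓ⟩ := P.exists_lambda_gamma
  set N := xNorm M X E with hN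
  set q := 2 ^ r with hq
  have hXl : L ≤ X := hLC.trans P.C0_le
  have hq4 : 4 ≤ q := (Nat.pow_le_pow_right two_pos P.two_le : 2 ^ 2 ≤ 2 ^ r)
  -- `u` inverts `L`
  have hul : ∀ l ∈ L, (u * l) * (u * l) = 1 := fun l hl =>
    h.sq_of_gammaSet ((hΓ ⟨u * l, mul_mem h.u_X (hXl hl)⟩).2 (by rw [← mul_assoc, P.u_sq, one_mul]; exact hl))
  have hinv : ∀ l ∈ L, u * l * u = l⁻¹ := fun l hl => eq_inv_of_mul_eq_one_left (by
    rw [mul_assoc]; exact hul l hl)
  have hLcomm : ∀ a ∈ L, ∀ b ∈ L, Commute a b := fun a ha b hb => by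
    show a * b = b * a
    calc a * b = ((a * b)⁻¹)⁻¹ := (inv_inv _).symm
      _ = (u * (a * b) * u)⁻¹ := by rw [hinv _ (L.mul_mem ha hb)]
      _ = ((u * a * u) * (u * b * u))⁻¹ := by
        rw [show (u * a * u) * (u * b * u) = u * a * (u * u) * b * u by group, P.u_sq, mul_one]; group
      _ = b * a := by rw [hinv a ha, hinv b hb, mul_inv_rev, inv_inv, inv_inv]
  have hLsq : ∀ l ∈ L, l * l ∈ E := fun l hl => h.X_sq l (hXl hl)
  have hLu : ∀ l ∈ L, Commute l u → l ∈ E := fun l hl hlu => (P.comm_u (hLC hl) hlu).resolve_right fun e =>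
    huL (by
      have := L.mul_mem hl (L.inv_mem (hEL e))
      rwa [mul_inv_rev, inv_inv, mul_inv_cancel_left] at this)
  have hL1 : ∀ l ∈ L, l * l = 1 → l ∈ E := fun l hl e => hLu l hl (by
    have h1 := hinv l hl
    rw [inv_eq_of_mul_eq_one_left e] at h1
    show l * u = u * l
    calc l * u = u * u * (l * u) := by rw [P.u_sq, one_mul]
      _ = u * (u * l * u) := by group
      _ = u * l := by rw [h1])
  have hsqinj : ∀ a ∈ L, ∀ b ∈ L, a * a = b * b → a⁻¹ * b ∈ E := fun a ha b hb e =>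
    hL1 _ (L.mul_mem (L.inv_mem ha) hb) (by
      rw [((hLcomm a ha b hb).inv_left).symm.mul_mul_mul_comm, ← mul_inv_rev, e, inv_mul_cancel])
  have hsqonto : ∀ e ∈ E, ∃ l ∈ L, l * l = e := by
    intro e he
    obtain ⟨c, hc, hce⟩ := P.exists_comm he
    obtain ⟨l, hl, hle⟩ : ∃ l ∈ L, l * u * l⁻¹ = u * e := by
      rcases hsplit c hc with h1 | h1
      · exact ⟨c, h1, hce⟩
      · refine ⟨u * c, h1, ?_⟩
        rw [show u * c * u * (u * c)⁻¹ = u * (c * u * c⁻¹) * u⁻¹ by group, hce, P.u_inv, ← mul_assoc u u e, P.u_sq,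
          one_mul, (h.E_cen e he u h.u_X).eq]
    refine ⟨l⁻¹, L.inv_mem hl, ?_⟩
    have h1 : l * u = u * l⁻¹ := by
      calc l * u = u * u * (l * u) := by rw [P.u_sq, one_mul]
        _ = u * (u * l * u) := by group
        _ = u * l⁻¹ := by rw [hinv l hl]
    exact mul_left_cancel (a := u) (by rw [← hle, h1, mul_assoc])
  -- invariance
  have hLinv : ∀ g ∈ N, ∀ l ∈ L, g * l * g⁻¹ ∈ L := by
    intro g hg l hl
    have hm : ∀ x ∈ L, u * (g * (u * x) * g⁻¹) ∈ L := fun x hx => by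
      have h1 : (⟨g * (u * x) * g⁻¹, P.conjX hg (mul_mem h.u_X (hXl hx))⟩ : X) ∈
          (QuotientGroup.mk ⁻¹' P.cfg.gammaSet : Set X) := by
        obtain ⟨g', hg'⟩ := (hΓ ⟨u * x, mul_mem h.u_X (hXl hx)⟩).2 (by rw [← mul_assoc, P.u_sq, one_mul]; exact hx)
        refine ⟨⟨g, hg⟩ * g', ?_⟩
        show xPerm M X E (⟨g, hg⟩ * g') _ = _
        rw [map_mul, Equiv.Perm.mul_apply, show xPerm M X E g' P.cfg.uVec = _ from hg']
        exact xPerm_mk _ rfl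
      exact (hΓ _).1 h1
    have h1 := hm 1 (one_mem L)
    rw [mul_one] at h1
    have h2 := hm l hl
    have h3 := L.mul_mem (L.inv_mem h1) h2
    rwa [show (u * (g * u * g⁻¹))⁻¹ * (u * (g * (u * l) * g⁻¹)) = g * l * g⁻¹ by group] at h3
  have hmove : ∀ g ∈ N, ∃ l ∈ L, g * u * g⁻¹ = u * l := fun g hg => by
    refine ⟨u * (g * u * g⁻¹), (hΓ ⟨_, P.conjX hg h.u_X⟩).1 ⟨⟨g, hg⟩, xPerm_mk _ rfl⟩, ?_⟩
    rw [← mul_assoc, P.u_sq, one_mul]
  have hC0inv : ∀ g ∈ N, ∀ c ∈ C0, g * c * g⁻¹ ∈ C0 := fun g hg c hc => by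
    rcases hsplit c hc with h1 | h1
    · exact hLC (hLinv g hg c h1)
    · obtain ⟨l, hl, hge⟩ := hmove g hg
      rw [show g * c * g⁻¹ = (g * u * g⁻¹)⁻¹ * (g * (u * c) * g⁻¹) by group]
      exact mul_mem (C0.inv_mem (by rw [hge]; exact mul_mem P.u_C0 (hLC hl))) (hLC (hLinv g hg _ h1))
  obtain ⟨l₁, hl₁, hl₁E⟩ : ∃ l ∈ L, l ∉ E := by
    by_contra! hle
    have h1 := Subgroup.card_le_of_le (show L ≤ E from hle)
    rw [hLc, P.card_E] at h1
    nlinarith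
  have hQchar : ∀ y ∈ X, (∀ c ∈ C0, Commute y c) → y ∈ Q := by
    intro y hy hyc
    obtain ⟨c, hc, z, hz, rfl⟩ := P.dec y hy
    have hcc : ∀ c' ∈ C0, Commute c c' := fun c' hc' => by
      have h1 := (hyc c' hc').mul_left (P.comm c' hc' z hz).inv_right.symm
      rwa [mul_inv_cancel_right] at h1
    rcases hsplit c hc with h1 | h1
    · exact mul_mem (P.E_le_Q (hLu c h1 (hcc u P.u_C0))) hz
    · exfalso
      refine hl₁E (hLu l₁ hl₁ ?_)
      have h3 : Commute l₁ c := (hcc l₁ (hLC hl₁)).symm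
      have h4 := (hLcomm l₁ hl₁ _ h1).mul_right h3.inv_right
      rwa [mul_assoc, mul_inv_cancel, mul_one] at h4
  have hQinv : ∀ g ∈ N, ∀ y ∈ Q, g * y * g⁻¹ ∈ Q := fun g hg y hy =>
    hQchar _ (P.conjX hg (P.Q_le hy)) fun c hc => by
      have h1 := P.comm _ (hC0inv _ (inv_mem hg) c hc) y hy
      show g * y * g⁻¹ * c = c * (g * y * g⁻¹)
      calc g * y * g⁻¹ * c = g * (y * (g⁻¹ * c * g⁻¹⁻¹)) * g⁻¹ := by group
        _ = g * ((g⁻¹ * c * g⁻¹⁻¹) * y) * g⁻¹ := by rw [h1.eq]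
        _ = c * (g * y * g⁻¹) := by group
  -- a largest two-subgroup
  have hΓc : h.gammaSet.ncard = 2 ^ r := P.gamma
  have hk' : ¬ 2 ^ (r + 1) ∣ h.gammaSet.ncard := by
    rw [hΓc, Nat.pow_dvd_pow_iff_le_right (le_refl 2)]; omega
  obtain ⟨S, hSN, hS2, hXS, hSc⟩ := h.exists_two_group (k := r) (by rw [hΓc]) hk'
  have hSmax : ∀ R : Subgroup G, R ≤ N → IsPGroup 2 R → Nat.card R ≤ Nat.card S := fun R hR hR2 =>
    hSc.symm ▸ h.card_two_group_le hk' hR hR2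
  have hfix : ∀ s ∈ S, u⁻¹ * (s * u * s⁻¹) ∈ E → s ∈ X := by
    intro s hs he
    have hle := h.le_of_fix (R := S ⊓ clsStab M X E {u}) (inf_le_left.trans hSN) (hS2.to_le inf_le_left)
      (le_inf hXS fun c hc => ⟨h.X_le_xNorm hc, fun y hy => by
        rw [Set.mem_singleton_iff.1 hy]; exact (h.X_le_xKer hc).2 u h.u_X⟩)
      fun g hg => (mem_inf.1 hg).2.2 u rfl
    exact hle ⟨hs, hSN hs, fun y hy => by rw [Set.mem_singleton_iff.1 hy]; exact he⟩
  -- the translations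
  set U := clsStab M X E (L : Set G) with hU
  have hUcen : ∀ g ∈ U, ∀ e ∈ E, Commute g e := by
    intro g hg e he
    obtain ⟨l, hl, rfl⟩ := hsqonto e he
    have h1 : g * l * g⁻¹ = l * (l⁻¹ * (g * l * g⁻¹)) := (mul_inv_cancel_left _ _).symm
    refine mul_inv_eq_iff_eq_mul.1 ?_
    have h2 := hg.2 l hl
    rw [show g * (l * l) * g⁻¹ = (g * l * g⁻¹) * (g * l * g⁻¹) by group, h1,
      (h.E_cen _ h2 l (hXl hl)).mul_mul_mul_comm, h.E_sq _ h2, mul_one]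
  have hUL : ∀ n ∈ N, ∀ g ∈ U, n * g * n⁻¹ ∈ U := fun n hn g hg => clsStab_conj hLinv hn hg
  have hXU : X ≤ U := fun c hc => ⟨h.X_le_xNorm hc, fun y hy => (h.X_le_xKer hc).2 y (hXl hy)⟩
  have hEnorm : ∀ g ∈ N, ∀ e : G, e ∈ E ↔ g * e * g⁻¹ ∈ E := fun g hg e =>
    Subgroup.mem_normalizer_iff.1 (mem_inf.1 hg).2 e
  have htrans : ∀ l ∈ L, ∃ g ∈ U, (u * l)⁻¹ * (g * u * g⁻¹) ∈ E := by
    set E' := E.subgroupOf N with hE'
    haveI : E'.Normal := ⟨fun e he g => (hEnorm g g.2 e).1 he⟩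
    let π : N →* N ⧸ E' := QuotientGroup.mk' E'
    have hπeq : ∀ a b : N, π a = π b ↔ (a : G)⁻¹ * b ∈ E := fun a b => by
      rw [QuotientGroup.mk'_eq_mk'] at *
      constructor
      · rintro ⟨z, hz, e⟩
        rw [← e, Subgroup.coe_mul, inv_mul_cancel_left]
        exact hz
      · intro e
        exact ⟨a⁻¹ * b, e, mul_inv_cancel_left _ _⟩
    have hLN : L ≤ N := hXl.trans h.X_le_xNorm
    set uN : N := ⟨u, h.X_le_xNorm h.u_X⟩ with huN
    have hbar : ∀ x, x ∈ (L.subgroupOf N).map π → ∃ l, ∃ hl : l ∈ L, x = π ⟨l, hLN hl⟩ := by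
      rintro x ⟨l, hl, rfl⟩
      exact ⟨l, hl, rfl⟩
    rcases coset_translations (E := (L.subgroupOf N).map π) (N := (⊤ : Subgroup (N ⧸ E')))
      (K := (K.subgroupOf N).map π) (w := π uN)
      (fun x hx => by
        obtain ⟨l, hl, rfl⟩ := hbar x hx
        rw [← map_mul, ← map_one π, hπeq, OneMemClass.coe_one, mul_one, inv_mem_iff]
        exact hLsq l hl)
      (fun x hx y hy => by
        obtain ⟨l, hl, rfl⟩ := hbar x hx
        obtain ⟨l', hl', rfl⟩ := hbar y hy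
        rw [← map_mul, ← map_mul]
        exact congrArg π (Subtype.ext (hLcomm l hl l' hl').eq))
      ⟨π ⟨l₁, hLN hl₁⟩, ⟨⟨l₁, hLN hl₁⟩, hl₁, rfl⟩, fun e => hl₁E (by
        rw [← map_one π, hπeq, OneMemClass.coe_one, mul_one, inv_mem_iff] at e
        exact e)⟩
      (fun x _ y hy => by
        obtain ⟨g, rfl⟩ := QuotientGroup.mk'_surjective E' x
        obtain ⟨l, hl, rfl⟩ := hbar y hy
        refine ⟨g * ⟨l, hLN hl⟩ * g⁻¹, ?_, by simp [π]⟩
        exact hLinv g g.2 l hl)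
      (fun x _ => by
        obtain ⟨g, rfl⟩ := QuotientGroup.mk'_surjective E' x
        obtain ⟨l, hl, hge⟩ := hmove g g.2
        refine ⟨⟨l, hLN hl⟩, hl, ?_⟩
        rw [← map_inv, ← map_inv, ← map_mul, ← map_mul, ← map_mul]
        refine congrArg π (Subtype.ext ?_)
        show l = u⁻¹ * ((g : G) * u * (g : G)⁻¹)
        rw [hge, inv_mul_cancel_left])
      (fun x hx => by
        obtain ⟨l, hl, rfl⟩ := hbar x hx
        obtain ⟨g, hg⟩ := (hΓ ⟨u * l, mul_mem h.u_X (hXl hl)⟩).2 (by rw [← mul_assoc, P.u_sq, one_mul]; exact hl)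
        have h1 := xVec_eq_iff.1 ((xPerm_mk g (y := (⟨u, h.u_X⟩ : X))
          (z := ⟨_, P.conjX g.2 h.u_X⟩) rfl).symm.trans hg)
        refine ⟨π g, mem_top _, ?_⟩
        rw [← map_inv, ← map_mul, ← map_mul, ← map_mul, hπeq]
        exact h1)
      le_top
      (fun x ⟨k, hk, e⟩ => by
        rw [← e, ← map_mul, ← map_mul]
        exact congrArg π (Subtype.ext (P.K_comm (k : G) hk).eq))
      (fun x hx y hy hx1 hy1 => by
        obtain ⟨a, ha, rfl⟩ := hbar x hx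
        obtain ⟨b, hb, rfl⟩ := hbar y hy
        have hne : ∀ c (hc : c ∈ L), π ⟨c, hLN hc⟩ ≠ 1 → c * c ≠ 1 := fun c hc hc1 e => hc1 (by
          rw [← map_one π, hπeq, OneMemClass.coe_one, mul_one, inv_mem_iff]
          exact hL1 c hc e)
        obtain ⟨k, hk, hkab⟩ := P.K_trans _ (hLsq a ha) _ (hLsq b hb) (hne a ha hx1) (hne b hb hy1)
        refine ⟨π ⟨k, P.K_le hk⟩, ⟨⟨k, P.K_le hk⟩, hk, rfl⟩, ?_⟩
        rw [← map_inv, ← map_mul, ← map_mul, hπeq]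
        refine hsqinj _ (hKL k hk a ha) b hb ?_
        rw [← hkab]
        group)
      (fun x ⟨k, hk, e⟩ y ⟨k', hk', e'⟩ z _ => by
        have : x * y = y * x := by
          rw [← e, ← e', ← map_mul, ← map_mul]
          exact congrArg π (Subtype.ext (P.K_abel (k : G) hk (k' : G) hk').eq)
        rw [show x * (y * z * y⁻¹) * x⁻¹ = (x * y) * z * (x * y)⁻¹ by group, this]
        group)
      (fun x _ hxu y ⟨k, hk, e⟩ => by
        subst e
        obtain ⟨g, rfl⟩ := QuotientGroup.mk'_surjective E' x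
        change π g * π uN = π uN * π g at hxu
        rw [← map_mul, ← map_mul, hπeq, Subgroup.coe_mul, Subgroup.coe_mul] at hxu
        have hfg : u⁻¹ * ((g : G) * u * (g : G)⁻¹) ∈ E := by
          have := (hEnorm g g.2 _).1 (inv_mem hxu)
          rwa [show (g : G) * (((g : G) * u)⁻¹ * (u * g))⁻¹ * (g : G)⁻¹
            = (g : G) * ((g : G)⁻¹ * u⁻¹) * ((g : G) * u) * (g : G)⁻¹ by group,
            show (g : G) * ((g : G)⁻¹ * u⁻¹) * ((g : G) * u) * (g : G)⁻¹ = u⁻¹ * ((g : G) * u * (g : G)⁻¹)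
              by group] at this
        obtain ⟨c, hc, hcu⟩ := h.trans _ hfg
        rw [mul_inv_cancel_left] at hcu
        set g' := c⁻¹ * (g : G) with hg'
        have hg'N : g' ∈ N := mul_mem (inv_mem (h.X_le_xNorm hc)) g.2
        have hg'u : Commute g' u := mul_inv_eq_iff_eq_mul.1 (by
          rw [hg', show c⁻¹ * (g : G) * u * (c⁻¹ * (g : G))⁻¹ = c⁻¹ * ((g : G) * u * (g : G)⁻¹) * c by group, ← hcu]
          group)
        obtain ⟨k', hk', hkk⟩ := P.K_norm g' hg'N hg'u k hk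
        refine ⟨π ⟨k', P.K_le hk'⟩, ⟨⟨k', P.K_le hk'⟩, hk', rfl⟩, fun z hz => ?_⟩
        obtain ⟨l, hl, rfl⟩ := hbar z hz
        show π g * (π k * π _ * (π k)⁻¹) * (π g)⁻¹ = π _ * (π g * π _ * (π g)⁻¹) * (π _)⁻¹
        simp only [← map_inv, ← map_mul]
        refine (hπeq _ _).2 ?_
        show ((g : G) * ((k : G) * l * (k : G)⁻¹) * (g : G)⁻¹)⁻¹ * (k' * ((g : G) * l * (g : G)⁻¹) * k'⁻¹) ∈ E
        have h1 := hLinv g g.2 _ (hKL (k : G) hk l hl)
        have h2 := hKL k' hk' _ (hLinv g g.2 l hl)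
        have hgc : ∀ e ∈ E, (g : G) * e * (g : G)⁻¹ = g' * e * g'⁻¹ := fun e he => by
          have hce := (h.E_cen _ ((hEnorm g g.2 e).1 he) c⁻¹ (inv_mem hc)).symm.eq
          rw [hg', show c⁻¹ * (g : G) * e * (c⁻¹ * (g : G))⁻¹ = c⁻¹ * ((g : G) * e * (g : G)⁻¹) * c by group,
            hce, inv_mul_cancel_right]
        refine hsqinj _ h1 _ h2 ?_
        rw [show (g : G) * ((k : G) * l * (k : G)⁻¹) * (g : G)⁻¹ * ((g : G) * ((k : G) * l * (k : G)⁻¹) * (g : G)⁻¹)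
            = (g : G) * ((k : G) * (l * l) * (k : G)⁻¹) * (g : G)⁻¹ by group,
          hgc ((k : G) * (l * l) * (k : G)⁻¹) ((hEnorm (k : G) k.2 _).1 (hLsq l hl)), hkk _ (hLsq l hl),
          ← hgc _ (hLsq l hl)]
        group) with hall | ⟨h8, -⟩
    · intro l hl
      obtain ⟨x, -, hx1, hx2⟩ := hall (π ⟨l, hLN hl⟩) ⟨⟨l, hLN hl⟩, hl, rfl⟩
      obtain ⟨g, rfl⟩ := QuotientGroup.mk'_surjective E' x
      refine ⟨g, ⟨g.2, fun y hy => ?_⟩, ?_⟩
      · have h1 := hx1 (π ⟨y, hLN hy⟩) ⟨⟨y, hLN hy⟩, hy, rfl⟩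
        change π g * π _ * (π g)⁻¹ = π _ at h1
        rw [← map_inv, ← map_mul, ← map_mul, eq_comm, hπeq] at h1
        exact h1
      · change π g * π uN * (π g)⁻¹ = π uN * π ⟨l, hLN hl⟩ at hx2
        rw [← map_inv, ← map_mul, ← map_mul, ← map_mul, eq_comm, hπeq] at hx2
        exact hx2
    · -- eight elements
      have hr3 : r = 3 := by
        have hc : Nat.card ((L.subgroupOf N).map π) = 2 ^ r := by
          rw [← Subgroup.relIndex_ker, QuotientGroup.ker_mk', hE', Subgroup.relIndex_subgroupOf hLN]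
          have e := (E.subgroupOf L).card_mul_index
          rw [Nat.card_congr (Subgroup.subgroupOfEquivOfLe hEL).toEquiv, hLc, P.card_E] at e
          exact Nat.eq_of_mul_eq_mul_left (Nat.two_pow_pos r) e
        rw [hc, show (8 : ℕ) = 2 ^ 3 by norm_num] at h8
        exact Nat.pow_right_injective le_rfl h8
      obtain ⟨s, hs, hsX, hs2⟩ : ∃ s ∈ S, s ∉ X ∧ s * s ∈ X := by
        have hXSn : (X.subgroupOf S).Normal := ⟨fun y hy g => P.conjX (hSN g.2) hy⟩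
        have hidx : (X.subgroupOf S).index = 2 ^ r := by
          have e := (X.subgroupOf S).card_mul_index
          rw [Nat.card_congr (Subgroup.subgroupOfEquivOfLe hXS).toEquiv, hSc] at e
          exact Nat.eq_of_mul_eq_mul_left Nat.card_pos e
        obtain ⟨y, hy⟩ := exists_prime_orderOf_dvd_card' 2 (G := S ⧸ X.subgroupOf S) (by
          rw [show Nat.card (S ⧸ X.subgroupOf S) = (X.subgroupOf S).index from rfl, hidx]
          exact dvd_pow_self 2 (by omega))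
        obtain ⟨s, rfl⟩ := QuotientGroup.mk_surjective y
        refine ⟨s, s.2, fun e => ?_, ?_⟩
        · rw [(QuotientGroup.eq_one_iff s).2 (mem_subgroupOf.2 e), orderOf_one] at hy
          norm_num at hy
        · have h1 := pow_orderOf_eq_one (QuotientGroup.mk s : S ⧸ X.subgroupOf S)
          rw [hy, pow_two, ← QuotientGroup.mk_mul, QuotientGroup.eq_one_iff] at h1
          exact h1
      have hsN := hSN hs
      have hsE : ∀ z ∈ E, s * z * s⁻¹ = z := htwist hr3 s (hQinv s hsN) (fun z hz => (hEnorm s hsN z).1 hz)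
        (fun z hz => (h.E_cen z hz _ hs2).symm) fun y hy => (h.X_le_xKer hs2).2 y (P.Q_le hy)
      have hsU : s ∈ U := ⟨hsN, fun y hy => hsqinj y hy _ (hLinv s hsN y hy) (by
        rw [show s * y * s⁻¹ * (s * y * s⁻¹) = s * (y * y) * s⁻¹ by group, hsE _ (hLsq y hy)])⟩
      obtain ⟨l0, hl0, hsl⟩ := hmove s hsN
      have hl0E : l0 ∉ E := fun e => hsX (hfix s hs (by rw [hsl, inv_mul_cancel_left]; exact e))
      intro l hl
      by_cases hlE : l ∈ E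
      · refine ⟨1, one_mem _, ?_⟩
        rw [one_mul, inv_one, mul_one, mul_inv_rev, inv_mul_cancel_right]
        exact inv_mem hlE
      obtain ⟨k, hk, hkl⟩ := P.K_trans _ (hLsq _ hl0) _ (hLsq _ hl) (fun e => hl0E (hL1 _ hl0 e))
        fun e => hlE (hL1 _ hl e)
      refine ⟨k * s * k⁻¹, hUL k (P.K_le hk) s hsU, ?_⟩
      have hku := P.K_comm k hk
      rw [show k * s * k⁻¹ * u * (k * s * k⁻¹)⁻¹ = k * (s * (k⁻¹ * u * k) * s⁻¹) * k⁻¹ by group,
        mul_assoc k⁻¹ u k, ← hku.eq, inv_mul_cancel_left, hsl,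
        show k * (u * l0) * k⁻¹ = (k * u * k⁻¹) * (k * l0 * k⁻¹) by group, hku.eq, mul_inv_cancel_right,
        mul_inv_rev, mul_assoc, inv_mul_cancel_left]
      refine hsqinj l hl _ (hKL k hk _ hl0) ?_
      rw [← hkl]; group
  -- a normal subgroup with all translations holds the largest two-subgroup
  have hcover : ∀ V : Subgroup G, V ≤ N → (∀ n ∈ N, ∀ g ∈ V, n * g * n⁻¹ ∈ V) →
      (∀ g ∈ xKer M X E, g ∈ V) → (∀ l ∈ L, ∃ g ∈ V, (u * l)⁻¹ * (g * u * g⁻¹) ∈ E) → S ≤ V := by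
    intro V hVN hVn hVker hVt s hs
    have hsN := hSN hs
    obtain ⟨l, hl, hsl⟩ := hmove s hsN
    obtain ⟨g, hgV, hge⟩ := hVt l hl
    set x : N := ⟨g, hVN hgV⟩⁻¹ * ⟨s, hsN⟩ with hx
    have hxfix : xPerm M X E x h.uVec = h.uVec := by
      rw [hx, map_mul, map_inv, Equiv.Perm.mul_apply, Equiv.Perm.inv_eq_iff_eq]
      refine (xPerm_mk _ (y := (⟨u, h.u_X⟩ : X)) (z := ⟨_, P.conjX hsN h.u_X⟩) rfl).trans ?_
      refine Eq.trans ?_ (xPerm_mk _ (y := (⟨u, h.u_X⟩ : X)) (z := ⟨_, P.conjX (hVN hgV) h.u_X⟩) rfl).symm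
      refine xVec_eq_iff.2 ?_
      show (s * u * s⁻¹)⁻¹ * (g * u * g⁻¹) ∈ E
      rwa [hsl]
    haveI : (V.subgroupOf N).Normal := ⟨fun y hy n => hVn n n.2 _ hy⟩
    let θ : N →* N ⧸ V.subgroupOf N := QuotientGroup.mk' _
    have hgx : θ x = θ ⟨s, hsN⟩ := by
      rw [hx, map_mul, map_inv, show θ ⟨g, hVN hgV⟩ = 1 from (QuotientGroup.eq_one_iff _).2 hgV, inv_one, one_mul]
    have hodd : Odd (orderOf (xPerm M X E x)) := by
      have hmem : (⟨⟨_, x, rfl⟩, hxfix⟩ : stabilizer (xPerm M X E).range h.uVec) ∈ (⊤ : Subgroup _) := mem_top _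
      have := Subgroup.orderOf_dvd_natCard _ hmem
      rw [Subgroup.card_top, ← Subgroup.orderOf_coe, ← Subgroup.orderOf_coe] at this
      exact h.odd_stab.of_dvd_nat this
    have h1 : θ x ^ orderOf (xPerm M X E x) = 1 := by
      rw [← map_pow]
      refine (QuotientGroup.eq_one_iff _).2 (mem_subgroupOf.2 (hVker _ ((mem_ker_xPerm (x ^ orderOf (xPerm M X E x))).1 ?_)))
      rw [MonoidHom.mem_ker, map_pow, pow_orderOf_eq_one]
    obtain ⟨i, hi⟩ := IsPGroup.iff_orderOf.1 hS2 ⟨s, hs⟩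
    have h2 : θ x ^ 2 ^ i = 1 := by
      rw [hgx, ← map_pow, ← map_one θ]
      refine congrArg θ (Subtype.ext ?_)
      rw [Subgroup.orderOf_mk] at hi
      show s ^ 2 ^ i = 1
      rw [← hi, pow_orderOf_eq_one]
    have h3 : θ x = 1 := orderOf_eq_one_iff.1 (Nat.eq_one_of_dvd_coprimes
      (Nat.Coprime.pow_left i (Nat.coprime_two_left.2 hodd)) (orderOf_dvd_of_pow_eq_one h2)
      (orderOf_dvd_of_pow_eq_one h1))
    rw [hgx] at h3
    exact mem_subgroupOf.1 ((QuotientGroup.eq_one_iff (⟨s, hsN⟩ : N)).1 h3)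
  have hSU : S ≤ U := hcover U (fun g hg => hg.1) hUL (fun g hg => ⟨hg.1, fun y hy => hg.2 y (hXl hy)⟩) htrans
  -- flat elements
  obtain ⟨s1, hs1, hs1X, hs1Q⟩ := hflat S X hS2 hXS (fun s hs => hQinv s (hSN hs))
    (fun s hs => hUcen s (hSU hs)) (by
      have e := (X.subgroupOf S).card_mul_index
      rw [Nat.card_congr (Subgroup.subgroupOfEquivOfLe hXS).toEquiv, hSc] at e
      exact (Nat.eq_of_mul_eq_mul_left Nat.card_pos e).ge)
  set W := clsStab M X E ((L : Set G) ∪ (Q : Set G)) with hW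
  have hWinv : ∀ n ∈ N, ∀ y ∈ (L : Set G) ∪ (Q : Set G), n * y * n⁻¹ ∈ (L : Set G) ∪ (Q : Set G) := fun n hn y hy =>
    hy.imp (hLinv n hn y) (hQinv n hn y)
  have hs1W : s1 ∈ W := ⟨hSN hs1, fun y hy => hy.elim ((hSU hs1).2 y) (hs1Q y)⟩
  have hWt : ∀ l ∈ L, ∃ g ∈ W, (u * l)⁻¹ * (g * u * g⁻¹) ∈ E := by
    intro l hl
    obtain ⟨l0, hl0, hsl⟩ := hmove s1 (hSN hs1)
    have hl0E : l0 ∉ E := fun e => hs1X (hfix s1 hs1 (by rw [hsl, inv_mul_cancel_left]; exact e))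
    by_cases hlE : l ∈ E
    · refine ⟨1, one_mem _, ?_⟩
      rw [one_mul, inv_one, mul_one, mul_inv_rev, inv_mul_cancel_right]
      exact inv_mem hlE
    obtain ⟨k, hk, hkl⟩ := P.K_trans _ (hLsq _ hl0) _ (hLsq _ hl) (fun e => hl0E (hL1 _ hl0 e))
      fun e => hlE (hL1 _ hl e)
    refine ⟨k * s1 * k⁻¹, clsStab_conj hWinv (P.K_le hk) hs1W, ?_⟩
    have hku := P.K_comm k hk
    rw [show k * s1 * k⁻¹ * u * (k * s1 * k⁻¹)⁻¹ = k * (s1 * (k⁻¹ * u * k) * s1⁻¹) * k⁻¹ by group,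
      mul_assoc k⁻¹ u k, ← hku.eq, inv_mul_cancel_left, hsl,
      show k * (u * l0) * k⁻¹ = (k * u * k⁻¹) * (k * l0 * k⁻¹) by group, hku.eq, mul_inv_cancel_right,
      mul_inv_rev, mul_assoc, inv_mul_cancel_left]
    refine hsqinj l hl _ (hKL k hk _ hl0) ?_
    rw [← hkl]; group
  have hSW : S ≤ W := hcover W (fun g hg => hg.1) (fun n hn g hg => clsStab_conj hWinv hn hg)
    (fun g hg => ⟨hg.1, fun y hy => hg.2 y (hy.elim (@hXl y) (@P.Q_le y))⟩) hWt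
  -- the subgroup `Y`
  have hLQ : ∀ a ∈ L, ∀ b ∈ Q, Commute a b := fun a ha b hb => P.comm a (hLC ha) b hb
  let Y : Subgroup G :=
    { carrier := {y | ∃ a ∈ L, ∃ b ∈ Q, y = a * b}
      one_mem' := ⟨1, one_mem L, 1, one_mem Q, (one_mul 1).symm⟩
      mul_mem' := by
        rintro _ _ ⟨a, ha, b, hb, rfl⟩ ⟨a', ha', b', hb', rfl⟩
        exact ⟨a * a', mul_mem ha ha', b * b', mul_mem hb hb', (hLQ a' ha' b hb).symm.mul_mul_mul_comm a b'⟩
      inv_mem' := by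
        rintro _ ⟨a, ha, b, hb, rfl⟩
        exact ⟨a⁻¹, inv_mem ha, b⁻¹, inv_mem hb, by rw [mul_inv_rev, (hLQ a ha b hb).inv_inv.eq]⟩ }
  have hLY : ∀ a ∈ L, a ∈ Y := fun a ha => ⟨a, ha, 1, one_mem Q, (mul_one a).symm⟩
  have hQY : ∀ b ∈ Q, b ∈ Y := fun b hb => ⟨1, one_mem L, b, hb, (one_mul b).symm⟩
  have hYX : Y ≤ X := by rintro _ ⟨a, ha, b, hb, rfl⟩; exact mul_mem (hXl ha) (P.Q_le hb)
  have huY : u ∉ Y := by
    rintro ⟨a, ha, b, hb, e⟩
    refine huL ?_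
    have hbC : b ∈ C0 := by
      rw [show b = a⁻¹ * u by rw [e, inv_mul_cancel_left]]
      exact mul_mem (inv_mem (hLC ha)) P.u_C0
    rw [e]
    exact mul_mem ha (hEL (P.C0_inf b hb hbC))
  have hsplitY : ∀ y ∈ X, y ∈ Y ∨ u * y ∈ Y := by
    intro y hy
    obtain ⟨c, hc, z, hz, rfl⟩ := P.dec y hy
    refine (hsplit c hc).imp (fun h1 => ⟨c, h1, z, hz, rfl⟩) fun h1 => ⟨u * c, h1, z, hz, (mul_assoc u c z).symm⟩
  have hY2 : 2 * Nat.card Y = Nat.card X := by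
    have hi : (Y.subgroupOf X).index = 2 := by
      rw [Subgroup.index_eq_two_iff]
      refine ⟨⟨u, h.u_X⟩, fun y => ?_⟩
      simp only [mem_subgroupOf, Subgroup.coe_mul]
      by_cases hy : (y : G) ∈ Y
      · exact Or.inr ⟨hy, fun h1 => huY ((Y.mul_mem_cancel_left hy).1 h1)⟩
      · refine Or.inl ⟨?_, hy⟩
        have h1 := (hsplitY y y.2).resolve_left hy
        have e : (y : G) * u = (y * u * (y : G)⁻¹ * u⁻¹) * (u * y) := by group
        rw [e]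
        exact mul_mem (hLY _ (hEL (h.comm_mem y.2 h.u_X))) h1
    rw [← Nat.card_congr (Subgroup.subgroupOfEquivOfLe hYX).toEquiv, mul_comm, ← hi, Subgroup.card_mul_index]
  have hYcls : ∀ y ∈ Y, ∀ s ∈ S, FixCoset E s y := by
    rintro _ ⟨a, ha, b, hb, rfl⟩ s hs
    have h1 := (hSW hs).2 a (Or.inl ha)
    have h3 := (hSW hs).2 b (Or.inr hb)
    show (a * b)⁻¹ * (s * (a * b) * s⁻¹) ∈ E
    rw [show (a * b)⁻¹ * (s * (a * b) * s⁻¹) = b⁻¹ * (a⁻¹ * (s * a * s⁻¹)) * (s * b * s⁻¹) by group,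
      mul_assoc, (h.E_cen _ h1 _ (P.conjX (hSN hs) (P.Q_le hb))).eq, ← mul_assoc]
    exact mul_mem h3 h1
  refine h.exists_two_group_six h2 hM hconj hq4 hS2 hXS (hSN.trans (inf_le_left.trans inf_le_left))
    (fun e he => hQY e (P.E_le_Q he)) hYX hY2 huY P.card_E hTc hXc (by rw [hSc, hXc]; ring) ?_ ?_
    (fun z hz s hs => (hUcen s (hSU hs) z hz).symm) ?_ hfix
    (fun R hR hR2 => by have := hSmax R hR hR2; rw [hSc, hXc] at this; exact this.trans_eq (by ring)) ?_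
  · -- squares
    intro s hs
    by_cases hsX' : s ∈ X
    · exact hLY _ (hEL (h.X_sq s hsX'))
    have hsN := hSN hs
    obtain ⟨l, hl, hsl⟩ := hmove s hsN
    have hlE : l ∉ E := fun e => hsX' (hfix s hs (by rw [hsl, inv_mul_cancel_left]; exact e))
    have hs2 : s * s ∈ X := hfix _ (mul_mem hs hs) (by
      have h1 := (hSU hs).2 l hl
      rw [show s * s * u * (s * s)⁻¹ = s * (s * u * s⁻¹) * s⁻¹ by group, hsl,
        show s * (u * l) * s⁻¹ = (s * u * s⁻¹) * (l * (l⁻¹ * (s * l * s⁻¹))) by group, hsl,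
        show u⁻¹ * (u * l * (l * (l⁻¹ * (s * l * s⁻¹)))) = (l * l) * (l⁻¹ * (s * l * s⁻¹)) by group]
      exact mul_mem (hLsq l hl) h1)
    refine (hsplitY _ hs2).resolve_right fun h1 => hlE ?_
    have h3 := hYcls _ h1 s hs
    have h4 : FixCoset E s (u * (s * s)) := h3
    unfold FixCoset at h4
    rw [show (u * (s * s))⁻¹ * (s * (u * (s * s)) * s⁻¹) = (s * s)⁻¹ * (u⁻¹ * (s * u * s⁻¹)) * (s * s) by group,
      hsl, inv_mul_cancel_left] at h4
    have h5 := h.comm_mem (inv_mem hs2) (hXl hl)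
    have := mul_mem (inv_mem h5) h4
    rwa [show ((s * s)⁻¹ * l * (s * s)⁻¹⁻¹ * l⁻¹)⁻¹ * ((s * s)⁻¹ * l * (s * s)) = l by group] at this
  · -- `Y` is central modulo `E`
    intro y hy s hs
    have h1 := hYcls y hy s hs
    unfold FixCoset at h1
    have h3 := inv_mem h1
    have h4 : y * (y⁻¹ * (s * y * s⁻¹))⁻¹ * y⁻¹ ∈ E := by
      rw [((h.E_cen _ h3 y (hYX hy))).symm.eq, mul_inv_cancel_right]; exact h3
    rwa [show y * (y⁻¹ * (s * y * s⁻¹))⁻¹ * y⁻¹ = y * s * y⁻¹ * s⁻¹ by group] at h4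
  · -- the centre
    intro s hs hst
    have hsu : Commute s u := hst u (hXS h.u_X)
    have hsX' : s ∈ X := hfix s hs (by rw [hsu.eq, mul_inv_cancel_right, inv_mul_cancel]; exact one_mem E)
    have hsQ : s ∈ Q := hQchar s hsX' fun c hc => hst c (hXS (P.C0_le hc))
    exact P.center s hsQ fun w hw => hst w (hXS (P.Q_le hw))
  · -- transitivity
    intro a ha b hb haX hbX
    obtain ⟨la, hla, hal⟩ := hmove a (hSN ha)
    obtain ⟨lb, hlb, hbl⟩ := hmove b (hSN hb)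
    have hlaE : la ∉ E := fun e => haX (hfix a ha (by rw [hal, inv_mul_cancel_left]; exact e))
    have hlbE : lb ∉ E := fun e => hbX (hfix b hb (by rw [hbl, inv_mul_cancel_left]; exact e))
    obtain ⟨k, hk, hkl⟩ := P.K_trans _ (hLsq _ hla) _ (hLsq _ hlb) (fun e => hlaE (hL1 _ hla e))
      fun e => hlbE (hL1 _ hlb e)
    have hkN := P.K_le hk
    -- `S` and its conjugate are Sylow subgroups of `W`
    set S' := S.map (MulAut.conj k).toMonoidHom with hS'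
    have hS'W : S' ≤ W := by
      rintro _ ⟨y, hy, rfl⟩
      exact clsStab_conj hWinv hkN (hSW hy)
    have hsyl : ∀ R : Subgroup G, R ≤ W → IsPGroup 2 R → Nat.card R = Nat.card S →
        ¬ 2 ∣ (R.subgroupOf W).index := by
      intro R hR hR2 hRc hd
      obtain ⟨Q', hQ'⟩ := IsPGroup.exists_le_sylow (hR2.comap_subtype (K := W))
      have hle := hSmax _ ((map_subtype_le _).trans (show W ≤ N from fun g hg => hg.1)) (Q'.2.map W.subtype)
      rw [Subgroup.card_map_of_injective W.subtype_injective, ← hRc,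
        ← Nat.card_congr (Subgroup.subgroupOfEquivOfLe hR).toEquiv] at hle
      rw [Subgroup.eq_of_le_of_card_ge (show R.subgroupOf W ≤ Q' from hQ') hle] at hd
      exact Q'.not_dvd_index hd
    let P1 : Sylow 2 W := ((hS2.map _).comap_subtype (K := W)).toSylow
      (hsyl S' hS'W (hS2.map _) (Subgroup.card_map_of_injective (MulAut.conj k).injective))
    let P2 : Sylow 2 W := (hS2.comap_subtype (K := W)).toSylow (hsyl S hSW hS2 rfl)
    obtain ⟨c, hc⟩ := MulAction.exists_smul_eq W P1 P2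
    have hck : ∀ y ∈ S, (c : G) * k * y * ((c : G) * k)⁻¹ ∈ S := fun y hy => by
      have h1 : c * ⟨k * y * k⁻¹, hS'W ⟨y, hy, rfl⟩⟩ * c⁻¹ ∈ ((c • P1 : Sylow 2 W) : Subgroup W) :=
        ⟨⟨k * y * k⁻¹, hS'W ⟨y, hy, rfl⟩⟩, ⟨y, hy, rfl⟩, rfl⟩
      rw [hc] at h1
      rw [show (c : G) * k * y * ((c : G) * k)⁻¹ = (c : G) * (k * y * k⁻¹) * (c : G)⁻¹ by group]
      exact h1
    -- an element of `S` with the same translation as `c`
    have hcN : (c : G) ∈ N := c.2.1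
    obtain ⟨lc, hlc, hcl⟩ := hmove c hcN
    obtain ⟨s, hs, hsl⟩ : ∃ s ∈ S, u⁻¹ * ((s⁻¹ * c) * u * (s⁻¹ * c)⁻¹) ∈ E := by
      haveI : (X.subgroupOf S).Normal := ⟨fun y hy g => P.conjX (hSN g.2) hy⟩
      let f : S → XVec X E := fun s => xPerm M X E ⟨s, hSN s.2⟩ h.uVec
      have hf : ∀ s s' : S, f s = f s' → (s : G)⁻¹ * s' ∈ X := fun s s' e => by
        refine hfix _ (S.mul_mem (S.inv_mem s.2) s'.2) (xVec_eq_iff.1 (?_ : (QuotientGroup.mk (⟨u, h.u_X⟩ : X) :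
          XVec X E) = QuotientGroup.mk ⟨_, P.conjX (mul_mem (inv_mem (hSN s.2)) (hSN s'.2)) h.u_X⟩))
        refine Eq.trans ?_ (xPerm_mk (⟨(s : G)⁻¹ * s', mul_mem (inv_mem (hSN s.2)) (hSN s'.2)⟩ : N) (y := (⟨u, h.u_X⟩ : X)) rfl)
        rw [show (⟨(s : G)⁻¹ * s', mul_mem (inv_mem (hSN s.2)) (hSN s'.2)⟩ : N) =
          (⟨s, hSN s.2⟩ : N)⁻¹ * ⟨s', hSN s'.2⟩ from rfl, map_mul, map_inv, Equiv.Perm.mul_apply,
          show xPerm M X E ⟨s', hSN s'.2⟩ (QuotientGroup.mk (⟨u, h.u_X⟩ : X)) = f s from e.symm,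
          show f s = xPerm M X E ⟨s, hSN s.2⟩ (QuotientGroup.mk (⟨u, h.u_X⟩ : X)) from rfl,
          Equiv.Perm.inv_eq_iff_eq.2 rfl]
      let F : S ⧸ X.subgroupOf S → h.gammaSet := fun p => ⟨f p.out, ⟨⟨_, hSN p.out.2⟩, rfl⟩⟩
      have hFi : Function.Injective F := fun p p' e => by
        rw [← p.out_eq', ← p'.out_eq', QuotientGroup.eq]
        exact hf _ _ (congrArg Subtype.val e)
      have hFb : Function.Bijective F := by
        rw [Nat.bijective_iff_injective_and_card]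
        refine ⟨hFi, ?_⟩
        rw [Nat.card_coe_set_eq, hΓc]
        show (X.subgroupOf S).index = _
        have e := (X.subgroupOf S).card_mul_index
        rw [Nat.card_congr (Subgroup.subgroupOfEquivOfLe hXS).toEquiv, hSc] at e
        exact Nat.eq_of_mul_eq_mul_left Nat.card_pos e
      obtain ⟨p, hp⟩ := hFb.2 ⟨_, ⟨⟨(c : G), hcN⟩, rfl⟩⟩
      have hp' : f p.out = xPerm M X E ⟨(c : G), hcN⟩ h.uVec := congrArg Subtype.val hp
      refine ⟨p.out, p.out.2, xVec_eq_iff.1 (?_ : (QuotientGroup.mk (⟨u, h.u_X⟩ : X) : XVec X E) =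
        QuotientGroup.mk ⟨_, P.conjX (mul_mem (inv_mem (hSN p.out.2)) hcN) h.u_X⟩)⟩
      refine Eq.trans ?_ (xPerm_mk (⟨(p.out : G)⁻¹ * c, mul_mem (inv_mem (hSN p.out.2)) hcN⟩ : N) (y := (⟨u, h.u_X⟩ : X)) rfl)
      rw [show (⟨(p.out : G)⁻¹ * c, mul_mem (inv_mem (hSN p.out.2)) hcN⟩ : N) =
        (⟨p.out, hSN p.out.2⟩ : N)⁻¹ * ⟨c, hcN⟩ from rfl, map_mul, map_inv, Equiv.Perm.mul_apply,
        show xPerm M X E ⟨(c : G), hcN⟩ (QuotientGroup.mk (⟨u, h.u_X⟩ : X)) = f p.out from hp'.symm,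
        show f p.out = xPerm M X E ⟨p.out, hSN p.out.2⟩ (QuotientGroup.mk (⟨u, h.u_X⟩ : X)) from rfl,
        Equiv.Perm.inv_eq_iff_eq.2 rfl]
    set g := s⁻¹ * (c : G) * k with hg
    have hgN : g ∈ N := mul_mem (mul_mem (inv_mem (hSN hs)) hcN) hkN
    have hgS : ∀ y ∈ S, g * y * g⁻¹ ∈ S := fun y hy => by
      rw [hg, show s⁻¹ * (c : G) * k * y * (s⁻¹ * (c : G) * k)⁻¹ =
        s⁻¹ * ((c : G) * k * y * ((c : G) * k)⁻¹) * s by group]
      exact mul_mem (mul_mem (inv_mem hs) (hck y hy)) hs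
    have hgu : u⁻¹ * (g * u * g⁻¹) ∈ E := by
      rw [hg, show s⁻¹ * (c : G) * k * u * (s⁻¹ * (c : G) * k)⁻¹ =
        s⁻¹ * c * (k * u * k⁻¹) * (s⁻¹ * c)⁻¹ by group, (P.K_comm k hk).eq, mul_inv_cancel_right]
      exact hsl
    refine ⟨g, hgN, Subgroup.mem_normalizer_fintype hgS, hgu, ?_⟩
    refine hfix _ (mul_mem (inv_mem hb) (hgS a ha)) ?_
    -- both move `u` alike
    set f0 := u⁻¹ * (g * u * g⁻¹) with hf0
    have hw : g⁻¹ * u * g = u * (g⁻¹ * f0⁻¹ * g) := by rw [hf0]; group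
    have hf0' : g⁻¹ * f0⁻¹ * g ∈ E := by simpa using P.conjE (inv_mem hgN) (inv_mem hgu)
    have hlc' : (k * la * k⁻¹)⁻¹ * lb ∈ E := hsqinj _ (hKL k hk _ hla) _ hlb (by rw [← hkl]; group)
    have hgla : (k * la * k⁻¹)⁻¹ * (g * la * g⁻¹) ∈ E := by
      have hm : s⁻¹ * (c : G) ∈ W := mul_mem (inv_mem (hSW hs)) c.2
      have := hm.2 _ (Or.inl (hKL k hk _ hla))
      rwa [FixCoset, show s⁻¹ * (c : G) * (k * la * k⁻¹) * (s⁻¹ * (c : G))⁻¹ = g * la * g⁻¹ by rw [hg]; group] at this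
    have hgab : (u * lb)⁻¹ * ((g * a * g⁻¹) * u * (g * a * g⁻¹)⁻¹) ∈ E := by
      have e1 : (g * a * g⁻¹) * u * (g * a * g⁻¹)⁻¹ = (g * u * g⁻¹) * (g * la * g⁻¹) * (g * (a * (g⁻¹ * f0⁻¹ * g) * a⁻¹) * g⁻¹) := by
        rw [show (g * a * g⁻¹) * u * (g * a * g⁻¹)⁻¹ = g * (a * (g⁻¹ * u * g) * a⁻¹) * g⁻¹ by group, hw,
          show a * (u * (g⁻¹ * f0⁻¹ * g)) * a⁻¹ = (a * u * a⁻¹) * (a * (g⁻¹ * f0⁻¹ * g) * a⁻¹) by group, hal]
        group
      rw [e1, show g * u * g⁻¹ = u * f0 by rw [hf0, mul_inv_cancel_left],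
        show (u * lb)⁻¹ * (u * f0 * (g * la * g⁻¹) * (g * (a * (g⁻¹ * f0⁻¹ * g) * a⁻¹) * g⁻¹)) =
          lb⁻¹ * (f0 * (g * la * g⁻¹)) * (g * (a * (g⁻¹ * f0⁻¹ * g) * a⁻¹) * g⁻¹) by group,
        (h.E_cen _ hgu _ (P.conjX hgN (hXl hla))).eq, ← mul_assoc lb⁻¹]
      refine mul_mem (mul_mem ?_ hgu) (P.conjE hgN (P.conjE (hSN ha) hf0'))
      have := mul_mem (inv_mem hlc') hgla
      rwa [show ((k * la * k⁻¹)⁻¹ * lb)⁻¹ * ((k * la * k⁻¹)⁻¹ * (g * la * g⁻¹)) = lb⁻¹ * (g * la * g⁻¹) by group]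
        at this
    have := P.conjE (inv_mem (hSN hb)) hgab
    rwa [show b⁻¹ * ((u * lb)⁻¹ * ((g * a * g⁻¹) * u * (g * a * g⁻¹)⁻¹)) * b⁻¹⁻¹ =
      (b⁻¹ * (u * lb) * b)⁻¹ * (b⁻¹ * (g * a * g⁻¹) * u * (b⁻¹ * (g * a * g⁻¹))⁻¹) by group,
      show b⁻¹ * (u * lb) * b = u by rw [← hbl]; group] at this

end LambdaCfg

end Cfsg.Agent.GoodInvol
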