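import Cfsg.Agent.Lib.GoodInvol.U3Split
import Cfsg.Agent.Lib.GoodInvol.U3Translate
import Cfsg.Agent.Lib.GoodInvol.U3Small
import Cfsg.Agent.Lib.GoodInvol.U3Centres
import Cfsg.Agent.Lib.GoodInvol.U3Heis
import Cfsg.Agent.Lib.GoodInvol.CaseBSz
import Cfsg.Agent.Lib.RelMcKay.IrreducibleCyclic

/-!
# Case B, unitary type without a 2-group of order four on two points

An orbit of the coset of `u` of size not divisible by four ends by transfer; one of `q ^ 2` cosets, or of `q` with the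
lemma on the fixed part, gives a 2-group of order `2 q ^ 6` at `a`, and `q ^ 6` does not divide `|Omega| - 1`.
-/

set_option autoImplicit false
set_option linter.style.haveILetI false
set_option linter.unusedSectionVars false

namespace Cfsg.Agent.GoodInvol

open Subgroup MulAction

universe u

variable {G : Type u} [Group G] [Finite G] {Ω : Type u} [MulAction G Ω] [Finite Ω] [FaithfulSMul G Ω] {D : Set G}

namespace BaseCfg

variable {u : G} {a x : Ω} {T : Sylow 2 (ptC u a)} {E Q K K1 : Subgroup G} {r : ℕ}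
  (B : BaseCfg D u a x T E Q K K1 r 3) {X Kp K1p K0 : Subgroup G} {m g3 : ℕ}
  (hK : TorusCfg (stabilizer G a) X (tSub T) E u Kp K1p K0 r m g3)
  (hA : TorusAct (stabilizer G a) X E K Kp)
include B hK hA

/-- One lift gives the whole action of the torus on `E`. -/
theorem exists_generator : ∃ g ∈ Kp, ∀ k ∈ K, ∃ i : ℤ, ∀ z ∈ E, k * z * k⁻¹ = g ^ i * z * (g ^ i)⁻¹ := by
  classical
  letI : CommGroup E :=
    { (inferInstance : Group E) with mul_comm := fun y z => Subtype.ext (B.hE.comm y y.2 z z.2).eq }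
  obtain ⟨z0, hz0, -, -, hz01, -, -⟩ := B.hE.two
  haveI : Nontrivial E := ⟨⟨z0, hz0⟩, 1, fun e => hz01 (congrArg Subtype.val e)⟩
  have hN : Kp ≤ normalizer (E : Set G) := fun g hg => (mem_inf.1 (hK.K_le hg)).2
  let f : Kp →* MulAut E := (Subgroup.normalizerMonoidHom E).comp (Subgroup.inclusion hN)
  have hf : ∀ (g : Kp) (z : E), ((f g z : E) : G) = (g : G) * z * (g : G)⁻¹ := fun g z => rfl
  have hcomm : ∀ g g' : Kp, f g * f g' = f g' * f g := fun g g' => MulEquiv.ext fun z => Subtype.ext (by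
    rw [MulAut.mul_apply, MulAut.mul_apply, hf, hf, hf, hf]
    obtain ⟨k, hk, hgk⟩ := hA.act g g.2
    obtain ⟨k', hk', hgk'⟩ := hA.act g' g'.2
    rw [hgk _ (by rw [← hf]; exact (f g' z).2), hgk' z z.2, hgk' _ (by rw [← hf]; exact (f g z).2), hgk z z.2,
      show k * (k' * (z : G) * k'⁻¹) * k⁻¹ = k * k' * z * (k * k')⁻¹ by group,
      (B.hL.K_comm k (mem_sup_left hk) k' (mem_sup_left hk')).eq]
    group)
  have hirr : ∀ U : Subgroup E, (∀ g : Kp, ∀ v ∈ U, f g v ∈ U) → U = ⊥ ∨ U = ⊤ := fun U hU => by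
    refine or_iff_not_imp_left.2 fun hne => (eq_top_iff' U).2 fun w => ?_
    obtain ⟨v, hv, hv1⟩ : ∃ v ∈ U, v ≠ 1 := by
      by_contra! hall
      exact hne ((eq_bot_iff_forall U).2 hall)
    by_cases hw : w = 1
    · rw [hw]; exact one_mem U
    obtain ⟨k, hk, hkv⟩ := B.hL.K_trans v v.2 w w.2 (fun e => hv1 (Subtype.ext e)) fun e => hw (Subtype.ext e)
    obtain ⟨g, hg, hgk⟩ := hA.real k hk
    rw [show w = f ⟨g, hg⟩ v from Subtype.ext (by rw [hf, hgk v v.2, hkv])]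
    exact hU _ v hv
  obtain ⟨γ, hγ⟩ := (RelMcKay.isCyclic_of_irreducible f hcomm hirr).exists_generator
  obtain ⟨_, g, rfl⟩ := γ
  refine ⟨g, g.2, fun k hk => ?_⟩
  obtain ⟨g', hg', hgk⟩ := hA.real k hk
  obtain ⟨i, hi⟩ := mem_zpowers_iff.1 (hγ ⟨f ⟨g', hg'⟩, ⟨g', hg'⟩, rfl⟩)
  refine ⟨i, fun z hz => ?_⟩
  have e1 : f (g ^ i) = f ⟨g', hg'⟩ := by
    rw [map_zpow]; exact congrArg Subtype.val hi
  have e2 := congrArg (fun φ : MulAut E => ((φ ⟨z, hz⟩ : E) : G)) e1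
  rw [hf, hf, Subgroup.coe_zpow] at e2
  rw [← hgk z hz]
  exact e2.symm

/-- An abelian torus on `X / E` normalised in its action on `E`. -/
theorem exists_cyclic_torus (h : Crit D Ω) : ∃ K' ≤ Kp, (∀ k ∈ K', ∀ l ∈ K', Commute k l) ∧
    (xKer (stabilizer G a) X E).relIndex K' = 2 ^ r - 1 ∧
    (∀ e ∈ E, ∀ f ∈ E, e ≠ 1 → f ≠ 1 → ∃ k ∈ K', k * e * k⁻¹ = f) ∧
    ∀ g ∈ xNorm (stabilizer G a) X E, Commute g u → ∀ k ∈ K',
      ∃ k' ∈ K', ∀ e ∈ E, g * (k * e * k⁻¹) * g⁻¹ = k' * (g * e * g⁻¹) * k'⁻¹ := by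
  classical
  obtain ⟨g0, hg0, hgen⟩ := B.exists_generator hK hA
  have hle : zpowers g0 ≤ Kp := zpowers_le.2 hg0
  have htrans : ∀ e ∈ E, ∀ f ∈ E, e ≠ 1 → f ≠ 1 → ∃ k ∈ zpowers g0, k * e * k⁻¹ = f := fun e he f hf he1 hf1 => by
    obtain ⟨k, hk, hke⟩ := B.hL.K_trans e he f hf he1 hf1
    obtain ⟨i, hi⟩ := hgen k hk
    exact ⟨g0 ^ i, zpow_mem (mem_zpowers g0) i, (hi e he).symm.trans hke⟩
  refine ⟨zpowers g0, hle, fun k hk l hl => ?_, ?_, htrans, fun g hg hgu k hk => ?_⟩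
  · obtain ⟨i, rfl⟩ := mem_zpowers_iff.1 hk
    obtain ⟨j, rfl⟩ := mem_zpowers_iff.1 hl
    exact (Commute.refl g0).zpow_zpow i j
  · obtain ⟨z0, hz0, -, -, hz01, -, -⟩ := B.hE.two
    have horb : SixInv.orb (zpowers g0) z0 = (E : Set G) \ {1} := by
      ext z
      constructor
      · rintro ⟨k, hk, rfl⟩
        exact ⟨(mem_normalizer_iff.1 (mem_inf.1 (hK.K_le (hle hk))).2 z0).1 hz0,
          fun e => hz01 (conj_eq_one_iff.1 e)⟩
      · rintro ⟨hz, hz1⟩
        exact htrans z0 hz0 z hz hz01 hz1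
    have hinf : zpowers g0 ⊓ centralizer ({z0} : Set G) = xKer (stabilizer G a) X E ⊓ zpowers g0 := by
      rw [← inf_eq_left.2 hle, inf_assoc, hA.inf_cen z0 hz0 hz01, ← inf_assoc, inf_comm (zpowers g0), inf_assoc]
    have hEcard : ((E : Set G) \ {1}).ncard = 2 ^ r - 1 := by
      rw [Set.ncard_sdiff_singleton_of_mem (one_mem E),
        show (E : Set G).ncard = 2 ^ r by rw [← Nat.card_coe_set_eq]; exact B.hL.card_eset]
    have h1 := SixInv.orb_card (zpowers g0) z0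
    rw [horb, hEcard, hinf] at h1
    have d0 := Subgroup.card_mul_index ((xKer (stabilizer G a) X E ⊓ zpowers g0).subgroupOf (zpowers g0))
    rw [Nat.card_congr (Subgroup.subgroupOfEquivOfLe inf_le_right).toEquiv] at d0
    change _ * (xKer (stabilizer G a) X E ⊓ zpowers g0).relIndex (zpowers g0) = _ at d0
    rw [Subgroup.inf_relIndex_right, ← h1] at d0
    exact Nat.eq_of_mul_eq_mul_left Nat.card_pos (d0.trans (mul_comm _ _))
  · have hga : g • a = a := mem_stabilizer_iff.1 (mem_inf.1 (mem_inf.1 hg).1).1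
    have hgE := fun z => (mem_normalizer_iff.1 (mem_inf.1 hg).2 z).1
    obtain ⟨k0, hk0, hkk⟩ := hA.act k (hle hk)
    set c := g * k0 * g⁻¹ with hc
    have hcE : ∀ z ∈ E, c * z * c⁻¹ ∈ E := fun z hz => by
      have h1 := (mem_normalizer_iff.1 (mem_inf.1 (inv_mem hg : g⁻¹ ∈ xNorm _ X E)).2 z).1 hz
      rw [hc, show g * k0 * g⁻¹ * z * (g * k0 * g⁻¹)⁻¹ = g * (k0 * (g⁻¹ * z * g⁻¹⁻¹) * k0⁻¹) * g⁻¹ by group]
      exact hgE _ (B.conj_E_of_K hk0 h1)
    obtain ⟨k1, hk1, hck⟩ := B.exists_K (g := c) (h.conj_genC hgu (B.hL.K_le hk0))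
      (by rw [hc, mul_smul, mul_smul, inv_smul_eq_iff.2 hga.symm, (B.hL.K_fix k0 hk0).1, hga]) hcE
    obtain ⟨i, hi⟩ := hgen k1 hk1
    refine ⟨g0 ^ i, zpow_mem (mem_zpowers g0) i, fun e he => ?_⟩
    rw [hkk e he, ← hi _ (hgE e he), ← hck _ (hgE e he), hc]
    group

/-- The data of the case of `q` fixed cosets. -/
theorem exists_lambdaCfg (h : Crit D Ω) (hX : XCfg (stabilizer G a) X (tSub T) E u)
    (hXc : Nat.card X = 2 * 2 ^ r * 2 ^ r * 2 ^ r * 2 ^ r) (hgamma : hX.gammaSet.ncard = 2 ^ r)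
    (hsub : ∀ g ∈ xNorm (stabilizer G a) X E, g * u * g⁻¹ ∈ fixCos X E K1p) :
    ∃ C0 K' : Subgroup G, LambdaCfg (stabilizer G a) X (tSub T) E u Q C0 K' r := by
  obtain ⟨K', hK'le, habel, hcard, htr, hnorm⟩ := B.exists_cyclic_torus hK hA h
  obtain ⟨C0, hC0⟩ := exists_fixSub hX hK
  have hKu : ∀ k ∈ K', Commute k u := fun k hk => hK.K0_comm k (hK.K_le_K0 (hK'le hk))
  exact ⟨C0, K', {
    cfg := hX
    two_le := B.hL.two_le
    card_E := B.hL.card_eset
    card_C0 := by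
      rw [← SetLike.coe_sort_coe, Nat.card_coe_set_eq, show (C0 : Set G) = fixCos X E K1p from Set.ext hC0,
        hK.ncard_fix, B.hL.card_eset]
    C0_le := fun c hc => ((hC0 c).1 hc).1
    u_C0 := (hC0 u).2 ⟨hX.u_X, fun k hk => by
      rw [(hK.K0_comm k (hK.K1_le_K0 hk)).eq, mul_inv_cancel_right, inv_mul_cancel]; exact one_mem E⟩
    E_le_C0 := fun e he => (hC0 e).2 ⟨hX.E_le_X he, fun k hk => by
      rw [(hK.K1_cen k hk e he).eq, mul_inv_cancel_right, inv_mul_cancel]; exact one_mem E⟩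
    E_le_Q := B.hL.eset_le
    Q_le := B.Q_le_X hX
    Q_u := fun z hz => B.mem_u (B.hL.Q_le hz)
    dec := fun y hy => by
      obtain ⟨c, hc, hz⟩ := B.exists_dec hX hK hXc y hy
      exact ⟨c, (hC0 c).2 hc, hz⟩
    comm := fun c hc => B.commute_fix hX hK h c ((hC0 c).1 hc)
    C0_inf := fun z hz hzC => B.mem_eset_of_fix hX hK hz ((hC0 z).1 hzC)
    center := B.centre_Q
    K_le := hK'le.trans hK.K_le
    K_comm := hKu
    K_abel := habel
    K_odd := hK.K0_odd.of_dvd_nat (Subgroup.card_dvd_of_le (hK'le.trans hK.K_le_K0))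
    K_card := hcard
    K_free := fun k hk => hK.K_free k (hK'le hk)
    K_stab := fun k hk c hc => (hC0 _).2 (hK.K_stab k (hK'le hk) c ((hC0 c).1 hc))
    K_trans := htr
    K_norm := hnorm
    gamma := hgamma
    sub := fun g hg => (hC0 _).2 (hsub g hg) }⟩

end BaseCfg

/-- Unitary type, no 2-group of order four on two points: impossible. -/
theorem smallStmt_three : SmallStmt.{u} 3 := by
  intro G _ _ D Ω _ _ _ hB h hgen u a x T E Q K K1 r L hL
  haveI : Fact (Nat.Prime 2) := ⟨Nat.prime_two⟩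
  obtain ⟨X, Kp, K1p, K0, m, g3, hX, hT, hXc, hK, hA⟩ := h.exists_xcfg_unitary hB hgen L hL
  have B : BaseCfg D u a x T E Q K K1 r 3 :=
    ⟨L.hu, L.hbad, L.ha, L.hx, L.hxa, L.hE, hL, L.hW, Crit.hall_small L hL⟩
  have h2 := h.index_ne_two hB hgen L.hu L.ha L.hx L.hxa.symm
  have hM := h.odd_index_stab a
  have hconj := h.exists_conj_stab L.hu L.ha
  have hr := hL.two_le
  have hP := B.pureCfg hX hK h hXc
  by_cases h4 : 4 ∣ Nat.card (xPerm (stabilizer G a) X E).range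
  swap
  · exact hX.false_of_unitary_four h2 hM hconj hr hK.g3_cases hK.g3_r hL.card_eset hT hXc h4 hP hK.K0_le hK.K0_odd
      hK.K0_comm hK.K0_card hK.g3_eq hK.hfree
  -- a large 2-group at `a`
  obtain ⟨R, hR, hR2, hRc⟩ : ∃ R : Subgroup G, R ≤ stabilizer G a ∧ IsPGroup 2 R ∧ 2 * (2 ^ r) ^ 6 ≤ Nat.card R := by
    rcases hX.gamma_cases hr hK.g3_cases hL.card_eset hP hK.K0_le
        (fun k hk => B.fix_stab hX hK h hXc k (hK.K0_le hk) (hK.K0_comm k hk)) hK.K0_card hK.g3_eq hK.hfree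
        hL.eset_le (B.exists_dec hX hK hXc) (B.commute_fix hX hK h) hL.mem_eset B.card_roots h4 with
      hg | ⟨hg, hsub⟩
    · have hqq : 2 ^ r * 2 ^ r = 2 ^ (2 * r) := by rw [← pow_add, two_mul]
      obtain ⟨S, hS, hS2, -, hSc⟩ := hX.exists_two_group (k := 2 * r) (by rw [hg, hqq])
        (by rw [hg, hqq, Nat.pow_dvd_pow_iff_le_right (by norm_num)]; omega)
      refine ⟨S, fun g hg' => (mem_inf.1 (mem_inf.1 (hS hg')).1).1, hS2, le_of_eq ?_⟩
      rw [hSc, hXc, ← hqq]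
      ring
    · obtain ⟨C0, K', P⟩ := B.exists_lambdaCfg hK hA h hX hXc hg hsub
      exact P.exists_two_group_six h2 hM hconj (hT.trans (by ring)) (hXc.trans (by ring)) (hL.card_Q.trans (by ring))
        (fun S N hS hN hn hc hb => hL.exists_flat L.hE hS hN hn hc hb)
        fun hr3 g hgQ hgE hg2 hg2Q z hz => by
          by_contra hne
          exact hL.twist_false L.hE hr3 hgQ hgE hg2 hg2Q ⟨z, hz, hne⟩
  have hdvd : 2 ^ (6 * r) ∣ Nat.card Ω - 1 := by
    refine Crit.dvd_card_pred_of_small L.hsmall hR2 (fun g hg => mem_stabilizer_iff.1 (hR hg)) ?_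
    obtain ⟨n, hn⟩ := IsPGroup.iff_card.1 hR2
    rw [hn] at hRc ⊢
    rw [← pow_mul, ← pow_succ', mul_comm r, Nat.pow_le_pow_iff_right one_lt_two] at hRc
    exact pow_dvd_pow 2 hRc
  exact h.false_of_pow_six hB hgen L.hu L.hbad L.ha L.hx L.hxa L.hE hL (by rwa [← pow_mul, mul_comm r])

end Cfsg.Agent.GoodInvol
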