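import Cfsg.Agent.Lib.GoodInvol.CaseBGamma

/-!
# The orbit on the vectors in the unitary case

`PureCfg` adds the cosets fixed by the part `K1` of the torus centralising `E`: every element fixing the coset of `u`
and centralising `E` fixes them all. So those in the orbit of `u` are an orbit of the normaliser of that
stabiliser: one, for `q` and `2 q - 1` are excluded; the torus is then semiregular and the transfer applies.
-/

set_option autoImplicit false
set_option linter.style.haveILetI false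
set_option linter.unusedSectionVars false

namespace Cfsg.Agent.GoodInvol

open Subgroup MulAction

universe u

variable {G : Type u} [Group G] [Finite G]

/-- The cosets fixed by a set of elements, as elements of `X`. -/
def fixCos (X E : Subgroup G) (K1 : Subgroup G) : Set G :=
  {y | y ∈ X ∧ ∀ k ∈ K1, y⁻¹ * (k * y * k⁻¹) ∈ E}

/-- The fixed cosets of the unitary case. -/
structure PureCfg (M X E : Subgroup G) (u : G) (K K1 : Subgroup G) (r : ℕ) : Prop where
  K_le : K ≤ xNorm M X E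
  K1_le : K1 ≤ xNorm M X E
  K_comm : ∀ k ∈ K, Commute k u
  K1_comm : ∀ k ∈ K1, Commute k u
  K1_cen : ∀ k ∈ K1, ∀ e ∈ E, Commute k e
  K_odd : Odd (Nat.card K)
  K_card : (xKer M X E).relIndex K = 2 ^ r - 1
  K_free : ∀ k ∈ K, ∀ y ∈ X, y⁻¹ * (k * y * k⁻¹) ∈ E → k ∈ xKer M X E ∨ y ∈ E ∨ u⁻¹ * y ∈ E
  K_stab : ∀ k ∈ K, ∀ y ∈ fixCos X E K1, k * y * k⁻¹ ∈ fixCos X E K1
  J_fix : ∀ g ∈ xNorm M X E, u⁻¹ * (g * u * g⁻¹) ∈ E → (∀ e ∈ E, Commute g e) →
    ∀ y ∈ fixCos X E K1, y⁻¹ * (g * y * g⁻¹) ∈ E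
  ncard_fix : (fixCos X E K1).ncard = 2 * 2 ^ r * Nat.card E
  moved : ∃ c ∈ fixCos X E K1, ¬ Commute c u

variable {M X T E : Subgroup G} {u : G}

namespace XCfg

variable (h : XCfg M X T E u)
include h

/-- The elements fixing the coset of `u` and centralising `E`. -/
theorem exists_cenStab : ∃ J : Subgroup (xNorm M X E), ∀ g : xNorm M X E, g ∈ J ↔
    u⁻¹ * ((g : G) * u * (g : G)⁻¹) ∈ E ∧ ∀ e ∈ E, Commute (g : G) e := by
  refine ⟨
    { carrier := {g | u⁻¹ * ((g : G) * u * (g : G)⁻¹) ∈ E ∧ ∀ e ∈ E, Commute (g : G) e}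
      mul_mem' := fun {g k} hg hk => ⟨?_, fun e he => (hg.2 e he).mul_left (hk.2 e he)⟩
      one_mem' := ⟨by simp, fun e _ => Commute.one_left e⟩
      inv_mem' := fun {g} hg => ⟨?_, fun e he => (hg.2 e he).inv_left⟩ }, fun g => Iff.rfl⟩
  · have h2 := (Subgroup.mem_normalizer_iff.1 (mem_inf.1 g.2).2 _).1 hk.1
    have h1 := mul_mem hg.1 h2
    rw [Subgroup.coe_mul]
    rwa [show u⁻¹ * ((g : G) * u * (g : G)⁻¹) * ((g : G) * (u⁻¹ * ((k : G) * u * (k : G)⁻¹)) * (g : G)⁻¹)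
      = u⁻¹ * ((g : G) * k * u * ((g : G) * k)⁻¹) by group] at h1
  · have h2 := (Subgroup.mem_normalizer_iff.1 (mem_inf.1 (inv_mem g.2)).2 _).1 (inv_mem hg.1)
    rw [Subgroup.coe_inv]
    rwa [show (g : G)⁻¹ * (u⁻¹ * ((g : G) * u * (g : G)⁻¹))⁻¹ * (g : G)⁻¹⁻¹
      = u⁻¹ * ((g : G)⁻¹ * u * (g : G)⁻¹⁻¹) by group] at h2

/-- The orbit of `u` meets the fixed cosets only in the coset of `u`. -/
theorem fix_eq {K K1 : Subgroup G} {r : ℕ} (hr : 2 ≤ r) (hP : PureCfg M X E u K K1 r)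
    (h4 : ¬ 4 ∣ Nat.card (xPerm M X E).range) {g : G} (hg : g ∈ xNorm M X E)
    (hgC : g * u * g⁻¹ ∈ fixCos X E K1) : u⁻¹ * (g * u * g⁻¹) ∈ E := by
  obtain ⟨J, hJ⟩ := h.exists_cenStab
  set ψ := xPerm M X E with hψ
  set v : XVec X E := QuotientGroup.mk (⟨u, h.u_X⟩ : X) with hv
  set N := Subgroup.normalizer ((J.map ψ.rangeRestrict : Subgroup ψ.range) : Set ψ.range)
  have hconjX : ∀ (a : xNorm M X E) (y : G), y ∈ X → (a : G) * y * (a : G)⁻¹ ∈ X := fun a y hy =>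
    (Subgroup.mem_normalizer_iff.1 (mem_inf.1 (mem_inf.1 a.2).1).2 y).1 hy
  have himg : ∀ a : xNorm M X E,
      ψ a v = QuotientGroup.mk (⟨(a : G) * u * (a : G)⁻¹, hconjX a u h.u_X⟩ : X) := fun a => xPerm_mk a rfl
  have hfix1 : ∀ (a : xNorm M X E) (y : X), ψ a (QuotientGroup.mk y) = QuotientGroup.mk y →
      (y : G)⁻¹ * ((a : G) * y * (a : G)⁻¹) ∈ E := fun a y e =>
    xVec_eq_iff.1 (((xPerm_mk a (z := ⟨_, hconjX a y y.2⟩) rfl).symm.trans e).symm)
  set P : Set (XVec X E) := {q | ∃ a : xNorm M X E, (a : G) * u * (a : G)⁻¹ ∈ fixCos X E K1 ∧ ψ a v = q}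
    with hPdef
  have hPv : v ∈ P := by
    refine ⟨1, ⟨by simpa using h.u_X, fun k hk => ?_⟩, by rw [map_one]; rfl⟩
    simp only [OneMemClass.coe_one, one_mul, inv_one, mul_one]
    rw [(hP.K1_comm k hk).eq, mul_inv_cancel_right, inv_mul_cancel]
    exact one_mem E
  -- those in the orbit normalise the stabiliser
  have horb : ∀ a : xNorm M X E, (a : G) * u * (a : G)⁻¹ ∈ fixCos X E K1 → ψ.rangeRestrict a ∈ N := by
    intro a ha
    have hsub : ∀ j ∈ J, a⁻¹ * j * a ∈ J := by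
      intro j hj
      obtain ⟨hj1, hj2⟩ := (hJ j).1 hj
      refine (hJ _).2 ⟨?_, fun e he => ?_⟩
      · have h1 := hP.J_fix (j : G) j.2 hj1 hj2 _ ha
        have h2 := (Subgroup.mem_normalizer_iff.1 (mem_inf.1 (inv_mem a.2)).2 _).1 h1
        simp only [Subgroup.coe_mul, Subgroup.coe_inv]
        rwa [show (a : G)⁻¹ * (((a : G) * u * (a : G)⁻¹)⁻¹ * ((j : G) * ((a : G) * u * (a : G)⁻¹) * (j : G)⁻¹))
          * (a : G)⁻¹⁻¹ = u⁻¹ * ((a : G)⁻¹ * j * a * u * ((a : G)⁻¹ * j * a)⁻¹) by group] at h2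
      · have h1 := (hj2 _ ((Subgroup.mem_normalizer_iff.1 (mem_inf.1 a.2).2 e).1 he)).eq
        simp only [Subgroup.coe_mul, Subgroup.coe_inv]
        show (a : G)⁻¹ * j * a * e = e * ((a : G)⁻¹ * j * a)
        calc (a : G)⁻¹ * j * a * e = (a : G)⁻¹ * ((j : G) * ((a : G) * e * (a : G)⁻¹)) * a := by group
          _ = (a : G)⁻¹ * ((a : G) * e * (a : G)⁻¹ * j) * a := by rw [h1]
          _ = e * ((a : G)⁻¹ * j * a) := by group
    refine (Subgroup.inv_mem_iff N).1 (Subgroup.mem_normalizer_fintype ?_)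
    rintro n ⟨j, hj, rfl⟩
    exact ⟨a⁻¹ * j * a, hsub j hj, by simp only [map_mul, map_inv, inv_inv]⟩
  have hPorb : P = MulAction.orbit N v := by
    ext q
    constructor
    · rintro ⟨a, ha, rfl⟩
      exact ⟨⟨ψ.rangeRestrict a, horb a ha⟩, rfl⟩
    · rintro ⟨⟨⟨_, a, rfl⟩, hn⟩, rfl⟩
      refine ⟨a, ⟨hconjX a u h.u_X, fun k hk => ?_⟩, rfl⟩
      let k' : xNorm M X E := ⟨k, hP.K1_le hk⟩
      have hkJ : k' ∈ J := (hJ k').2 ⟨by
        show u⁻¹ * (k * u * k⁻¹) ∈ E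
        rw [(hP.K1_comm k hk).eq, mul_inv_cancel_right, inv_mul_cancel]
        exact one_mem E, hP.K1_cen k hk⟩
      obtain ⟨j, hj, hje⟩ := (Subgroup.mem_normalizer_iff.1 (inv_mem hn) (ψ.rangeRestrict k')).1 ⟨k', hkJ, rfl⟩
      have hj1 := ((hJ j).1 hj).1
      have e0 : ψ j v = v := (xPerm_mk j (z := ⟨_, hconjX j u h.u_X⟩) rfl).trans (xVec_eq_iff.2 hj1).symm
      have e2 : ψ j = (ψ a)⁻¹ * ψ k' * ψ a := by
        have := congrArg Subtype.val hje
        simpa using this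
      have e1 : ψ k' (ψ a v) = ψ a v := by
        rw [e2, Equiv.Perm.mul_apply, Equiv.Perm.mul_apply, Equiv.Perm.inv_eq_iff_eq] at e0
        exact e0
      rw [himg a] at e1
      exact hfix1 k' _ e1
  have hdiv : P.ncard ∣ Nat.card N := by
    rw [hPorb, ← Nat.card_coe_set_eq, Nat.card_congr (MulAction.orbitEquivQuotientStabilizer N v)]
    exact Subgroup.card_quotient_dvd_card _
  have hno4 : ¬ 4 ∣ P.ncard := fun e => h4 (e.trans (hdiv.trans (Subgroup.card_subgroup_dvd_card N)))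
  -- the torus is semiregular on the others
  have hmod : 2 ^ r - 1 ∣ P.ncard - 1 := by
    have hKeq : Nat.card ((K.subgroupOf (xNorm M X E)).map ψ) = 2 ^ r - 1 := by
      have e3 : ψ.ker = (xKer M X E).subgroupOf (xNorm M X E) :=
        Subgroup.ext fun a => (mem_ker_xPerm a).trans Subgroup.mem_subgroupOf.symm
      rw [← Subgroup.relIndex_ker, e3, Subgroup.relIndex_subgroupOf hP.K_le, hP.K_card]
    set KK := (K.subgroupOf (xNorm M X E)).map ψ with hKK
    have hKv : ∀ p ∈ KK, p v = v := by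
      rintro _ ⟨k, hk, rfl⟩
      exact xPerm_mk k (show (k : G) * u * (k : G)⁻¹ = u by rw [(hP.K_comm k hk).eq, mul_inv_cancel_right])
    have hKP : ∀ p ∈ KK, ∀ q ∈ P, p q ∈ P := by
      rintro _ ⟨k, hk, rfl⟩ _ ⟨a, ha, rfl⟩
      refine ⟨k * a, ?_, by rw [map_mul]; rfl⟩
      have := hP.K_stab (k : G) hk _ ha
      rw [Subgroup.coe_mul, mul_inv_rev]
      rwa [show (k : G) * ((a : G) * u * (a : G)⁻¹) * (k : G)⁻¹
        = (k : G) * a * u * ((a : G)⁻¹ * (k : G)⁻¹) by group] at this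
    let TT := {q : XVec X E // q ∈ P ∧ q ≠ v}
    letI : MulAction KK TT :=
      { smul := fun p q => ⟨(p : Equiv.Perm (XVec X E)) q.1, hKP _ p.2 _ q.2.1,
          fun e => q.2.2 ((p : Equiv.Perm (XVec X E)).injective (e.trans (hKv _ p.2).symm))⟩
        one_smul := fun q => Subtype.ext rfl
        mul_smul := fun p p' q => Subtype.ext rfl }
    have hfree := BlockFix.card_dvd_of_free (K := KK) (T := TT) fun p q e => by
      obtain ⟨k, hk, hkp⟩ := p.2
      obtain ⟨a, -, hav⟩ := q.2.1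
      have e1 : ψ k (q : XVec X E) = q := by rw [hkp]; exact congrArg Subtype.val e
      rw [← hav, himg a] at e1
      refine Subtype.ext ?_
      rcases hP.K_free (k : G) hk _ (hconjX a u h.u_X) (hfix1 k _ e1) with h1 | h1 | h1
      · rw [← hkp]; exact (mem_ker_xPerm k).2 h1
      · exact absurd ((Subgroup.mem_normalizer_iff.1 (mem_inf.1 a.2).2 u).2 h1) h.u_notin
      · exact absurd ((himg a).trans (xVec_eq_iff.2 h1).symm) (hav.symm ▸ q.2.2)
    have hTT : Nat.card TT = P.ncard - 1 := by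
      rw [← Set.ncard_sdiff_singleton_of_mem hPv, ← Nat.card_coe_set_eq]; rfl
    rw [hTT, hKeq] at hfree
    exact hfree
  -- the fixed cosets
  set Cs : Set (XVec X E) := QuotientGroup.mk '' {y : X | (y : G) ∈ fixCos X E K1} with hCs
  have hCcard : Cs.ncard ≤ 2 * 2 ^ r := by
    have h1 : Cs.ncard * Nat.card E ≤ (fixCos X E K1).ncard := by
      have hmem : ∀ (y : X) (e : G), (y : G) ∈ fixCos X E K1 → e ∈ E → (y : G) * e ∈ fixCos X E K1 := by
        intro y e hy he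
        refine ⟨mul_mem y.2 (h.E_le_X he), fun k hk => ?_⟩
        have h2 := hy.2 k hk
        rw [show ((y : G) * e)⁻¹ * (k * ((y : G) * e) * k⁻¹)
          = e⁻¹ * ((y : G)⁻¹ * (k * (y : G) * k⁻¹)) * (k * e * k⁻¹) by group,
          (hP.K1_cen k hk e he).eq, mul_inv_cancel_right]
        exact mul_mem (mul_mem (inv_mem he) h2) he
      choose f hf1 hf2 using fun c : Cs => c.2
      have hinj : Function.Injective fun p : Cs × E =>
          (⟨(f p.1 : G) * (p.2 : G), hmem (f p.1) _ (hf1 p.1) p.2.2⟩ : {x // x ∈ fixCos X E K1}) := by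
        rintro ⟨c, e⟩ ⟨c', e'⟩ he
        have he' : (f c : G) * e = (f c' : G) * e' := congrArg Subtype.val he
        have hc : c = c' := Subtype.ext (by
          rw [← hf2 c, ← hf2 c']
          refine xVec_eq_iff.2 ?_
          have : (f c : G)⁻¹ * (f c' : G) = (e : G) * (e' : G)⁻¹ := by
            rw [eq_mul_inv_iff_mul_eq, mul_assoc, ← he', inv_mul_cancel_left]
          rw [this]
          exact mul_mem e.2 (inv_mem e'.2))
        subst hc
        rw [Subtype.ext (mul_right_inj (f c : G) |>.1 he')]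
      have := Nat.card_le_card_of_injective _ hinj
      rwa [Nat.card_prod, Nat.card_coe_set_eq, Nat.card_coe_set_eq] at this
    rw [hP.ncard_fix] at h1
    exact Nat.le_of_mul_le_mul_right h1 Nat.card_pos
  have hone : (QuotientGroup.mk (1 : X) : XVec X E) ∈ Cs := ⟨1, ⟨one_mem X, fun k _ => by simp⟩, rfl⟩
  have hPsub : P ⊆ Cs \ {QuotientGroup.mk (1 : X)} := by
    rintro _ ⟨a, ha, rfl⟩
    refine ⟨⟨⟨_, hconjX a u h.u_X⟩, ha, (himg a).symm⟩, fun e => h.u_notin ?_⟩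
    have h1 := xVec_eq_iff.1 ((himg a).symm.trans (Set.mem_singleton_iff.1 e))
    rw [OneMemClass.coe_one, mul_one] at h1
    exact (Subgroup.mem_normalizer_iff.1 (mem_inf.1 a.2).2 u).2 (inv_mem_iff.1 h1)
  have hPle : P.ncard ≤ Cs.ncard - 1 :=
    (Set.ncard_le_ncard hPsub (Set.toFinite _)).trans (Set.ncard_sdiff_singleton_of_mem hone).le
  have hPpos : 0 < P.ncard := (Set.ncard_pos (Set.toFinite P)).2 ⟨v, hPv⟩
  have hq4 : 4 ∣ 2 ^ r := Dvd.intro_left (2 ^ (r - 2)) (Nat.pow_sub_mul_pow 2 hr)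
  have hq : 4 ≤ 2 ^ r := Nat.le_of_dvd (Nat.two_pow_pos r) hq4
  obtain ⟨j, hj⟩ := hmod
  have hj2 : j ≤ 2 := by
    by_contra hj3
    have := Nat.mul_le_mul_left (2 ^ r - 1) (not_le.1 hj3)
    omega
  rcases (show j = 0 ∨ j = 1 ∨ j = 2 by omega) with rfl | rfl | rfl
  · obtain ⟨p, hp⟩ := Set.ncard_eq_one.1 (show P.ncard = 1 by omega)
    have e1 : ψ ⟨g, hg⟩ v ∈ P := ⟨⟨g, hg⟩, hgC, rfl⟩
    have e2 := hPv
    rw [hp, Set.mem_singleton_iff] at e1 e2
    exact xVec_eq_iff.1 ((himg ⟨g, hg⟩).symm.trans (e1.trans e2.symm)).symm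
  · exact absurd (show P.ncard = 2 ^ r by omega) fun e => hno4 (e.symm ▸ hq4)
  · -- every fixed coset outside `E` holds an involution
    exfalso
    have heq : P = Cs \ {QuotientGroup.mk (1 : X)} := Set.eq_of_subset_of_ncard_le hPsub
      (by rw [Set.ncard_sdiff_singleton_of_mem hone]; omega) (Set.toFinite _)
    obtain ⟨c, hc, hcu⟩ := hP.moved
    have hu2 : u * u = 1 := by rw [← pow_two, ← h.ou, pow_orderOf_eq_one]
    have hsq : ∀ y ∈ fixCos X E K1, y * y = 1 := by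
      intro y hy
      by_cases hyE : y ∈ E
      · exact h.E_sq y hyE
      have h1 : (QuotientGroup.mk (⟨y, hy.1⟩ : X) : XVec X E) ∈ P := by
        rw [heq]
        refine ⟨⟨⟨y, hy.1⟩, hy, rfl⟩, fun e => hyE ?_⟩
        have := xVec_eq_iff.1 (Set.mem_singleton_iff.1 e)
        rw [OneMemClass.coe_one, mul_one] at this
        exact inv_mem_iff.1 this
      obtain ⟨a, -, ha⟩ := h1
      have h2 : ((a : G) * u * (a : G)⁻¹)⁻¹ * y ∈ E := xVec_eq_iff.1 ((himg a).symm.trans ha)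
      set w := (a : G) * u * (a : G)⁻¹ with hwdef
      have hw : w * w = 1 := by
        calc w * w = (a : G) * (u * u) * (a : G)⁻¹ := by simp only [hwdef]; group
          _ = 1 := by rw [hu2, mul_one, mul_inv_cancel]
      have hwe := h.E_cen _ h2 w (hconjX a u h.u_X)
      calc y * y = w * ((w⁻¹ * y) * w) * (w⁻¹ * y) := by group
        _ = w * w * ((w⁻¹ * y) * (w⁻¹ * y)) := by rw [hwe.eq]; group
        _ = 1 := by rw [hw, h.E_sq _ h2, one_mul]
    have hcuC : c * u ∈ fixCos X E K1 := ⟨mul_mem hc.1 h.u_X, fun k hk => by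
      have e : (c * u)⁻¹ * (k * (c * u) * k⁻¹) = u⁻¹ * (c⁻¹ * (k * c * k⁻¹)) * (k * u * k⁻¹) := by group
      rw [e, (hP.K1_comm k hk).eq, mul_inv_cancel_right, mul_assoc,
        (h.E_cen _ (hc.2 k hk) u h.u_X).eq, inv_mul_cancel_left]
      exact hc.2 k hk⟩
    apply hcu
    show c * u = u * c
    calc c * u = u * u * (c * u) * (c * c) := by rw [hu2, hsq c hc, one_mul, mul_one]
      _ = u * (u * c * u * c) * c := by group
      _ = u * c := by
        have h5 := hsq (c * u) hcuC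
        have : u * c * u * c = 1 := by
          calc u * c * u * c = u * (c * u * (c * u)) * u⁻¹ := by group
            _ = 1 := by rw [h5, mul_one, mul_inv_cancel]
        rw [this, mul_one]

/-- The unitary configuration: when four does not divide the two-part of the normaliser on the cosets, the
orbit of `u` stays in its coset and transfer gives a contradiction. -/
theorem false_of_unitary_four (h2 : ∀ H : Subgroup G, H.index ≠ 2) (hM : ¬ 2 ∣ M.index)
    (hconj : ∀ v ∈ M, IsConj u v → ∃ g ∈ M, g * u * g⁻¹ = v) {r g3 : ℕ} (hr : 2 ≤ r) (hg3 : g3 = 1 ∨ g3 = 3)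
    (hg3r : g3 = 3 → 3 ≤ r) (hE : Nat.card E = 2 ^ r) (hT : Nat.card T = 2 * 2 ^ r * 2 ^ r * 2 ^ r)
    (hX : Nat.card X = 2 * 2 ^ r * 2 ^ r * 2 ^ r * 2 ^ r)
    (h4 : ¬ 4 ∣ Nat.card (xPerm M X E).range)
    {K K1 K0 : Subgroup G} (hP : PureCfg M X E u K K1 r) (hK0 : K0 ≤ xNorm M X E) (hK0odd : Odd (Nat.card K0))
    (hK0u : ∀ k ∈ K0, Commute k u) {m : ℕ} (hm : (xKer M X E).relIndex K0 = m)
    (hm0 : g3 * m + 1 = 2 ^ r * 2 ^ r)
    (hfree : ∀ k ∈ K0, ∀ y ∈ X, y⁻¹ * (k * y * k⁻¹) ∈ E → k ∈ xKer M X E ∨ y ∈ fixCos X E K1) : False := by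
  obtain ⟨M0, hM0, hcard, hE0, hu0⟩ := h.exists_half
  refine h.false_of_transfer h2 hM hconj ?_ hM0 hcard hE0 hu0
  refine h.gamma_of_semiregular h4 hK0 hK0odd hK0u hm (fun k hk g hg e => ?_)
    (n := 2 * 2 ^ r * 2 ^ r * 2 ^ r) (t := 2 * 2 ^ r * 2 ^ r) (by rw [hX, hE]) (by rw [hT, hE]) ?_ ?_
  · rcases hfree k hk _ ((Subgroup.mem_normalizer_iff.1 (mem_inf.1 (mem_inf.1 hg).1).2 _).1 h.u_X) e with h1 | h1
    · exact Or.inl h1
    · exact Or.inr (h.fix_eq hr hP h4 hg h1)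
  · set q := 2 ^ r
    have hq4 : 4 ≤ q := (Nat.pow_le_pow_right two_pos hr : 2 ^ 2 ≤ 2 ^ r)
    rcases hg3 with rfl | rfl
    · rw [show (1 + m) = q * q by omega]
      nlinarith [Nat.mul_le_mul_left (q * q * q) hq4]
    · have h8 : 8 ≤ q := (Nat.pow_le_pow_right two_pos (hg3r rfl) : 2 ^ 3 ≤ 2 ^ r)
      nlinarith [Nat.mul_le_mul_left (q * q * q) h8]
  · left
    rw [show 2 * 2 ^ r * 2 ^ r * 2 ^ r = 2 ^ (3 * r + 1) by ring]
    refine Nat.pow_lt_pow_right one_lt_two ?_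
    rw [← pow_add, ← two_mul] at hm0
    rcases hg3 with rfl | rfl
    · have : ∀ s, 2 ≤ s → 3 * s + 3 < 2 ^ (2 * s) := by
        intro s hs
        induction s, hs using Nat.le_induction with
        | base => norm_num
        | succ s _ ih => rw [show 2 * (s + 1) = 2 * s + 2 by ring, pow_add]; omega
      have := this r hr
      omega
    · have : ∀ s, 3 ≤ s → 9 * s + 5 < 2 ^ (2 * s) := by
        intro s hs
        induction s, hs using Nat.le_induction with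
        | base => norm_num
        | succ s _ ih => rw [show 2 * (s + 1) = 2 * s + 2 by ring, pow_add]; omega
      have := this r (hg3r rfl)
      omega

/-- The unitary configuration: with a bound on the two-subgroups, the orbit of `u` stays in its coset and
transfer gives a contradiction. -/
theorem false_of_unitary (h2 : ∀ H : Subgroup G, H.index ≠ 2) (hM : ¬ 2 ∣ M.index)
    (hconj : ∀ v ∈ M, IsConj u v → ∃ g ∈ M, g * u * g⁻¹ = v) {r g3 : ℕ} (hr : 2 ≤ r) (hg3 : g3 = 1 ∨ g3 = 3)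
    (hg3r : g3 = 3 → 3 ≤ r) (hE : Nat.card E = 2 ^ r) (hT : Nat.card T = 2 * 2 ^ r * 2 ^ r * 2 ^ r)
    (hX : Nat.card X = 2 * 2 ^ r * 2 ^ r * 2 ^ r * 2 ^ r)
    (hbound : ∀ S : Subgroup G, S ≤ M → IsPGroup 2 S → Nat.card S ≤ 2 * Nat.card X)
    {K K1 K0 : Subgroup G} (hP : PureCfg M X E u K K1 r) (hK0 : K0 ≤ xNorm M X E) (hK0odd : Odd (Nat.card K0))
    (hK0u : ∀ k ∈ K0, Commute k u) {m : ℕ} (hm : (xKer M X E).relIndex K0 = m)
    (hm0 : g3 * m + 1 = 2 ^ r * 2 ^ r)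
    (hfree : ∀ k ∈ K0, ∀ y ∈ X, y⁻¹ * (k * y * k⁻¹) ∈ E → k ∈ xKer M X E ∨ y ∈ fixCos X E K1) : False :=
  h.false_of_unitary_four h2 hM hconj hr hg3 hg3r hE hT hX (h.not_four hbound) hP hK0 hK0odd hK0u hm hm0 hfree

end XCfg

end Cfsg.Agent.GoodInvol
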