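import Cfsg.Agent.Lib.GoodInvol.CaseBBase
import Mathlib.GroupTheory.Nilpotent

/-!
# An involution without companion, unitary type: the two-subgroup

The centraliser of an element of `T` outside the involutions is abelian of order `2 q²`. Hence the polar form is
non-degenerate, the automorphisms centralising `E` that come from translations fix the classes of `T` modulo its
involutions, and there are translations of `u E` also for eight elements.
-/

set_option autoImplicit false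
set_option linter.style.haveILetI false
set_option linter.unusedSectionVars false

namespace Cfsg.Agent.GoodInvol

open Subgroup MulAction

universe u

variable {G : Type u} [Group G] [Finite G] {Ω : Type u} [MulAction G Ω] [Finite Ω] [FaithfulSMul G Ω] {D : Set G}

/-- `g` fixes the classes of `T` modulo the involutions. -/
def FixCls (T : Subgroup G) (g : G) : Prop :=
  ∀ t ∈ T, t⁻¹ * (g * t * g⁻¹) * (t⁻¹ * (g * t * g⁻¹)) = 1

namespace BaseCfg

variable {u : G} {a x : Ω} {T : Sylow 2 (ptC u a)} {E Q K K1 : Subgroup G} {r : ℕ}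
  (B : BaseCfg D u a x T E Q K K1 r 3)
include B

theorem four_le : 4 ≤ 2 ^ r := (Nat.pow_le_pow_right two_pos B.hL.two_le : 2 ^ 2 ≤ 2 ^ r)

/-- An involution of `T` is central. -/
theorem om_cen {w : G} (hw : w ∈ tSub T) (hw1 : w * w = 1) {t : G} (ht : t ∈ tSub T) : Commute w t := by
  rcases B.inv_T hw hw1 with h1 | h1
  · exact (B.cen_E ht h1).symm
  · rw [show w = u * (u⁻¹ * w) from (mul_inv_cancel_left u w).symm]
    exact (B.mem_u ht).symm.mul_left (B.cen_E ht h1).symm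

theorem sq_mul {w w' : G} (hw : w ∈ tSub T) (hw1 : w * w = 1) (hw' : w' ∈ tSub T) (hw1' : w' * w' = 1) :
    w * w' * (w * w') = 1 := by
  rw [(B.om_cen hw' hw1' hw).mul_mul_mul_comm, hw1, hw1', one_mul]

theorem comm_T {s t : G} (hs : s ∈ tSub T) (ht : t ∈ tSub T) : s * t * s⁻¹ * t⁻¹ ∈ E := by
  have h1 := B.sq_T (mul_mem hs ht)
  have h2 := B.sq_T hs
  have h3 := B.sq_T ht
  rw [show s * t * s⁻¹ * t⁻¹ = (s * t * (s * t)) * (t * t)⁻¹ * (t * (s * s)⁻¹ * t⁻¹) by group,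
    (B.cen_E ht (inv_mem h2)).eq, mul_inv_cancel_right]
  exact mul_mem (mul_mem h1 (inv_mem h3)) (inv_mem h2)

theorem root_comm {t y s : G} (hy : t = y ∨ t = u * y) (hs : s ∈ tSub T) : Commute t s ↔ Commute y s := by
  rcases hy with rfl | rfl
  · exact Iff.rfl
  refine ⟨fun h => ?_, fun h => (B.mem_u hs).symm.mul_left h⟩
  rw [show y = u⁻¹ * (u * y) from (inv_mul_cancel_left u y).symm]
  exact (B.mem_u hs).symm.inv_left.mul_left h

theorem exists_root3 {t : G} (ht : t ∈ tSub T) (ht1 : t * t ≠ 1) :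
    ∃ y ∈ Q, y ∉ E ∧ (t = y ∨ t = u * y) := by
  obtain ⟨y, hy, hty, hsq⟩ := B.exists_root ht
  exact ⟨y, hy, fun hyE => ht1 (hsq.trans (B.hE.sq y hyE)), hty⟩

theorem noncomm {t : G} (ht : t ∈ tSub T) (ht1 : t * t ≠ 1) : ∃ s ∈ tSub T, ¬ Commute t s := by
  obtain ⟨y, hy, hyE, hty⟩ := B.exists_root3 ht ht1
  obtain ⟨⟨z, hz, hyz⟩, -⟩ := B.hL.comm3 rfl y hy hyE
  exact ⟨z, B.hL.Q_le hz, fun h => hyz ((B.root_comm hty (B.hL.Q_le hz)).1 h)⟩

/-- The centraliser in `T` of an element outside the involutions is abelian. -/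
theorem comm_trans {t s w : G} (ht : t ∈ tSub T) (hs : s ∈ tSub T) (hw : w ∈ tSub T) (ht1 : t * t ≠ 1)
    (h1 : Commute t s) (h2 : Commute t w) : Commute s w := by
  obtain ⟨y, hy, hyE, hty⟩ := B.exists_root3 ht ht1
  obtain ⟨z, hz, hsz, -⟩ := B.exists_root hs
  obtain ⟨v, hv, hwv, -⟩ := B.exists_root hw
  have hyT := B.hL.Q_le hy
  have hzT := B.hL.Q_le hz
  refine (B.root_comm hsz hw).2 ((B.root_comm hwv hzT).2 ?_).symm
  refine ((B.hL.comm3 rfl y hy hyE).2 z hz v hv ?_ ?_).symm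
  · exact ((B.root_comm hsz hyT).1 ((B.root_comm hty hs).1 h1).symm).symm
  · exact ((B.root_comm hwv hyT).1 ((B.root_comm hty hw).1 h2).symm).symm

/-- The involutions of `T`. -/
theorem exists_om : ∃ O : Subgroup (tSub T), (∀ w, w ∈ O ↔ (w : G) * w = 1) ∧ Nat.card O = 2 * 2 ^ r := by
  classical
  refine ⟨
    { carrier := {w | (w : G) * w = 1}
      one_mem' := one_mul 1
      mul_mem' := fun {v w} hv hw => B.sq_mul v.2 hv w.2 hw
      inv_mem' := fun {w} hw => by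
        show (w : G)⁻¹ * (w : G)⁻¹ = 1
        rw [← mul_inv_rev, show (w : G) * w = 1 from hw, inv_one] }, fun w => Iff.rfl, ?_⟩
  have himg : ((fun w : tSub T => (w : G)) '' {w | (w : G) * w = 1}) =
      (E : Set G) ∪ (fun f => u * f) '' (E : Set G) := by
    ext w
    constructor
    · rintro ⟨w, hw, rfl⟩
      rcases B.inv_T w.2 hw with h1 | h1
      · exact Or.inl h1
      · exact Or.inr ⟨_, h1, mul_inv_cancel_left _ _⟩
    · rintro (hw | ⟨f, hf, rfl⟩)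
      · exact ⟨⟨w, B.hE.le hw⟩, B.hE.sq w hw, rfl⟩
      · refine ⟨⟨u * f, mul_mem B.u_mem (B.hE.le hf)⟩, ?_, rfl⟩
        show u * f * (u * f) = 1
        rw [(B.cen_E B.u_mem hf).symm.mul_mul_mul_comm, Invol.mul_self B.hu, B.hE.sq f hf, one_mul]
  show Nat.card ({w : tSub T | (w : G) * w = 1} : Set (tSub T)) = _
  rw [Nat.card_coe_set_eq, ← Set.ncard_image_of_injective _ Subtype.coe_injective, himg,
    Set.ncard_union_eq (Set.disjoint_left.2 ?_) (Set.toFinite _) (Set.toFinite _),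
    Set.ncard_image_of_injective _ (mul_right_injective u), ← Nat.card_coe_set_eq,
    show Nat.card (E : Set G) = 2 ^ r from B.hL.card_eset, two_mul]
  rintro _ hw ⟨f, hf, rfl⟩
  exact B.u_notMem (B.hL.eset_le ((E.mul_mem_cancel_right hf).1 hw))

/-- The commutators with `t`. -/
def commHom {t : G} (ht : t ∈ tSub T) : tSub T →* E :=
  MonoidHom.mk' (fun s => ⟨(s : G) * t * (s : G)⁻¹ * t⁻¹, B.comm_T s.2 ht⟩) fun v w => Subtype.ext (by
    show (v : G) * w * t * ((v : G) * w)⁻¹ * t⁻¹ =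
      ((v : G) * t * (v : G)⁻¹ * t⁻¹) * ((w : G) * t * (w : G)⁻¹ * t⁻¹)
    have hm := B.comm_T w.2 ht
    rw [show (v : G) * w * t * ((v : G) * w)⁻¹ * t⁻¹ =
        (v : G) * ((w : G) * t * (w : G)⁻¹ * t⁻¹) * (t * (v : G)⁻¹ * t⁻¹) by group,
      (B.cen_E v.2 hm).eq, mul_assoc ((w : G) * t * (w : G)⁻¹ * t⁻¹) (v : G),
      show (v : G) * (t * (v : G)⁻¹ * t⁻¹) = (v : G) * t * (v : G)⁻¹ * t⁻¹ by group]
    exact (B.hE.comm _ hm _ (B.comm_T v.2 ht)).eq)

theorem commHom_coe {t : G} (ht : t ∈ tSub T) (s : tSub T) :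
    (B.commHom ht s : G) = (s : G) * t * (s : G)⁻¹ * t⁻¹ := rfl

theorem mem_ker_commHom {t : G} (ht : t ∈ tSub T) (s : tSub T) :
    s ∈ (B.commHom ht).ker ↔ Commute (s : G) t := by
  rw [MonoidHom.mem_ker, Subtype.ext_iff, B.commHom_coe, OneMemClass.coe_one, mul_inv_eq_one,
    mul_inv_eq_iff_eq_mul]
  exact Iff.rfl

theorem index_commHom {t : G} (ht : t ∈ tSub T) : (B.commHom ht).ker.index ≤ 2 ^ r := by
  rw [Subgroup.index_ker, ← B.hL.card_eset]
  exact Subgroup.card_le_card_group _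

/-- The centraliser in `T` of an element outside the involutions has order `2 q²` and index `q`. -/
theorem card_cen {t : G} (ht : t ∈ tSub T) (ht1 : t * t ≠ 1) :
    (B.commHom ht).ker.index = 2 ^ r ∧ Nat.card (B.commHom ht).ker = 2 * 2 ^ r * 2 ^ r := by
  obtain ⟨s, hs, hts⟩ := B.noncomm ht ht1
  have hs1 : s * s ≠ 1 := fun e => hts (B.om_cen hs e ht).symm
  obtain ⟨O, hO, hOc⟩ := B.exists_om
  have hle : (B.commHom ht).ker ⊓ (B.commHom hs).ker ≤ O := fun w hw => by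
    rw [hO]
    by_contra hw1
    exact hts (B.comm_trans w.2 ht hs hw1 ((B.mem_ker_commHom ht w).1 hw.1) ((B.mem_ker_commHom hs w).1 hw.2))
  have h1 := Subgroup.card_mul_index ((B.commHom ht).ker ⊓ (B.commHom hs).ker)
  have h2 := hOc ▸ Subgroup.card_le_of_le hle
  have h3 : ((B.commHom ht).ker ⊓ (B.commHom hs).ker).index ≤ _ * _ := Subgroup.index_inf_le
  have h4 := B.index_commHom ht
  have h5 := B.index_commHom hs
  have h6 : (B.commHom ht).ker.index = 2 ^ r := by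
    refine le_antisymm h4 ?_
    rw [B.card_T] at h1
    have hq := Nat.two_pow_pos r
    have h7 : 2 * 2 ^ (3 * r) ≤ 2 * 2 ^ r * ((B.commHom ht).ker.index * 2 ^ r) := by
      rw [← h1]; exact Nat.mul_le_mul h2 (h3.trans (Nat.mul_le_mul_left _ h5))
    rw [show 2 ^ (3 * r) = 2 ^ r * 2 ^ r * 2 ^ r by rw [← pow_add, ← pow_add]; ring_nf] at h7
    exact Nat.le_of_mul_le_mul_right (c := 2 * 2 ^ r * 2 ^ r) (by linarith) (by positivity)
  refine ⟨h6, Nat.eq_of_mul_eq_mul_right (Nat.two_pow_pos r) ?_⟩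
  have h8 := Subgroup.card_mul_index (B.commHom ht).ker
  rw [h6, B.card_T] at h8
  rw [h8, mul_assoc, mul_assoc, ← pow_add, ← pow_add]
  ring_nf

/-- The polar form is non-degenerate. -/
theorem hpolar3 : ∀ y ∈ Q, ∀ c ∈ E, (∀ z ∈ Q, z * y * z⁻¹ * y⁻¹ = 1 ∨ z * y * z⁻¹ * y⁻¹ = c) → y ∈ E := by
  intro y hy c hc hval
  by_contra hyE
  have hyT := B.hL.Q_le hy
  have hy1 : y * y ≠ 1 := fun e => hyE (B.hL.mem_eset y hy e)
  have hsub : ((B.commHom hyT).range : Set E) ⊆ {1, ⟨c, hc⟩} := by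
    rintro _ ⟨⟨t, ht⟩, rfl⟩
    obtain ⟨z, hz, htz, -⟩ := B.exists_root ht
    have h1 : t * y * t⁻¹ * y⁻¹ = z * y * z⁻¹ * y⁻¹ := by
      rcases htz with rfl | rfl
      · rfl
      · have hc' : Commute u (z * y * z⁻¹) :=
          (B.mem_u (mul_mem (mul_mem (B.hL.Q_le hz) hyT) (inv_mem (B.hL.Q_le hz)))).symm
        rw [show u * z * y * (u * z)⁻¹ = u * (z * y * z⁻¹) * u⁻¹ by group, hc'.eq, mul_inv_cancel_right]
    rcases hval z hz with h2 | h2
    · exact Or.inl (Subtype.ext (h1.trans h2))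
    · exact Or.inr (Subtype.ext (h1.trans h2))
  have h2 : Nat.card (B.commHom hyT).range ≤ 2 := by
    rw [← SetLike.coe_sort_coe, Nat.card_coe_set_eq]
    exact (Set.ncard_le_ncard hsub (Set.toFinite _)).trans
      ((Set.ncard_insert_le _ _).trans (by rw [Set.ncard_singleton]))
  have h3 := (B.card_cen hyT hy1).1
  rw [Subgroup.index_ker] at h3
  have := B.four_le
  omega

/-- A 2-element at `a` commuting with `u` and normalising `T` is in `T`. -/
theorem mem_T_of_two {d : G} (hd : d • a = a) (hdu : Commute d u) (hdT : d ∈ normalizer (tSub T : Set G))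
    (h2 : ∃ k, orderOf d = 2 ^ k) : d ∈ tSub T := by
  haveI : Fact (Nat.Prime 2) := ⟨Nat.prime_two⟩
  obtain ⟨n, hn⟩ := h2
  have hZ : IsPGroup 2 (zpowers d) := IsPGroup.of_card (n := n) (by rw [Nat.card_zpowers, hn])
  have hP := IsPGroup.to_sup_of_normal_left' B.tSub_two hZ (zpowers_le.2 hdT)
  have hle : tSub T ⊔ zpowers d ≤ ptC u a :=
    sup_le B.tSub_le (zpowers_le.2 (mem_ptC.2 ⟨hdu, hd⟩))
  have h1 := B.eq_tSub (R := tSub T ⊔ zpowers d) (fun y hy => mem_stabilizer_iff.2 (mem_ptC.1 (hle hy)).2) hP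
    (fun y hy => (mem_ptC.1 (hle hy)).1) le_sup_left
  exact h1 ▸ mem_sup_right (mem_zpowers d)

theorem commute_K {k : G} (hk : k ∈ K ⊔ K1) : Commute k u :=
  commute_of_genC (sup_le B.hL.K_le B.hL.K1_le hk)

theorem fix_K {k : G} (hk : k ∈ K ⊔ K1) : k • a = a :=
  mem_stabilizer_iff.1 ((sup_le (fun g hg => mem_stabilizer_iff.2 (B.hL.K_fix g hg).1)
    (fun g hg => mem_stabilizer_iff.2 (B.hL.K1_fix g hg).1) : K ⊔ K1 ≤ stabilizer G a) hk)

theorem K_normT {k : G} (hk : k ∈ K ⊔ K1) : k ∈ normalizer (tSub T : Set G) := by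
  refine Subgroup.mem_normalizer_fintype fun t ht => ?_
  obtain ⟨y, hy, hty, -⟩ := B.exists_root ht
  have h1 := B.hL.Q_le ((B.hL.K_normQ k hk y).2 hy)
  rcases hty with rfl | rfl
  · exact h1
  · rw [SetLike.mem_coe, show k * (u * y) * k⁻¹ = (k * u * k⁻¹) * (k * y * k⁻¹) by group, (B.commute_K hk).eq,
      mul_inv_cancel_right]
    exact mul_mem B.u_mem h1

/-- The elements normalising `T` and fixing its classes modulo the involutions. -/
theorem exists_cls : ∃ R : Subgroup G, (∀ g, g ∈ R ↔ g ∈ normalizer (tSub T : Set G) ∧ FixCls (tSub T) g) ∧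
    tSub T ≤ R ∧ ∀ n ∈ normalizer (tSub T : Set G), ∀ g ∈ R, n * g * n⁻¹ ∈ R := by
  have hmem : ∀ g : G, g ∈ normalizer (tSub T : Set G) → ∀ t ∈ tSub T, g * t * g⁻¹ ∈ tSub T :=
    fun g hg t ht => (mem_normalizer_iff.1 hg t).1 ht
  have hconj : ∀ g : G, g ∈ normalizer (tSub T : Set G) → ∀ w : G, w * w = 1 → g * w * g⁻¹ * (g * w * g⁻¹) = 1 :=
    fun g _ w hw => by rw [show g * w * g⁻¹ * (g * w * g⁻¹) = g * (w * w) * g⁻¹ by group, hw]; group
  let R : Subgroup G :=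
    { carrier := {g | g ∈ normalizer (tSub T : Set G) ∧ FixCls (tSub T) g}
      one_mem' := ⟨one_mem _, fun t _ => by group⟩
      mul_mem' := by
        rintro g k ⟨hg, hg'⟩ ⟨hk, hk'⟩
        refine ⟨mul_mem hg hk, fun t ht => ?_⟩
        rw [show t⁻¹ * (g * k * t * (g * k)⁻¹) =
          (t⁻¹ * (g * t * g⁻¹)) * (g * (t⁻¹ * (k * t * k⁻¹)) * g⁻¹) by group]
        exact B.sq_mul (mul_mem (inv_mem ht) (hmem g hg t ht)) (hg' t ht)
          (hmem g hg _ (mul_mem (inv_mem ht) (hmem k hk t ht))) (hconj g hg _ (hk' t ht))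
      inv_mem' := by
        rintro g ⟨hg, hg'⟩
        refine ⟨inv_mem hg, fun t ht => ?_⟩
        set t' := g⁻¹ * t * g with ht'd
        have ht' : t' ∈ tSub T := by simpa using hmem _ (inv_mem hg) t ht
        rw [show t⁻¹ * (g⁻¹ * t * g⁻¹⁻¹) = (t'⁻¹ * (g * t' * g⁻¹))⁻¹ by rw [ht'd]; group,
          ← mul_inv_rev, hg' t' ht', inv_one] }
  refine ⟨R, fun g => Iff.rfl, fun t ht => ⟨?_, fun s hs => ?_⟩, ?_⟩
  · exact (Subgroup.le_normalizer : tSub T ≤ normalizer (tSub T : Set G)) ht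
  · have h1 := B.comm_T (inv_mem hs) ht
    rw [inv_inv] at h1
    rw [show s⁻¹ * (t * s * t⁻¹) = s⁻¹ * t * s * t⁻¹ by group]
    exact B.hE.sq _ h1
  · rintro n hn g ⟨hg, hg'⟩
    refine ⟨mul_mem (mul_mem hn hg) (inv_mem hn), fun t ht => ?_⟩
    set t' := n⁻¹ * t * n with ht'd
    have ht' : t' ∈ tSub T := by simpa using hmem _ (inv_mem hn) t ht
    rw [show t⁻¹ * (n * g * n⁻¹ * t * (n * g * n⁻¹)⁻¹) = n * (t'⁻¹ * (g * t' * g⁻¹)) * n⁻¹ by rw [ht'd]; group]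
    exact hconj n hn _ (hg' t' ht')

theorem exists_outside : ∃ y ∈ Q, y ∉ E := by
  by_contra! hle
  have h1 := Subgroup.card_le_of_le (show Q ≤ E from hle)
  rw [B.hL.card_Q, B.hL.card_eset] at h1
  have := (Nat.pow_le_pow_iff_right (le_refl 2)).1 h1
  have := B.hL.two_le
  omega

set_option maxHeartbeats 1000000 in
/-- The 2-subgroup with translations fixes the classes of `T` modulo its involutions. -/
theorem hcentV3 (S : Sylow 2 (cSub u a E)) (hTX : tSub T ≤ xSub S)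
    (hn : ∀ c ∈ xSub S, ∀ t ∈ tSub T, c * t * c⁻¹ ∈ tSub T)
    (htr : ∀ f ∈ E, ∃ c ∈ xSub S, c * u * c⁻¹ = u * f) :
    ∀ g ∈ xSub S, ∀ t ∈ tSub T, t⁻¹ * (g * t * g⁻¹) ∈ E ∨ u⁻¹ * (t⁻¹ * (g * t * g⁻¹)) ∈ E := by
  classical
  haveI : Fact (Nat.Prime 2) := ⟨Nat.prime_two⟩
  set X := xSub S with hX
  have hXC : X ≤ cSub u a E := map_subtype_le _
  have hXa : X ≤ stabilizer G a := fun y hy => (hXC hy).1.2
  have hXE : ∀ z ∈ E, ∀ y ∈ X, Commute z y := fun z hz y hy => mem_centralizer_iff.1 (hXC hy).2 z hz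
  have hX2 : IsPGroup 2 X := S.2.map _
  have hNX : ∀ c ∈ X, c ∈ normalizer (tSub T : Set G) := fun c hc => Subgroup.mem_normalizer_fintype (hn c hc)
  have hXu : ∀ c ∈ X, Commute c u → c ∈ tSub T := by
    have e1 := B.eq_tSub (R := X ⊓ centralizer ({u} : Set G)) (inf_le_left.trans hXa) (hX2.to_le inf_le_left)
      (fun y hy => mem_centralizer_singleton_iff.1 hy.2)
      fun t ht => ⟨hTX ht, mem_centralizer_singleton_iff.2 (B.mem_u ht).eq⟩
    exact fun c hc hcu => e1 ▸ ⟨hc, mem_centralizer_singleton_iff.2 hcu.eq⟩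
  obtain ⟨R, hR, hTR, hRconj⟩ := B.exists_cls
  intro g hg t ht
  refine B.inv_T (mul_mem (inv_mem ht) (hn g hg t ht)) ?_
  suffices hgR : ∀ g ∈ X, g ∈ R from ((hR g).1 (hgR g hg)).2 t ht
  clear hg ht g t
  by_contra! hcon
  obtain ⟨g0, hg0, hg0R⟩ := hcon
  have hg02 : g0 * g0 ∈ tSub T := by
    obtain ⟨f, hf, hf'⟩ : ∃ f ∈ E, g0 * u * g0⁻¹ = u * f :=
      ⟨u⁻¹ * (g0 * u * g0⁻¹), ((hXC hg0).1.1.2 u).2 (by rw [inv_mul_cancel]; exact one_mem E),
        (mul_inv_cancel_left _ _).symm⟩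
    refine hXu _ (mul_mem hg0 hg0) (mul_inv_eq_iff_eq_mul.1 ?_)
    rw [show g0 * g0 * u * (g0 * g0)⁻¹ = g0 * (g0 * u * g0⁻¹) * g0⁻¹ by group, hf',
      show g0 * (u * f) * g0⁻¹ = (g0 * u * g0⁻¹) * (g0 * f * g0⁻¹) by group, hf',
      mul_inv_eq_iff_eq_mul.2 (hXE f hf g0 hg0).symm.eq, mul_assoc, B.hE.sq f hf, mul_one]
  -- only `T` fixes all classes
  have hinj : ∀ c ∈ X, c ∈ R → Commute c u := by
    intro c hc hcR
    by_contra hcu
    set z := u⁻¹ * (c * u * c⁻¹) with hz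
    set z0 := u⁻¹ * (g0 * u * g0⁻¹) with hz0
    have hzE : z ∈ E := ((hXC hc).1.1.2 u).2 (by rw [inv_mul_cancel]; exact one_mem E)
    have hz0E : z0 ∈ E := ((hXC hg0).1.1.2 u).2 (by rw [inv_mul_cancel]; exact one_mem E)
    have hz1 : z ≠ 1 := fun e => hcu (mul_inv_eq_iff_eq_mul.1 (inv_mul_eq_one.1 e).symm)
    have hz01 : z0 ≠ 1 := fun e =>
      hg0R (hTR (hXu g0 hg0 (mul_inv_eq_iff_eq_mul.1 (inv_mul_eq_one.1 e).symm)))
    obtain ⟨k, hk, hkz⟩ := B.hL.K_trans z hzE z0 hz0E hz1 hz01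
    have hku := B.hL.K_commute_u hk
    have hkT := B.K_normT (mem_sup_left hk : k ∈ K ⊔ K1)
    set h := k * c * k⁻¹ with hh
    have hhR : h ∈ R := hRconj k hkT c hcR
    set d := g0⁻¹ * h with hd
    have hhu : h * u * h⁻¹ = g0 * u * g0⁻¹ := by
      calc h * u * h⁻¹ = k * (c * (k⁻¹ * u * k) * c⁻¹) * k⁻¹ := by rw [hh]; group
        _ = k * (u * z) * k⁻¹ := by rw [mul_assoc k⁻¹ u k, ← hku.eq, inv_mul_cancel_left, hz, mul_inv_cancel_left]
        _ = (k * u * k⁻¹) * (k * z * k⁻¹) := by group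
        _ = g0 * u * g0⁻¹ := by rw [hku.eq, mul_inv_cancel_right, hkz, hz0, mul_inv_cancel_left]
    have hdu : Commute d u := mul_inv_eq_iff_eq_mul.1 (by
      rw [hd, show g0⁻¹ * h * u * (g0⁻¹ * h)⁻¹ = g0⁻¹ * (h * u * h⁻¹) * g0 by group, hhu]; group)
    have hka : k • a = a := (B.hL.K_fix k hk).1
    have hha : h ∈ stabilizer G a := by
      have h1 : k ∈ stabilizer G a := mem_stabilizer_iff.2 hka
      exact mul_mem (mul_mem h1 (hXa hc)) (inv_mem h1)
    have hda : d • a = a := mem_stabilizer_iff.1 (mul_mem (inv_mem (hXa hg0)) hha)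
    have hdN : d ∈ normalizer (tSub T : Set G) := mul_mem (inv_mem (hNX g0 hg0)) ((hR h).1 hhR).1
    have hd2 : d ^ 2 ∈ R := by
      rw [pow_two, hd, show g0⁻¹ * h * (g0⁻¹ * h) = (g0⁻¹ * h * g0) * (g0 * g0)⁻¹ * h by group]
      refine mul_mem (mul_mem ?_ (inv_mem (hTR hg02))) hhR
      have := hRconj g0⁻¹ (inv_mem (hNX g0 hg0)) h hhR
      rwa [inv_inv] at this
    obtain ⟨n, m, ⟨j, hj⟩, hn'⟩ := Nat.exists_eq_two_pow_mul_odd (orderOf_pos d).ne'
    have hm0 : m ≠ 0 := by omega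
    have hdm : d ^ m ∈ R := hTR (B.mem_T_of_two
      (mem_stabilizer_iff.1 (pow_mem (mem_stabilizer_iff.2 hda) m)) (hdu.pow_left m) (pow_mem hdN m)
      ⟨n, by rw [orderOf_pow' _ hm0, hn', Nat.gcd_eq_right (dvd_mul_left _ _),
        Nat.mul_div_cancel _ (Nat.pos_of_ne_zero hm0)]⟩)
    have hdR : d ∈ R := by
      have h1 : d ^ m = (d ^ 2) ^ j * d := by rw [hj, pow_succ, pow_mul]
      rw [h1] at hdm
      exact (R.mul_mem_cancel_left (pow_mem hd2 j)).1 hdm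
    refine hg0R ?_
    rw [show g0 = h * d⁻¹ by rw [hd]; group]
    exact mul_mem hhR (inv_mem hdR)
  -- a class fixed by all
  obtain ⟨v0, hv0, hv01, hv0fix⟩ : ∃ v ∈ tSub T, v * v ≠ 1 ∧
      ∀ c ∈ X, v⁻¹ * (c * v * c⁻¹) * (v⁻¹ * (c * v * c⁻¹)) = 1 := by
    obtain ⟨N, hN⟩ := (isNilpotent_iff_lowerCentralSeries (S := X)).1 hX2.isNilpotent
    have hex : ∃ n, ∀ t ∈ tSub T, t ∈ X.lowerCentralSeries n → t * t = 1 :=
      ⟨N, fun t _ ht => by rw [hN, mem_bot] at ht; rw [ht, one_mul]⟩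
    have h0 : Nat.find hex ≠ 0 := fun e => by
      obtain ⟨y, hy, hyE⟩ := B.exists_outside
      exact hyE (B.hL.mem_eset y hy ((e ▸ Nat.find_spec hex) y (B.hL.Q_le hy) (hTX (B.hL.Q_le hy))))
    obtain ⟨m, hm⟩ := Nat.exists_eq_succ_of_ne_zero h0
    have h1 := Nat.find_min hex (show m < Nat.find hex by omega)
    push Not at h1
    obtain ⟨v, hv, hvm, hv1⟩ := h1
    refine ⟨v, hv, hv1, fun c hc => ?_⟩
    refine (hm ▸ Nat.find_spec hex) _ (mul_mem (inv_mem hv) (hn c hc v hv)) ?_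
    rw [Subgroup.lowerCentralSeries_succ]
    have h2 := Subgroup.commutator_mem_commutator (inv_mem hvm) hc
    rwa [commutatorElement_def, inv_inv, show v⁻¹ * c * v * c⁻¹ = v⁻¹ * (c * v * c⁻¹) by group] at h2
  have hperp : ∀ c ∈ X, ∀ w ∈ tSub T, w⁻¹ * (c * w * c⁻¹) * (w⁻¹ * (c * w * c⁻¹)) = 1 →
      ∀ t ∈ tSub T, Commute (t⁻¹ * (c * t * c⁻¹)) w := by
    intro c hc w hw hw1 t ht
    set s := c * t * c⁻¹ with hs
    have hsT : s ∈ tSub T := hn c hc t ht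
    set o := w⁻¹ * (c * w * c⁻¹) with ho
    have hoT : o ∈ tSub T := mul_mem (inv_mem hw) (hn c hc w hw)
    have h1 : B.commHom hw ⟨s, hsT⟩ = B.commHom hw ⟨t, ht⟩ := Subtype.ext (by
      show s * w * s⁻¹ * w⁻¹ = t * w * t⁻¹ * w⁻¹
      have e2 : c * (t * w * t⁻¹ * w⁻¹) * c⁻¹ = t * w * t⁻¹ * w⁻¹ :=
        mul_inv_eq_iff_eq_mul.2 (hXE _ (B.comm_T ht hw) c hc).symm.eq
      rw [show c * (t * w * t⁻¹ * w⁻¹) * c⁻¹ = s * (c * w * c⁻¹) * s⁻¹ * (c * w * c⁻¹)⁻¹ by rw [hs]; group,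
        show c * w * c⁻¹ = w * o from (mul_inv_cancel_left _ _).symm] at e2
      rw [← e2, ← mul_assoc s w o, mul_assoc (s * w) o, (B.om_cen hoT hw1 (inv_mem hsT)).eq]
      group)
    have h2 : (⟨t, ht⟩ : tSub T)⁻¹ * ⟨s, hsT⟩ ∈ (B.commHom hw).ker := by
      rw [MonoidHom.mem_ker, map_mul, map_inv, h1, inv_mul_cancel]
    exact (B.mem_ker_commHom hw _).1 h2
  obtain ⟨O, hO, hOc⟩ := B.exists_om
  choose c hc hcu using htr
  -- outside the centraliser of `v0` conjugation inverts it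
  have hkey : ∀ v ∈ tSub T, ¬ Commute v v0 → v * v0 * v⁻¹ = v0⁻¹ := by
    intro v hv hvv0
    let φ : E × O → (B.commHom hv0).ker := fun p =>
      ⟨⟨v⁻¹ * (c p.1 p.1.2 * v * (c p.1 p.1.2)⁻¹), mul_mem (inv_mem hv) (hn _ (hc _ _) v hv)⟩ * p.2.1,
        mul_mem ((B.mem_ker_commHom hv0 _).2 (hperp _ (hc _ _) v0 hv0 (hv0fix _ (hc _ _)) v hv))
          ((B.mem_ker_commHom hv0 _).2 (B.om_cen p.2.1.2 ((hO _).1 p.2.2) hv0))⟩
    have hφ : Function.Injective φ := by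
      rintro ⟨⟨z, hz⟩, ⟨⟨w, hw⟩, hwO⟩⟩ ⟨⟨z', hz'⟩, ⟨⟨w', hw'⟩, hwO'⟩⟩ e
      have e1 : v⁻¹ * (c z hz * v * (c z hz)⁻¹) * w = v⁻¹ * (c z' hz' * v * (c z' hz')⁻¹) * w' :=
        congrArg (fun p : (B.commHom hv0).ker => ((p : tSub T) : G)) e
      have hA := hc z hz
      have hB := hc z' hz'
      have hzu := hcu z hz
      have hzu' := hcu z' hz'
      set p := c z hz
      set p' := c z' hz'
      have hw1 : w * w = 1 := (hO _).1 hwO
      have hw1' : w' * w' = 1 := (hO _).1 hwO'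
      have e2 : v⁻¹ * ((p⁻¹ * p') * v * (p⁻¹ * p')⁻¹) = p⁻¹ * (w * w'⁻¹) * p := by
        have e3 : p' * v * p'⁻¹ = p * v * p⁻¹ * (w * w'⁻¹) := by
          rw [← mul_assoc]
          refine eq_mul_inv_of_mul_eq ?_
          exact (mul_left_cancel (a := v⁻¹) (by simpa only [mul_assoc] using e1)).symm
        rw [show p⁻¹ * p' * v * (p⁻¹ * p')⁻¹ = p⁻¹ * (p' * v * p'⁻¹) * p by group, e3]
        group
      have hd : p⁻¹ * p' ∈ X := mul_mem (inv_mem hA) hB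
      have hdR : p⁻¹ * p' ∈ R := (hR _).2 ⟨hNX _ hd, fun t ht => by
        by_contra hi
        refine hvv0 (B.comm_trans (mul_mem (inv_mem ht) (hn _ hd t ht)) hv hv0 hi
          (hperp _ hd v hv ?_ t ht) (hperp _ hd v0 hv0 (hv0fix _ hd) t ht))
        rw [e2, show p⁻¹ * (w * w'⁻¹) * p * (p⁻¹ * (w * w'⁻¹) * p) = p⁻¹ * (w * w'⁻¹ * (w * w'⁻¹)) * p by group,
          B.sq_mul hw hw1 (inv_mem hw') (by rw [← mul_inv_rev, hw1', inv_one])]
        group⟩
      have hdu := (hinj _ hd hdR).eq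
      have hzz : z = z' := mul_left_cancel (a := u) (by
        rw [← hzu, ← hzu']
        calc p * u * p⁻¹ = p * (u * (p⁻¹ * p')) * p'⁻¹ := by group
          _ = p' * u * p'⁻¹ := by rw [← hdu]; group)
      subst hzz
      refine Prod.ext rfl (Subtype.ext (Subtype.ext ?_))
      exact mul_left_cancel e1
    have hb : Function.Bijective φ := by
      rw [Nat.bijective_iff_injective_and_card]
      refine ⟨hφ, ?_⟩
      rw [Nat.card_prod, hOc, (B.card_cen hv0 hv01).2, B.hL.card_eset]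
      ring
    obtain ⟨⟨⟨z, hz⟩, ⟨⟨w, hw⟩, hwO⟩⟩, he⟩ := hb.2 ⟨⟨v0, hv0⟩, (B.mem_ker_commHom hv0 _).2 (Commute.refl v0)⟩
    have e1 : v⁻¹ * (c z hz * v * (c z hz)⁻¹) * w = v0 :=
      congrArg (fun p : (B.commHom hv0).ker => ((p : tSub T) : G)) he
    have hw1 : w * w = 1 := (hO _).1 hwO
    set p := c z hz
    have e2 : p * v * p⁻¹ * w = v * v0 := by rw [← e1]; group
    have e3 : v * v0 * (v * v0) = v * v := by
      rw [← e2, ((B.om_cen hw hw1 (hn _ (hc z hz) v hv))).mul_mul_mul_comm, hw1, mul_one,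
        show p * v * p⁻¹ * (p * v * p⁻¹) = p * (v * v) * p⁻¹ by group,
        (hXE _ (B.sq_T hv) p (hc z hz)).symm.eq, mul_inv_cancel_right]
    have e4 : v0 * v * v0 = v := by
      rw [mul_assoc v, mul_right_inj] at e3
      rw [mul_assoc]; exact e3
    calc v * v0 * v⁻¹ = v0⁻¹ * (v0 * v * v0) * v⁻¹ := by group
      _ = v0⁻¹ := by rw [e4, mul_inv_cancel_right]
  -- two such with their product
  obtain ⟨s, hs, hsv0⟩ : ∃ v ∈ tSub T, ¬ Commute v v0 :=
    (B.noncomm hv0 hv01).imp fun s h => ⟨h.1, fun e => h.2 e.symm⟩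
  set L := (B.commHom hv0).ker with hLdef
  obtain ⟨s', hs', hss'⟩ : ∃ s' : tSub T, s' ∉ L ∧ (⟨s, hs⟩ : tSub T) * s' ∉ L := by
    by_contra! hno
    have hsub : (Set.univ : Set (tSub T)) ⊆ (L : Set (tSub T)) ∪ (fun w => (⟨s, hs⟩ : tSub T)⁻¹ * w) '' L :=
      fun w _ => (em (w ∈ L)).imp id fun hw => ⟨_, hno w hw, inv_mul_cancel_left _ _⟩
    have h1 := (Set.ncard_le_ncard hsub (Set.toFinite _)).trans (Set.ncard_union_le _ _)
    have h2 := Set.ncard_image_le (f := fun w => (⟨s, hs⟩ : tSub T)⁻¹ * w) (L : Set (tSub T)).toFinite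
    have h3 : (L : Set (tSub T)).ncard = 2 * 2 ^ r * 2 ^ r := by
      rw [← Nat.card_coe_set_eq]; exact (B.card_cen hv0 hv01).2
    rw [Set.ncard_univ, B.card_T, show 2 ^ (3 * r) = 2 ^ r * 2 ^ r * 2 ^ r by rw [← pow_add, ← pow_add]; ring_nf] at h1
    have h4 := B.four_le
    have h5 : 4 * (2 ^ r * 2 ^ r) ≤ 2 ^ r * (2 ^ r * 2 ^ r) := Nat.mul_le_mul_right _ h4
    have hq := Nat.two_pow_pos r
    nlinarith [Nat.mul_pos hq hq]
  have hm : ∀ w : tSub T, w ∉ L → ¬ Commute (w : G) v0 := fun w hw e => hw ((B.mem_ker_commHom hv0 w).2 e)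
  refine hm _ hss' (mul_inv_eq_iff_eq_mul.1 ?_)
  show s * (s' : G) * v0 * (s * (s' : G))⁻¹ = v0
  rw [show s * (s' : G) * v0 * (s * (s' : G))⁻¹ = s * ((s' : G) * v0 * (s' : G)⁻¹) * s⁻¹ by group,
    hkey _ s'.2 (hm _ hs'), show s * v0⁻¹ * s⁻¹ = (s * v0 * s⁻¹)⁻¹ by group, hkey s hs hsv0, inv_inv]

/-- Without translations a 2-element normalising `T` moves `E`. -/
theorem exists_twist (h : Crit D Ω) (hB : Below.{u} (Nat.card G)) (hgen : closure D = ⊤) (h8 : Nat.card E = 8)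
    (hno : ¬ ∀ z ∈ E, ∃ g ∈ cosetNorm E u ⊓ stabilizer G a, (∀ w ∈ E, g * w * g⁻¹ = w) ∧ g * u * g⁻¹ = u * z) :
    ∃ g : G, g ∈ normalizer (tSub T : Set G) ∧ g * g ∈ tSub T ∧ (∀ w ∈ E, g * w * g⁻¹ ∈ E) ∧
      ∃ z ∈ E, g * z * g⁻¹ ≠ z := by
  classical
  haveI : Fact (Nat.Prime 2) := ⟨Nat.prime_two⟩
  set N := cosetNorm E u ⊓ stabilizer G a with hN
  have hNE : ∀ g ∈ N, ∀ w ∈ E, g * w * g⁻¹ ∈ E := fun g hg w hw => (hg.1.1 w).2 hw
  -- no translation at all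
  have hnone : ∀ g ∈ N, (∀ w ∈ E, g * w * g⁻¹ = w) → Commute g u := by
    intro g hg hgE
    by_contra hgu
    set z0 := u⁻¹ * (g * u * g⁻¹) with hz0d
    have hz0 : z0 ∈ E := (hg.1.2 u).2 (by rw [inv_mul_cancel]; exact one_mem E)
    have hz01 : z0 ≠ 1 := fun e => hgu (mul_inv_eq_iff_eq_mul.1 (inv_mul_eq_one.1 e).symm)
    refine hno fun z hz => ?_
    rcases eq_or_ne z 1 with rfl | hz1
    · exact ⟨1, one_mem _, fun w _ => by group, by group⟩
    obtain ⟨k, hk, hkz⟩ := B.hL.K_trans z0 hz0 z hz hz01 hz1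
    refine ⟨k * g * k⁻¹, N.mul_mem (N.mul_mem (B.K_nn hk) hg) (N.inv_mem (B.K_nn hk)), fun w hw => ?_, ?_⟩
    · have hw' := B.conj_E_of_K (inv_mem hk) hw
      rw [show k * g * k⁻¹ * w * (k * g * k⁻¹)⁻¹ = k * (g * (k⁻¹ * w * k⁻¹⁻¹) * g⁻¹) * k⁻¹ by group, hgE _ hw']
      group
    · have hku := B.hL.K_commute_u hk
      calc k * g * k⁻¹ * u * (k * g * k⁻¹)⁻¹ = k * (g * (k⁻¹ * u * k) * g⁻¹) * k⁻¹ := by group
        _ = k * (g * u * g⁻¹) * k⁻¹ := by rw [mul_assoc k⁻¹ u k, ← hku.eq, inv_mul_cancel_left]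
        _ = (k * u * k⁻¹) * (k * z0 * k⁻¹) := by rw [hz0d]; group
        _ = u * z := by rw [hku.eq, mul_inv_cancel_right, hkz]
  -- the action on `E` has even order
  let ρ : N →* MulAut E :=
    { toFun := fun g =>
        { toFun := fun w => ⟨(g : G) * w * (g : G)⁻¹, hNE g g.2 w w.2⟩
          invFun := fun w => ⟨((g⁻¹ : N) : G) * w * ((g⁻¹ : N) : G)⁻¹, hNE _ (g⁻¹ : N).2 w w.2⟩
          left_inv := fun w => Subtype.ext (by simp [mul_assoc])
          right_inv := fun w => Subtype.ext (by simp [mul_assoc])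
          map_mul' := fun v w => Subtype.ext (show (g : G) * ((v : G) * w) * (g : G)⁻¹ =
            ((g : G) * v * (g : G)⁻¹) * ((g : G) * w * (g : G)⁻¹) by group) }
      map_one' := MulEquiv.ext fun w => Subtype.ext (by simp)
      map_mul' := fun g k => MulEquiv.ext fun w => Subtype.ext (by simp [mul_assoc]) }
  have hρ : ∀ (g : N) (w : E), ((ρ g w : E) : G) = (g : G) * w * (g : G)⁻¹ := fun _ _ => rfl
  have hker : ∀ g : N, g ∈ ρ.ker → ∀ w ∈ E, (g : G) * w * (g : G)⁻¹ = w := fun g hg w hw => by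
    rw [← hρ g ⟨w, hw⟩, MonoidHom.mem_ker.1 hg]
    rfl
  have hker' : ∀ g : N, (∀ w ∈ E, (g : G) * w * (g : G)⁻¹ = w) → g ∈ ρ.ker := fun g hg =>
    MonoidHom.mem_ker.2 (MulEquiv.ext fun w => Subtype.ext (hg w w.2))
  have heven : 2 ∣ Nat.card ρ.range := by
    have horb : SixInv.orb N u = (fun f => u * f) '' (E : Set G) := by
      ext z
      constructor
      · rintro ⟨g, hg, rfl⟩
        exact ⟨u⁻¹ * (g * u * g⁻¹), (hg.1.2 u).2 (by rw [inv_mul_cancel]; exact one_mem E),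
          mul_inv_cancel_left _ _⟩
      · rintro ⟨f, hf, rfl⟩
        obtain ⟨g, hg, hgu⟩ := h.exists_conj_coset hB hgen B.hu B.hbad B.ha B.tSub_le B.hE hf
        exact ⟨g, hg, hgu⟩
    have h1 := SixInv.orb_card N u
    rw [horb, Set.ncard_image_of_injective _ (mul_right_injective u), ← Nat.card_coe_set_eq,
      show Nat.card (E : Set G) = 8 from h8] at h1
    have h2 : Nat.card ρ.ker ∣ Nat.card ↥(N ⊓ centralizer ({u} : Set G)) := by
      rw [← card_map_of_injective (K := ρ.ker) N.subtype_injective]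
      refine card_dvd_of_le ?_
      rintro _ ⟨g, hg, rfl⟩
      exact ⟨g.2, mem_centralizer_singleton_iff.2 (hnone g g.2 (hker g hg)).eq⟩
    obtain ⟨d, hd⟩ := h2
    have h3 : Nat.card ρ.range * Nat.card ρ.ker = Nat.card N := by
      rw [← Subgroup.index_ker, mul_comm]; exact Subgroup.card_mul_index _
    refine ⟨4 * d, Nat.eq_of_mul_eq_mul_right (Nat.card_pos (α := ρ.ker)) ?_⟩
    rw [h3, ← h1, hd]
    ring
  obtain ⟨⟨_, g0, rfl⟩, hg0⟩ := exists_prime_orderOf_dvd_card' 2 heven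
  rw [← Subgroup.orderOf_coe] at hg0
  change orderOf (ρ g0) = 2 at hg0
  -- an element normalising `T` with this action
  set Y := ρ.ker.map N.subtype with hY
  have hYE : ∀ g ∈ Y, g ∈ N ∧ (∀ w ∈ E, g * w * g⁻¹ = w) := fun g ⟨c, hc, e⟩ => e ▸ ⟨c.2, hker c hc⟩
  have hYu : ∀ g ∈ Y, Commute g u := fun g hg => hnone g (hYE g hg).1 (hYE g hg).2
  have hTY : tSub T ≤ Y := fun t ht => by
    have htN : t ∈ N := ⟨mem_cosetNorm_of_conj (fun w => (Subgroup.mem_normalizer_iff.1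
      (Subgroup.mem_normalizer_fintype (fun w (hw : w ∈ (E : Set G)) =>
        show t * w * t⁻¹ ∈ E by rw [(B.cen_E ht hw).eq, mul_inv_cancel_right]; exact hw)) w).symm)
      (by rw [(B.mem_u ht).eq, mul_inv_cancel_right, inv_mul_cancel]; exact one_mem E),
      mem_stabilizer_iff.2 (B.mem_a ht)⟩
    exact ⟨⟨t, htN⟩, hker' _ fun w hw => by rw [(B.cen_E ht hw).eq, mul_inv_cancel_right], rfl⟩
  set T0 := (tSub T).map (MulAut.conj (g0 : G)).toMonoidHom with hT0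
  have hT0Y : T0 ≤ Y := by
    rintro _ ⟨t, ht, rfl⟩
    obtain ⟨c, hc, e⟩ := hTY ht
    exact ⟨g0 * c * g0⁻¹, (inferInstance : ρ.ker.Normal).conj_mem c hc g0, by rw [← e]; rfl⟩
  obtain ⟨P1, hP1⟩ := ((B.tSub_two.map _).comap_subtype : IsPGroup 2 (T0.subgroupOf Y)).exists_le_sylow
  obtain ⟨P2, hP2⟩ := (B.tSub_two.comap_subtype : IsPGroup 2 ((tSub T).subgroupOf Y)).exists_le_sylow
  have hP2T : (P2 : Subgroup Y).map Y.subtype = tSub T :=
    B.eq_tSub ((map_subtype_le _).trans fun g hg => (hYE g hg).1.2) (P2.2.map _)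
      (fun g ⟨c, _, e⟩ => e ▸ hYu c c.2) fun t ht => ⟨⟨t, hTY ht⟩, hP2 ht, rfl⟩
  obtain ⟨c, hc⟩ := MulAction.exists_smul_eq Y P1 P2
  set g1 := (c : G) * (g0 : G) with hg1
  have hgN : g1 ∈ N := N.mul_mem (hYE c c.2).1 g0.2
  have hgT : g1 ∈ normalizer (tSub T : Set G) := Subgroup.mem_normalizer_fintype fun t ht => by
    have h1 : (g0 : G) * t * (g0 : G)⁻¹ ∈ T0 := ⟨t, ht, rfl⟩
    rw [SetLike.mem_coe, ← hP2T]
    refine ⟨c * ⟨_, hT0Y h1⟩ * c⁻¹, ?_, ?_⟩
    · rw [← hc, Sylow.coe_subgroup_smul]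
      exact ⟨⟨_, hT0Y h1⟩, hP1 h1, rfl⟩
    · show (c : G) * ((g0 : G) * t * (g0 : G)⁻¹) * (c : G)⁻¹ = _
      rw [hg1]; group
  set gN : N := ⟨g1, hgN⟩ with hgN'
  have hact : ρ gN = ρ g0 := by
    refine MulEquiv.ext fun w => Subtype.ext ?_
    rw [hρ, hρ]
    show g1 * (w : G) * g1⁻¹ = _
    rw [hg1, show (c : G) * g0 * w * ((c : G) * g0)⁻¹ = c * ((g0 : G) * w * (g0 : G)⁻¹) * (c : G)⁻¹
      by group, (hYE c c.2).2 _ (hNE _ g0.2 w w.2)]
  -- of 2-power order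
  obtain ⟨n, m, ⟨j, hj⟩, hn⟩ := Nat.exists_eq_two_pow_mul_odd (orderOf_pos g1).ne'
  have hm0 : m ≠ 0 := by omega
  have hρm : ρ (gN ^ m) = ρ g0 := by
    rw [map_pow, hact, hj, pow_succ, pow_mul, ← hg0, pow_orderOf_eq_one, one_pow, one_mul]
  refine ⟨g1 ^ m, pow_mem hgT m, ?_, fun w hw => hNE _ (pow_mem hgN m) w hw, ?_⟩
  · have hsq : gN ^ m * gN ^ m ∈ ρ.ker := by
      rw [MonoidHom.mem_ker, map_mul, hρm, Invol.mul_self hg0]
    have hu2 := hnone _ (gN ^ m * gN ^ m).2 (hker _ hsq)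
    refine B.mem_T_of_two (mem_stabilizer_iff.1 (mul_mem (pow_mem hgN m) (pow_mem hgN m) : g1 ^ m * g1 ^ m ∈ N).2)
      hu2 (mul_mem (pow_mem hgT m) (pow_mem hgT m)) ?_
    have h2 : orderOf (g1 ^ m) = 2 ^ n := by
      rw [orderOf_pow' _ hm0, hn, Nat.gcd_eq_right (dvd_mul_left _ _),
        Nat.mul_div_cancel _ (Nat.pos_of_ne_zero hm0)]
    obtain ⟨k, -, hk⟩ := (Nat.dvd_prime_pow Nat.prime_two).1 (h2 ▸ orderOf_pow_dvd 2 : orderOf ((g1 ^ m) ^ 2) ∣ 2 ^ n)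
    exact ⟨k, by rwa [pow_two] at hk⟩
  · by_contra! hall
    have h1 : ρ (gN ^ m) = 1 := MonoidHom.mem_ker.1 (hker' _ fun w hw => hall w hw)
    rw [hρm] at h1
    rw [h1, orderOf_one] at hg0
    norm_num at hg0

set_option maxHeartbeats 1000000 in
/-- Translations of `u E`. -/
theorem translations3 (h : Crit D Ω) (hB : Below.{u} (Nat.card G)) (hgen : closure D = ⊤) :
    ∀ z ∈ E, ∃ g ∈ cosetNorm E u ⊓ stabilizer G a, (∀ w ∈ E, g * w * g⁻¹ = w) ∧ g * u * g⁻¹ = u * z := by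
  classical
  rcases B.translations_or h hB hgen with h1 | ⟨h8, -⟩
  · exact h1
  by_contra hno
  obtain ⟨g, hgT, hgg, hgE, z0, hz0, hgz0⟩ := B.exists_twist h hB hgen h8 hno
  obtain ⟨O, hO, hOc⟩ := B.exists_om
  have hq8 : 2 ^ r = 8 := B.hL.card_eset.symm.trans h8
  have hOc' : Nat.card O = 16 := by rw [hOc, hq8]
  have hTc : Nat.card (tSub T) = 1024 := by
    rw [B.card_T, mul_comm 3 r, pow_mul, hq8]
    norm_num
  -- the fixed points in `E`
  have hEc : ∀ v w : E, v * w = w * v := fun v w => Subtype.ext (B.hE.comm v v.2 w w.2).eq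
  have hgg2 : ∀ w ∈ E, g * (g * w * g⁻¹) * g⁻¹ = w := fun w hw => by
    rw [show g * (g * w * g⁻¹) * g⁻¹ = (g * g) * w * (g * g)⁻¹ by group, (B.cen_E hgg hw).eq, mul_inv_cancel_right]
  let φ : E →* E := MonoidHom.mk' (fun w => w * ⟨g * w * g⁻¹, hgE w w.2⟩) fun v w => Subtype.ext (by
    show (v : G) * w * (g * (v * w) * g⁻¹) = v * (g * v * g⁻¹) * (w * (g * w * g⁻¹))
    rw [(B.hE.comm _ (hgE v v.2) _ w.2).mul_mul_mul_comm]
    group)
  have hφ : ∀ w : E, (φ w : G) = (w : G) * (g * w * g⁻¹) := fun w => rfl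
  have hφk : ∀ w : E, w ∈ φ.ker ↔ g * (w : G) * g⁻¹ = w := fun w => by
    rw [MonoidHom.mem_ker, Subtype.ext_iff, hφ, OneMemClass.coe_one]
    exact ⟨fun e => mul_left_cancel (e.trans (B.hE.sq w w.2).symm), fun e => by rw [e, B.hE.sq w w.2]⟩
  have hφr : φ.range ≤ φ.ker := by
    rintro _ ⟨w, rfl⟩
    rw [hφk, hφ, show g * ((w : G) * (g * w * g⁻¹)) * g⁻¹ = (g * w * g⁻¹) * (g * (g * w * g⁻¹) * g⁻¹) by group,
      hgg2 w w.2]
    exact (B.hE.comm _ (hgE w w.2) _ w.2).eq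
  obtain ⟨hF, hI⟩ : Nat.card φ.ker ≤ 4 ∧ Nat.card φ.range ≤ 2 := by
    have h1 := φ.ker.card_mul_index
    rw [Subgroup.index_ker, h8] at h1
    have h2 := Subgroup.card_le_of_le hφr
    have h3 : Nat.card φ.ker ≠ 8 := fun e => hgz0 ((hφk ⟨z0, hz0⟩).1 (by
      rw [Subgroup.eq_top_of_card_eq φ.ker (e.trans h8.symm)]; exact mem_top _))
    have h4 : Nat.card φ.ker ≤ 4 := by
      have := Subgroup.card_subgroup_dvd_card φ.ker
      rw [h8] at this
      have := Nat.le_of_dvd (by norm_num) this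
      interval_cases hk : Nat.card φ.ker <;> omega
    refine ⟨h4, ?_⟩
    interval_cases hk : Nat.card φ.ker <;> omega
  -- the classes fixed by `g`
  have hgm : ∀ t ∈ tSub T, g * t * g⁻¹ ∈ tSub T := fun t ht => (mem_normalizer_iff.1 hgT t).1 ht
  let d : tSub T → tSub T := fun t => ⟨(t : G)⁻¹ * (g * t * g⁻¹), mul_mem (inv_mem t.2) (hgm t t.2)⟩
  have hd : ∀ t : tSub T, (d t : G) = (t : G)⁻¹ * (g * t * g⁻¹) := fun t => rfl
  have hcen : ∀ w : tSub T, w ∈ O → ∀ t : tSub T, w * t = t * w := fun w hw t =>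
    Subtype.ext (B.om_cen w.2 ((hO w).1 hw) t.2).eq
  have hEO : ∀ w : tSub T, (w : G) ∈ E → w ∈ O := fun w hw => (hO w).2 (B.hE.sq _ hw)
  have hdmul : ∀ t w : tSub T, d (t * w) = w⁻¹ * d t * w * d w := fun t w => Subtype.ext (by
    show ((t : G) * w)⁻¹ * (g * (t * w) * g⁻¹) = (w : G)⁻¹ * ((t : G)⁻¹ * (g * t * g⁻¹)) * w * ((w : G)⁻¹ * (g * w * g⁻¹))
    group)
  let W : Subgroup (tSub T) :=
    { carrier := {t | d t ∈ O}
      one_mem' := (hO _).2 (by rw [hd, OneMemClass.coe_one]; group)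
      mul_mem' := fun {v w} hv hw => by
        show d (v * w) ∈ O
        rw [hdmul, show w⁻¹ * d v * w = d v by rw [mul_assoc, hcen _ hv, inv_mul_cancel_left]]
        exact mul_mem hv hw
      inv_mem' := fun {w} hw => by
        show d w⁻¹ ∈ O
        have h1 := hdmul w⁻¹ w
        rw [inv_mul_cancel, show d 1 = 1 from Subtype.ext (by rw [hd, OneMemClass.coe_one]; group)] at h1
        have h2 : d w⁻¹ = w * (d w)⁻¹ * w⁻¹ := by
          rw [eq_comm, mul_eq_one_iff_eq_inv] at h1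
          rw [← h1]; group
        rw [h2, ← hcen _ (inv_mem hw), mul_inv_cancel_right]
        exact inv_mem hw }
  have hW : ∀ w, w ∈ W ↔ d w ∈ O := fun w => Iff.rfl
  have hOW : O ≤ W := fun w hw => by
    rw [hW, hO]
    have h1 : (w : G)⁻¹ * (w : G)⁻¹ = 1 := by rw [← mul_inv_rev, (hO w).1 hw, inv_one]
    exact B.sq_mul (inv_mem w.2) h1 (hgm w w.2) (by
      rw [show g * w * g⁻¹ * (g * w * g⁻¹) = g * ((w : G) * w) * g⁻¹ by group, (hO w).1 hw]; group)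
  have hdd : ∀ t : tSub T, d t ∈ W := fun t => by
    rw [hW]
    refine hEO _ ?_
    set X := g * (t : G) * g⁻¹ with hX
    set e := (g * g) * (t : G) * (g * g)⁻¹ * (t : G)⁻¹ with he
    have heE : e ∈ E := B.comm_T hgg t.2
    have h1 : ((d (d t) : tSub T) : G) = ((X⁻¹ * t) * (X⁻¹ * t)) * e := by
      rw [hd, hd, mul_assoc (X⁻¹ * (t : G)), mul_assoc X⁻¹ (t : G) e, (B.cen_E t.2 heE).eq, he, hX]
      group
    rw [h1]
    exact mul_mem (B.sq_T (mul_mem (inv_mem (hgm t t.2)) t.2)) heE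
  have hdO : ∀ t w : tSub T, (d t)⁻¹ * d (t * w) ∈ O → w ∈ W := fun t w hw => by
    rw [hW]
    rw [hdmul, ← mul_assoc] at hw
    refine (O.mul_mem_cancel_left (hEO _ ?_)).1 hw
    have h1 := B.comm_T (inv_mem (d t).2) (inv_mem w.2)
    rw [inv_inv, inv_inv] at h1
    simp only [Subgroup.coe_mul, Subgroup.coe_inv]
    rwa [← mul_assoc, ← mul_assoc]
  let f : tSub T ⧸ W → W ⧸ O.subgroupOf W := fun p => QuotientGroup.mk ⟨d p.out, hdd _⟩
  have hf : Function.Injective f := fun p p' e => by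
    rw [← p.out_eq', ← p'.out_eq', QuotientGroup.eq]
    have h1 : (d p.out)⁻¹ * d p'.out ∈ O := mem_subgroupOf.1 (QuotientGroup.eq.1 e)
    exact hdO p.out (p.out⁻¹ * p'.out) (by rwa [mul_inv_cancel_left])
  have hWc := Subgroup.card_mul_index W
  rw [hTc] at hWc
  have hWO : Nat.card W = Nat.card (W ⧸ O.subgroupOf W) * 16 := by
    rw [← hOc', Subgroup.card_eq_card_quotient_mul_card_subgroup (O.subgroupOf W),
      Nat.card_congr (Subgroup.subgroupOfEquivOfLe hOW).toEquiv]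
  have hidx : W.index ≤ Nat.card (W ⧸ O.subgroupOf W) := Nat.card_le_card_of_injective f hf
  -- the centralisers inside
  have hbound : ∀ y ∈ W, y ∉ O → (∃ t o, o ∈ O ∧ y = d t * o) →
      Nat.card W ≤ 2 * Nat.card ↥((B.commHom y.2).ker ⊓ W) ∧ Nat.card ↥((B.commHom y.2).ker ⊓ W) ≤ 64 := by
    rintro y - hyO ⟨t, o, ho, hy⟩
    constructor
    · set η := (B.commHom y.2).comp W.subtype with hη
      have hval : η.range ≤ φ.range := by
        rintro _ ⟨⟨w, hw⟩, rfl⟩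
        refine ⟨B.commHom t.2 w, Subtype.ext ?_⟩
        show _ = (w : G) * y * (w : G)⁻¹ * (y : G)⁻¹
        rw [hφ, B.commHom_coe, hy]
        set c := (w : G) * t * (w : G)⁻¹ * (t : G)⁻¹ with hc
        have hcE : c ∈ E := B.comm_T w.2 t.2
        set X := g * (t : G) * g⁻¹ with hX
        set o' := (w : G)⁻¹ * (g * w * g⁻¹) with ho'
        have hoc : Commute o' X⁻¹ :=
          B.om_cen (mul_mem (inv_mem w.2) (hgm w w.2)) ((hO _).1 hw) (inv_mem (hgm t t.2))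
        have e1 : g * c * g⁻¹ = (w : G) * X * (w : G)⁻¹ * X⁻¹ := by
          rw [show g * c * g⁻¹ = (g * w * g⁻¹) * X * (g * w * g⁻¹)⁻¹ * X⁻¹ by rw [hc, hX]; group,
            show g * w * g⁻¹ = (w : G) * o' from (mul_inv_cancel_left _ _).symm, mul_assoc (w : G) o' X,
            (show Commute o' X by simpa using hoc.inv_right).eq]
          group
        have hoc2 : Commute (o : G) (w : G)⁻¹ := B.om_cen o.2 ((hO o).1 ho) (inv_mem w.2)
        show c * (g * c * g⁻¹) = (w : G) * ((t : G)⁻¹ * X * o) * (w : G)⁻¹ * ((t : G)⁻¹ * X * o)⁻¹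
        rw [e1, show (w : G) * ((t : G)⁻¹ * X * o) * (w : G)⁻¹ * ((t : G)⁻¹ * X * o)⁻¹ =
            (w : G) * (t : G)⁻¹ * X * ((o : G) * (w : G)⁻¹) * ((t : G)⁻¹ * X * o)⁻¹ by group, hoc2.eq,
          show (w : G) * (t : G)⁻¹ * X * ((w : G)⁻¹ * o) * ((t : G)⁻¹ * X * o)⁻¹ =
            (t : G)⁻¹ * (c⁻¹ * ((w : G) * X * (w : G)⁻¹ * X⁻¹)) * t by rw [hc]; group,
          (B.cen_E (inv_mem t.2) (mul_mem (inv_mem hcE) (e1 ▸ hgE c hcE))).eq, inv_mul_cancel_right,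
          inv_eq_of_mul_eq_one_left (B.hE.sq c hcE)]
      have h1 := Subgroup.card_mul_index η.ker
      rw [Subgroup.index_ker] at h1
      have h2 : Nat.card η.ker = Nat.card ↥((B.commHom y.2).ker ⊓ W) := by
        rw [← card_map_of_injective W.subtype_injective, hη, ← MonoidHom.comap_ker,
          Subgroup.map_comap_eq, Subgroup.range_subtype, inf_comm]
      rw [h2] at h1
      rw [← h1, mul_comm 2]
      exact Nat.mul_le_mul_left _ ((Subgroup.card_le_of_le hval).trans hI)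
    · set C := (B.commHom y.2).ker ⊓ W with hC
      have hy1 : (y : G) * y ≠ 1 := fun e => hyO ((hO y).2 e)
      have hab : ∀ v w : C, Commute ((v : tSub T) : G) ((w : tSub T) : G) := fun v w =>
        B.comm_trans y.2 v.1.2 w.1.2 hy1 ((B.mem_ker_commHom _ _).1 v.2.1).symm
          ((B.mem_ker_commHom _ _).1 w.2.1).symm
      let sqH : C →* E := MonoidHom.mk' (fun v => ⟨((v : tSub T) : G) * ((v : tSub T) : G), B.sq_T v.1.2⟩)
        fun v w => Subtype.ext ((hab w v).mul_mul_mul_comm _ _)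
      have h1 := Subgroup.card_mul_index sqH.ker
      rw [Subgroup.index_ker] at h1
      have h2 : Nat.card sqH.ker ≤ 16 := by
        rw [← hOc', ← card_map_of_injective C.subtype_injective]
        refine Subgroup.card_le_of_le ?_
        rintro _ ⟨v, hv, rfl⟩
        exact (hO _).2 (congrArg Subtype.val (MonoidHom.mem_ker.1 hv))
      have h3 : sqH.range ≤ φ.ker := by
        rintro _ ⟨⟨v, hv⟩, rfl⟩
        rw [hφk]
        show g * ((v : G) * v) * g⁻¹ = (v : G) * v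
        have ho := (hO _).1 hv.2
        rw [hd] at ho
        rw [show g * ((v : G) * v) * g⁻¹ = (g * v * g⁻¹) * (g * v * g⁻¹) by group,
          show g * v * g⁻¹ = (v : G) * ((v : G)⁻¹ * (g * v * g⁻¹)) from (mul_inv_cancel_left _ _).symm,
          (B.om_cen (mul_mem (inv_mem v.2) (hgm v v.2)) ho v.2).mul_mul_mul_comm, ho, mul_one]
      rw [← h1]
      exact (Nat.mul_le_mul h2 ((Subgroup.card_le_of_le h3).trans hF)).trans (by norm_num)
  -- one half of `W` for each class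
  have hW128 : 128 ≤ Nat.card W := by
    by_contra hlt
    have h1 : 1024 ≤ Nat.card W * Nat.card (W ⧸ O.subgroupOf W) := by
      rw [← hWc]; exact Nat.mul_le_mul_left _ hidx
    have h2 : Nat.card (W ⧸ O.subgroupOf W) ≤ 7 := by omega
    have := Nat.mul_le_mul (show Nat.card W ≤ 127 by omega) h2
    omega
  have hW0 : W ≠ O := fun e => by rw [e, hOc'] at hW128; omega
  have hexy : ∃ t : tSub T, d t ∉ O := by
    by_contra! hall
    refine hW0 ?_
    have h1 : W = ⊤ := Subgroup.eq_top_iff' W |>.2 fun t => (hW t).2 (hall t)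
    exfalso
    -- all squares would be fixed
    obtain ⟨y, hy, hyE⟩ := B.exists_outside
    obtain ⟨k, hk, hkz⟩ := B.hL.K_trans _ (B.hL.sq y hy) z0 hz0 (fun e => hyE (B.hL.mem_eset y hy e))
      fun e => hgz0 (by rw [e]; group)
    have hzy : (k * y * k⁻¹) * (k * y * k⁻¹) = z0 := by rw [← hkz]; group
    set v := k * y * k⁻¹ with hv
    have hvT : v ∈ tSub T := B.hL.Q_le ((B.hL.K_normQ k (mem_sup_left hk) y).2 hy)
    have ho := (hO _).1 (hall ⟨v, hvT⟩)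
    rw [hd] at ho
    refine hgz0 ?_
    rw [← hzy, show g * (v * v) * g⁻¹ = (g * v * g⁻¹) * (g * v * g⁻¹) by group,
      show g * v * g⁻¹ = v * (v⁻¹ * (g * v * g⁻¹)) from (mul_inv_cancel_left _ _).symm,
      (B.om_cen (mul_mem (inv_mem hvT) (hgm v hvT)) ho hvT).mul_mul_mul_comm, ho, mul_one]
  obtain ⟨t0, ht0⟩ := hexy
  obtain ⟨hb1, hb2⟩ := hbound (d t0) (hdd t0) ht0 ⟨t0, 1, one_mem O, (mul_one _).symm⟩
  -- every class in `W` is of this form
  have hbij : Function.Bijective f := by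
    rw [Nat.bijective_iff_injective_and_card]
    refine ⟨hf, ?_⟩
    show W.index = _
    have h1 : Nat.card W = 128 := by omega
    have h2 : W.index = 8 := by rw [h1] at hWc; omega
    have h3 : Nat.card (W ⧸ O.subgroupOf W) = 8 := by omega
    rw [h2, h3]
  obtain ⟨w2, hw2W, hw2C⟩ : ∃ w ∈ W, w ∉ (B.commHom (d t0).2).ker := by
    by_contra! hle
    have h1 : (B.commHom (d t0).2).ker ⊓ W = W := inf_eq_right.2 hle
    rw [h1] at hb2
    omega
  have hw2O : w2 ∉ O := fun e => hw2C ((B.mem_ker_commHom _ _).2 (B.om_cen w2.2 ((hO _).1 e) (d t0).2))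
  obtain ⟨p, hp⟩ := hbij.2 (QuotientGroup.mk ⟨w2, hw2W⟩)
  obtain ⟨hc1, -⟩ := hbound w2 hw2W hw2O ⟨p.out, (d p.out)⁻¹ * w2, mem_subgroupOf.1 (QuotientGroup.eq.1 hp),
    (mul_inv_cancel_left _ _).symm⟩
  have hle : ((B.commHom (d t0).2).ker ⊓ W) ⊓ ((B.commHom w2.2).ker ⊓ W) ≤ O := fun w hw => by
    rw [hO]
    by_contra hw1
    exact hw2C ((B.mem_ker_commHom _ _).2 (B.comm_trans w.2 w2.2 (d t0).2 hw1
      ((B.mem_ker_commHom _ _).1 hw.2.1) ((B.mem_ker_commHom _ _).1 hw.1.1)))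
  have e1 := hOc' ▸ Subgroup.card_le_of_le hle
  set C1 := ((B.commHom (d t0).2).ker ⊓ W).subgroupOf W
  set C2 := ((B.commHom w2.2).ker ⊓ W).subgroupOf W
  have c1 := Subgroup.card_mul_index C1
  have c2 := Subgroup.card_mul_index C2
  have c3 := Subgroup.card_mul_index (C1 ⊓ C2)
  have c4 : (C1 ⊓ C2).index ≤ C1.index * C2.index := Subgroup.index_inf_le
  rw [Nat.card_congr (Subgroup.subgroupOfEquivOfLe inf_le_right).toEquiv] at c1 c2
  have c5 : Nat.card ↥(C1 ⊓ C2) ≤ 16 := by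
    rw [← card_map_of_injective W.subtype_injective]
    refine (Subgroup.card_le_of_le ?_).trans e1
    rintro _ ⟨v, hv, rfl⟩
    exact hv
  have i1 : C1.index ≤ 2 := Nat.le_of_mul_le_mul_left (by rw [c1, mul_comm]; exact hb1) Nat.card_pos
  have i2 : C2.index ≤ 2 := Nat.le_of_mul_le_mul_left (by rw [c2, mul_comm]; exact hc1) Nat.card_pos
  have := Nat.mul_le_mul c5 (c4.trans (Nat.mul_le_mul i1 i2))
  omega

end BaseCfg

end Cfsg.Agent.GoodInvol
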