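import Cfsg.Agent.Lib.GoodInvol.CaseBUnitaryBase
import Cfsg.Agent.Lib.GoodInvol.CaseBUnitary
import Cfsg.Agent.Lib.GoodInvol.CaseBSplit

/-!
# An involution without companion, unitary type: the torus on the two-subgroup

An element `k` of `K K1` has lifts normalising `X`, commuting with `u` and acting on `E` and on the classes of `T`
modulo its involutions as `k` does, as `X` centralises both. A complement of `T` among the lifts of all of `K K1` is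
the torus `K0`; its part `K1` over the torus part centralising `E` fixes exactly two cosets of `E` in each coset
of `T` in `X`.
-/

set_option autoImplicit false
set_option linter.style.haveILetI false
set_option linter.unusedSectionVars false

namespace Cfsg.Agent.GoodInvol

open Subgroup MulAction

universe u

/-- The torus on the cosets of `E` in the two-subgroup of the unitary case. -/
structure TorusCfg {G : Type u} [Group G] (M X T E : Subgroup G) (u : G) (K K1 K0 : Subgroup G) (r m g3 : ℕ) :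
    Prop where
  K_le : K ≤ xNorm M X E
  K1_le : K1 ≤ xNorm M X E
  K0_le : K0 ≤ xNorm M X E
  K_le_K0 : K ≤ K0
  K1_le_K0 : K1 ≤ K0
  K0_comm : ∀ k ∈ K0, Commute k u
  K1_cen : ∀ k ∈ K1, ∀ e ∈ E, Commute k e
  K0_odd : Odd (Nat.card K0)
  K_card : (xKer M X E).relIndex K = 2 ^ r - 1
  K0_card : (xKer M X E).relIndex K0 = m
  g3_cases : g3 = 1 ∨ g3 = 3
  g3_r : g3 = 3 → 3 ≤ r
  g3_eq : g3 * m + 1 = 2 ^ r * 2 ^ r
  K1_card : g3 * (xKer M X E).relIndex K1 = 2 ^ r + 1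
  K_free : ∀ k ∈ K, ∀ y ∈ X, y⁻¹ * (k * y * k⁻¹) ∈ E → k ∈ xKer M X E ∨ y ∈ E ∨ u⁻¹ * y ∈ E
  K_stab : ∀ k ∈ K, ∀ y ∈ fixCos X E K1, k * y * k⁻¹ ∈ fixCos X E K1
  ncard_fix : (fixCos X E K1).ncard = 2 * 2 ^ r * Nat.card E
  hfree : ∀ k ∈ K0, ∀ y ∈ X, y⁻¹ * (k * y * k⁻¹) ∈ E → k ∈ xKer M X E ∨ y ∈ fixCos X E K1
  fix_T : ∀ y ∈ fixCos X E K1, y ∈ T → y ∈ E ∨ u⁻¹ * y ∈ E
  fix_cover : ∀ c ∈ X, ∃ y ∈ fixCos X E K1, y⁻¹ * c ∈ T

/-- The lifts `Kp` act on `E` as the torus `K`, semiregularly outside the kernel. -/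
structure TorusAct {G : Type u} [Group G] (M X E K Kp : Subgroup G) : Prop where
  act : ∀ g ∈ Kp, ∃ k ∈ K, ∀ z ∈ E, g * z * g⁻¹ = k * z * k⁻¹
  real : ∀ k ∈ K, ∃ g ∈ Kp, ∀ z ∈ E, g * z * g⁻¹ = k * z * k⁻¹
  inf_cen : ∀ z ∈ E, z ≠ 1 → Kp ⊓ centralizer ({z} : Set G) = xKer M X E ⊓ Kp

variable {G : Type u} [Group G] [Finite G] {Ω : Type u} [MulAction G Ω] [Finite Ω] [FaithfulSMul G Ω] {D : Set G}

/-- The elements of the form `a b`. -/
def prodSub {A B : Subgroup G} (h : ∀ a ∈ A, ∀ b ∈ B, a * b * a⁻¹ ∈ B) : Subgroup G where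
  carrier := {g | ∃ a ∈ A, a⁻¹ * g ∈ B}
  one_mem' := ⟨1, one_mem A, by simp⟩
  mul_mem' := by
    rintro g g' ⟨a, ha, hg⟩ ⟨a', ha', hg'⟩
    refine ⟨a * a', mul_mem ha ha', ?_⟩
    rw [show (a * a')⁻¹ * (g * g') = (a'⁻¹ * (a⁻¹ * g) * a'⁻¹⁻¹) * (a'⁻¹ * g') by group]
    exact mul_mem (h _ (inv_mem ha') _ hg) hg'
  inv_mem' := by
    rintro g ⟨a, ha, hg⟩
    refine ⟨a⁻¹, inv_mem ha, ?_⟩
    rw [show a⁻¹⁻¹ * g⁻¹ = a * (a⁻¹ * g)⁻¹ * a⁻¹ by group]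
    exact h a ha _ (inv_mem hg)

/-- An odd element centralising a 2-element by which it moves `t` fixes `t`. -/
theorem eq_one_of_shift {g t o : G} (hg : Odd (orderOf g)) (hgo : Commute g o) (ht : g * t * g⁻¹ = t * o)
    (h2 : ∃ k, orderOf o = 2 ^ k) : o = 1 := by
  have hpow : ∀ i : ℕ, g ^ i * t * (g ^ i)⁻¹ = t * o ^ i := by
    intro i
    induction i with
    | zero => simp
    | succ i ih =>
      rw [pow_succ' g, show g * g ^ i * t * (g * g ^ i)⁻¹ = g * (g ^ i * t * (g ^ i)⁻¹) * g⁻¹ by group, ih,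
        show g * (t * o ^ i) * g⁻¹ = (g * t * g⁻¹) * (g * o ^ i * g⁻¹) by group, ht,
        (hgo.pow_right i).eq, mul_inv_cancel_right, pow_succ' o, ← mul_assoc, mul_assoc t]
  have h1 := hpow (orderOf g)
  rw [pow_orderOf_eq_one, inv_one, mul_one, one_mul, left_eq_mul] at h1
  obtain ⟨k, hk⟩ := h2
  exact eq_one_of_odd_two hg h1 hk

namespace BaseCfg

variable {u : G} {a x : Ω} {T : Sylow 2 (ptC u a)} {E Q K K1 : Subgroup G} {r : ℕ}
  (B : BaseCfg D u a x T E Q K K1 r 3)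
include B

/-- The elements acting trivially on `E` and on the classes of `T` modulo the involutions. -/
noncomputable def actKer : Subgroup G := B.exists_cls.choose ⊓ centralizer (E : Set G)

theorem mem_actKer {g : G} :
    g ∈ B.actKer ↔ (g ∈ normalizer (tSub T : Set G) ∧ FixCls (tSub T) g) ∧ ∀ z ∈ E, Commute g z := by
  rw [actKer, mem_inf, B.exists_cls.choose_spec.1 g, mem_centralizer_iff]
  exact and_congr_right fun _ => ⟨fun h z hz => (h z hz).symm, fun h z hz => (h z hz).symm⟩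

theorem tSub_le_actKer : tSub T ≤ B.actKer :=
  fun _ ht => ⟨B.exists_cls.choose_spec.2.1 ht, mem_centralizer_iff.2 fun _ hz => (B.cen_E ht hz).symm.eq⟩

theorem actKer_conj {k : G} (hk : k ∈ K ⊔ K1) {g : G} (hg : g ∈ B.actKer) : k * g * k⁻¹ ∈ B.actKer := by
  refine ⟨B.exists_cls.choose_spec.2.2 k (B.K_normT hk) g hg.1, mem_centralizer_iff.2 fun z hz => ?_⟩
  have hz' : k⁻¹ * z * k ∈ E := by
    have := (B.hL.K_normE k⁻¹ (inv_mem hk) z).2 hz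
    rwa [inv_inv] at this
  calc z * (k * g * k⁻¹) = k * ((k⁻¹ * z * k) * g) * k⁻¹ := by group
    _ = k * (g * (k⁻¹ * z * k)) * k⁻¹ := by rw [mem_centralizer_iff.1 hg.2 _ hz']
    _ = k * g * k⁻¹ * z := by group

/-- An element of the torus acts trivially exactly if it is in the kernel. -/
theorem ker_iff {k : G} (hk : k ∈ K ⊔ K1) : k ∈ B.actKer ↔ k ∈ kerCore Ω u := by
  have hku := B.commute_K hk
  constructor
  · intro h1
    obtain ⟨y, hy, hyE⟩ := B.exists_outside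
    refine B.hL.K_fpfQ k hk y hy hyE ?_
    set o := y⁻¹ * (k * y * k⁻¹) with ho
    have hoQ : o ∈ Q := mul_mem (inv_mem hy) ((B.hL.K_normQ k hk y).2 hy)
    have hoE : o ∈ E := B.hL.mem_eset o hoQ ((B.mem_actKer.1 h1).1.2 y (B.hL.Q_le hy))
    rw [show k * y * k⁻¹ * y⁻¹ = y * o * y⁻¹ by rw [ho]; group, ← (B.hL.cen o hoE y hy).eq, mul_inv_cancel_right]
    exact hoE
  · intro h1
    have hfix := fixCore_le _ (mem_kerCore.1 h1).1
    have hE : ∀ z ∈ E, Commute k z := fun z hz => mul_inv_eq_iff_eq_mul.1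
      (B.hE.inj _ ((B.hL.K_normE k hk z).2 hz) z hz fun p hp => by
        rw [mul_smul, mul_smul, inv_smul_eq_iff.2 (hfix p hp).symm,
          hfix _ (B.fix_smul (B.mem_u (B.hE.le hz)) hp)])
    have hQ : ∀ y ∈ Q, Commute k y := fun y hy => by
      have hp := B.fix_smul (B.mem_u (B.hL.Q_le hy)) B.hx
      have hpa : y • x ≠ a := fun e => B.hxa (MulAction.injective y (e.trans (B.mem_a (B.hL.Q_le hy)).symm))
      refine mul_inv_eq_iff_eq_mul.1 ((B.hL.reg (y • x) hp hpa).unique ⟨(B.hL.K_normQ k hk y).2 hy, ?_⟩ ⟨hy, rfl⟩)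
      rw [mul_smul, mul_smul, inv_smul_eq_iff.2 (hfix x B.hx).symm, hfix _ hp]
    have hT : ∀ t ∈ tSub T, Commute k t := fun t ht => by
      obtain ⟨y, hy, hty, -⟩ := B.exists_root ht
      rcases hty with rfl | rfl
      · exact hQ _ hy
      · exact hku.mul_right (hQ _ hy)
    refine B.mem_actKer.2 ⟨⟨B.K_normT hk, fun t ht => ?_⟩, hE⟩
    rw [(hT t ht).eq, mul_inv_cancel_right, inv_mul_cancel, one_mul]

/-- Outside the kernel only the involutions of `T` lie in fixed classes. -/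
theorem sq_one_of_fixed {k g t : G} (hk : k ∈ K ⊔ K1) (hg : k⁻¹ * g ∈ B.actKer) (hk0 : k ∉ kerCore Ω u)
    (ht : t ∈ tSub T) (hfix : t⁻¹ * (g * t * g⁻¹) * (t⁻¹ * (g * t * g⁻¹)) = 1) : t * t = 1 := by
  by_contra ht1
  set ρ := k⁻¹ * g with hρ
  obtain ⟨⟨hρN, hρF⟩, -⟩ := B.mem_actKer.1 hg
  have hkT : ∀ s ∈ tSub T, k * s * k⁻¹ ∈ tSub T := fun s hs => (mem_normalizer_iff.1 (B.K_normT hk) s).1 hs
  set o := t⁻¹ * (ρ * t * ρ⁻¹) with ho
  have hoT : o ∈ tSub T := mul_mem (inv_mem ht) ((mem_normalizer_iff.1 hρN t).1 ht)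
  have hgT : g * t * g⁻¹ ∈ tSub T :=
    (mem_normalizer_iff.1 (show g ∈ normalizer (tSub T : Set G) by
      rw [show g = k * ρ by rw [hρ]; group]; exact mul_mem (B.K_normT hk) hρN) t).1 ht
  set v := t⁻¹ * (k * t * k⁻¹) with hv
  have hv1 : v * v = 1 := by
    have e1 : v = (t⁻¹ * (g * t * g⁻¹)) * (k * o * k⁻¹)⁻¹ := by rw [hv, ho, hρ]; group
    rw [e1]
    refine B.sq_mul (mul_mem (inv_mem ht) hgT) hfix (inv_mem (hkT o hoT)) ?_
    rw [← mul_inv_rev, show k * o * k⁻¹ * (k * o * k⁻¹) = k * (o * o) * k⁻¹ by group, hρF t ht]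
    group
  obtain ⟨y, hy, hyE, hty⟩ := B.exists_root3 ht ht1
  have e2 : v = y⁻¹ * (k * y * k⁻¹) := by
    rcases hty with rfl | rfl
    · rfl
    · rw [hv, show k * (u * y) * k⁻¹ = (k * u * k⁻¹) * (k * y * k⁻¹) by group, (B.commute_K hk).eq,
        mul_inv_cancel_right, show (u * y)⁻¹ * (u * (k * y * k⁻¹)) = y⁻¹ * (k * y * k⁻¹) by group]
  have hvE : v ∈ E := B.hL.mem_eset v (e2 ▸ mul_mem (inv_mem hy) ((B.hL.K_normQ k hk y).2 hy)) hv1
  refine hk0 (B.hL.K_fpfQ k hk y hy hyE ?_)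
  rw [show k * y * k⁻¹ * y⁻¹ = y * v * y⁻¹ by rw [e2]; group, ← (B.hL.cen v hvE y hy).eq, mul_inv_cancel_right]
  exact hvE

theorem nn_K {k : G} (hk : k ∈ K ⊔ K1) : k ∈ cosetNorm E u ⊓ stabilizer G a :=
  ⟨mem_cosetNorm_of_conj (B.hL.K_normE k hk)
    (by rw [(B.commute_K hk).eq, mul_inv_cancel_right, inv_mul_cancel]; exact one_mem E),
    mem_stabilizer_iff.2 (B.fix_K hk)⟩

/-- An element of the torus lifts to one normalising `X` and commuting with `u`, with the same action. -/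
theorem exists_lift {S : Sylow 2 (cSub u a E)} (hX : XCfg (stabilizer G a) (xSub S) (tSub T) E u)
    (hXR : xSub S ≤ B.actKer) {k : G} (hk : k ∈ K ⊔ K1) :
    ∃ g, g ∈ xNorm (stabilizer G a) (xSub S) E ⊓ centralizer ({u} : Set G) ∧ k⁻¹ * g ∈ B.actKer := by
  classical
  haveI : Fact (Nat.Prime 2) := ⟨Nat.prime_two⟩
  set X := xSub S with hXd
  set R2 := cSub u a E ⊓ B.actKer with hR2
  have hXle : X ≤ R2 := le_inf (map_subtype_le _) hXR
  have hkN := B.nn_K hk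
  have hkR : ∀ g ∈ R2, k * g * k⁻¹ ∈ R2 := fun g hg =>
    have hR := B.actKer_conj hk hg.2
    ⟨⟨Subgroup.mul_mem _ (Subgroup.mul_mem _ hkN hg.1.1) (Subgroup.inv_mem _ hkN), hR.2⟩, hR⟩
  set X' := X.map (MulAut.conj k).toMonoidHom with hX'
  have hX'R : X' ≤ R2 := by
    rintro _ ⟨y, hy, rfl⟩
    exact hkR y (hXle hy)
  obtain ⟨S', hS'⟩ := ((hX.X_two.map _).comap_subtype : IsPGroup 2 (X'.subgroupOf R2)).exists_le_sylow
  obtain ⟨S2, hS2⟩ := (hX.X_two.comap_subtype : IsPGroup 2 (X.subgroupOf R2)).exists_le_sylow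
  have hS2X : (S2 : Subgroup R2).map R2.subtype = X := by
    refine le_antisymm (fun y hy => ?_) fun y hy => ⟨⟨y, hXle hy⟩, hS2 hy, rfl⟩
    have hyC : y ∈ cSub u a E := (map_subtype_le _ hy : y ∈ R2).1
    set P := ((S2 : Subgroup R2).map R2.subtype).subgroupOf (cSub u a E) with hP
    have h1 : (S : Subgroup (cSub u a E)) ≤ P := fun s hs =>
      ⟨⟨s, hXle ⟨s, hs, rfl⟩⟩, hS2 ⟨s, hs, rfl⟩, rfl⟩
    have h2 : P = (S : Subgroup (cSub u a E)) := S.3 ((S2.2.map _).comap_subtype) h1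
    exact ⟨⟨y, hyC⟩, h2 ▸ (mem_subgroupOf.2 hy : (⟨y, hyC⟩ : cSub u a E) ∈ P), rfl⟩
  obtain ⟨c, hc⟩ := MulAction.exists_smul_eq R2 S' S2
  set g1 := (c : G) * k with hg1
  have hg1X : ∀ y ∈ X, g1 * y * g1⁻¹ ∈ X := fun y hy => by
    have h1 : k * y * k⁻¹ ∈ X' := ⟨y, hy, rfl⟩
    rw [← hS2X]
    refine ⟨c * ⟨_, hX'R h1⟩ * c⁻¹, ?_, ?_⟩
    · rw [← hc, Sylow.coe_subgroup_smul]
      exact ⟨⟨_, hX'R h1⟩, hS' h1, rfl⟩
    · show (c : G) * (k * y * k⁻¹) * (c : G)⁻¹ = _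
      rw [hg1]; group
  have hg1N : g1 ∈ cosetNorm E u ⊓ stabilizer G a := mul_mem c.2.1.1 hkN
  obtain ⟨d, hd, hdu⟩ := hX.trans _ ((hg1N.1.2 u).2 (by rw [inv_mul_cancel]; exact one_mem E))
  rw [mul_inv_cancel_left] at hdu
  refine ⟨d⁻¹ * g1, ⟨Subgroup.mul_mem _ (Subgroup.inv_mem _ (hX.X_le_xNorm hd)) (hX.mem_xNorm hg1N.2 fun y =>
    (mem_normalizer_iff.1 (Subgroup.mem_normalizer_fintype hg1X) y).symm),
    mem_centralizer_singleton_iff.2 ?_⟩, ?_⟩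
  · calc d⁻¹ * g1 * u = d⁻¹ * (g1 * u * g1⁻¹) * g1 := by group
      _ = d⁻¹ * (d * u * d⁻¹) * g1 := by rw [hdu]
      _ = u * (d⁻¹ * g1) := by group
  · rw [hg1, show k⁻¹ * (d⁻¹ * ((c : G) * k)) = k⁻¹ * (d⁻¹ * c) * k⁻¹⁻¹ by group]
    exact B.actKer_conj (inv_mem hk) (mul_mem (inv_mem (hXR hd)) c.2.2)

set_option maxHeartbeats 1000000 in
/-- A group of lifts of odd order. -/
theorem exists_torus_group {S : Sylow 2 (cSub u a E)} (hX : XCfg (stabilizer G a) (xSub S) (tSub T) E u)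
    (hXR : xSub S ≤ B.actKer) :
    ∃ K' : Subgroup G, K' ≤ xNorm (stabilizer G a) (xSub S) E ∧ Odd (Nat.card K') ∧ (∀ g ∈ K', Commute g u) ∧
      (∀ g ∈ K', ∃ k ∈ K ⊔ K1, k⁻¹ * g ∈ B.actKer) ∧ (∀ k ∈ K ⊔ K1, ∃ g ∈ K', k⁻¹ * g ∈ B.actKer) ∧
      ∀ g ∈ K', g ∈ B.actKer ↔ g ∈ xKer (stabilizer G a) (xSub S) E := by
  classical
  haveI : Fact (Nat.Prime 2) := ⟨Nat.prime_two⟩
  set X := xSub S with hXd
  set N := xNorm (stabilizer G a) X E ⊓ centralizer ({u} : Set G) with hN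
  set J := N ⊓ prodSub (A := K ⊔ K1) (B := B.actKer) (fun k hk g hg => B.actKer_conj hk hg) with hJ
  have hmemJ : ∀ g, g ∈ J ↔ g ∈ N ∧ ∃ k ∈ K ⊔ K1, k⁻¹ * g ∈ B.actKer := fun g => Iff.rfl
  have hJu : ∀ g ∈ J, Commute g u := fun g hg => mem_centralizer_singleton_iff.1 hg.1.2
  have hJa : J ≤ stabilizer G a := fun g hg => (mem_inf.1 (mem_inf.1 hg.1.1).1).1
  have hJX : ∀ g ∈ J, ∀ y, g * y * g⁻¹ ∈ X ↔ y ∈ X := fun g hg y =>
    (mem_normalizer_iff.1 (mem_inf.1 (mem_inf.1 hg.1.1).1).2 y).symm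
  have hTJ : tSub T ≤ J := fun t ht => ⟨⟨hX.X_le_xNorm (hX.T_le ht),
    mem_centralizer_singleton_iff.2 (B.mem_u ht).eq⟩, 1, one_mem _, by
      rw [inv_one, one_mul]; exact B.tSub_le_actKer ht⟩
  haveI hnT : ((tSub T).subgroupOf J).Normal := ⟨fun n hn g => by
    refine mem_subgroupOf.2 ((hX.mem_T _).2 ⟨(hJX g g.2 n).2 (hX.T_le hn), ?_⟩)
    exact ((hJu g g.2).mul_left (B.mem_u hn)).mul_left (hJu g g.2).inv_left⟩
  have hodd : ¬ 2 ∣ ((tSub T).subgroupOf J).index := by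
    obtain ⟨P, hP⟩ := (B.tSub_two.comap_subtype : IsPGroup 2 ((tSub T).subgroupOf J)).exists_le_sylow
    have h1 := B.eq_tSub (R := (P : Subgroup J).map J.subtype) ((map_subtype_le _).trans hJa) (P.2.map _)
      (fun y ⟨c, _, e'⟩ => e' ▸ hJu c c.2) fun t ht => ⟨⟨t, hTJ ht⟩, hP ht, rfl⟩
    have h2 : (P : Subgroup J) = (tSub T).subgroupOf J := by
      rw [← h1, subgroupOf, comap_map_eq_self_of_injective J.subtype_injective]
    rw [← h2]
    exact P.not_dvd_index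
  have hcop : Nat.Coprime (Nat.card ((tSub T).subgroupOf J)) ((tSub T).subgroupOf J).index := by
    obtain ⟨n, hn⟩ := IsPGroup.iff_card.1 (B.tSub_two.comap_subtype : IsPGroup 2 ((tSub T).subgroupOf J))
    rw [show Nat.card ((tSub T).subgroupOf J) = 2 ^ n from hn]
    exact Nat.Coprime.pow_left n (Nat.prime_two.coprime_iff_not_dvd.2 hodd)
  obtain ⟨H, hH⟩ := exists_right_complement'_of_coprime hcop
  set K' := H.map J.subtype with hK'
  have hK'J : K' ≤ J := map_subtype_le _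
  have hK'odd : Odd (Nat.card K') := by
    rw [hK', card_map_of_injective J.subtype_injective, ← hH.symm.index_eq_card]
    exact Nat.not_even_iff_odd.1 fun h1 => hodd (even_iff_two_dvd.1 h1)
  refine ⟨K', fun g hg => (hK'J hg).1.1, hK'odd, fun g hg => hJu g (hK'J hg),
    fun g hg => (hK'J hg).2, fun k hk => ?_, fun g hg => ⟨fun hR => ?_, fun hker => ?_⟩⟩
  · obtain ⟨g, hgN, hgR⟩ := B.exists_lift hX hXR hk
    obtain ⟨⟨t, k'⟩, htk⟩ := hH.surjective ⟨g, (hmemJ g).2 ⟨hgN, k, hk, hgR⟩⟩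
    refine ⟨_, mem_map_of_mem J.subtype k'.2, ?_⟩
    have e1 : ((t : J) : G) * ((k' : J) : G) = g := congrArg Subtype.val htk
    rw [show J.subtype (k' : J) = ((k' : J) : G) from rfl,
      show k⁻¹ * ((k' : J) : G) = (k⁻¹ * ((t : J) : G)⁻¹ * k⁻¹⁻¹) * (k⁻¹ * g) by rw [← e1]; group]
    exact mul_mem (B.actKer_conj (inv_mem hk) (inv_mem (B.tSub_le_actKer (mem_subgroupOf.1 t.2)))) hgR
  · obtain ⟨⟨hgT, hgF⟩, hgE⟩ := B.mem_actKer.1 hR
    have hgu := hJu g (hK'J hg)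
    have hgo : Odd (orderOf g) := hK'odd.of_dvd_nat (Subgroup.orderOf_dvd_natCard _ hg)
    have htwo : ∀ o ∈ tSub T, ∃ k, orderOf o = 2 ^ k := fun o ho => by
      obtain ⟨k, hk⟩ := IsPGroup.iff_orderOf.1 B.tSub_two ⟨o, ho⟩
      exact ⟨k, by rwa [Subgroup.orderOf_mk] at hk⟩
    have hT : ∀ t ∈ tSub T, Commute g t := fun t ht => by
      set o := t⁻¹ * (g * t * g⁻¹) with ho
      have hoT : o ∈ tSub T := mul_mem (inv_mem ht) ((mem_normalizer_iff.1 hgT t).1 ht)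
      have hgo' : Commute g o := by
        rcases B.inv_T hoT (hgF t ht) with h1 | h1
        · exact hgE o h1
        · rw [show o = u * (u⁻¹ * o) from (mul_inv_cancel_left u o).symm]
          exact hgu.mul_right (hgE _ h1)
      have h1 := eq_one_of_shift hgo hgo' (mul_inv_cancel_left _ _).symm (htwo o hoT)
      exact mul_inv_eq_iff_eq_mul.1 (inv_mul_eq_one.1 h1).symm
    refine ⟨(hK'J hg).1.1, fun c hc => ?_⟩
    set t := c⁻¹ * (g * c * g⁻¹) with ht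
    obtain ⟨f, hf, hcu⟩ : ∃ f ∈ E, c * u * c⁻¹ = u * f :=
      ⟨u⁻¹ * (c * u * c⁻¹), ((map_subtype_le _ hc : c ∈ (cSub u a E)).1.1.2 u).2 (by
        rw [inv_mul_cancel]; exact one_mem E), (mul_inv_cancel_left _ _).symm⟩
    have htT : t ∈ tSub T := by
      refine (hX.mem_T _).2 ⟨mul_mem (inv_mem hc) ((hJX g (hK'J hg) c).2 hc), ?_⟩
      have h1 : g * c * g⁻¹ * u * (g * c * g⁻¹)⁻¹ = c * u * c⁻¹ := by
        rw [show g * c * g⁻¹ * u * (g * c * g⁻¹)⁻¹ = g * (c * (g⁻¹ * u * g) * c⁻¹) * g⁻¹ by group,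
          show g⁻¹ * u * g = u by rw [mul_assoc, ← hgu.eq, inv_mul_cancel_left], hcu,
          (hgu.mul_right (hgE f hf)).eq, mul_inv_cancel_right]
      show t * u = u * t
      calc t * u = c⁻¹ * (g * c * g⁻¹ * u * (g * c * g⁻¹)⁻¹) * (g * c * g⁻¹) := by rw [ht]; group
        _ = u * t := by rw [h1, ht]; group
    rw [eq_one_of_shift hgo (hT t htT) (mul_inv_cancel_left _ _).symm (htwo t htT)]
    exact one_mem E
  · have hgu := hJu g (hK'J hg)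
    refine B.mem_actKer.2 ⟨⟨Subgroup.mem_normalizer_fintype fun t ht => ?_,
      fun t ht => B.hE.sq _ (hker.2 t (hX.T_le ht))⟩, fun z hz => ?_⟩
    · exact (hX.mem_T _).2 ⟨(hJX g (hK'J hg) t).2 (hX.T_le ht), (hgu.mul_left (B.mem_u ht)).mul_left hgu.inv_left⟩
    · obtain ⟨c, hc, hcu⟩ := hX.trans z hz
      set f := c⁻¹ * (g * c * g⁻¹) with hf
      have hfu : Commute f u := B.mem_u (B.hE.le (hker.2 c hc))
      refine mul_inv_eq_iff_eq_mul.1 (mul_left_cancel (a := u) ?_)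
      calc u * (g * z * g⁻¹) = (g * u * g⁻¹) * (g * z * g⁻¹) := by rw [hgu.eq, mul_inv_cancel_right]
        _ = g * (c * u * c⁻¹) * g⁻¹ := by rw [hcu]; group
        _ = (g * c * g⁻¹) * (g * u * g⁻¹) * (g * c * g⁻¹)⁻¹ := by group
        _ = (c * f) * u * (c * f)⁻¹ := by rw [hgu.eq, mul_inv_cancel_right, hf, mul_inv_cancel_left]
        _ = c * (f * u * f⁻¹) * c⁻¹ := by group
        _ = u * z := by rw [hfu.eq, mul_inv_cancel_right, hcu]

set_option maxHeartbeats 1600000 in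
/-- The torus with its fixed cosets. -/
theorem exists_torus3 {S : Sylow 2 (cSub u a E)} (hX : XCfg (stabilizer G a) (xSub S) (tSub T) E u)
    (hXR : xSub S ≤ B.actKer) :
    ∃ (Kp K1p K0 : Subgroup G) (m g3 : ℕ),
      TorusCfg (stabilizer G a) (xSub S) (tSub T) E u Kp K1p K0 r m g3 ∧
        TorusAct (stabilizer G a) (xSub S) E K Kp := by
  classical
  haveI : Fact (Nat.Prime 2) := ⟨Nat.prime_two⟩
  obtain ⟨K0, hK0N, hK0odd, hK0u, hK0act, hreal, hK0ker⟩ := B.exists_torus_group hX hXR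
  set X := xSub S with hXd
  set M := stabilizer G a with hM
  have hKK : ∀ k ∈ K, k ∈ K ⊔ K1 := fun k hk => mem_sup_left hk
  have hKK1 : ∀ k ∈ K1, k ∈ K ⊔ K1 := fun k hk => mem_sup_right hk
  set Kp := K0 ⊓ prodSub (A := K) (B := B.actKer) (fun k hk g hg => B.actKer_conj (hKK k hk) hg) with hKp
  set K1p := K0 ⊓ prodSub (A := K1) (B := B.actKer) (fun k hk g hg => B.actKer_conj (hKK1 k hk) hg) with hK1p
  have hmemKp : ∀ g, g ∈ Kp ↔ g ∈ K0 ∧ ∃ k ∈ K, k⁻¹ * g ∈ B.actKer := fun g => Iff.rfl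
  have hmemK1 : ∀ g, g ∈ K1p ↔ g ∈ K0 ∧ ∃ k ∈ K1, k⁻¹ * g ∈ B.actKer := fun g => Iff.rfl
  have hKpK : Kp ≤ K0 := inf_le_left
  have hK1K : K1p ≤ K0 := inf_le_left
  -- the action on `E`
  have hact : ∀ {g k : G}, k⁻¹ * g ∈ B.actKer → ∀ z ∈ E, g * z * g⁻¹ = k * z * k⁻¹ := fun {g k} h z hz => by
    have h1 := (B.mem_actKer.1 h).2 z hz
    rw [show g * z * g⁻¹ = k * ((k⁻¹ * g) * z * (k⁻¹ * g)⁻¹) * k⁻¹ by group, h1.eq, mul_inv_cancel_right]
  have hK1cen : ∀ g ∈ K1p, ∀ z ∈ E, Commute g z := by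
    rintro g ⟨-, k, hk, hgk⟩ z hz
    refine mul_inv_eq_iff_eq_mul.1 ((hact hgk z hz).trans ?_)
    rw [(B.hL.K1_eset k hk z hz).eq, mul_inv_cancel_right]
  -- `K K1`
  have hdec : ∀ k ∈ K ⊔ K1, ∃ k0 ∈ K, ∃ k1 ∈ K1, k = k0 * k1 := by
    have hn : ∀ k ∈ K, ∀ l ∈ K1, k * l * k⁻¹ ∈ K1 := fun k hk l hl => by
      rw [(B.hL.K_comm k (hKK k hk) l (hKK1 l hl)).eq, mul_inv_cancel_right]; exact hl
    have h1 : K ⊔ K1 ≤ prodSub hn := sup_le
      (fun k hk => ⟨k, hk, by rw [inv_mul_cancel]; exact one_mem _⟩)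
      (fun k hk => ⟨1, one_mem _, by rwa [inv_one, one_mul]⟩)
    intro k hk
    obtain ⟨k0, hk0, hk1⟩ := h1 hk
    exact ⟨k0, hk0, k0⁻¹ * k, hk1, (mul_inv_cancel_left _ _).symm⟩
  -- an element of `K0` centralising a non-trivial element of `E`
  have hfpf : ∀ g ∈ K0, ∀ z ∈ E, z ≠ 1 → g * z * g⁻¹ = z → g ∈ K1p := by
    intro g hg z hz hz1 hgz
    obtain ⟨k, hk, hgk⟩ := hK0act g hg
    obtain ⟨k0, hk0, k1, hk1, rfl⟩ := hdec k hk
    rw [hact hgk z hz, show k0 * k1 * z * (k0 * k1)⁻¹ = k0 * (k1 * z * k1⁻¹) * k0⁻¹ by group,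
      (B.hL.K1_eset k1 hk1 z hz).eq, mul_inv_cancel_right] at hgz
    have h1 := (B.ker_iff (hKK k0 hk0)).2 (B.hL.K_fpf k0 hk0 z hz hz1 (mul_inv_eq_iff_eq_mul.1 hgz))
    refine ⟨hg, k1, hk1, ?_⟩
    rw [show k1⁻¹ * g = (k1⁻¹ * k0 * k1⁻¹⁻¹) * ((k0 * k1)⁻¹ * g) by group]
    exact mul_mem (B.actKer_conj (inv_mem (hKK1 k1 hk1)) h1) hgk
  -- fixed classes in `T`
  have hsq : ∀ g ∈ K0, g ∉ xKer M X E → ∀ t ∈ tSub T,
      t⁻¹ * (g * t * g⁻¹) * (t⁻¹ * (g * t * g⁻¹)) = 1 → t * t = 1 := by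
    intro g hg hgk t ht hfix
    obtain ⟨k, hk, hgR⟩ := hK0act g hg
    refine B.sq_one_of_fixed hk hgR (fun hk0 => hgk ((hK0ker g hg).1 ?_)) ht hfix
    rw [show g = k * (k⁻¹ * g) from (mul_inv_cancel_left k g).symm]
    exact mul_mem ((B.ker_iff hk).2 hk0) hgR
  have hval : ∀ c ∈ X, u⁻¹ * (c * u * c⁻¹) ∈ E := fun c hc =>
    ((map_subtype_le _ hc : c ∈ cSub u a E).1.1.2 u).2 (by rw [inv_mul_cancel]; exact one_mem E)
  have hzfix : ∀ g ∈ K0, ∀ c ∈ X, c⁻¹ * (g * c * g⁻¹) ∈ E →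
      g * (u⁻¹ * (c * u * c⁻¹)) * g⁻¹ = u⁻¹ * (c * u * c⁻¹) := by
    intro g hg c hc hcg
    set f := c⁻¹ * (g * c * g⁻¹) with hf
    have hfu : Commute f u := B.mem_u (B.hE.le hcg)
    have hgu := hK0u g hg
    calc g * (u⁻¹ * (c * u * c⁻¹)) * g⁻¹
        = (g * u * g⁻¹)⁻¹ * ((g * c * g⁻¹) * (g * u * g⁻¹) * (g * c * g⁻¹)⁻¹) := by group
      _ = u⁻¹ * ((c * f) * u * (c * f)⁻¹) := by rw [hgu.eq, mul_inv_cancel_right, hf, mul_inv_cancel_left]
      _ = u⁻¹ * (c * (f * u * f⁻¹) * c⁻¹) := by group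
      _ = u⁻¹ * (c * u * c⁻¹) := by rw [hfu.eq, mul_inv_cancel_right]
  have hTu : ∀ c ∈ X, u⁻¹ * (c * u * c⁻¹) = 1 → c ∈ tSub T := fun c hc e =>
    (hX.mem_T c).2 ⟨hc, mul_inv_eq_iff_eq_mul.1 (inv_mul_eq_one.1 e).symm⟩
  -- the fixed cosets form a subgroup
  have hfmul : ∀ {g y w : G}, y ∈ X → w ∈ X → y⁻¹ * (g * y * g⁻¹) ∈ E → w⁻¹ * (g * w * g⁻¹) ∈ E →
      (y * w)⁻¹ * (g * (y * w) * g⁻¹) ∈ E := fun {g y w} hy hw h1 h2 => by
    rw [show (y * w)⁻¹ * (g * (y * w) * g⁻¹) = w⁻¹ * (y⁻¹ * (g * y * g⁻¹)) * w * (w⁻¹ * (g * w * g⁻¹)) by group,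
      mul_assoc (w⁻¹) _ w, (hX.E_cen _ h1 w hw).eq, inv_mul_cancel_left]
    exact mul_mem h1 h2
  have hfinv : ∀ {g y : G}, y ∈ X → y⁻¹ * (g * y * g⁻¹) ∈ E → y⁻¹⁻¹ * (g * y⁻¹ * g⁻¹) ∈ E := fun {g y} hy h1 => by
    rw [show y⁻¹⁻¹ * (g * y⁻¹ * g⁻¹) = y * (y⁻¹ * (g * y * g⁻¹))⁻¹ * y⁻¹ by group,
      ← (hX.E_cen _ (inv_mem h1) y hy).eq, mul_inv_cancel_right]
    exact inv_mem h1
  have hinvfix : ∀ w ∈ tSub T, w * w = 1 → w ∈ fixCos X E K1p := fun w hw hw1 => by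
    refine ⟨hX.T_le hw, fun g hg => ?_⟩
    have hgw : Commute g w := by
      rcases B.inv_T hw hw1 with h1 | h1
      · exact hK1cen g hg w h1
      · rw [show w = u * (u⁻¹ * w) from (mul_inv_cancel_left u w).symm]
        exact (hK0u g (hK1K hg)).mul_right (hK1cen g hg _ h1)
    rw [hgw.eq, mul_inv_cancel_right, inv_mul_cancel]
    exact one_mem E
  -- a lift outside the kernel
  obtain ⟨g3, hg3, hg3c⟩ := B.hL.K1_card rfl
  obtain ⟨k1, hk1, hk1ker⟩ : ∃ k ∈ K1, k ∉ kerCore Ω u := by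
    by_contra! hall
    rw [relIndex_eq_one.2 fun k hk => fixCore_le _ (mem_kerCore.1 (hall k hk)).1, one_mul] at hg3c
    have := Nat.le_of_dvd (by norm_num) hg3
    have := B.four_le
    omega
  obtain ⟨g1, hg1, hg1R⟩ := hreal k1 (hKK1 k1 hk1)
  have hg1K : g1 ∈ K1p := ⟨hg1, k1, hk1, hg1R⟩
  have hfixT : ∀ y ∈ fixCos X E K1p, y ∈ tSub T → y * y = 1 := fun y hy hyT =>
    B.sq_one_of_fixed (hKK1 k1 hk1) hg1R hk1ker hyT (B.hE.sq _ (hy.2 g1 hg1K))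
  -- each coset of `T` has a fixed coset
  have hcomm : ∀ y ∈ X, ∀ z ∈ X, y * z * y⁻¹ * z⁻¹ ∈ E := by
    intro y hy z hz
    have h1 := hX.X_sq _ (mul_mem hy hz)
    have h2 := hX.X_sq _ hy
    have h3 := hX.X_sq _ hz
    rw [show y * z * y⁻¹ * z⁻¹ = (y * z * (y * z)) * (z * z)⁻¹ * (z * (y * y)⁻¹ * z⁻¹) by group,
      (hX.E_cen _ (inv_mem h2) z hz).symm.eq, mul_inv_cancel_right]
    exact mul_mem (mul_mem h1 (inv_mem h3)) (inv_mem h2)
  haveI hnE : (E.subgroupOf X).Normal := hX.normal_sub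
  letI : CommGroup (XVec X E) :=
    { (inferInstance : Group (XVec X E)) with
      mul_comm := fun p q => QuotientGroup.induction_on p fun y => QuotientGroup.induction_on q fun z => by
        rw [← QuotientGroup.mk_mul, ← QuotientGroup.mk_mul, xVec_eq_iff]
        have h1 := hcomm _ (inv_mem z.2) _ (inv_mem y.2)
        rw [inv_inv, inv_inv] at h1
        rwa [Subgroup.coe_mul, Subgroup.coe_mul, mul_inv_rev, ← mul_assoc] }
  have hcover : ∀ c ∈ X, ∃ y ∈ fixCos X E K1p, y⁻¹ * c ∈ tSub T := by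
    intro c hc
    have hconj : ∀ g ∈ K1p, ∀ y ∈ X, g * y * g⁻¹ ∈ X := fun g hg y hy =>
      (mem_normalizer_iff.1 (mem_inf.1 (mem_inf.1 (hK0N (hK1K hg))).1).2 y).1 hy
    haveI : Fintype K1p := Fintype.ofFinite _
    let f : K1p → XVec X E := fun g => QuotientGroup.mk ⟨g * c * (g : G)⁻¹, hconj g g.2 c hc⟩
    set c0 : XVec X E := QuotientGroup.mk (⟨c, hc⟩ : X) with hc0
    set TV : Subgroup (XVec X E) := ((tSub T).subgroupOf X).map (QuotientGroup.mk' (E.subgroupOf X)) with hTV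
    have hdiff : ∀ g : K1p, c0⁻¹ * f g ∈ TV := fun g => by
      refine ⟨⟨c⁻¹ * ((g : G) * c * (g : G)⁻¹), mul_mem (inv_mem hc) (hconj g g.2 c hc)⟩, ?_, rfl⟩
      refine mem_subgroupOf.2 ((hX.mem_T _).2 ⟨mul_mem (inv_mem hc) (hconj g g.2 c hc), ?_⟩)
      set z := u⁻¹ * (c * u * c⁻¹) with hz
      have hgu : Commute (g : G) u := hK0u g (hK1K g.2)
      have h1 : (g : G) * c * (g : G)⁻¹ * u * ((g : G) * c * (g : G)⁻¹)⁻¹ = u * z := by
        rw [show (g : G) * c * (g : G)⁻¹ * u * ((g : G) * c * (g : G)⁻¹)⁻¹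
            = (g : G) * (c * ((g : G)⁻¹ * u * g) * c⁻¹) * (g : G)⁻¹ by group,
          show (g : G)⁻¹ * u * g = u by rw [mul_assoc, ← hgu.eq, inv_mul_cancel_left],
          show c * u * c⁻¹ = u * z from (mul_inv_cancel_left _ _).symm,
          (hgu.mul_right (hK1cen g g.2 z (hval c hc))).eq, mul_inv_cancel_right]
      show c⁻¹ * ((g : G) * c * (g : G)⁻¹) * u = u * (c⁻¹ * ((g : G) * c * (g : G)⁻¹))
      calc c⁻¹ * ((g : G) * c * (g : G)⁻¹) * u = c⁻¹ * ((g : G) * c * (g : G)⁻¹ * u * ((g : G) * c * (g : G)⁻¹)⁻¹) *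
            ((g : G) * c * (g : G)⁻¹) := by group
        _ = c⁻¹ * (u * z) * ((g : G) * c * (g : G)⁻¹) := by rw [h1]
        _ = u * (c⁻¹ * ((g : G) * c * (g : G)⁻¹)) := by rw [hz]; group
    have hP : c0⁻¹ * ∏ g, f g ∈ TV := by
      have h1 : (∏ g, c0⁻¹ * f g) ∈ TV := prod_mem fun g _ => hdiff g
      rw [Finset.prod_mul_distrib, Finset.prod_const, Finset.card_univ, ← Nat.card_eq_fintype_card] at h1
      obtain ⟨j, hj⟩ := hK0odd.of_dvd_nat (Subgroup.card_dvd_of_le hK1K)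
      have hc2 : c0⁻¹ ^ 2 = 1 := by
        rw [inv_pow, inv_eq_one, pow_two, hc0, ← QuotientGroup.mk_mul, QuotientGroup.eq_one_iff]
        exact mem_subgroupOf.2 (hX.X_sq c hc)
      rwa [hj, pow_succ, pow_mul, hc2, one_pow, one_mul] at h1
    obtain ⟨y, hy⟩ := QuotientGroup.mk_surjective (∏ g, f g)
    refine ⟨(y : G), ⟨y.2, fun g hg => ?_⟩, ?_⟩
    · let Φ : XVec X E →* XVec X E := QuotientGroup.map (E.subgroupOf X) (E.subgroupOf X)
        { toFun := fun w => ⟨g * (w : G) * g⁻¹, hconj g hg w w.2⟩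
          map_one' := Subtype.ext (by simp)
          map_mul' := fun v w => Subtype.ext (show g * ((v : G) * w) * g⁻¹ = g * v * g⁻¹ * (g * w * g⁻¹) by group) }
        fun w hw => by
          show g * (w : G) * g⁻¹ ∈ E
          exact (mem_normalizer_iff.1 (mem_inf.1 (hK0N (hK1K hg))).2 _).1 hw
      have hΦf : ∀ h : K1p, Φ (f h) = f (⟨g, hg⟩ * h) := fun h => by
        show QuotientGroup.mk _ = QuotientGroup.mk _
        refine congrArg QuotientGroup.mk (Subtype.ext ?_)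
        show g * ((h : G) * c * (h : G)⁻¹) * g⁻¹ = g * (h : G) * c * (g * (h : G))⁻¹
        group
      have hΦ : Φ (QuotientGroup.mk y) = QuotientGroup.mk y := by
        rw [hy, map_prod, Finset.prod_congr rfl fun h _ => hΦf h]
        exact Fintype.prod_equiv (Equiv.mulLeft ⟨g, hg⟩) _ _ fun _ => rfl
      exact xVec_eq_iff.1 hΦ.symm
    · rw [← hy] at hP
      obtain ⟨t, ht, hty⟩ := hP
      have h1 : (t : G)⁻¹ * (c⁻¹ * y) ∈ E :=
        xVec_eq_iff.1 (hty : (QuotientGroup.mk t : XVec X E) = QuotientGroup.mk ((⟨c, hc⟩ : X)⁻¹ * y))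
      have h2 : c⁻¹ * (y : G) ∈ tSub T := by
        rw [show c⁻¹ * (y : G) = (t : G) * ((t : G)⁻¹ * (c⁻¹ * y)) from (mul_inv_cancel_left _ _).symm]
        exact mul_mem (mem_subgroupOf.1 ht) (B.hE.le h1)
      have h3 := inv_mem h2
      rwa [mul_inv_rev, inv_inv] at h3
  -- representatives
  have hrep : ∀ z ∈ E, ∃ y ∈ fixCos X E K1p, u⁻¹ * (y * u * y⁻¹) = z := fun z hz => by
    obtain ⟨c, hc, hcu⟩ := hX.trans z hz
    obtain ⟨y, hy, hyc⟩ := hcover c hc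
    refine ⟨y, hy, ?_⟩
    rw [show y * u * y⁻¹ = c * u * c⁻¹ by
      calc y * u * y⁻¹ = y * ((y⁻¹ * c) * u * (y⁻¹ * c)⁻¹) * y⁻¹ := by
            rw [(B.mem_u hyc).eq, mul_inv_cancel_right]
        _ = _ := by group, hcu, inv_mul_cancel_left]
  have hncard : (fixCos X E K1p).ncard = 2 * 2 ^ r * Nat.card E := by
    obtain ⟨O, hO, hOc⟩ := B.exists_om
    choose y hy hyz using hrep
    let φ : E × O → (fixCos X E K1p : Set G) := fun p =>
      ⟨y p.1 p.1.2 * (p.2.1 : G), mul_mem (hy p.1 p.1.2).1 (hX.T_le p.2.1.2), fun g hg =>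
        hfmul (hy p.1 p.1.2).1 (hX.T_le p.2.1.2) ((hy p.1 p.1.2).2 g hg)
          ((hinvfix _ p.2.1.2 ((hO _).1 p.2.2)).2 g hg)⟩
    have hφ : Function.Bijective φ := by
      constructor
      · rintro ⟨⟨z, hz⟩, ⟨⟨w, hw⟩, hwO⟩⟩ ⟨⟨z', hz'⟩, ⟨⟨w', hw'⟩, hwO'⟩⟩ e
        have e1 : y z hz * w = y z' hz' * w' := congrArg Subtype.val e
        have hzz : z = z' := by
          rw [← hyz z hz, ← hyz z' hz']
          have h1 : ∀ {v s : G}, s ∈ tSub T → v * s * u * (v * s)⁻¹ = v * u * v⁻¹ := fun {v s} hs => by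
            rw [show v * s * u * (v * s)⁻¹ = v * (s * u * s⁻¹) * v⁻¹ by group, (B.mem_u hs).eq, mul_inv_cancel_right]
          rw [← h1 hw, e1, h1 hw']
        subst hzz
        exact Prod.ext rfl (Subtype.ext (Subtype.ext (mul_left_cancel e1)))
      · rintro ⟨v, hv⟩
        set z := u⁻¹ * (v * u * v⁻¹) with hz
        have hzE := hval v hv.1
        set s := (y z hzE)⁻¹ * v with hs
        have hyX := (hy z hzE).1
        have hsfix : s ∈ fixCos X E K1p := ⟨mul_mem (inv_mem hyX) hv.1, fun g hg =>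
          hfmul (inv_mem hyX) hv.1 (hfinv hyX ((hy z hzE).2 g hg)) (hv.2 g hg)⟩
        have hsT : s ∈ tSub T := by
          refine hTu s hsfix.1 ?_
          have e1 : y z hzE * u * (y z hzE)⁻¹ = v * u * v⁻¹ := mul_left_cancel (a := u⁻¹) (hyz z hzE)
          rw [hs, show (y z hzE)⁻¹ * v * u * ((y z hzE)⁻¹ * v)⁻¹ = (y z hzE)⁻¹ * (v * u * v⁻¹) * y z hzE by group,
            ← e1]
          group
        refine ⟨(⟨z, hzE⟩, ⟨⟨s, hsT⟩, (hO _).2 (hfixT s hsfix hsT)⟩), Subtype.ext ?_⟩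
        exact mul_inv_cancel_left _ _
    rw [← Nat.card_coe_set_eq, ← Nat.card_eq_of_bijective φ hφ, Nat.card_prod, hOc, mul_comm]
  -- counting
  obtain ⟨z0, hz0, -, -, hz01, -, -⟩ := B.hE.two
  have hK0E : ∀ g ∈ K0, g * z0 * g⁻¹ ∈ E := fun g hg =>
    (mem_normalizer_iff.1 (mem_inf.1 (hK0N hg)).2 z0).1 hz0
  have horb : ∀ H : Subgroup G, H ≤ K0 → (∀ k ∈ K, ∃ g ∈ H, k⁻¹ * g ∈ B.actKer) →
      SixInv.orb H z0 = (E : Set G) \ {1} := by
    intro H hH hHK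
    ext z
    constructor
    · rintro ⟨g, hg, rfl⟩
      exact ⟨hK0E g (hH hg), fun e => hz01 (conj_eq_one_iff.1 e)⟩
    · rintro ⟨hz, hz1⟩
      obtain ⟨k, hk, hkz⟩ := B.hL.K_trans z0 hz0 z hz hz01 hz1
      obtain ⟨g, hg, hgk⟩ := hHK k hk
      exact ⟨g, hg, (hact hgk z0 hz0).trans hkz⟩
  have hEcard : ((E : Set G) \ {1}).ncard = 2 ^ r - 1 := by
    rw [Set.ncard_sdiff_singleton_of_mem (one_mem E),
      show (E : Set G).ncard = 2 ^ r by rw [← Nat.card_coe_set_eq]; exact B.hL.card_eset]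
  have hkerK1 : ∀ g ∈ K0, g ∈ xKer M X E → g ∈ K1p := fun g hg hgk =>
    ⟨hg, 1, one_mem _, by rw [inv_one, one_mul]; exact (hK0ker g hg).2 hgk⟩
  -- the index of the kernel in `K1p`
  set i1 := (xKer M X E).relIndex K1p with hi1
  have hi1eq : i1 = (fixStab Ω u).relIndex K1 := by
    let P : Subgroup (G × G) := (K1p.prod K1) ⊓
      { carrier := {p | p.2 ∈ K ⊔ K1 ∧ p.2⁻¹ * p.1 ∈ B.actKer}
        one_mem' := ⟨one_mem _, by simp⟩
        mul_mem' := fun {p q} hp hq => ⟨mul_mem hp.1 hq.1, by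
          show (p.2 * q.2)⁻¹ * (p.1 * q.1) ∈ B.actKer
          rw [show (p.2 * q.2)⁻¹ * (p.1 * q.1) = q.2⁻¹ * (p.2⁻¹ * p.1) * q.2⁻¹⁻¹ * (q.2⁻¹ * q.1) by group]
          exact mul_mem (B.actKer_conj (inv_mem hq.1) hp.2) hq.2⟩
        inv_mem' := fun {p} hp => ⟨inv_mem hp.1, by
          show p.2⁻¹⁻¹ * p.1⁻¹ ∈ B.actKer
          rw [show p.2⁻¹⁻¹ * p.1⁻¹ = p.2 * (p.2⁻¹ * p.1)⁻¹ * p.2⁻¹ by group]
          exact B.actKer_conj hp.1 (inv_mem hp.2)⟩ }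
    have hP : ∀ p, p ∈ P ↔ (p.1 ∈ K1p ∧ p.2 ∈ K1) ∧ p.2⁻¹ * p.1 ∈ B.actKer := fun p =>
      ⟨fun h => ⟨mem_prod.1 h.1, h.2.2⟩, fun h => ⟨mem_prod.2 h.1, hKK1 _ h.1.2, h.2⟩⟩
    let F1 : P →* G := (MonoidHom.fst G G).comp P.subtype
    let F2 : P →* G := (MonoidHom.snd G G).comp P.subtype
    have r1 : F1.range = K1p := by
      ext g
      constructor
      · rintro ⟨p, rfl⟩; exact ((hP p).1 p.2).1.1
      · rintro ⟨hg, k, hk, hgk⟩
        exact ⟨⟨(g, k), (hP _).2 ⟨⟨⟨hg, k, hk, hgk⟩, hk⟩, hgk⟩⟩, rfl⟩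
    have r2 : F2.range = K1 := by
      ext k
      constructor
      · rintro ⟨p, rfl⟩; exact ((hP p).1 p.2).1.2
      · intro hk
        obtain ⟨g, hg, hgk⟩ := hreal k (hKK1 k hk)
        exact ⟨⟨(g, k), (hP _).2 ⟨⟨⟨hg, k, hk, hgk⟩, hk⟩, hgk⟩⟩, rfl⟩
    have k1 : Nat.card F1.ker = Nat.card ↥(fixStab Ω u ⊓ K1) := by
      refine Nat.card_congr
        { toFun := fun p => ⟨p.1.1.2, ?_, ((hP _).1 p.1.2).1.2⟩
          invFun := fun k => ⟨⟨(1, k.1), (hP _).2 ⟨⟨one_mem _, k.2.2⟩, ?_⟩⟩, rfl⟩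
          left_inv := fun p => Subtype.ext (Subtype.ext (Prod.ext (show p.1.1.1 = 1 from p.2).symm rfl))
          right_inv := fun k => rfl }
      · obtain ⟨⟨-, hk⟩, h1⟩ := (hP _).1 p.1.2
        rw [show p.1.1.1 = 1 from p.2, mul_one, inv_mem_iff] at h1
        exact fixCore_le _ (mem_kerCore.1 ((B.ker_iff (hKK1 _ hk)).1 h1)).1
      · show (k : G)⁻¹ * 1 ∈ B.actKer
        rw [mul_one, inv_mem_iff]
        exact (B.ker_iff (hKK1 _ k.2.2)).2 (B.hL.kernel_fix (B.hL.K1_le k.2.2) k.2.1)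
    have k2 : Nat.card F2.ker = Nat.card ↥(xKer M X E ⊓ K1p) := by
      refine Nat.card_congr
        { toFun := fun p => ⟨p.1.1.1, ?_, ((hP _).1 p.1.2).1.1⟩
          invFun := fun g => ⟨⟨(g.1, 1), (hP _).2 ⟨⟨g.2.2, one_mem _⟩, ?_⟩⟩, rfl⟩
          left_inv := fun p => Subtype.ext (Subtype.ext (Prod.ext rfl (show p.1.1.2 = 1 from p.2).symm))
          right_inv := fun k => rfl }
      · obtain ⟨⟨hg, -⟩, h1⟩ := (hP _).1 p.1.2
        rw [show p.1.1.2 = 1 from p.2, inv_one, one_mul] at h1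
        exact (hK0ker _ (hK1K hg)).1 h1
      · show (1 : G)⁻¹ * (g : G) ∈ B.actKer
        rw [inv_one, one_mul]
        exact (hK0ker _ (hK1K g.2.2)).2 g.2.1
    have c1 := F1.ker.card_mul_index
    have c2 := F2.ker.card_mul_index
    rw [Subgroup.index_ker, r1, k1] at c1
    rw [Subgroup.index_ker, r2, k2] at c2
    have d1 := Subgroup.card_mul_index ((xKer M X E ⊓ K1p).subgroupOf K1p)
    have d2 := Subgroup.card_mul_index ((fixStab Ω u ⊓ K1).subgroupOf K1)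
    rw [Nat.card_congr (Subgroup.subgroupOfEquivOfLe inf_le_right).toEquiv] at d1 d2
    change _ * (xKer M X E ⊓ K1p).relIndex K1p = _ at d1
    change _ * (fixStab Ω u ⊓ K1).relIndex K1 = _ at d2
    rw [Subgroup.inf_relIndex_right, ← hi1] at d1
    rw [Subgroup.inf_relIndex_right] at d2
    refine Nat.eq_of_mul_eq_mul_left (Nat.mul_pos (Nat.card_pos (α := ↥(xKer M X E ⊓ K1p)))
      (Nat.card_pos (α := ↥(fixStab Ω u ⊓ K1)))) ?_
    calc _ = Nat.card ↥(fixStab Ω u ⊓ K1) * (Nat.card ↥(xKer M X E ⊓ K1p) * i1) := by ring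
      _ = Nat.card ↥(xKer M X E ⊓ K1p) * Nat.card K1 := by rw [d1, c1, ← c2]
      _ = _ := by rw [← d2]; ring
  have hm : (xKer M X E).relIndex K0 = (2 ^ r - 1) * i1 := by
    have h1 := SixInv.orb_card K0 z0
    have hinf : K0 ⊓ centralizer ({z0} : Set G) = K1p := by
      ext g
      rw [mem_inf, mem_centralizer_singleton_iff]
      exact ⟨fun ⟨hg, hgz⟩ => hfpf g hg z0 hz0 hz01 (mul_inv_eq_iff_eq_mul.2 hgz),
        fun hg => ⟨hK1K hg, (hK1cen g hg z0 hz0).eq⟩⟩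
    rw [horb K0 le_rfl fun k hk => hreal k (hKK k hk), hEcard, hinf] at h1
    have h2 : xKer M X E ⊓ K0 = xKer M X E ⊓ K1p :=
      le_antisymm (fun g hg => ⟨hg.1, hkerK1 g hg.2 hg.1⟩) (inf_le_inf_left _ hK1K)
    have d1 := Subgroup.card_mul_index ((xKer M X E ⊓ K1p).subgroupOf K1p)
    have d0 := Subgroup.card_mul_index ((xKer M X E ⊓ K0).subgroupOf K0)
    rw [Nat.card_congr (Subgroup.subgroupOfEquivOfLe inf_le_right).toEquiv] at d1 d0
    change _ * (xKer M X E ⊓ K1p).relIndex K1p = _ at d1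
    change _ * (xKer M X E ⊓ K0).relIndex K0 = _ at d0
    rw [Subgroup.inf_relIndex_right, ← hi1] at d1
    rw [Subgroup.inf_relIndex_right, h2, ← h1, ← d1] at d0
    exact Nat.eq_of_mul_eq_mul_left Nat.card_pos (d0.trans (by ring))
  have hinfz : ∀ z ∈ E, z ≠ 1 → Kp ⊓ centralizer ({z} : Set G) = xKer M X E ⊓ Kp := by
    intro z hz hz1
    ext g
    rw [mem_inf, mem_inf, mem_centralizer_singleton_iff, and_comm]
    refine and_congr_left fun hg => ⟨fun hgz => ?_, fun hgk => ?_⟩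
    · obtain ⟨-, k, hk, hgk⟩ := (hmemKp g).1 hg
      have e1 := (hact hgk z hz).symm.trans (mul_inv_eq_iff_eq_mul.2 hgz)
      refine (hK0ker g (hKpK hg)).1 ?_
      rw [show g = k * (k⁻¹ * g) from (mul_inv_cancel_left k g).symm]
      exact mul_mem ((B.ker_iff (hKK k hk)).2 (B.hL.K_fpf k hk z hz hz1 (mul_inv_eq_iff_eq_mul.1 e1))) hgk
    · exact ((B.mem_actKer.1 ((hK0ker g (hKpK hg)).2 hgk)).2 z hz).eq
  refine ⟨Kp, K1p, K0, _, g3, {
    K_le := hKpK.trans hK0N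
    K1_le := hK1K.trans hK0N
    K0_le := hK0N
    K_le_K0 := hKpK
    K1_le_K0 := hK1K
    K0_comm := hK0u
    K1_cen := hK1cen
    K0_odd := hK0odd
    K_card := ?_
    K0_card := hm
    g3_cases := (Nat.dvd_prime Nat.prime_three).1 hg3
    g3_r := fun e => ?_
    g3_eq := ?_
    K1_card := by rw [← hi1, hi1eq, mul_comm]; exact hg3c
    K_free := fun g hg c hc hcg => ?_
    K_stab := fun k hk y hy => ?_
    ncard_fix := hncard
    hfree := fun g hg c hc hcg => ?_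
    fix_T := fun y hy hyT => B.inv_T hyT (hfixT y hy hyT)
    fix_cover := hcover }, ⟨fun g hg => ?_, fun k hk => ?_, hinfz⟩⟩
  · have h1 := SixInv.orb_card Kp z0
    have hinf := hinfz z0 hz0 hz01
    rw [horb Kp hKpK fun k hk => (hreal k (hKK k hk)).imp fun g h => ⟨⟨h.1, k, hk, h.2⟩, h.2⟩, hEcard, hinf] at h1
    have d0 := Subgroup.card_mul_index ((xKer M X E ⊓ Kp).subgroupOf Kp)
    rw [Nat.card_congr (Subgroup.subgroupOfEquivOfLe inf_le_right).toEquiv] at d0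
    change _ * (xKer M X E ⊓ Kp).relIndex Kp = _ at d0
    rw [Subgroup.inf_relIndex_right, ← h1] at d0
    exact Nat.eq_of_mul_eq_mul_left Nat.card_pos (d0.trans (mul_comm _ _))
  · have := B.hL.two_le
    by_contra h3
    have hr2 : r = 2 := by omega
    rw [e, hr2] at hg3c
    omega
  · rw [hi1eq]
    obtain ⟨p, hp⟩ : ∃ p, 2 ^ r = p + 1 := ⟨2 ^ r - 1, by have := Nat.two_pow_pos r; omega⟩
    calc g3 * ((2 ^ r - 1) * (fixStab Ω u).relIndex K1) + 1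
        = (2 ^ r - 1) * ((fixStab Ω u).relIndex K1 * g3) + 1 := by ring
      _ = 2 ^ r * 2 ^ r := by rw [hg3c, hp, Nat.add_sub_cancel]; ring
  · by_cases hgk : g ∈ xKer M X E
    · exact Or.inl hgk
    refine Or.inr ?_
    have hz := hzfix g (hKpK hg) c hc hcg
    by_cases hz1 : u⁻¹ * (c * u * c⁻¹) = 1
    · have hcT := hTu c hc hz1
      exact B.inv_T hcT (hsq g (hKpK hg) hgk c hcT (B.hE.sq _ hcg))
    · obtain ⟨-, k, hk, hgR⟩ := (hmemKp g).1 hg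
      have h1 := B.hL.K_fpf k hk _ (hval c hc) hz1
        (mul_inv_eq_iff_eq_mul.1 ((hact hgR _ (hval c hc)).symm.trans hz))
      refine absurd ((hK0ker g (hKpK hg)).1 ?_) hgk
      rw [show g = k * (k⁻¹ * g) from (mul_inv_cancel_left k g).symm]
      exact mul_mem ((B.ker_iff (hKK k hk)).2 h1) hgR
  · have hkN := mem_inf.1 (hK0N (hKpK hk))
    refine ⟨(mem_normalizer_iff.1 (mem_inf.1 hkN.1).2 y).1 hy.1, fun g hg => ?_⟩
    have hg' : k⁻¹ * g * k ∈ K1p := by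
      obtain ⟨hgK, l, hl, hgl⟩ := (hmemK1 g).1 hg
      obtain ⟨-, j, hj, hkj⟩ := (hmemKp k).1 hk
      refine ⟨K0.mul_mem (K0.mul_mem (K0.inv_mem (hKpK hk)) hgK) (hKpK hk), l, hl, ?_⟩
      set ρ := j⁻¹ * k with hρ
      have hjl : Commute j l := B.hL.K_comm j (hKK j hj) l (hKK1 l hl)
      rw [show l⁻¹ * (k⁻¹ * g * k) = (l⁻¹ * ρ⁻¹ * l⁻¹⁻¹) * (l⁻¹ * (j⁻¹ * l * j)) * (j⁻¹ * (l⁻¹ * g) * j⁻¹⁻¹) * ρ by
          rw [hρ]; group,
        show j⁻¹ * l * j = l by rw [mul_assoc, ← hjl.eq, inv_mul_cancel_left], inv_mul_cancel, mul_one]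
      exact mul_mem (mul_mem (B.actKer_conj (inv_mem (hKK1 l hl)) (inv_mem hkj))
        (B.actKer_conj (inv_mem (hKK j hj)) hgl)) hkj
    have h1 := hy.2 _ hg'
    rw [show (k * y * k⁻¹)⁻¹ * (g * (k * y * k⁻¹) * g⁻¹)
      = k * (y⁻¹ * (k⁻¹ * g * k * y * (k⁻¹ * g * k)⁻¹)) * k⁻¹ by group]
    exact (mem_normalizer_iff.1 hkN.2 _).1 h1
  · by_cases hgk : g ∈ xKer M X E
    · exact Or.inl hgk
    refine Or.inr ?_
    have hz := hzfix g hg c hc hcg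
    by_cases hz1 : u⁻¹ * (c * u * c⁻¹) = 1
    · have hcT := hTu c hc hz1
      exact hinvfix c hcT (hsq g hg hgk c hcT (B.hE.sq _ hcg))
    · have hgK1 := hfpf g hg _ (hval c hc) hz1 hz
      obtain ⟨y, hy, hyc⟩ := hcover c hc
      have h1 := hfmul (inv_mem hy.1) hc (hfinv hy.1 (hy.2 g hgK1)) hcg
      have h2 := hinvfix _ hyc (hsq g hg hgk _ hyc (B.hE.sq _ h1))
      rw [show c = y * (y⁻¹ * c) from (mul_inv_cancel_left y c).symm]
      exact ⟨mul_mem hy.1 h2.1, fun k hk => hfmul hy.1 h2.1 (hy.2 k hk) (h2.2 k hk)⟩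
  · obtain ⟨-, k, hk, hgk⟩ := (hmemKp g).1 hg
    exact ⟨k, hk, hact hgk⟩
  · obtain ⟨g, hg, hgk⟩ := hreal k (hKK k hk)
    exact ⟨g, ⟨hg, k, hk, hgk⟩, hact hgk⟩

end BaseCfg

/-- Without 2-groups of order four on two points every element of `T` acts as one of `Q`. -/
theorem Crit.hall_small {u : G} {a x : Ω} {T : Sylow 2 (ptC u a)} {E Q K K1 : Subgroup G} {r e : ℕ}
    (hC : SmallCfg D u a x T E) (hL : Local D u a x (tSub T) E Q K K1 r e) :
    ∀ t ∈ tSub T, ∃ y ∈ Q, ∀ z : Ω, u • z = z → t • z = y • z := by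
  haveI : Fact (Nat.Prime 2) := ⟨Nat.prime_two⟩
  intro t ht
  obtain ⟨htu, hta⟩ := mem_ptC.1 (map_subtype_le _ ht : t ∈ ptC u a)
  obtain ⟨y, ⟨hy, hyx⟩, -⟩ := hL.reg (t • x) (by rw [← mul_smul, ← htu.eq, mul_smul, hC.hx])
    fun e => hC.hxa (MulAction.injective t (e.trans hta.symm))
  refine ⟨y, hy, fun z hz => ?_⟩
  set t' := y⁻¹ * t with ht'
  have ht'T : t' ∈ tSub T := mul_mem (inv_mem (hL.Q_le hy)) ht
  obtain ⟨ht'u, ht'a⟩ := mem_ptC.1 (map_subtype_le _ ht'T : t' ∈ ptC u a)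
  have ht'x : t' • x = x := by rw [ht', mul_smul, ← hyx, inv_smul_smul]
  have hP : IsPGroup 2 (zpowers t' ⊔ zpowers u : Subgroup G) := by
    have h2 : IsPGroup 2 (zpowers t') := by
      obtain ⟨n, hn⟩ := IsPGroup.iff_orderOf.1 (T.2.map (ptC u a).subtype) ⟨t', ht'T⟩
      exact IsPGroup.of_card (n := n) (by rw [Nat.card_zpowers]; rwa [Subgroup.orderOf_mk] at hn)
    refine IsPGroup.to_sup_of_normal_left' h2 (IsPGroup.of_card (n := 1) (by
      rw [Nat.card_zpowers, hC.hu, pow_one])) (zpowers_le.2 (Subgroup.mem_normalizer_fintype fun w hw => ?_))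
    obtain ⟨i, rfl⟩ := mem_zpowers_iff.1 hw
    rw [SetLike.mem_coe, (ht'u.zpow_left i).symm.eq, mul_inv_cancel_right]
    exact zpow_mem (mem_zpowers _) i
  have hfixle : ∀ p : Ω, t' • p = p → u • p = p → ∀ g ∈ zpowers t' ⊔ zpowers u, g • p = p := fun p h1 h2 g hg =>
    mem_stabilizer_iff.1 ((sup_le (zpowers_le.2 (mem_stabilizer_iff.2 h1))
      (zpowers_le.2 (mem_stabilizer_iff.2 h2)) : zpowers t' ⊔ zpowers u ≤ stabilizer G p) hg)
  have hle := hC.hsmall _ hP a x (Ne.symm hC.hxa) (hfixle a ht'a hC.ha) (hfixle x ht'x hC.hx)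
  have heq : zpowers u = zpowers t' ⊔ zpowers u :=
    Subgroup.eq_of_le_of_card_ge le_sup_right (by rw [Nat.card_zpowers, hC.hu]; exact hle)
  have ht'mem : t' ∈ zpowers u := heq ▸ mem_sup_left (mem_zpowers t')
  have h1 : t' • z = z := mem_stabilizer_iff.1 (zpowers_le.2 (mem_stabilizer_iff.2 hz) ht'mem)
  rw [ht', mul_smul, inv_smul_eq_iff] at h1
  exact h1

/-- The data of the endgame for the unitary type without 2-groups of order four on two points. -/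
theorem Crit.exists_xcfg_unitary (h : Crit D Ω) (hB : Below.{u} (Nat.card G)) (hgen : closure D = ⊤) {u : G}
    {a x : Ω} {T : Sylow 2 (ptC u a)} {E Q K K1 : Subgroup G} {r : ℕ} (hC : SmallCfg D u a x T E)
    (hL : Local D u a x (tSub T) E Q K K1 r 3) :
    ∃ (X Kp K1p K0 : Subgroup G) (m g3 : ℕ), XCfg (stabilizer G a) X (tSub T) E u ∧
      Nat.card (tSub T) = 2 * 2 ^ r * 2 ^ r * 2 ^ r ∧ Nat.card X = 2 * 2 ^ r * 2 ^ r * 2 ^ r * 2 ^ r ∧
      TorusCfg (stabilizer G a) X (tSub T) E u Kp K1p K0 r m g3 ∧ TorusAct (stabilizer G a) X E K Kp := by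
  have B : BaseCfg D u a x T E Q K K1 r 3 :=
    ⟨hC.hu, hC.hbad, hC.ha, hC.hx, hC.hxa, hC.hE, hL, hC.hW, Crit.hall_small hC hL⟩
  obtain ⟨S, hX, hcard⟩ := B.exists_x h hB (B.translations3 h hB hgen) B.hcentV3 B.hpolar3
  have hn : ∀ c ∈ xSub S, ∀ t ∈ tSub T, c * t * c⁻¹ ∈ tSub T := fun c hc t ht => by
    obtain ⟨f, hf, hcf⟩ : ∃ f ∈ E, c⁻¹ * u * c⁻¹⁻¹ = u * f :=
      ⟨u⁻¹ * (c⁻¹ * u * c⁻¹⁻¹), ((map_subtype_le _ (inv_mem hc) : c⁻¹ ∈ cSub u a E).1.1.2 u).2 (by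
        rw [inv_mul_cancel]; exact one_mem E), (mul_inv_cancel_left _ _).symm⟩
    refine (hX.mem_T _).2 ⟨mul_mem (mul_mem hc (hX.T_le ht)) (inv_mem hc), ?_⟩
    have h1 : Commute t (c⁻¹ * u * c⁻¹⁻¹) := hcf ▸ (B.mem_u ht).mul_right (B.cen_E ht hf)
    have h2 := h1.map (MulAut.conj c).toMonoidHom
    simpa [mul_assoc] using h2
  have hXR : xSub S ≤ B.actKer := fun c hc => B.mem_actKer.2 ⟨⟨Subgroup.mem_normalizer_fintype (hn c hc),
    fun t ht => by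
      rcases B.hcentV3 S hX.T_le hn hX.trans c hc t ht with h1 | h1
      · exact B.hE.sq _ h1
      · rw [show t⁻¹ * (c * t * c⁻¹) = u * (u⁻¹ * (t⁻¹ * (c * t * c⁻¹))) from (mul_inv_cancel_left _ _).symm,
          (B.cen_E B.u_mem h1).symm.mul_mul_mul_comm, Invol.mul_self B.hu, B.hE.sq _ h1, one_mul]⟩,
    fun z hz => (hX.E_cen z hz c hc).symm⟩
  obtain ⟨Kp, K1p, K0, m, g3, hK, hA⟩ := B.exists_torus3 hX hXR
  have hpow : 2 ^ (3 * r) = 2 ^ r * 2 ^ r * 2 ^ r := by rw [← pow_add, ← pow_add]; ring_nf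
  refine ⟨xSub S, Kp, K1p, K0, m, g3, hX, ?_, ?_, hK, hA⟩
  · rw [B.card_T, hpow]; ring
  · rw [hcard, hpow]; ring

end Cfsg.Agent.GoodInvol
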