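import Cfsg.Agent.Lib.GoodInvol.CountConj

/-!
# The centraliser is transitive on the moved points

For an involution fixing two points and a member commuting with it, their common centraliser is transitive on the
other fixed points; hence the centraliser of such an involution is transitive on the points it moves.
-/

set_option autoImplicit false
set_option linter.style.haveILetI false
set_option linter.unusedSectionVars false

namespace Cfsg.Agent.GoodInvol

open Subgroup MulAction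

universe u v

variable {G : Type u} [Group G] [Finite G] {Ω : Type u} [MulAction G Ω] [Finite Ω] [FaithfulSMul G Ω] {D : Set G}

namespace Crit

variable (h : Crit D Ω) (hB : Below.{u} (Nat.card G)) (hgen : closure D = ⊤)
include h hB hgen

/-- The common centraliser of `w` and a member at `p` is transitive on the other points fixed by `w`. -/
theorem exists_smul_at {w : G} (hw : orderOf w = 2) (hbad : ¬ OneFix Ω w) {d : G} (hd : d ∈ cmem D w) {p : Ω}
    (hdp : d • p = p) {x y : Ω} (hx : w • x = x) (hxp : x ≠ p) (hy : w • y = y) (hyp : y ≠ p) :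
    ∃ g : G, Commute g w ∧ Commute g d ∧ g • x = y := by
  classical
  haveI : Fact (Nat.Prime 2) := ⟨Nat.prime_two⟩
  have hwp := h.fix_of_cmem hd hdp
  obtain ⟨⟨d1, hd1, e1, he1, hd1X, he1X, hne1, hde1⟩, -⟩ := h.exists_image hB hgen hw hbad hwp
  set C := Subgroup.centralizer ({w} : Set G) with hCdef
  set D' := {c : C | (c : G) ∈ D} with hD'
  have hCrit : Crit D' (fixSub Ω w) := h.centralizer hw
  have hGoal : Goal D' (fixSub Ω w) := goal_centralizer hB h hgen hw hwp
  set pF : fixSub Ω w := ⟨p, hwp⟩ with hpF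
  set xF : fixSub Ω w := ⟨x, hx⟩ with hxF
  have hpx : pF ≠ xF := fun e => hxp (congrArg Subtype.val e).symm
  obtain ⟨hse, hcore⟩ := se_induced hCrit hGoal hpx
  set I := induced D' (fixSub Ω w) with hIdef
  set H := stabilizer I pF with hH
  set π := toPermHom C (fixSub Ω w) with hπ
  have hmemI : ∀ c : C, (c : G) ∈ D → π c ∈ I := fun c hc =>
    mem_map_of_mem (K := closure D') π (subset_closure (show c ∈ D' from hc))
  have hord : ∀ (c : C) (hc : (c : G) ∈ D), orderOf (⟨π c, hmemI c hc⟩ : I) = 2 := fun c hc => by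
    refine Invol.order_two_of_sq (Subtype.ext ?_) fun h1 => ?_
    · show π c * π c = 1
      rw [← map_mul, show c * c = 1 from Subtype.ext (Invol.mul_self (h.invol _ hc)), map_one]
    · have h1' : π c = 1 := congrArg Subtype.val h1
      have hfix : ∀ z : fixSub Ω w, c • z = z := fun z => by
        show π c z = z
        rw [h1', Equiv.Perm.one_apply]
      exact hpx (hCrit.unique c hc pF xF (hfix pF) (hfix xF))
  have hR : ¬ BrauerSuzuki.RankOne I := by
    intro hR
    set dC : C := ⟨d1, mem_centralizer_singleton_iff.2 (mem_ptC.1 hd1X).1.eq⟩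
    set eC : C := ⟨e1, mem_centralizer_singleton_iff.2 (mem_ptC.1 he1X).1.eq⟩
    have hc : Commute (⟨π dC, hmemI dC hd1⟩ : I) ⟨π eC, hmemI eC he1⟩ := Subtype.ext (by
      show π dC * π eC = π eC * π dC
      rw [← map_mul, show dC * eC = eC * dC from Subtype.ext hde1.eq, map_mul])
    have heq : π dC = π eC :=
      congrArg (fun k : I => (k : Equiv.Perm (fixSub Ω w))) (hR _ _ (hord dC hd1) (hord eC he1) hc)
    refine hne1 (h.eq_of_fixAct hbad hd1 he1 hde1 fun z hz => ?_)
    have h2 : π dC ⟨z, hz⟩ = π eC ⟨z, hz⟩ := by rw [heq]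
    exact congrArg Subtype.val h2
  have hp2 := SEMain.exists_pair hse hR
  obtain ⟨-, hodd⟩ := SEMain.stmt I H hse hcore hp2.exists_four
  obtain ⟨Q, hQ⟩ := SEMain.exists_reg SEMain.stmt hse hcore hp2
  -- an element of the regular subgroup taking x to y
  obtain ⟨k1, hk1, hk1x⟩ := hCrit.exists_smul pF xF
  obtain ⟨k2, hk2, hk2y⟩ := hCrit.exists_smul pF (⟨y, hy⟩ : fixSub Ω w)
  set g1 : I := ⟨π k1, mem_map_of_mem _ hk1⟩
  set g2 : I := ⟨π k2, mem_map_of_mem _ hk2⟩
  obtain ⟨q, hqQ, hq⟩ := hQ.trans g1 g2 (fun e => hpx ((mem_stabilizer_iff.1 e).symm.trans hk1x))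
    fun e => hyp (congrArg Subtype.val (hk2y.symm.trans (mem_stabilizer_iff.1 e)))
  have hqx : q • xF = (⟨y, hy⟩ : fixSub Ω w) := by
    have h1 : (g2⁻¹ * (q * g1)) • pF = pF := hq
    rw [mul_smul, mul_smul, inv_smul_eq_iff, show g1 • pF = xF from hk1x, show g2 • pF = (⟨y, hy⟩ : fixSub Ω w) from hk2y] at h1
    exact h1
  -- it commutes with the involutions at p
  haveI hICn : ((SERegular.invCent H).subgroupOf H).Normal := ⟨by
    intro n hn g
    have hn' := mem_inf.1 (mem_subgroupOf.1 hn)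
    refine mem_subgroupOf.2 (mem_inf.2 ⟨SetLike.coe_mem _, mem_centralizer_iff.2 fun t ht => ?_⟩)
    have ht' : orderOf ((g : I)⁻¹ * t * g) = 2 ∧ (g : I)⁻¹ * t * g ∈ H :=
      ⟨by rw [show (g : I)⁻¹ * t * g = (g : I)⁻¹ * t * (g : I)⁻¹⁻¹ by group, Invol.order_conj]; exact ht.1,
        H.mul_mem (H.mul_mem (H.inv_mem g.2) ht.2) g.2⟩
    have := mem_centralizer_iff.1 hn'.2 _ ht'
    simp only [Subgroup.coe_mul, Subgroup.coe_inv]
    calc t * ((g : I) * n * (g : I)⁻¹) = g * ((g : I)⁻¹ * t * g * n) * (g : I)⁻¹ := by group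
      _ = g * (n * ((g : I)⁻¹ * t * g)) * (g : I)⁻¹ := by rw [this]
      _ = _ := by group⟩
  have hqH : q ∈ H := hQ.le hqQ
  have hqc : q ∈ SERegular.invCent H := by
    obtain ⟨k, hk⟩ := IsPGroup.iff_orderOf.1 hQ.two ⟨q, hqQ⟩
    rw [Subgroup.orderOf_mk] at hk
    have h1 : orderOf ((⟨q, hqH⟩ : H) : H ⧸ (SERegular.invCent H).subgroupOf H) ∣ 2 ^ k := by
      rw [← hk, ← Subgroup.orderOf_mk q hqH]
      exact orderOf_map_dvd (QuotientGroup.mk' _) _
    have h4 := Nat.eq_one_of_dvd_coprimes (Nat.Coprime.pow_left k (Nat.coprime_two_left.2 hodd)) h1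
      (orderOf_dvd_natCard _)
    rw [orderOf_eq_one_iff, QuotientGroup.eq_one_iff] at h4
    exact mem_subgroupOf.1 h4
  -- a 2-element of the stabiliser with the same action
  obtain ⟨kq, hkq, hkqq⟩ := mem_map.1 q.2
  have hkqp : kq • pF = pF := by
    show π kq pF = pF
    rw [hkqq]
    exact mem_stabilizer_iff.1 hqH
  obtain ⟨t, o, hto, htz, -, ⟨j, hj⟩, ho⟩ := PBasic.exists_pPart_mul (p := 2) kq
  have hq2 : ∃ j, orderOf (q : Equiv.Perm (fixSub Ω w)) = 2 ^ j := by
    obtain ⟨k, hk⟩ := IsPGroup.iff_orderOf.1 hQ.two ⟨q, hqQ⟩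
    exact ⟨k, by rwa [Subgroup.orderOf_mk, ← Subgroup.orderOf_coe] at hk⟩
  have hπt : π t = q := by
    obtain ⟨i, hi⟩ := hq2
    have hoz : o ∈ zpowers kq := by
      rw [show o = t⁻¹ * kq by rw [← hto, inv_mul_cancel_left]]
      exact mul_mem (inv_mem htz) (mem_zpowers _)
    have h1 : orderOf (π o) ∣ 2 ^ i := by
      obtain ⟨n, hn⟩ := hoz
      rw [← hn, ← hi, ← hkqq, map_zpow]
      exact orderOf_dvd_of_mem_zpowers ⟨n, rfl⟩
    have h2 : orderOf (π o) = 1 := Nat.eq_one_of_dvd_coprimes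
      (Nat.Coprime.pow_left i ho.symm) h1 (orderOf_map_dvd π o)
    rw [← hkqq, ← hto, map_mul, orderOf_eq_one_iff.1 h2, mul_one]
  have hts : ∀ z : fixSub Ω w, t • z = q • z := fun z => by
    show π t z = (q : Equiv.Perm (fixSub Ω w)) z
    rw [hπt]
  have htw : Commute (t : G) w := mem_centralizer_singleton_iff.1 t.2
  have htp : (t : G) • p = p := congrArg Subtype.val ((hts pF).trans (mem_stabilizer_iff.1 hqH))
  -- the lifts of d
  set dC : C := ⟨d, mem_centralizer_singleton_iff.2 hd.2.eq⟩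
  have hcomm : q * ⟨π dC, hmemI dC hd.1⟩ = (⟨π dC, hmemI dC hd.1⟩ : I) * q :=
    (mem_centralizer_iff.1 (mem_inf.1 hqc).2 _
      ⟨hord dC hd.1, mem_stabilizer_iff.2 (Subtype.ext hdp)⟩).symm
  set A := kap D Ω w d with hA
  have htA : ∀ s ∈ zpowers (t : G), ∀ c ∈ A, s * c * s⁻¹ ∈ A := by
    have h1 : ∀ c ∈ A, (t : G) * c * (t : G)⁻¹ ∈ A := by
      intro c hc
      refine ⟨⟨h.conj _ c hc.1.1, (htw.mul_left hc.1.2).mul_left htw.inv_left⟩, fun z hz => ?_⟩
      have hz1 : w • (t : G)⁻¹ • z = (t : G)⁻¹ • z := by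
        rw [← mul_smul, ← htw.inv_left.eq, mul_smul, hz]
      rw [mul_smul, mul_smul, hc.2 _ hz1]
      have e2 := congrArg (fun k : I => (k : Equiv.Perm (fixSub Ω w)) ⟨(t : G)⁻¹ • z, hz1⟩) hcomm
      change (q : Equiv.Perm (fixSub Ω w)) (π dC ⟨_, hz1⟩) = π dC ((q : Equiv.Perm (fixSub Ω w)) ⟨_, hz1⟩) at e2
      rw [← hπt] at e2
      have e3 : ((t : G) • d • (t : G)⁻¹ • z) = d • (t : G) • (t : G)⁻¹ • z := congrArg Subtype.val e2
      rwa [smul_inv_smul] at e3
    have hn : ∀ n : ℕ, ∀ c ∈ A, (t : G) ^ n * c * ((t : G) ^ n)⁻¹ ∈ A := by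
      intro n
      induction n with
      | zero => intro c hc; simpa using hc
      | succ n ih =>
        intro c hc
        have := h1 _ (ih c hc)
        rwa [show (t : G) * ((t : G) ^ n * c * ((t : G) ^ n)⁻¹) * (t : G)⁻¹ =
          (t : G) ^ (n + 1) * c * ((t : G) ^ (n + 1))⁻¹ by rw [pow_succ']; group] at this
    intro s hs c hc
    obtain ⟨n, rfl⟩ := (mem_powers_iff_mem_zpowers (x := (t : G))).2 hs
    exact hn n c hc
  have hoddA : Odd A.ncard := by
    have hdA : d ∈ A := ⟨hd, fun _ _ => rfl⟩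
    rw [← Set.ncard_sdiff_singleton_add_one hdA (Set.toFinite _)]
    have hdd := Invol.mul_self (h.invol d hd.1)
    refine (even_ncard_of_invol (Set.toFinite _) (fun c => d * c * d⁻¹) (fun c hc => ?_) (fun c _ => ?_)
      fun c hc he => hc.2 ?_).add_one
    · refine ⟨⟨⟨h.conj d c hc.1.1.1, (hd.2.mul_left hc.1.1.2).mul_left hd.2.inv_left⟩, fun z hz => ?_⟩,
        fun e' => hc.2 ?_⟩
      · have hz1 : w • d • z = d • z := by rw [← mul_smul, ← hd.2.eq, mul_smul, hz]
        rw [mul_smul, mul_smul, Invol.inv_self (h.invol d hd.1), hc.1.2 _ hz1, ← mul_smul d d z, hdd, one_smul]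
      · exact mul_left_cancel ((mul_inv_eq_iff_eq_mul.1 (show d * c * d⁻¹ = d from e')).trans
          (show d * d = d * d from rfl))
    · show d * (d * c * d⁻¹) * d⁻¹ = c
      rw [show d * (d * c * d⁻¹) * d⁻¹ = (d * d) * c * (d * d)⁻¹ by group, hdd, inv_one, one_mul, mul_one]
    · exact h.eq_of_fixAct hbad hc.1.1.1 hd.1 (mul_inv_eq_iff_eq_mul.1 (show d * c * d⁻¹ = c from he)).symm
        hc.1.2
  letI : MulAction (zpowers (t : G)) A :=
    { smul := fun s c => ⟨(s : G) * c * (s : G)⁻¹, htA s s.2 c c.2⟩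
      one_smul := fun c => Subtype.ext (show (1 : G) * c * (1 : G)⁻¹ = c by group)
      mul_smul := fun r s c => Subtype.ext
        (show (r : G) * s * c * ((r : G) * s)⁻¹ = r * ((s : G) * c * (s : G)⁻¹) * (r : G)⁻¹ by group) }
  have ht2 : IsPGroup 2 (zpowers (t : G)) := IsPGroup.of_card (n := j) (by
    rw [Nat.card_zpowers, Subgroup.orderOf_coe, hj])
  obtain ⟨c, hc⟩ := ht2.nonempty_fixed_point_of_prime_not_dvd_card A fun h2 => by
    rw [Nat.card_coe_set_eq] at h2
    exact Nat.not_even_iff_odd.2 hoddA (even_iff_two_dvd.2 h2)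
  have htc : Commute (t : G) (c : G) :=
    mul_inv_eq_iff_eq_mul.1 (congrArg Subtype.val (hc ⟨t, mem_zpowers _⟩))
  -- move it to d inside the kernel
  have hdd := Invol.mul_self (h.invol d hd.1)
  obtain ⟨n, hn⟩ := Invol.exists_sqrt (h.odd_mul_kap hbad hd.1 c.2.1.1 c.2.2)
  set s := ((c : G) * d) ^ n with hs
  have hsd : s * d * s⁻¹ = c := by
    have h1 := Invol.zpow_mul_conj (x := d) (a := (c : G) * d) (by
      rw [mul_inv_rev, Invol.inv_self (h.invol d hd.1), Invol.inv_self (h.invol _ c.2.1.1)]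
      rw [mul_assoc d _ d, mul_assoc (c : G) d d, hdd, mul_one]) (n : ℤ)
    rw [zpow_natCast, show (2 : ℤ) * (n : ℤ) = ((n * 2 : ℕ) : ℤ) by push_cast; ring, zpow_natCast, pow_mul,
      hn, mul_assoc (c : G) d d, hdd, mul_one] at h1
    exact h1
  have hsw : Commute s w := (c.2.1.2.mul_left hd.2).pow_left n
  have hsz : ∀ z : Ω, w • z = z → s • z = z := by
    intro z hz
    have h1 : ((c : G) * d) • z = z := by
      rw [mul_smul, c.2.2 _ (by rw [← mul_smul, ← hd.2.eq, mul_smul, hz] : w • d • z = d • z), ← mul_smul, hdd,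
        one_smul]
    exact (stabilizer G z).pow_mem h1 n
  refine ⟨s⁻¹ * t * s, (hsw.inv_left.mul_left htw).mul_left hsw, ?_, ?_⟩
  · show s⁻¹ * t * s * d = d * (s⁻¹ * t * s)
    calc s⁻¹ * t * s * d = s⁻¹ * ((t : G) * (s * d * s⁻¹)) * s := by group
      _ = s⁻¹ * ((s * d * s⁻¹) * t) * s := by rw [hsd, htc.eq]
      _ = _ := by group
  · rw [mul_smul, mul_smul, hsz x hx]
    have e2 : (t : G) • x = y := congrArg Subtype.val ((hts xF).trans hqx)
    rw [e2, inv_smul_eq_iff, hsz y hy]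

/-- The centraliser of an involution fixing two points is transitive on the points it moves. -/
theorem exists_smul_moved {w : G} (hw : orderOf w = 2) (hbad : ¬ OneFix Ω w) {x y : Ω} (hx : w • x ≠ x)
    (hy : w • y ≠ y) : ∃ g : G, Commute g w ∧ g • x = y := by
  have hwD : w ∉ D := fun hwD => hbad (h.oneFix_of_mem hwD)
  haveI : Nonempty Ω := ⟨x⟩
  have key : ∀ z : Ω, w • z ≠ z → ∃ c ∈ cmem D w, (w * c) • z = z := fun z hz => by
    obtain ⟨d, hd, hdz⟩ := h.exists_at z
    obtain ⟨c, hc, hcw, -, -, -, hcz, -⟩ := h.exists_partner hw hwD hd hdz hz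
    exact ⟨c, ⟨hc, hcw⟩, hcz⟩
  obtain ⟨c, hc, hcx⟩ := key x hx
  obtain ⟨c', hc', hcy⟩ := key y hy
  obtain ⟨g0, hg0w, hg0⟩ := h.exists_conj_cmem hw hbad hc hc'
  obtain ⟨p, hp⟩ := h.exists_fix (h.invol c' hc'.1)
  have hwp := h.fix_of_cmem hc' hp
  have hconj : g0 * (w * c) * g0⁻¹ = w * c' := by
    rw [← hg0]
    calc g0 * (w * c) * g0⁻¹ = (g0 * w) * c * g0⁻¹ := by group
      _ = (w * g0) * c * g0⁻¹ := by rw [hg0w.eq]
      _ = _ := by group
  have hx' : (w * c') • g0 • x = g0 • x := by rw [← hconj, mul_smul, mul_smul, inv_smul_smul, hcx]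
  have hmoved : w • g0 • x ≠ g0 • x := by
    rw [← mul_smul, ← hg0w.eq, mul_smul]
    exact fun e => hx (MulAction.injective g0 e)
  obtain ⟨g, hgv, hgc, hg⟩ := h.exists_smul_at hB hgen (h.mul_invol_of_cmem hw hbad hc')
    (h.not_oneFix_mul hw hbad hc'.1 hc'.2) (d := c') ⟨hc'.1, hc'.2.mul_right (Commute.refl c')⟩ hp hx'
    (fun e => hmoved (by rw [e, hwp])) hcy (fun e => hy (by rw [e, hwp]))
  refine ⟨g * g0, ?_, by rw [mul_smul, hg]⟩
  have hgw : Commute g w := by
    have := hgv.mul_right hgc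
    rwa [mul_assoc, Invol.mul_self (h.invol c' hc'.1), mul_one] at this
  exact hgw.mul_left hg0w

end Crit

end Cfsg.Agent.GoodInvol
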