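import Cfsg.Agent.Lib.GoodInvol.BadCent
import Mathlib.Combinatorics.Enumerative.DoubleCounting

/-!
# Counting at an involution fixing two points

For an involution `u` fixing two points and a point `x` moved by it, the members at `x` are distributed evenly over
the members commuting with `u` which act on `x` as `u`; double counting these gives the number of moved points.
-/

set_option autoImplicit false
set_option linter.style.haveILetI false
set_option linter.unusedSectionVars false

namespace Cfsg.Agent.GoodInvol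

open Subgroup MulAction

universe u v

variable {G : Type u} [Group G] {Ω : Type v} [MulAction G Ω] {D : Set G}

/-- The members commuting with `w`. -/
def cmem (D : Set G) (w : G) : Set G := {d ∈ D | Commute d w}

/-- The members at `x` commuting with `w`. -/
def cdat (D : Set G) (w : G) (x : Ω) : Set G := {d ∈ dat D x | Commute d w}

/-- The members commuting with `w` which act on `x` as `w`. -/
def csig (D : Set G) (w : G) (x : Ω) : Set G := {d ∈ cmem D w | d • x = w • x}

/-- The points fixed by `w`. -/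
def fixSet (Ω : Type v) [MulAction G Ω] (w : G) : Set Ω := {x | w • x = x}

variable [Finite G]

namespace Crit

variable (h : Crit D Ω)
include h

theorem conj_cmem {g w d : G} (hd : d ∈ cmem D w) : g * d * g⁻¹ ∈ cmem D (g * w * g⁻¹) :=
  ⟨h.conj g d hd.1, by simpa [mul_assoc] using hd.2.map (MulAut.conj g)⟩

theorem conj_cdat {g w : G} {x : Ω} {d : G} (hd : d ∈ cdat D w x) :
    g * d * g⁻¹ ∈ cdat D (g * w * g⁻¹) (g • x) :=
  ⟨⟨h.conj g d hd.1.1, by rw [mul_smul, mul_smul, inv_smul_smul, hd.1.2]⟩,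
    (h.conj_cmem (g := g) ⟨hd.1.1, hd.2⟩).2⟩

theorem card_cdat_conj (g w : G) (x : Ω) : (cdat D (g * w * g⁻¹) (g • x)).ncard = (cdat D w x).ncard := by
  have e : cdat D (g * w * g⁻¹) (g • x) = (fun d => g * d * g⁻¹) '' cdat D w x := by
    ext d
    constructor
    · intro hd
      refine ⟨g⁻¹ * d * g, ?_, by group⟩
      have := h.conj_cdat (g := g⁻¹) hd
      rwa [inv_inv, inv_smul_smul, show g⁻¹ * (g * w * g⁻¹) * g = w by group] at this
    · rintro ⟨c, hc, rfl⟩
      exact h.conj_cdat hc
  rw [e, Set.ncard_image_of_injective _ fun a b hab => mul_left_cancel (mul_right_cancel hab)]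

/-- The centraliser of an involution is transitive on its fixed points. -/
theorem exists_smul_fix [Finite Ω] {w : G} (hw : orderOf w = 2) {x y : Ω} (hx : w • x = x) (hy : w • y = y) :
    ∃ g : G, Commute g w ∧ g • x = y := by
  obtain ⟨g, -, hg⟩ := (h.centralizer (Ω := Ω) hw).exists_smul ⟨x, hx⟩ ⟨y, hy⟩
  exact ⟨g, mem_centralizer_singleton_iff.1 g.2, congrArg Subtype.val hg⟩

/-- All fixed points of an involution have the same number of members commuting with it. -/
theorem card_cdat_eq [Finite Ω] {w : G} (hw : orderOf w = 2) {x y : Ω} (hx : w • x = x) (hy : w • y = y) :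
    (cdat D w x).ncard = (cdat D w y).ncard := by
  obtain ⟨g, hgw, rfl⟩ := h.exists_smul_fix hw hx hy
  have e : g * w * g⁻¹ = w := mul_inv_eq_iff_eq_mul.2 hgw.eq
  conv_rhs => rw [← e]
  exact (h.card_cdat_conj g w x).symm

theorem odd_cdat {w : G} (hw : orderOf w = 2) {x : Ω} (hx : w • x = x) : Odd (cdat D w x).ncard := by
  have e : cdat D w x = {d ∈ D | d • x = x ∧ d * w = w * d} := by
    ext d
    exact ⟨fun hd => ⟨hd.1.1, hd.1.2, hd.2.eq⟩, fun hd => ⟨⟨hd.1, hd.2.1⟩, hd.2.2⟩⟩
  rw [e]
  exact h.odd_centralized hw hx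

/-- A member commuting with `w` has its point fixed by `w`. -/
theorem fix_of_cmem {w d : G} (hd : d ∈ cmem D w) {p : Ω} (hp : d • p = p) : w • p = p :=
  h.unique d hd.1 _ _ (by rw [← mul_smul, hd.2.eq, mul_smul, hp]) hp

variable [Finite Ω] [FaithfulSMul G Ω]

/-- The members commuting with an involution fixing two points are conjugate in its centraliser. -/
theorem exists_conj_cmem {w : G} (hw : orderOf w = 2) (hbad : ¬ OneFix Ω w) {d e : G} (hd : d ∈ cmem D w)
    (he : e ∈ cmem D w) : ∃ g : G, Commute g w ∧ g * d * g⁻¹ = e := by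
  unfold OneFix at hbad
  push Not at hbad
  obtain ⟨p, q, hp, hq, hpq⟩ := hbad
  obtain ⟨g, hg⟩ := isConj_iff.1 ((h.centralizer (Ω := Ω) hw).isConj_of_two_points
    (x := (⟨p, hp⟩ : fixSub Ω w)) (y := ⟨q, hq⟩) (fun e' => hpq (congrArg Subtype.val e'))
    (d := ⟨d, mem_centralizer_singleton_iff.2 hd.2.eq⟩) (e := ⟨e, mem_centralizer_singleton_iff.2 he.2.eq⟩) hd.1 he.1)
  exact ⟨g, mem_centralizer_singleton_iff.1 g.2, congrArg Subtype.val hg⟩

theorem mul_invol_of_cmem {w d : G} (hw : orderOf w = 2) (hbad : ¬ OneFix Ω w) (hd : d ∈ cmem D w) :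
    orderOf (w * d) = 2 := by
  refine Invol.order_two_of_sq ?_ fun h1 => hbad (h.oneFix_of_mem ?_)
  · rw [mul_assoc, ← mul_assoc d, hd.2.eq, mul_assoc w d d, Invol.mul_self (h.invol d hd.1), mul_one,
      Invol.mul_self hw]
  · rw [eq_inv_of_mul_eq_one_left h1, Invol.inv_self (h.invol d hd.1)]
    exact hd.1

/-- The members at a moved point are shared evenly by the members acting there as `w`. -/
theorem card_dat_eq_mul {w : G} (hw : orderOf w = 2) (hbad : ¬ OneFix Ω w) {d0 : G} (hd0 : d0 ∈ cmem D w)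
    {x0 : Ω} (hx0 : (w * d0) • x0 = x0) {x : Ω} (hx : w • x ≠ x) :
    (dat D x).ncard = (csig D w x).ncard * (cdat D (w * d0) x0).ncard := by
  classical
  have hwD : w ∉ D := fun hwD => hbad (h.oneFix_of_mem hwD)
  have hpart : ∀ d ∈ dat D x, ∃! c, c ∈ csig D w x ∧ Commute d (w * c) := by
    intro d hd
    obtain ⟨c, hc, hcw, hcx, -, hdc, -, huniq⟩ := h.exists_partner hw hwD hd.1 hd.2 hx
    exact ⟨c, ⟨⟨⟨hc, hcw⟩, hcx⟩, hdc⟩, fun c' hc' => huniq c' hc'.1.1.1 hc'.1.1.2.eq hc'.2⟩
  choose! f hf hfu using hpart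
  have hfib : ∀ c ∈ (csig D w x).toFinite.toFinset,
      ((dat D x).toFinite.toFinset.filter fun d => f d = c).card = (cdat D (w * d0) x0).ncard := by
    intro c hc
    rw [Set.Finite.mem_toFinset] at hc
    have e : ((dat D x).toFinite.toFinset.filter fun d => f d = c) = (cdat D (w * c) x).toFinite.toFinset := by
      ext d
      rw [Finset.mem_filter, Set.Finite.mem_toFinset, Set.Finite.mem_toFinset]
      refine ⟨fun hd => ⟨hd.1, hd.2 ▸ (hf d hd.1).2⟩, fun hd => ⟨hd.1, ?_⟩⟩
      exact (hfu d hd.1 c ⟨hc, hd.2⟩).symm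
    rw [e, ← Set.ncard_eq_toFinset_card]
    obtain ⟨g, hgw, hg⟩ := h.exists_conj_cmem hw hbad hc.1 hd0
    have hwc : g * (w * c) * g⁻¹ = w * d0 := by
      rw [← hg]
      calc g * (w * c) * g⁻¹ = (g * w) * c * g⁻¹ := by group
        _ = (w * g) * c * g⁻¹ := by rw [hgw.eq]
        _ = _ := by group
    have hfix : (w * c) • x = x := by rw [mul_smul, hc.2, ← mul_smul, Invol.mul_self hw, one_smul]
    rw [← h.card_cdat_conj g (w * c) x, hwc]
    refine h.card_cdat_eq (h.mul_invol_of_cmem hw hbad hd0) ?_ hx0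
    rw [← hwc, mul_smul, mul_smul, inv_smul_smul, hfix]
  rw [Set.ncard_eq_toFinset_card (dat D x) (Set.toFinite _),
    Finset.card_eq_sum_card_fiberwise (f := f) (t := (csig D w x).toFinite.toFinset) fun d hd => by
      rw [Finset.mem_coe, Set.Finite.mem_toFinset] at hd ⊢
      exact (hf d hd).1,
    Finset.sum_congr rfl hfib, Finset.sum_const, smul_eq_mul, Set.ncard_eq_toFinset_card (csig D w x)]

/-- The number of members acting at a moved point as `w` does not depend on the point. -/
theorem card_csig_eq {w : G} (hw : orderOf w = 2) (hbad : ¬ OneFix Ω w) {x y : Ω} (hx : w • x ≠ x)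
    (hy : w • y ≠ y) : (csig D w x).ncard = (csig D w y).ncard := by
  obtain ⟨d, hd, hdx⟩ := h.exists_at x
  obtain ⟨c, hc, hcw, -, hc2, -, hcx, -⟩ :=
    h.exists_partner hw (fun hwD => hbad (h.oneFix_of_mem hwD)) hd hdx hx
  have e1 := h.card_dat_eq_mul hw hbad ⟨hc, hcw⟩ hcx hx
  have e2 := h.card_dat_eq_mul hw hbad ⟨hc, hcw⟩ hcx hy
  rw [h.card_dat x y, e2] at e1
  exact (Nat.eq_of_mul_eq_mul_right (h.odd_cdat hc2 hcx).pos e1).symm

omit [FaithfulSMul G Ω] in
/-- The members commuting with `w`, counted by their points. -/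
theorem card_cmem {w : G} (hw : orderOf w = 2) {a : Ω} (ha : w • a = a) :
    (cmem D w).ncard = (fixSet Ω w).ncard * (cdat D w a).ncard := by
  classical
  haveI : Nonempty Ω := ⟨a⟩
  have hpt : ∀ d ∈ cmem D w, ∃ p : Ω, d • p = p := fun d hd => h.exists_fix (h.invol d hd.1)
  choose! f hf using hpt
  rw [Set.ncard_eq_toFinset_card (cmem D w) (Set.toFinite _),
    Finset.card_eq_sum_card_fiberwise (f := f) (t := (fixSet Ω w).toFinite.toFinset) fun d hd => by
      rw [Finset.mem_coe, Set.Finite.mem_toFinset] at hd ⊢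
      exact h.fix_of_cmem hd (hf d hd)]
  have hfib : ∀ p ∈ (fixSet Ω w).toFinite.toFinset,
      ((cmem D w).toFinite.toFinset.filter fun d => f d = p).card = (cdat D w a).ncard := by
    intro p hp
    rw [Set.Finite.mem_toFinset] at hp
    have e : ((cmem D w).toFinite.toFinset.filter fun d => f d = p) = (cdat D w p).toFinite.toFinset := by
      ext d
      rw [Finset.mem_filter, Set.Finite.mem_toFinset, Set.Finite.mem_toFinset]
      exact ⟨fun hd => ⟨⟨hd.1.1, hd.2 ▸ hf d hd.1⟩, hd.1.2⟩,
        fun hd => ⟨⟨hd.1.1, hd.2⟩, h.unique d hd.1.1 _ _ (hf d ⟨hd.1.1, hd.2⟩) hd.1.2⟩⟩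
    rw [e, ← Set.ncard_eq_toFinset_card]
    exact h.card_cdat_eq hw hp ha
  rw [Finset.sum_congr rfl hfib, Finset.sum_const, smul_eq_mul, Set.ncard_eq_toFinset_card (fixSet Ω w)]

/-- The number of points moved by an involution fixing two points. -/
theorem card_moved_mul {w : G} (hw : orderOf w = 2) (hbad : ¬ OneFix Ω w) {a : Ω} (ha : w • a = a)
    {d0 : G} (hd0 : d0 ∈ cmem D w) {x : Ω} (hx : w • x ≠ x) :
    (fixSet Ω w)ᶜ.ncard * (csig D w x).ncard =
      (fixSet Ω w).ncard * (cdat D w a).ncard * ((fixSet Ω (w * d0)).ncard - 1) := by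
  classical
  haveI : Nonempty Ω := ⟨a⟩
  have key := Finset.sum_card_bipartiteAbove_eq_sum_card_bipartiteBelow (fun (d : G) (z : Ω) => d • z = w • z)
    (s := (cmem D w).toFinite.toFinset) (t := (fixSet Ω w)ᶜ.toFinite.toFinset)
  have hL : ∀ d ∈ (cmem D w).toFinite.toFinset,
      (Finset.bipartiteAbove (fun (d : G) (z : Ω) => d • z = w • z) (fixSet Ω w)ᶜ.toFinite.toFinset d).card =
        (fixSet Ω (w * d0)).ncard - 1 := by
    intro d hd
    rw [Set.Finite.mem_toFinset] at hd
    obtain ⟨p, hp⟩ := h.exists_fix (h.invol d hd.1)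
    have hwp := h.fix_of_cmem hd hp
    have e : (Finset.bipartiteAbove (fun (d : G) (z : Ω) => d • z = w • z) (fixSet Ω w)ᶜ.toFinite.toFinset d) =
        (fixSet Ω (w * d) \ {p}).toFinite.toFinset := by
      ext z
      rw [Finset.mem_bipartiteAbove, Set.Finite.mem_toFinset, Set.Finite.mem_toFinset]
      show (¬ w • z = z ∧ d • z = w • z) ↔ (w * d) • z = z ∧ z ≠ p
      constructor
      · rintro ⟨hz, hdz⟩
        exact ⟨by rw [mul_smul, hdz, ← mul_smul, Invol.mul_self hw, one_smul], fun e' => hz (e' ▸ hwp)⟩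
      · rintro ⟨hz, hzp⟩
        have hdz : d • z = w • z := by
          have := congrArg (w • ·) hz
          simpa [← mul_smul, ← mul_assoc, Invol.mul_self hw] using this
        exact ⟨fun e' => hzp (h.unique d hd.1 z p (hdz.trans e') hp), hdz⟩
    rw [e, ← Set.ncard_eq_toFinset_card, Set.ncard_sdiff_singleton_of_mem
      (show p ∈ fixSet Ω (w * d) from (by rw [mul_smul, hp, hwp] : (w * d) • p = p))]
    congr 1
    obtain ⟨g, hgw, hg⟩ := h.exists_conj_cmem hw hbad hd hd0
    have e2 : fixSet Ω (w * d0) = (g • ·) '' fixSet Ω (w * d) := by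
      have hwc : g * (w * d) * g⁻¹ = w * d0 := by
        rw [← hg]
        calc g * (w * d) * g⁻¹ = (g * w) * d * g⁻¹ := by group
          _ = (w * g) * d * g⁻¹ := by rw [hgw.eq]
          _ = _ := by group
      ext z
      rw [← hwc]
      constructor
      · intro hz
        refine ⟨g⁻¹ • z, ?_, smul_inv_smul g z⟩
        show (w * d) • g⁻¹ • z = g⁻¹ • z
        have hz' : (g * (w * d) * g⁻¹) • z = z := hz
        rw [mul_smul, mul_smul] at hz'
        exact (inv_smul_eq_iff.2 hz'.symm).symm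
      · rintro ⟨y, hy, rfl⟩
        show (g * (w * d) * g⁻¹) • g • y = g • y
        rw [mul_smul, mul_smul, inv_smul_smul, show (w * d) • y = y from hy]
    rw [e2, Set.ncard_image_of_injective _ (MulAction.injective g)]
  have hR : ∀ z ∈ (fixSet Ω w)ᶜ.toFinite.toFinset,
      (Finset.bipartiteBelow (fun (d : G) (z : Ω) => d • z = w • z) (cmem D w).toFinite.toFinset z).card =
        (csig D w x).ncard := by
    intro z hz
    rw [Set.Finite.mem_toFinset] at hz
    have e : (Finset.bipartiteBelow (fun (d : G) (z : Ω) => d • z = w • z) (cmem D w).toFinite.toFinset z) =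
        (csig D w z).toFinite.toFinset := by
      ext d
      rw [Finset.mem_bipartiteBelow, Set.Finite.mem_toFinset, Set.Finite.mem_toFinset]
      exact Iff.rfl
    rw [e, ← Set.ncard_eq_toFinset_card]
    exact h.card_csig_eq hw hbad hz hx
  rw [Finset.sum_congr rfl hL, Finset.sum_congr rfl hR, Finset.sum_const, Finset.sum_const, smul_eq_mul,
    smul_eq_mul, ← Set.ncard_eq_toFinset_card, ← Set.ncard_eq_toFinset_card, h.card_cmem hw ha] at key
  exact key.symm

end Crit

end Cfsg.Agent.GoodInvol
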