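import Cfsg.Agent.Lib.GoodInvol.BadCent
import Cfsg.Agent.Lib.SEMain.Bender
import Cfsg.Agent.Lib.Involutions.SwapCount
import Cfsg.Agent.Lib.Involutions.StronglyEmbedded

/-!
# The elementary subgroup at a fixed point of an involution fixing two points

At a fixed point `a` of such an involution `u`, the members in a Sylow 2-subgroup `T` of the stabiliser of `a` in
the centraliser of `u` form with one an elementary subgroup, normal in `T`, meeting once each image on the fixed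
points of `u` of a member at `a`; its normaliser in that stabiliser is transitive on it.
-/

set_option autoImplicit false
set_option linter.style.haveILetI false
set_option linter.unusedSectionVars false

namespace Cfsg.Agent.GoodInvol

open Subgroup MulAction

universe u v

variable {G : Type u} [Group G] {Ω : Type v} [MulAction G Ω] {D : Set G}

/-- The stabiliser of `a` in the centraliser of `w`. -/
def ptC (w : G) (a : Ω) : Subgroup G := Subgroup.centralizer ({w} : Set G) ⊓ stabilizer G a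

theorem mem_ptC {w : G} {a : Ω} {c : G} : c ∈ ptC w a ↔ Commute c w ∧ c • a = a :=
  mem_inf.trans (and_congr mem_centralizer_singleton_iff mem_stabilizer_iff)

/-- Its action on the points fixed by `w`. -/
def fixAct (w : G) (a : Ω) : ptC w a →* Equiv.Perm (fixSub Ω w) :=
  (toPermHom (Subgroup.centralizer ({w} : Set G)) (fixSub Ω w)).comp (inclusion inf_le_left)

theorem fixAct_apply {w : G} {a : Ω} (c : ptC w a) (z : fixSub Ω w) :
    ((fixAct w a c z : fixSub Ω w) : Ω) = (c : G) • (z : Ω) := rfl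

theorem fixAct_eq_iff {w : G} {a : Ω} {c c' : ptC w a} :
    fixAct w a c = fixAct w a c' ↔ ∀ z : Ω, w • z = z → (c : G) • z = (c' : G) • z := by
  refine ⟨fun e z hz => ?_, fun e => Equiv.ext fun z => Subtype.ext ?_⟩
  · rw [← fixAct_apply c ⟨z, hz⟩, e, fixAct_apply]
  · rw [fixAct_apply, fixAct_apply]
    exact e z z.2

/-- The elementary subgroup at a point: the members in `T` with one. -/
structure ESet (D : Set G) (w : G) (a : Ω) (T E : Subgroup G) : Prop where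
  le : E ≤ T
  mem : ∀ e : G, e ∈ E ↔ e = 1 ∨ (e ∈ D ∧ e ∈ T)
  sq : ∀ e ∈ E, e * e = 1
  comm : ∀ e ∈ E, ∀ f ∈ E, Commute e f
  norm : ∀ t ∈ T, ∀ e ∈ E, t * e * t⁻¹ ∈ E
  inj : ∀ e ∈ E, ∀ f ∈ E, (∀ z : Ω, w • z = z → e • z = f • z) → e = f
  lift : ∀ d ∈ D, d ∈ ptC w a → ∃ e ∈ E, e ∈ D ∧ ∀ z : Ω, w • z = z → e • z = d • z
  two : ∃ e ∈ E, ∃ f ∈ E, e ≠ 1 ∧ f ≠ 1 ∧ e ≠ f
  trans : ∀ e ∈ E, ∀ f ∈ E, e ≠ 1 → f ≠ 1 →
    ∃ n ∈ ptC w a, (∀ x : G, n * x * n⁻¹ ∈ E ↔ x ∈ E) ∧ n * e * n⁻¹ = f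

variable [Finite G]

namespace Crit

/-- Two members at `a` with the same action on the fixed points are equal if they commute. -/
theorem eq_of_fixAct (h : Crit D Ω) {w : G} (hbad : ¬ OneFix Ω w) {d e : G} (hd : d ∈ D) (he : e ∈ D)
    (hc : Commute d e) (hact : ∀ z : Ω, w • z = z → d • z = e • z) : d = e := by
  by_contra hne
  unfold OneFix at hbad
  push Not at hbad
  obtain ⟨p, q, hp, hq, hpq⟩ := hbad
  have key : ∀ z : Ω, w • z = z → (d * e) • z = z := fun z hz => by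
    rw [mul_smul, ← hact z hz, ← mul_smul, Invol.mul_self (h.invol d hd), one_smul]
  exact hpq (h.oneFix_mul hd he hc hne p q (key p hp) (key q hq))

end Crit

variable {Ω : Type u} [MulAction G Ω] [Finite Ω] [FaithfulSMul G Ω]

/-- The image of the involutions at `a` on the fixed points: inside a normal 2-subgroup of the image of the
stabiliser, commuting pairwise and conjugate. -/
theorem Crit.exists_image (h : Crit D Ω) (hB : Below.{u} (Nat.card G)) (hgen : closure D = ⊤) {w : G}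
    (hw : orderOf w = 2) (hbad : ¬ OneFix Ω w) {a : Ω} (ha : w • a = a) :
    (∃ d ∈ D, ∃ e ∈ D, d ∈ ptC w a ∧ e ∈ ptC w a ∧ d ≠ e ∧ Commute d e) ∧
    (∃ P : Subgroup (Equiv.Perm (fixSub Ω w)), IsPGroup 2 P ∧ P ≤ (fixAct w a).range ∧
      (∀ c : ptC w a, ∀ q ∈ P, fixAct w a c * q * (fixAct w a c)⁻¹ ∈ P) ∧
      ∀ c : ptC w a, (c : G) ∈ D → fixAct w a c ∈ P) ∧
    (∀ c c' : ptC w a, (c : G) ∈ D → (c' : G) ∈ D → Commute (fixAct w a c) (fixAct w a c')) ∧
    ∀ c c' : ptC w a, (c : G) ∈ D → (c' : G) ∈ D →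
      ∃ g : ptC w a, fixAct w a (g * c * g⁻¹) = fixAct w a c' := by
  classical
  have hb := hbad
  unfold OneFix at hb
  push Not at hb
  obtain ⟨p, q, hp, hq, hpq⟩ := hb
  set C := Subgroup.centralizer ({w} : Set G) with hCdef
  set D' := {c : C | (c : G) ∈ D} with hD'
  have hCrit : Crit D' (fixSub Ω w) := h.centralizer hw
  have hGoal : Goal D' (fixSub Ω w) := goal_centralizer hB h hgen hw hp
  -- a commuting pair moved to `a`
  obtain ⟨d0, hd0, e0, he0, hne0, hde0, hd0w, he0w⟩ := h.exists_pair_of_below hB hgen hw hp hq hpq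
  haveI : Nonempty Ω := ⟨a⟩
  obtain ⟨r, hr⟩ := h.exists_fix (h.invol d0 hd0)
  have her : e0 • r = r := h.unique d0 hd0 _ _ (by rw [← mul_smul, hde0.eq, mul_smul, hr]) hr
  have hwr : w • r = r := h.unique d0 hd0 _ _ (by rw [← mul_smul, hd0w.eq, mul_smul, hr]) hr
  obtain ⟨g0, -, hg0⟩ := hCrit.exists_smul (⟨r, hwr⟩ : fixSub Ω w) ⟨a, ha⟩
  have hg0a : (g0 : G) • r = a := congrArg Subtype.val hg0
  have hg0w : Commute (g0 : G) w := mem_centralizer_singleton_iff.1 g0.2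
  have hmv : ∀ c : G, Commute c w → c • r = r → (g0 : G) * c * (g0 : G)⁻¹ ∈ ptC w a := fun c hc hcr =>
    mem_ptC.2 ⟨((hg0w.mul_left hc).mul_left hg0w.inv_left), by
      rw [mul_smul, mul_smul, inv_smul_eq_iff.2 hg0a.symm, hcr, hg0a]⟩
  have hpair : ∃ d ∈ D, ∃ e ∈ D, d ∈ ptC w a ∧ e ∈ ptC w a ∧ d ≠ e ∧ Commute d e :=
    ⟨_, h.conj g0 d0 hd0, _, h.conj g0 e0 he0, hmv d0 hd0w hr, hmv e0 he0w her,
      fun e1 => hne0 (mul_left_cancel (mul_right_cancel e1)),
      by simpa [mul_assoc] using hde0.map (MulAut.conj (g0 : G))⟩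
  refine ⟨hpair, ?_⟩
  obtain ⟨b, hab⟩ : ∃ b : fixSub Ω w, (⟨a, ha⟩ : fixSub Ω w) ≠ b := by
    by_cases hap : a = p
    · exact ⟨⟨q, hq⟩, fun e1 => hpq (hap.symm.trans (congrArg Subtype.val e1))⟩
    · exact ⟨⟨p, hp⟩, fun e1 => hap (congrArg Subtype.val e1)⟩
  obtain ⟨hse, hcore⟩ := se_induced hCrit hGoal hab
  set I := induced D' (fixSub Ω w) with hIdef
  set H := stabilizer I (⟨a, ha⟩ : fixSub Ω w) with hH
  set f := fixAct (Ω := Ω) w a with hf
  have hI : ∀ c : ptC w a, (c : G) ∈ D → f c ∈ I := fun c hc =>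
    mem_map_of_mem (K := closure D') (toPermHom C (fixSub Ω w)) (subset_closure (show inclusion inf_le_left c ∈ D' from hc))
  have hord : ∀ (c : ptC w a) (hc : (c : G) ∈ D), orderOf (⟨f c, hI c hc⟩ : I) = 2 := fun c hc => by
    refine Invol.order_two_of_sq (Subtype.ext ?_) fun h1 => ?_
    · show f c * f c = 1
      rw [← map_mul, show c * c = 1 from Subtype.ext (Invol.mul_self (h.invol _ hc)), map_one]
    · have h1' : f c = 1 := congrArg Subtype.val h1
      have hfix : ∀ z : fixSub Ω w, (c : G) • (z : Ω) = (z : Ω) := fun z => by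
        rw [← fixAct_apply c z, ← hf, h1', Equiv.Perm.one_apply]
      exact hpq (h.unique _ hc p q (hfix ⟨p, hp⟩) (hfix ⟨q, hq⟩))
  have hst : ∀ (c : ptC w a) (hc : (c : G) ∈ D), (⟨f c, hI c hc⟩ : I) ∈ H := fun c _ =>
    mem_stabilizer_iff.2 (Subtype.ext (mem_ptC.1 c.2).2)
  -- not of rank one
  have hR : ¬ BrauerSuzuki.RankOne I := by
    intro hR
    obtain ⟨d, hd, e, he, hdC, heC, hne, hde⟩ := hpair
    refine hne (h.eq_of_fixAct hbad hd he hde ?_)
    have hc : Commute (⟨f ⟨d, hdC⟩, hI _ hd⟩ : I) ⟨f ⟨e, heC⟩, hI _ he⟩ := Subtype.ext (by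
      show f ⟨d, hdC⟩ * f ⟨e, heC⟩ = f ⟨e, heC⟩ * f ⟨d, hdC⟩
      rw [← map_mul, show (⟨d, hdC⟩ : ptC w a) * ⟨e, heC⟩ = ⟨e, heC⟩ * ⟨d, hdC⟩ from Subtype.ext hde.eq, map_mul])
    have e1 : f ⟨d, hdC⟩ = f ⟨e, heC⟩ :=
      congrArg (fun k : I => (k : Equiv.Perm (fixSub Ω w))) (hR _ _ (hord _ hd) (hord _ he) hc)
    exact fixAct_eq_iff.1 e1
  have hp2 := SEMain.exists_pair hse hR
  obtain ⟨hcomm, -⟩ := SEMain.stmt I H hse hcore hp2.exists_four
  obtain ⟨Q, hQ⟩ := SEMain.exists_reg SEMain.stmt hse hcore hp2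
  have huniq : ∀ P : Subgroup I, IsPGroup 2 P → P ≤ H → P ≤ Q := by
    intro P hP hPH
    obtain ⟨S, hS⟩ := hQ.exists_sylow hse
    have hn : P ≤ Subgroup.normalizer (Q : Set I) :=
      hPH.trans ((normal_subgroupOf_iff_le_normalizer hQ.le).1 hQ.norm)
    have h2 := IsPGroup.to_sup_of_normal_right' hP hQ.two hn
    have h3 := S.3 h2 (hS ▸ le_sup_right)
    rw [hS] at h3
    exact h3 ▸ le_sup_left
  have hclconj : ∀ (c : C), ∀ k ∈ closure D', c * k * c⁻¹ ∈ closure D' := by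
    intro c
    have hle : closure D' ≤ (closure D').comap (MulAut.conj c).toMonoidHom :=
      (closure_le _).2 fun d hd => subset_closure (hCrit.conj c d hd)
    exact fun k hk => hle hk
  refine ⟨⟨Q.map I.subtype, hQ.two.map _, ?_, ?_, fun c hc => ⟨⟨f c, hI c hc⟩, ?_, rfl⟩⟩,
    fun c c' hc hc' => ?_, fun c c' hc hc' => ?_⟩
  · rintro _ ⟨t, ht, rfl⟩
    obtain ⟨k, -, hkt⟩ := mem_map.1 t.2
    have hta : (t : Equiv.Perm (fixSub Ω w)) ⟨a, ha⟩ = ⟨a, ha⟩ := hQ.le ht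
    rw [← hkt] at hta
    exact ⟨⟨k, k.2, congrArg Subtype.val hta⟩, hkt⟩
  · rintro c _ ⟨t, ht, rfl⟩
    set P0 := (Q.map I.subtype).map (MulAut.conj (f c)).toMonoidHom with hP0
    have hinI : ∀ t : I, f c * t * (f c)⁻¹ ∈ I := by
      intro t
      obtain ⟨k, hk, hkt⟩ := mem_map.1 t.2
      refine ⟨inclusion inf_le_left c * k * (inclusion inf_le_left c)⁻¹, hclconj _ k hk, ?_⟩
      rw [map_mul, map_mul, map_inv, hkt]
      rfl
    have hle : P0.subgroupOf I ≤ Q := by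
      refine huniq _ ((hQ.two.map _).map _).comap_subtype ?_
      rintro s hs
      obtain ⟨_, ⟨t', ht', rfl⟩, hst'⟩ := hs
      refine mem_stabilizer_iff.2 ?_
      show (s : Equiv.Perm (fixSub Ω w)) ⟨a, ha⟩ = ⟨a, ha⟩
      rw [show (s : Equiv.Perm (fixSub Ω w)) = f c * t' * (f c)⁻¹ from hst'.symm]
      have hca : f c ⟨a, ha⟩ = ⟨a, ha⟩ := Subtype.ext (mem_ptC.1 c.2).2
      have hca' : (f c)⁻¹ ⟨a, ha⟩ = ⟨a, ha⟩ := Equiv.Perm.inv_eq_iff_eq.2 hca.symm
      rw [Equiv.Perm.mul_apply, Equiv.Perm.mul_apply, hca',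
        show (t' : Equiv.Perm (fixSub Ω w)) ⟨a, ha⟩ = ⟨a, ha⟩ from hQ.le ht', hca]
    exact ⟨⟨_, hinI t⟩, hle ⟨_, ⟨t, ht, rfl⟩, rfl⟩, rfl⟩
  · have h2 : IsPGroup 2 (zpowers (⟨f c, hI c hc⟩ : I)) := IsPGroup.of_card (n := 1) (by
      rw [Nat.card_zpowers, hord c hc, pow_one])
    exact huniq _ h2 (zpowers_le.2 (hst c hc)) (mem_zpowers _)
  · exact congrArg Subtype.val (hcomm _ _ (hst c hc) (hst c' hc') (hord c hc) (hord c' hc'))
  · obtain ⟨g, hg⟩ := isConj_iff.1 (Invol.se_isConj hse (hord c hc) (hord c' hc'))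
    have hgH : g ∈ H := Invol.se_mem_of_conj hse (hord c hc) (hst c hc) (by rw [hg]; exact hst c' hc')
    obtain ⟨k, -, hkg⟩ := mem_map.1 g.2
    have hga : (g : Equiv.Perm (fixSub Ω w)) ⟨a, ha⟩ = ⟨a, ha⟩ := hgH
    rw [← hkg] at hga
    refine ⟨⟨k, k.2, congrArg Subtype.val hga⟩, ?_⟩
    rw [map_mul, map_mul, map_inv, show f ⟨k, k.2, congrArg Subtype.val hga⟩ = g from hkg]
    exact congrArg Subtype.val hg

/-- The members in a Sylow 2-subgroup of the stabiliser of `a` in the centraliser of `w` form with one an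
elementary subgroup meeting every image once, with transitive normaliser. -/
theorem Crit.exists_eset (h : Crit D Ω) (hB : Below.{u} (Nat.card G)) (hgen : closure D = ⊤) {w : G}
    (hw : orderOf w = 2) (hbad : ¬ OneFix Ω w) {a : Ω} (ha : w • a = a) (T : Sylow 2 (ptC w a)) :
    ∃ E : Subgroup G, ESet D w a ((T : Subgroup (ptC w a)).map (ptC w a).subtype) E := by
  classical
  haveI : Fact (Nat.Prime 2) := ⟨Nat.prime_two⟩
  obtain ⟨hpair, ⟨P, hP2, hPr, hPn, hPD⟩, hPc, hPt⟩ := h.exists_image hB hgen hw hbad ha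
  have hsec := h.badCent hB hgen
  obtain ⟨q1, q2, hq12⟩ : ∃ x y : Ω, x ≠ y := by
    unfold OneFix at hbad
    push Not at hbad
    obtain ⟨p, q, -, -, hpq⟩ := hbad
    exact ⟨p, q, hpq⟩
  set f := fixAct (Ω := Ω) w a with hf
  set T0 := (T : Subgroup (ptC w a)) with hT0
  -- the members in T commute, and their products are members
  have hTcomm : ∀ d e : (ptC w a), d ∈ T0 → e ∈ T0 → (d : G) ∈ D → (e : G) ∈ D → Commute (d : G) e := by
    intro d e hdT heT hd he
    refine hsec.comm w hw hbad _ hd _ he (mem_ptC.1 d.2).1 (mem_ptC.1 e.2).1 a (mem_ptC.1 d.2).2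
      (mem_ptC.1 e.2).2 ?_
    obtain ⟨k, hk⟩ := IsPGroup.iff_orderOf.1 T.2 ⟨_, mul_mem hdT heT⟩
    exact ⟨k, by rwa [Subgroup.orderOf_mk, ← Subgroup.orderOf_coe, Subgroup.coe_mul] at hk⟩
  have hTmul : ∀ d e : (ptC w a), d ∈ T0 → e ∈ T0 → (d : G) ∈ D → (e : G) ∈ D → d ≠ e → ((d * e : (ptC w a)) : G) ∈ D := by
    intro d e hdT heT hd he hne
    have hne' : (d : G) ≠ e := fun e1 => hne (Subtype.ext e1)
    have hc := hTcomm d e hdT heT hd he
    refine h.mem_of_oneFix ⟨q1, q2, hq12⟩ (Invol.order_two_of_sq ?_ fun h1 => hne' ?_)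
      (h.oneFix_mul hd he hc hne')
    · rw [Subgroup.coe_mul, mul_assoc, ← mul_assoc (e : G), ← hc.eq, mul_assoc (d : G) e e,
        Invol.mul_self (h.invol _ he), mul_one, Invol.mul_self (h.invol _ hd)]
    · rw [Subgroup.coe_mul] at h1
      rw [eq_inv_of_mul_eq_one_left h1, Invol.inv_self (h.invol _ he)]
  let E0 : Subgroup (ptC w a) :=
    { carrier := {e | e = 1 ∨ ((e : G) ∈ D ∧ e ∈ T0)}
      one_mem' := Or.inl rfl
      mul_mem' := by
        rintro d e (rfl | ⟨hd, hdT⟩) he'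
        · rwa [one_mul]
        rcases he' with rfl | ⟨he, heT⟩
        · rw [mul_one]; exact Or.inr ⟨hd, hdT⟩
        by_cases hne : d = e
        · subst hne
          exact Or.inl (Subtype.ext (Invol.mul_self (h.invol _ hd)))
        · exact Or.inr ⟨hTmul d e hdT heT hd he hne, mul_mem hdT heT⟩
      inv_mem' := by
        rintro d (rfl | ⟨hd, hdT⟩)
        · exact Or.inl inv_one
        · rw [show d⁻¹ = d from Subtype.ext (Invol.inv_self (h.invol _ hd))]; exact Or.inr ⟨hd, hdT⟩ }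
  have hE0 : ∀ e : (ptC w a), e ∈ E0 ↔ e = 1 ∨ ((e : G) ∈ D ∧ e ∈ T0) := fun e => Iff.rfl
  -- the action separates the elements
  have hinj : ∀ e ∈ E0, ∀ e' ∈ E0, f e = f e' → e = e' := by
    intro e he e' he' hee'
    by_contra hne
    have h1 : f (e⁻¹ * e') = 1 := by rw [map_mul, map_inv, hee', inv_mul_cancel]
    rcases (hE0 _).1 (mul_mem (inv_mem he) he') with h2 | ⟨h2, -⟩
    · exact hne (inv_mul_eq_one.1 h2)
    · have hb := hbad
      unfold OneFix at hb
      push Not at hb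
      obtain ⟨p, q, hp, hq, hpq⟩ := hb
      have hfix : ∀ z : fixSub Ω w, ((e⁻¹ * e' : (ptC w a)) : G) • (z : Ω) = (z : Ω) := fun z => by
        rw [← fixAct_apply (e⁻¹ * e') z, ← hf, h1, Equiv.Perm.one_apply]
      exact hpq (h.unique _ h2 p q (hfix ⟨p, hp⟩) (hfix ⟨q, hq⟩))
  -- every image is attained
  have hlift : ∀ d : (ptC w a), (d : G) ∈ D → ∃ e ∈ E0, (e : G) ∈ D ∧ f e = f d := by
    intro d hd
    obtain ⟨t, htT, ht⟩ : ∃ t ∈ T0, f t = f d := by
      let Tr := T.mapSurjective (f := f.rangeRestrict) f.rangeRestrict_surjective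
      haveI : (P.subgroupOf f.range).Normal := ⟨by
        rintro q hq ⟨_, c, rfl⟩
        exact hPn c q hq⟩
      have hP2' : IsPGroup 2 (P.subgroupOf f.range) := hP2.comap_subtype
      have hle := IsPGroup.le_sylow_of_normal hP2' Tr
      obtain ⟨t, ht, hft⟩ := hle (show (⟨f d, d, rfl⟩ : f.range) ∈ P.subgroupOf f.range from hPD d hd)
      exact ⟨t, ht, congrArg Subtype.val hft⟩
    set R := T0 ⊓ (zpowers (f d)).comap f with hR
    set A : Set (ptC w a) := {c | (c : G) ∈ D ∧ f c = f d} with hA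
    have hodd : Odd A.ncard := by
      rw [← Set.ncard_sdiff_singleton_add_one (a := d) (s := A) ⟨hd, rfl⟩ (Set.toFinite _)]
      have hdd : d * d = 1 := Subtype.ext (Invol.mul_self (h.invol _ hd))
      refine (even_ncard_of_invol (Set.toFinite _) (fun c => d * c * d⁻¹) (fun c hc => ?_) (fun c _ => ?_)
        fun c hc he => hc.2 ?_).add_one
      · refine ⟨⟨h.conj d c hc.1.1, by rw [map_mul, map_mul, map_inv, hc.1.2, mul_inv_cancel_right]⟩,
          fun e' => hc.2 ?_⟩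
        exact mul_left_cancel ((mul_inv_eq_iff_eq_mul.1 (show d * c * d⁻¹ = d from e')).trans
          (show d * d = d * d from rfl))
      · show d * (d * c * d⁻¹) * d⁻¹ = c
        rw [show d * (d * c * d⁻¹) * d⁻¹ = (d * d) * c * (d * d)⁻¹ by group, hdd, inv_one, one_mul, mul_one]
      · have hcd : Commute (c : G) (d : G) :=
          (congrArg Subtype.val (mul_inv_eq_iff_eq_mul.1 (show d * c * d⁻¹ = c from he))).symm
        exact Subtype.ext (h.eq_of_fixAct hbad hc.1.1 hd hcd (fixAct_eq_iff.1 hc.1.2))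
    have hRfix : ∀ r ∈ R, ∀ c ∈ A, r * c * r⁻¹ ∈ A := by
      intro r hr c hc
      obtain ⟨i, hi⟩ := hr.2
      refine ⟨h.conj r c hc.1, ?_⟩
      simp only at hi
      rw [map_mul, map_mul, map_inv, hc.2, ← hi, ← zpow_neg, mul_assoc, ← zpow_one_add, ← zpow_add]
      conv_rhs => rw [← zpow_one (f d)]
      congr 1
      ring
    letI : MulAction R A :=
      { smul := fun r c => ⟨(r : (ptC w a)) * c * (r : (ptC w a))⁻¹, hRfix r r.2 c c.2⟩
        one_smul := fun c => Subtype.ext (show (1 : (ptC w a)) * c * (1 : (ptC w a))⁻¹ = c by group)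
        mul_smul := fun r s c => Subtype.ext
          (show (r : (ptC w a)) * s * c * ((r : (ptC w a)) * s)⁻¹ = r * ((s : (ptC w a)) * c * (s : (ptC w a))⁻¹) * (r : (ptC w a))⁻¹ by group) }
    have hR2 : IsPGroup 2 R := T.2.to_le inf_le_left
    obtain ⟨c, hc⟩ := hR2.nonempty_fixed_point_of_prime_not_dvd_card A fun h2 => by
      rw [Nat.card_coe_set_eq] at h2
      exact Nat.not_even_iff_odd.2 hodd (even_iff_two_dvd.2 h2)
    refine ⟨c, (hE0 _).2 (Or.inr ⟨c.2.1, ?_⟩), c.2.1, c.2.2⟩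
    set cX : (ptC w a) := (c : (ptC w a)) with hcX
    have hcR : ∀ r ∈ R, Commute r cX := fun r hr =>
      mul_inv_eq_iff_eq_mul.1 (congrArg Subtype.val (hc ⟨r, hr⟩))
    set R' := R ⊔ zpowers cX with hR'
    have hR'2 : IsPGroup 2 R' := IsPGroup.to_sup_of_normal_left' hR2
      (IsPGroup.of_card (n := 1) (by
        rw [Nat.card_zpowers, ← Subgroup.orderOf_coe, h.invol _ c.2.1, pow_one]))
      (zpowers_le.2 (centralizer_le_normalizer _ (mem_centralizer_iff.2 fun r hr => (hcR r hr).eq)))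
    -- the Sylow subgroup of the kernel
    have hker : R' ⊓ f.ker ≤ T0 := by
      obtain ⟨T', hT'⟩ := (hR'2.to_le (inf_le_left : R' ⊓ f.ker ≤ R')).exists_le_sylow
      obtain ⟨γ, hγ⟩ := MulAction.exists_smul_eq (ptC w a) T' T
      have hmv : ∀ x ∈ R' ⊓ f.ker, γ * x * γ⁻¹ ∈ T0 ⊓ f.ker := by
        intro x hx
        refine ⟨?_, ?_⟩
        · show γ * x * γ⁻¹ ∈ (T : Subgroup (ptC w a))
          rw [← hγ, Sylow.coe_subgroup_smul, Subgroup.mem_pointwise_smul_iff_inv_smul_mem, ← map_inv,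
            MulAut.smul_def, MulAut.conj_apply, inv_inv,
            show γ⁻¹ * (γ * x * γ⁻¹) * γ = x by group]
          exact hT' hx
        · show f (γ * x * γ⁻¹) = 1
          rw [map_mul, map_mul, map_inv, (show f x = 1 from hx.2), mul_one, mul_inv_cancel]
      have hsub : T0 ⊓ f.ker ≤ R' ⊓ f.ker := fun x hx => ⟨le_sup_left (a := R) ⟨hx.1, by
        show f x ∈ zpowers (f d)
        rw [(show f x = 1 from hx.2)]; exact one_mem _⟩, hx.2⟩
      have heq := eq_of_le_of_card_ge hsub (Nat.card_le_card_of_injective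
        (fun x : ↥(R' ⊓ f.ker) => (⟨γ * x * γ⁻¹, hmv x x.2⟩ : ↥(T0 ⊓ f.ker)))
        fun x y hxy => Subtype.ext (mul_left_cancel (mul_right_cancel (congrArg Subtype.val hxy))))
      rw [← heq]
      exact inf_le_left
    have hmem : cX * t⁻¹ ∈ R' ⊓ f.ker := by
      have htR : t ∈ R := ⟨htT, by show f t ∈ zpowers (f d); rw [ht]; exact mem_zpowers _⟩
      refine ⟨R'.mul_mem (mem_sup_right (mem_zpowers cX)) (R'.inv_mem (mem_sup_left htR)), ?_⟩
      show f (cX * t⁻¹) = 1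
      rw [map_mul, map_inv, ht, (show f cX = f d from c.2.2), mul_inv_cancel]
    have := mul_mem (hker hmem) htT
    rwa [inv_mul_cancel_right] at this
  -- transport to G
  have hmapmem : ∀ e : G, e ∈ E0.map (ptC w a).subtype ↔ e = 1 ∨ (e ∈ D ∧ e ∈ T0.map (ptC w a).subtype) := by
    intro e
    constructor
    · rintro ⟨x, hx, rfl⟩
      rcases (hE0 x).1 hx with rfl | ⟨h1, h2⟩
      · exact Or.inl rfl
      · exact Or.inr ⟨h1, mem_map_of_mem _ h2⟩
    · rintro (rfl | ⟨he, x, hx, rfl⟩)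
      · exact one_mem _
      · exact mem_map_of_mem _ ((hE0 x).2 (Or.inr ⟨he, hx⟩))
  refine ⟨E0.map (ptC w a).subtype, ?_⟩
  constructor
  · refine map_mono fun e he => ?_
    rcases (hE0 e).1 he with rfl | ⟨-, h2⟩
    exacts [one_mem _, h2]
  · exact hmapmem
  · intro e he
    rcases (hmapmem e).1 he with rfl | ⟨h1, -⟩
    exacts [one_mul _, Invol.mul_self (h.invol e h1)]
  · intro e he e' he'
    rcases (hmapmem e).1 he with rfl | ⟨h1, x, hx, rfl⟩
    · exact Commute.one_left _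
    rcases (hmapmem e').1 he' with rfl | ⟨h1', y, hy, rfl⟩
    · exact Commute.one_right _
    exact hTcomm x y hx hy h1 h1'
  · intro t ht e he
    rcases (hmapmem e).1 he with rfl | ⟨h1, h2⟩
    · rw [mul_one, mul_inv_cancel]; exact one_mem _
    · exact (hmapmem _).2 (Or.inr ⟨h.conj t e h1, mul_mem (mul_mem ht h2) (inv_mem ht)⟩)
  · rintro _ ⟨x, hx, rfl⟩ _ ⟨y, hy, rfl⟩ hxy
    exact congrArg Subtype.val (hinj x hx y hy (fixAct_eq_iff.2 hxy))
  · intro d hd hdX
    obtain ⟨e, he, heD, hfe⟩ := hlift ⟨d, hdX⟩ hd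
    exact ⟨e, mem_map_of_mem _ he, heD, fixAct_eq_iff.1 hfe⟩
  · obtain ⟨d, hd, e, he, hdX, heX, hne, hde⟩ := hpair
    obtain ⟨d1, hd1, hd1D, hfd⟩ := hlift ⟨d, hdX⟩ hd
    obtain ⟨e1, he1, he1D, hfe⟩ := hlift ⟨e, heX⟩ he
    refine ⟨d1, mem_map_of_mem _ hd1, e1, mem_map_of_mem _ he1, Invol.ne_one (h.invol _ hd1D),
      Invol.ne_one (h.invol _ he1D), fun e2 => hne ?_⟩
    refine h.eq_of_fixAct hbad hd he hde (fixAct_eq_iff.1 (?_ : f ⟨d, hdX⟩ = f ⟨e, heX⟩))
    rw [← hfd, ← hfe, show d1 = e1 from Subtype.ext e2]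
  · rintro _ ⟨x, hx, rfl⟩ _ ⟨y, hy, rfl⟩ hx1 hy1
    have hxD : (x : G) ∈ D := (((hE0 x).1 hx).resolve_left fun e1 => hx1 (by rw [e1]; rfl)).1
    have hyD : (y : G) ∈ D := (((hE0 y).1 hy).resolve_left fun e1 => hy1 (by rw [e1]; rfl)).1
    obtain ⟨g, hg⟩ := hPt x y hxD hyD
    set Y := (E0.map f).comap f with hY
    have hYn : Y.Normal := ⟨by
      rintro s ⟨e, he, hes⟩ c
      rcases (hE0 e).1 he with rfl | ⟨heD, -⟩
      · refine ⟨1, one_mem _, ?_⟩
        rw [map_one, map_mul, map_mul, map_inv, ← hes, map_one, mul_one, mul_inv_cancel]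
      · obtain ⟨e', he', -, hfe'⟩ := hlift (c * e * c⁻¹) (h.conj c e heD)
        refine ⟨e', he', ?_⟩
        rw [hfe', map_mul, map_mul, map_inv, hes]
        rw [map_mul, map_mul, map_inv]⟩
    obtain ⟨PY, hPY⟩ := PBasic.exists_sylow_subgroupOf T Y
    have hgmem : g ∈ Subgroup.normalizer (((PY : Subgroup Y).map Y.subtype : Subgroup (ptC w a)) : Set (ptC w a)) ⊔ Y := by
      rw [Sylow.normalizer_sup_eq_top]; exact mem_top _
    rw [sup_comm, mem_sup_of_normal_left] at hgmem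
    obtain ⟨s, hs, n, hn, rfl⟩ := hgmem
    have hset : (PY : Subgroup Y).map Y.subtype = T0 ⊓ Y := by
      rw [hPY, subgroupOf_map_subtype]
    rw [hset, mem_normalizer_iff] at hn
    have hiff : ∀ z : (ptC w a), z ∈ E0 ↔ z = 1 ∨ ((z : G) ∈ D ∧ z ∈ T0 ⊓ Y) := fun z => by
      rw [hE0]
      exact ⟨fun hz => hz.imp_right fun h2 => ⟨h2.1, h2.2, ⟨z, (hE0 z).2 (Or.inr h2), rfl⟩⟩,
        fun hz => hz.imp_right fun h2 => ⟨h2.1, h2.2.1⟩⟩
    have hnE : ∀ z : (ptC w a), n * z * n⁻¹ ∈ E0 ↔ z ∈ E0 := by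
      intro z
      rw [hiff, hiff, ← hn z, conj_eq_one_iff]
      refine or_congr_right (and_congr_left' ⟨fun hD => ?_, fun hD => h.conj n z hD⟩)
      have := h.conj (n : G)⁻¹ _ hD
      simpa [mul_assoc] using this
    refine ⟨n, n.2, fun z => ⟨fun hz => ?_, ?_⟩, ?_⟩
    · obtain ⟨z', hz', e1⟩ := hz
      have hz'' : z ∈ (ptC w a) := by
        have : z = (n : G)⁻¹ * ((z' : (ptC w a)) : G) * (n : G) := by
          rw [show ((z' : (ptC w a)) : G) = (n : G) * z * (n : G)⁻¹ from e1]; group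
        rw [this]
        exact mul_mem (mul_mem (inv_mem n.2) z'.2) n.2
      refine ⟨⟨z, hz''⟩, (hnE _).1 ?_, rfl⟩
      rwa [show n * ⟨z, hz''⟩ * n⁻¹ = z' from Subtype.ext e1.symm]
    · rintro ⟨z', hz', rfl⟩
      exact ⟨n * z' * n⁻¹, (hnE z').2 hz', rfl⟩
    · refine congrArg Subtype.val (hinj (n * x * n⁻¹) ((hnE x).2 hx) y hy ?_)
      rw [← hg]
      obtain ⟨e2, he2, hes⟩ := hs
      have hc2 : Commute (f s) (f (n * x * n⁻¹)) := by
        rw [← hes]
        have hc : Commute (e2 : (ptC w a)) (n * x * n⁻¹) := by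
          rcases (hE0 e2).1 he2 with rfl | ⟨he2D, he2T⟩
          · exact Commute.one_left _
          · rcases (hE0 _).1 ((hnE x).2 hx) with h0 | ⟨h0, h0T⟩
            · rw [h0]; exact Commute.one_right _
            · exact Subtype.ext (hTcomm _ _ he2T h0T he2D h0)
        exact hc.map f
      rw [show s * n * x * (s * n)⁻¹ = s * (n * x * n⁻¹) * s⁻¹ by group, map_mul f (s * _) _, map_mul f s _,
        map_inv, hc2.eq, mul_inv_cancel_right]

end Cfsg.Agent.GoodInvol
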