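import Cfsg.Agent.Lib.GoodInvol.Count
import Cfsg.Agent.Lib.GoodInvol.ESet

/-!
# The products with members are conjugate

An involution `w` fixing two points is conjugate to each `w * d` for a member `d` commuting with it, so all of them
have the same numbers of fixed points and members; with this the count at `w` closes.
-/

set_option autoImplicit false
set_option linter.style.haveILetI false
set_option linter.unusedSectionVars false

namespace Cfsg.Agent.GoodInvol

open Subgroup MulAction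

universe u v

variable {G : Type u} [Group G] {Ω : Type v} [MulAction G Ω] {D : Set G}

/-- The members commuting with `w` acting on its fixed points as `d`. -/
def kap (D : Set G) (Ω : Type v) [MulAction G Ω] (w d : G) : Set G :=
  {c ∈ cmem D w | ∀ z : Ω, w • z = z → c • z = d • z}

variable [Finite G]

namespace Crit

theorem card_kap_conj (h : Crit D Ω) (g w d : G) :
    (kap D Ω (g * w * g⁻¹) (g * d * g⁻¹)).ncard = (kap D Ω w d).ncard := by
  have key : ∀ g w d c : G, c ∈ kap D Ω w d → g * c * g⁻¹ ∈ kap D Ω (g * w * g⁻¹) (g * d * g⁻¹) := by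
    intro g w d c hc
    refine ⟨h.conj_cmem hc.1, fun z hz => ?_⟩
    have hz' : w • g⁻¹ • z = g⁻¹ • z := by
      rw [mul_smul, mul_smul] at hz
      exact (inv_smul_eq_iff.2 hz.symm).symm
    rw [mul_smul, mul_smul, mul_smul, mul_smul, hc.2 _ hz']
  have e : kap D Ω (g * w * g⁻¹) (g * d * g⁻¹) = (fun c => g * c * g⁻¹) '' kap D Ω w d := by
    ext c
    constructor
    · intro hc
      refine ⟨g⁻¹ * c * g, ?_, by group⟩
      have := key g⁻¹ _ _ c hc
      rwa [show g⁻¹ * (g * w * g⁻¹) * g⁻¹⁻¹ = w by group, show g⁻¹ * (g * d * g⁻¹) * g⁻¹⁻¹ = d by group,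
        inv_inv] at this
    · rintro ⟨b, hb, rfl⟩
      exact key g w d b hb
  rw [e, Set.ncard_image_of_injective _ fun a b hab => mul_left_cancel (mul_right_cancel hab)]

theorem kap_congr {w d e : G} (hde : ∀ z : Ω, w • z = z → d • z = e • z) : kap D Ω w d = kap D Ω w e := by
  ext c
  exact ⟨fun hc => ⟨hc.1, fun z hz => (hc.2 z hz).trans (hde z hz)⟩,
    fun hc => ⟨hc.1, fun z hz => (hc.2 z hz).trans (hde z hz).symm⟩⟩

/-- Two members with the same action on the fixed points have a product of odd order. -/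
theorem odd_mul_kap (h : Crit D Ω) {w d c : G} (hbad : ¬ OneFix Ω w) (hd : d ∈ D) (hc : c ∈ D)
    (hact : ∀ z : Ω, w • z = z → c • z = d • z) : Odd (orderOf (c * d)) := by
  rw [← Nat.not_even_iff_odd]
  intro hev
  obtain ⟨t, ht, -, htc, -, hct, hne⟩ := h.half_split hc hd hev
  unfold OneFix at hbad
  push Not at hbad
  obtain ⟨p, q, hp, hq, hpq⟩ := hbad
  have hle : zpowers (c * d) ≤ stabilizer G p ⊓ stabilizer G q := zpowers_le.2 (mem_inf.2
    ⟨mem_stabilizer_iff.2 (by rw [mul_smul, ← hact p hp, ← mul_smul, Invol.mul_self (h.invol c hc), one_smul]),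
      mem_stabilizer_iff.2 (by rw [mul_smul, ← hact q hq, ← mul_smul, Invol.mul_self (h.invol c hc), one_smul])⟩)
  exact hpq (h.half_unique hc hct hne htc (mem_inf.1 (hle ht)).1 (mem_inf.1 (hle ht)).2)

end Crit

variable {Ω : Type u} [MulAction G Ω] [Finite Ω] [FaithfulSMul G Ω]

namespace Crit

variable (h : Crit D Ω) (hB : Below.{u} (Nat.card G)) (hgen : closure D = ⊤)
include h hB hgen

/-- An involution fixing two points is conjugate to its product with a commuting member. -/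
theorem exists_conj_mul {w : G} (hw : orderOf w = 2) (hbad : ¬ OneFix Ω w) {d : G} (hd : d ∈ cmem D w) :
    ∃ g : G, g * w * g⁻¹ = w * d := by
  haveI : Fact (Nat.Prime 2) := ⟨Nat.prime_two⟩
  have hb := hbad
  unfold OneFix at hb
  push Not at hb
  obtain ⟨p0, -, -, -, -⟩ := hb
  haveI : Nonempty Ω := ⟨p0⟩
  obtain ⟨a, hda⟩ := h.exists_fix (h.invol d hd.1)
  have hwa := h.fix_of_cmem hd hda
  have hdX : d ∈ ptC w a := mem_ptC.2 ⟨hd.2, hda⟩
  obtain ⟨T, hT⟩ := (IsPGroup.of_card (n := 1) (by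
      rw [Nat.card_zpowers, ← Subgroup.orderOf_coe, h.invol d hd.1, pow_one]) :
    IsPGroup 2 (zpowers (⟨d, hdX⟩ : ptC w a))).exists_le_sylow
  obtain ⟨E, hE⟩ := h.exists_eset hB hgen hw hbad hwa T
  have hdE : d ∈ E := (hE.mem d).2 (Or.inr ⟨hd.1, ⟨⟨d, hdX⟩, hT (mem_zpowers _), rfl⟩⟩)
  have hd1 : d ≠ 1 := Invol.ne_one (h.invol d hd.1)
  -- a third element
  obtain ⟨g, hgE, hg1, hgd⟩ : ∃ g ∈ E, g ≠ 1 ∧ g ≠ d := by
    obtain ⟨e, he, f, hf, he1, hf1, hef⟩ := hE.two
    by_cases hed : e = d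
    · exact ⟨f, hf, hf1, fun e' => hef (hed.trans e'.symm)⟩
    · exact ⟨e, he, he1, hed⟩
  have hv : orderOf (w * d) = 2 := h.mul_invol_of_cmem hw hbad hd
  have hvbad : ¬ OneFix Ω (w * d) := h.not_oneFix_mul hw hbad hd.1 hd.2
  have hEX : ∀ e ∈ E, e ∈ ptC w a := fun e he => by
    obtain ⟨x, -, rfl⟩ := hE.le he
    exact x.2
  have hva : (w * d) • a = a := by rw [mul_smul, hda, hwa]
  have hEV : E ≤ ptC (w * d) a := fun e he => mem_ptC.2
    ⟨(mem_ptC.1 (hEX e he)).1.mul_right (hE.comm e he d hdE), (mem_ptC.1 (hEX e he)).2⟩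
  obtain ⟨T', hT'⟩ := (IsPGroup.of_card (n := Nat.log 2 (Nat.card (E.subgroupOf (ptC (w * d) a)))) (by
      have h2 : IsPGroup 2 (E.subgroupOf (ptC (w * d) a)) := fun e => ⟨1, Subtype.ext (Subtype.ext (by
        simpa [pow_two] using hE.sq _ e.2))⟩
      obtain ⟨k, hk⟩ := IsPGroup.iff_card.1 h2
      rw [hk, Nat.log_pow (by norm_num)]) :
    IsPGroup 2 (E.subgroupOf (ptC (w * d) a))).exists_le_sylow
  obtain ⟨E', hE'⟩ := h.exists_eset hB hgen hv hvbad hva T'
  have hEE' : E ≤ E' := fun e he => by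
    rcases (hE.mem e).1 he with rfl | ⟨h1, -⟩
    · exact one_mem _
    · exact (hE'.mem e).2 (Or.inr ⟨h1, ⟨⟨e, hEV he⟩, hT' he, rfl⟩⟩)
  obtain ⟨n', hn'X, -, hn'⟩ := hE'.trans d (hEE' hdE) (d * g) (hEE' (mul_mem hdE hgE)) hd1
    fun e' => hgd (by rw [← Invol.inv_self (h.invol d hd.1)]; exact eq_inv_of_mul_eq_one_right e')
  obtain ⟨n, hnX, -, hn⟩ := hE.trans g hgE d hdE hg1 hd1
  refine ⟨n * n', ?_⟩
  have hdd := Invol.mul_self (h.invol d hd.1)
  have h1 : n' * w * n'⁻¹ = w * g := by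
    have hc : n' * (w * d) * n'⁻¹ = w * d := mul_inv_eq_iff_eq_mul.2 (mem_ptC.1 hn'X).1.eq
    calc n' * w * n'⁻¹ = n' * (w * (d * d)) * n'⁻¹ := by rw [hdd, mul_one]
      _ = (n' * (w * d) * n'⁻¹) * (n' * d * n'⁻¹) := by group
      _ = w * d * (d * g) := by rw [hc, hn']
      _ = w * g := by rw [mul_assoc, ← mul_assoc d, hdd, one_mul]
  have hnw : n * w * n⁻¹ = w := mul_inv_eq_iff_eq_mul.2 (mem_ptC.1 hnX).1.eq
  calc n * n' * w * (n * n')⁻¹ = n * (n' * w * n'⁻¹) * n⁻¹ := by group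
    _ = n * (w * g) * n⁻¹ := by rw [h1]
    _ = (n * w * n⁻¹) * (n * g * n⁻¹) := by group
    _ = w * d := by rw [hnw, hn]

/-- The product with a commuting member has as many fixed points. -/
theorem card_fixSet_mul {w : G} (hw : orderOf w = 2) (hbad : ¬ OneFix Ω w) {d : G} (hd : d ∈ cmem D w) :
    (fixSet Ω (w * d)).ncard = (fixSet Ω w).ncard := by
  obtain ⟨g, hg⟩ := h.exists_conj_mul hB hgen hw hbad hd
  have e : fixSet Ω (w * d) = (g • ·) '' fixSet Ω w := by
    ext z
    rw [← hg]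
    constructor
    · intro hz
      refine ⟨g⁻¹ • z, ?_, smul_inv_smul g z⟩
      have hz' : (g * w * g⁻¹) • z = z := hz
      rw [mul_smul, mul_smul] at hz'
      exact (inv_smul_eq_iff.2 hz'.symm).symm
    · rintro ⟨y, hy, rfl⟩
      show (g * w * g⁻¹) • g • y = g • y
      rw [mul_smul, mul_smul, inv_smul_smul, show w • y = y from hy]
  rw [e, Set.ncard_image_of_injective _ (MulAction.injective g)]

/-- The product with a commuting member has as many members at a fixed point. -/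
theorem card_cdat_mul {w : G} (hw : orderOf w = 2) (hbad : ¬ OneFix Ω w) {d : G} (hd : d ∈ cmem D w) {a b : Ω}
    (ha : w • a = a) (hb : (w * d) • b = b) : (cdat D (w * d) b).ncard = (cdat D w a).ncard := by
  obtain ⟨g, hg⟩ := h.exists_conj_mul hB hgen hw hbad hd
  rw [← h.card_cdat_conj g w a, hg]
  refine h.card_cdat_eq (h.mul_invol_of_cmem hw hbad hd) hb ?_
  rw [← hg, mul_smul, mul_smul, inv_smul_smul, ha]

/-- The members at a point are `|Sigma| * N`. -/
theorem card_dat_eq {w : G} (hw : orderOf w = 2) (hbad : ¬ OneFix Ω w) {a : Ω} (ha : w • a = a) {x : Ω}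
    (hx : w • x ≠ x) : (dat D x).ncard = (csig D w x).ncard * (cdat D w a).ncard := by
  obtain ⟨d, hd, hdx⟩ := h.exists_at x
  obtain ⟨c, hc, hcw, -, -, -, hcx, -⟩ :=
    h.exists_partner hw (fun hwD => hbad (h.oneFix_of_mem hwD)) hd hdx hx
  rw [h.card_dat_eq_mul hw hbad ⟨hc, hcw⟩ hcx hx, h.card_cdat_mul hB hgen hw hbad ⟨hc, hcw⟩ ha hcx]

/-- The number of moved points: `(n - f) * mu = f * N * h`. -/
theorem card_moved_eq {w : G} (hw : orderOf w = 2) (hbad : ¬ OneFix Ω w) {a : Ω} (ha : w • a = a) {x : Ω}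
    (hx : w • x ≠ x) :
    (fixSet Ω w)ᶜ.ncard * (csig D w x).ncard =
      (fixSet Ω w).ncard * (cdat D w a).ncard * ((fixSet Ω w).ncard - 1) := by
  obtain ⟨d, hd, hdw⟩ := Set.nonempty_of_ncard_ne_zero (h.odd_cdat hw ha).pos.ne'
  rw [h.card_moved_mul hw hbad ha (show d ∈ cmem D w from ⟨hd.1, hdw⟩) hx,
    h.card_fixSet_mul hB hgen hw hbad ⟨hd.1, hdw⟩]

/-- The lifts of one image are as many for all members and all products. -/
theorem card_kap_eq {w : G} (hw : orderOf w = 2) (hbad : ¬ OneFix Ω w) {d c : G} (hd : d ∈ cmem D w)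
    (hc : c ∈ cmem D w) : (kap D Ω (w * c) c).ncard = (kap D Ω w d).ncard := by
  obtain ⟨g, hg⟩ := h.exists_conj_mul hB hgen hw hbad hc
  have hv : orderOf (w * c) = 2 := h.mul_invol_of_cmem hw hbad hc
  have hvbad : ¬ OneFix Ω (w * c) := h.not_oneFix_mul hw hbad hc.1 hc.2
  have hgd : g * d * g⁻¹ ∈ cmem D (w * c) := hg ▸ h.conj_cmem hd
  have hcc : c ∈ cmem D (w * c) := ⟨hc.1, hc.2.mul_right (Commute.refl c)⟩
  obtain ⟨k, hk, hkd⟩ := h.exists_conj_cmem hv hvbad hgd hcc
  rw [← h.card_kap_conj g w d, hg, ← h.card_kap_conj k (w * c) (g * d * g⁻¹), hkd,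
    mul_inv_eq_iff_eq_mul.2 hk.eq]

/-- At least as many members act at a moved point as `w` as there are lifts of an image. -/
theorem card_kap_le_csig {w : G} (hw : orderOf w = 2) (hbad : ¬ OneFix Ω w) {a : Ω} (ha : w • a = a) {x : Ω}
    (hx : w • x ≠ x) {d : G} (hd : d ∈ cmem D w) : (kap D Ω w d).ncard ≤ (csig D w x).ncard := by
  classical
  set N := (cdat D w a).ncard with hN
  have hsub : ∀ c ∈ cdat D w a, kap D Ω (w * c) c ⊆ dat D a := fun c hc f hf => ⟨hf.1.1, by
    rw [hf.2 a (by rw [mul_smul, hc.1.2, ha]), hc.1.2]⟩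
  have hrec : ∀ c ∈ cdat D w a, ∀ f ∈ kap D Ω (w * c) c, (f * w) ^ (orderOf (f * w) / 2) = w * c := by
    intro c hc f hf
    have hcm : c ∈ cmem D w := ⟨hc.1.1, hc.2⟩
    have hv : orderOf (w * c) = 2 := h.mul_invol_of_cmem hw hbad hcm
    have hodd := h.odd_mul_kap (h.not_oneFix_mul hw hbad hc.1.1 hc.2) hc.1.1 hf.1.1 hf.2
    have hcomm : Commute (f * c) (w * c) := hf.1.2.mul_left (hc.2.mul_right (Commute.refl c))
    have efw : f * w = f * c * (w * c) := by
      calc f * w = f * (c * c) * w := by rw [Invol.mul_self (h.invol c hc.1.1), mul_one]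
        _ = f * c * (c * w) := by group
        _ = _ := by rw [hc.2.eq]
    have hord : orderOf (f * w) = orderOf (f * c) * 2 := by
      rw [efw, hcomm.orderOf_mul_eq_mul_orderOf_of_coprime (by rw [hv]; exact Nat.coprime_two_right.2 hodd), hv]
    rw [hord, Nat.mul_div_cancel _ two_pos, efw, hcomm.mul_pow, pow_orderOf_eq_one, one_mul]
    obtain ⟨i, hi⟩ := hodd
    rw [hi, pow_succ, pow_mul, pow_two, Invol.mul_self hv, one_pow, one_mul]
  have hdisj : (↑(cdat D w a).toFinite.toFinset : Set G).PairwiseDisjoint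
      fun c => (kap D Ω (w * c) c).toFinite.toFinset := by
    intro c hc c' hc' hne
    rw [Set.Finite.coe_toFinset] at hc hc'
    refine Finset.disjoint_left.2 fun f hf hf' => hne ?_
    rw [Set.Finite.mem_toFinset] at hf hf'
    exact mul_left_cancel ((hrec c hc f hf).symm.trans (hrec c' hc' f hf'))
  have hle := Finset.card_le_card (s := (cdat D w a).toFinite.toFinset.biUnion
      fun c => (kap D Ω (w * c) c).toFinite.toFinset) (t := (dat D a).toFinite.toFinset) (by
    intro f hf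
    obtain ⟨c, hc, hfc⟩ := Finset.mem_biUnion.1 hf
    rw [Set.Finite.mem_toFinset] at hc hfc ⊢
    exact hsub c hc hfc)
  rw [Finset.card_biUnion hdisj, Finset.sum_congr rfl (g := fun _ => (kap D Ω w d).ncard) fun c hc => by
      rw [Set.Finite.mem_toFinset] at hc
      rw [← Set.ncard_eq_toFinset_card, h.card_kap_eq hB hgen hw hbad hd ⟨hc.1.1, hc.2⟩],
    Finset.sum_const, smul_eq_mul, ← Set.ncard_eq_toFinset_card, ← Set.ncard_eq_toFinset_card,
    h.card_dat a x, h.card_dat_eq hB hgen hw hbad ha hx, mul_comm (csig D w x).ncard] at hle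
  exact Nat.le_of_mul_le_mul_left hle (h.odd_cdat hw ha).pos

/-- The members at a fixed point are the lifts of the non-trivial elements of the elementary subgroup. -/
theorem card_cdat_kap {w : G} (hw : orderOf w = 2) (hbad : ¬ OneFix Ω w) {a : Ω} (ha : w • a = a)
    {T E : Subgroup G} (hE : ESet D w a T E) (hT : T ≤ ptC w a) {d : G} (hd : d ∈ cmem D w) :
    (cdat D w a).ncard = (Nat.card E - 1) * (kap D Ω w d).ncard := by
  classical
  have hmem : ∀ c ∈ cdat D w a, ∃ e ∈ E, e ∈ D ∧ ∀ z : Ω, w • z = z → e • z = c • z :=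
    fun c hc => hE.lift c hc.1.1 (mem_ptC.2 ⟨hc.2, hc.1.2⟩)
  choose! f hf hfD hfa using hmem
  have hkap : ∀ e, e ∈ E → e ≠ 1 → e ∈ cmem D w ∧ e • a = a := fun e he h1 =>
    ⟨⟨(((hE.mem e).1 he).resolve_left h1).1, (mem_ptC.1 (hT (hE.le he))).1⟩, (mem_ptC.1 (hT (hE.le he))).2⟩
  have hconst : ∀ e, e ∈ cmem D w → (kap D Ω w e).ncard = (kap D Ω w d).ncard := fun e he => by
    obtain ⟨g, hgw, hg⟩ := h.exists_conj_cmem hw hbad hd he
    have := h.card_kap_conj g w d
    rwa [mul_inv_eq_iff_eq_mul.2 hgw.eq, hg] at this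
  have hone : ((E : Set G) \ {1}).ncard = Nat.card E - 1 := by
    rw [Set.ncard_sdiff_singleton_of_mem (one_mem E), ← Nat.card_coe_set_eq]
    rfl
  rw [Set.ncard_eq_toFinset_card (cdat D w a) (Set.toFinite _),
    Finset.card_eq_sum_card_fiberwise (f := f) (t := ((E : Set G) \ {1}).toFinite.toFinset) fun c hc => by
      rw [Finset.mem_coe, Set.Finite.mem_toFinset] at hc ⊢
      exact ⟨hf c hc, Invol.ne_one (h.invol _ (hfD c hc))⟩,
    Finset.sum_congr rfl (g := fun _ => (kap D Ω w d).ncard) fun e he => by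
      rw [Set.Finite.mem_toFinset] at he
      obtain ⟨hecm, hea⟩ := hkap e he.1 he.2
      rw [← hconst e hecm, Set.ncard_eq_toFinset_card (kap D Ω w e) (Set.toFinite _)]
      congr 1
      ext c
      rw [Finset.mem_filter, Set.Finite.mem_toFinset, Set.Finite.mem_toFinset]
      constructor
      · rintro ⟨hc, rfl⟩
        exact ⟨⟨hc.1.1, hc.2⟩, fun z hz => (hfa c hc z hz).symm⟩
      · intro hc
        have hcd : c ∈ cdat D w a := ⟨⟨hc.1.1, by rw [hc.2 a ha, hea]⟩, hc.1.2⟩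
        exact ⟨hcd, hE.inj _ (hf c hcd) e he.1 fun z hz => (hfa c hcd z hz).trans (hc.2 z hz)⟩,
    Finset.sum_const, smul_eq_mul, ← Set.ncard_eq_toFinset_card, hone]

end Crit

end Cfsg.Agent.GoodInvol
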