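import Mathlib.FieldTheory.Finite.Basic
import Mathlib.LinearAlgebra.LinearIndependent.Defs
import Mathlib.RingTheory.LocalRing.Basic
import Mathlib.Algebra.CharP.Two
import Mathlib.Algebra.Algebra.ZMod
import Mathlib.Algebra.Module.ZMod

/-!
Field lemmas for the criterion: additive maps of a finite field of characteristic two as Frobenius sums, their
weights, and the additive maps preserving the forms `x ↦ x ^ (1 + 2 ^ s)`.
-/

set_option autoImplicit false
set_option linter.unusedSectionVars false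
set_option linter.style.haveILetI false

namespace Cfsg.Agent.GoodInvol.FieldForms

open Finset

variable {F : Type*} [Field F] [Finite F] [CharP F 2] {n : ℕ} (hn : Nat.card F = 2 ^ n)

include hn

theorem n_pos : 0 < n := by
  rcases Nat.eq_zero_or_pos n with rfl | h
  · have h1 := Finite.one_lt_card (α := F)
    rw [hn, pow_zero] at h1
    omega
  · exact h

omit hn in
theorem add_pow_two_pow (x y : F) (k : ℕ) : (x + y) ^ 2 ^ k = x ^ 2 ^ k + y ^ 2 ^ k := by
  haveI : Fact (Nat.Prime 2) := ⟨Nat.prime_two⟩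
  exact add_pow_char_pow x y 2 k

theorem pow_two_pow_mod (x : F) (k : ℕ) : x ^ 2 ^ (k % n) = x ^ 2 ^ k := by
  haveI := Fintype.ofFinite F
  have hc : Fintype.card F = 2 ^ n := by rw [← hn, Nat.card_eq_fintype_card]
  conv_rhs => rw [← Nat.mod_add_div k n, pow_add, pow_mul, pow_mul 2, ← hc]
  rw [FiniteField.pow_card_pow]

theorem pow_two_pow_inj {i j : ℕ} (hi : i < n) (hj : j < n) (h : ∀ x : Fˣ, x ^ 2 ^ i = x ^ 2 ^ j) : i = j := by
  obtain ⟨g, hg⟩ := IsCyclic.exists_ofOrder_eq_natCard (α := Fˣ)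
  rw [Nat.card_units, hn] at hg
  by_cases h1 : n = 1
  · omega
  have hlt : ∀ k, k < n → 2 ^ k < 2 ^ n - 1 := fun k hk => by
    have h2 : 2 * 2 ^ k ≤ 2 ^ n := by rw [← pow_succ']; exact Nat.pow_le_pow_right two_pos hk
    have h3 : 2 ^ 2 ≤ 2 ^ n := Nat.pow_le_pow_right two_pos (by omega)
    by_cases h4 : 2 ^ k = 1
    · omega
    · have := Nat.one_le_two_pow (n := k)
      omega
  exact Nat.pow_right_injective le_rfl
    (pow_injOn_Iio_orderOf (by rw [hg]; exact hlt i hi) (by rw [hg]; exact hlt j hj) (h g))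

/-- The powers `x ^ 2 ^ i`, `i < n`, are independent. -/
theorem lin_eq_zero {a : Fin n → F} (h : ∀ x : F, ∑ i, a i * x ^ 2 ^ (i : ℕ) = 0) (i : Fin n) : a i = 0 := by
  let m : Fin n → (Fˣ →* F) := fun j => (powMonoidHom (2 ^ (j : ℕ))).comp (Units.coeHom F)
  have hm : Function.Injective m := fun j k e => Fin.ext (pow_two_pow_inj hn j.2 k.2 fun x => Units.ext (by
    simpa [m] using congrArg (fun f : Fˣ →* F => f x) e))
  have hli : LinearIndependent F (fun j => ((m j : Fˣ →* F) : Fˣ → F)) :=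
    (linearIndependent_monoidHom Fˣ F).comp m hm
  refine Fintype.linearIndependent_iff.1 hli a (funext fun x => ?_) i
  simpa [m, Finset.sum_apply] using h x

/-- A quadratic Frobenius sum vanishes only if its symmetrised coefficients and its diagonal do. -/
theorem quad_eq_zero {C : Fin n → Fin n → F}
    (h : ∀ x : F, ∑ i, ∑ j, C i j * x ^ 2 ^ (i : ℕ) * x ^ 2 ^ (j : ℕ) = 0) :
    (∀ i j, C i j + C j i = 0) ∧ ∀ i, C i i = 0 := by
  classical
  have hb : ∀ x y : F, ∑ i, (∑ j, (C i j + C j i) * y ^ 2 ^ (j : ℕ)) * x ^ 2 ^ (i : ℕ) = 0 := by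
    intro x y
    have h3 := h (x + y)
    simp only [add_pow_two_pow, add_mul, mul_add, sum_add_distrib, h x, h y, zero_add, add_zero] at h3
    rw [Finset.sum_comm (f := fun i j => C i j * y ^ 2 ^ (i : ℕ) * x ^ 2 ^ (j : ℕ))] at h3
    simp only [add_mul, sum_add_distrib, sum_mul]
    rw [← h3, add_comm]
    congr 1 <;> exact Finset.sum_congr rfl fun i _ => Finset.sum_congr rfl fun j _ => by ring
  have hs : ∀ i j, C i j + C j i = 0 := fun i j => lin_eq_zero hn (fun y => lin_eq_zero hn (hb · y) i) j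
  refine ⟨hs, fun i => ?_⟩
  have hd : ∀ x : F, ∑ i, C i i * (x ^ 2) ^ 2 ^ (i : ℕ) = 0 := by
    intro x
    have key : ∑ p ∈ (univ : Finset (Fin n × Fin n)).filter (fun p => p.1 ≠ p.2),
        C p.1 p.2 * x ^ 2 ^ (p.1 : ℕ) * x ^ 2 ^ (p.2 : ℕ) = 0 := by
      refine Finset.sum_involution (fun p _ => (p.2, p.1)) (fun p _ => ?_) (fun p hp _ => ?_) (fun p hp => ?_)
        fun p _ => rfl
      · linear_combination (x ^ 2 ^ (p.1 : ℕ) * x ^ 2 ^ (p.2 : ℕ)) * hs p.1 p.2
      · rw [mem_filter] at hp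
        exact fun e => hp.2 (congrArg Prod.snd e)
      · rw [mem_filter] at hp ⊢
        exact ⟨mem_univ _, Ne.symm hp.2⟩
    have hsum : ∑ p : Fin n × Fin n, C p.1 p.2 * x ^ 2 ^ (p.1 : ℕ) * x ^ 2 ^ (p.2 : ℕ) = 0 := by
      rw [Fintype.sum_prod_type]; exact h x
    rw [← Finset.sum_filter_add_sum_filter_not univ (fun p : Fin n × Fin n => p.1 ≠ p.2), key, zero_add] at hsum
    rw [← hsum]
    refine Finset.sum_bij (fun i _ => (i, i)) (fun i _ => by simp) (fun i _ j _ e => congrArg Prod.fst e)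
      (fun p hp => ⟨p.1, mem_univ _, ?_⟩) fun i _ => ?_
    · rw [mem_filter, not_not] at hp
      exact Prod.ext rfl hp.2
    · rw [mul_assoc, ← mul_pow, ← pow_two]
  haveI : Fact (Nat.Prime 2) := ⟨Nat.prime_two⟩
  refine lin_eq_zero hn (a := fun i => C i i) (fun x => ?_) i
  obtain ⟨y, rfl⟩ := (frobeniusEquiv F 2).surjective x
  simpa [frobeniusEquiv_apply, frobenius_def] using hd y

/-- Additive maps are Frobenius sums. -/
theorem exists_lin (f : F →+ F) : ∃ a : Fin n → F, ∀ x, f x = ∑ i, a i * x ^ 2 ^ (i : ℕ) := by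
  classical
  haveI : Fact (Nat.Prime 2) := ⟨Nat.prime_two⟩
  letI : Algebra (ZMod 2) F := _root_.ZMod.algebra F 2
  have hr : Module.finrank (ZMod 2) F = n := Nat.pow_right_injective le_rfl
    (show 2 ^ Module.finrank (ZMod 2) F = 2 ^ n by
      rw [← hn, Module.natCard_eq_pow_finrank (K := ZMod 2), Nat.card_zmod])
  let b := Module.finBasisOfFinrankEq (ZMod 2) F hr
  let lin : (Fin n → F) → (F →+ F) := fun a => AddMonoidHom.mk' (fun x => ∑ i, a i * x ^ 2 ^ (i : ℕ))
    fun x y => by simp only [add_pow_two_pow, mul_add, sum_add_distrib]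
  have hext : ∀ f g : F →+ F, (∀ j, f (b j) = g (b j)) → f = g := fun f g hfg => by
    have e : f.toZModLinearMap 2 = g.toZModLinearMap 2 := b.ext hfg
    exact AddMonoidHom.ext fun x => LinearMap.congr_fun e x
  have hinj : Function.Injective (fun (a : Fin n → F) (j : Fin n) => lin a (b j)) := fun a c e =>
    funext fun i => sub_eq_zero.1 (lin_eq_zero hn (a := fun i => a i - c i) (fun x => by
      simp only [sub_mul, sum_sub_distrib, sub_eq_zero]
      exact DFunLike.congr_fun (hext (lin a) (lin c) (congrFun e)) x) i)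
  obtain ⟨a, ha⟩ := (Finite.injective_iff_surjective.1 hinj) fun j => f (b j)
  exact ⟨a, fun x => DFunLike.congr_fun (hext f (lin a) fun j => (congrFun ha j).symm) x⟩

/-- Biadditive maps are sums of products of Frobenius powers. -/
theorem exists_bilin (β : F → F → F) (h1 : ∀ x x' y, β (x + x') y = β x y + β x' y)
    (h2 : ∀ x y y', β x (y + y') = β x y + β x y') :
    ∃ C : Fin n → Fin n → F, ∀ x y, β x y = ∑ i, ∑ j, C i j * x ^ 2 ^ (i : ℕ) * y ^ 2 ^ (j : ℕ) := by
  have hA : ∀ x, ∃ A : Fin n → F, ∀ y, β x y = ∑ j, A j * y ^ 2 ^ (j : ℕ) :=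
    fun x => exists_lin hn (AddMonoidHom.mk' (β x) (h2 x))
  choose A hA using hA
  have hadd : ∀ x x' j, A (x + x') j = A x j + A x' j := fun x x' j =>
    sub_eq_zero.1 (lin_eq_zero hn (a := fun j => A (x + x') j - (A x j + A x' j)) (fun y => by
      simp only [sub_mul, add_mul, sum_sub_distrib, sum_add_distrib, ← hA]
      rw [h1, sub_self]) j)
  have hC : ∀ j, ∃ c : Fin n → F, ∀ x, A x j = ∑ i, c i * x ^ 2 ^ (i : ℕ) :=
    fun j => exists_lin hn (AddMonoidHom.mk' (fun x => A x j) fun x x' => hadd x x' j)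
  choose c hc using hC
  refine ⟨fun i j => c j i, fun x y => ?_⟩
  rw [hA, Finset.sum_comm]
  exact Finset.sum_congr rfl fun j _ => by rw [hc, sum_mul]

/-- The weights of a biadditive map with an equivariance. -/
theorem bilin_weight {C : Fin n → Fin n → F} {l m e : F}
    (h : ∀ x y : F, ∑ i, ∑ j, C i j * (l * x) ^ 2 ^ (i : ℕ) * (m * y) ^ 2 ^ (j : ℕ) =
      e * ∑ i, ∑ j, C i j * x ^ 2 ^ (i : ℕ) * y ^ 2 ^ (j : ℕ))
    {i j : Fin n} (hC : C i j ≠ 0) : l ^ 2 ^ (i : ℕ) * m ^ 2 ^ (j : ℕ) = e := by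
  have h1 := lin_eq_zero hn (a := fun j => C i j * (l ^ 2 ^ (i : ℕ) * m ^ 2 ^ (j : ℕ) - e))
    (fun y => lin_eq_zero hn
      (a := fun i => ∑ j, C i j * (l ^ 2 ^ (i : ℕ) * m ^ 2 ^ (j : ℕ) - e) * y ^ 2 ^ (j : ℕ))
      (fun x => by
        have h2 := sub_eq_zero.2 (h x y)
        rw [mul_sum, ← sum_sub_distrib] at h2
        rw [← h2]
        refine sum_congr rfl fun i _ => ?_
        rw [mul_sum, ← sum_sub_distrib, sum_mul]
        exact sum_congr rfl fun j _ => by rw [mul_pow, mul_pow]; ring) i) j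
  exact sub_eq_zero.1 ((mul_eq_zero.1 h1).resolve_left hC)

/-- The weights of an additive map with an equivariance. -/
theorem lin_weight {a : Fin n → F} {l e : F}
    (h : ∀ x : F, ∑ i, a i * (l * x) ^ 2 ^ (i : ℕ) = e * ∑ i, a i * x ^ 2 ^ (i : ℕ))
    {i : Fin n} (ha : a i ≠ 0) : l ^ 2 ^ (i : ℕ) = e := by
  have h1 := lin_eq_zero hn (a := fun i => a i * (l ^ 2 ^ (i : ℕ) - e)) (fun x => by
    have h2 := sub_eq_zero.2 (h x)
    rw [mul_sum, ← sum_sub_distrib] at h2
    rw [← h2]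
    exact sum_congr rfl fun i _ => by rw [mul_pow]; ring) i
  exact sub_eq_zero.1 ((mul_eq_zero.1 h1).resolve_left ha)

omit hn in
/-- The form `x ↦ x ^ (1 + 2 ^ s)`. -/
def form (s : ℕ) (x : F) : F := x * x ^ 2 ^ s

omit hn in
theorem form_mul (s : ℕ) (x y : F) : form s (x * y) = form s x * form s y := by
  simp only [form, mul_pow]; ring

omit hn in
theorem form_ne_zero {s : ℕ} {x : F} (hx : x ≠ 0) : form s x ≠ 0 := mul_ne_zero hx (pow_ne_zero _ hx)

/-- An additive map carrying `x ^ (1 + 2 ^ s)` to an additive function of itself is a monomial, when `2 s ≡ 0`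
or `4 s ≢ 0` modulo `n`. -/
theorem semilinear {s : ℕ} (hs : ¬ n ∣ s) (hs2 : n ∣ 2 * s ∨ ¬ n ∣ 4 * s) (σ τ : F →+ F) (hσ : σ ≠ 0)
    (h : ∀ x, form s (σ x) = τ (form s x)) :
    ∃ (a : F) (i : ℕ), i < n ∧ a ≠ 0 ∧ (∀ x, σ x = a * x ^ 2 ^ i) ∧
      ∀ x, τ (form s x) = form s a * form s x ^ 2 ^ i := by
  classical
  haveI : NeZero n := ⟨(n_pos hn).ne'⟩
  obtain ⟨a, ha⟩ := exists_lin hn σ
  obtain ⟨c, hc⟩ := exists_lin hn τ
  set S : Fin n := Fin.ofNat n s with hS
  have hper : ∀ (x : F) (j : Fin n), x ^ 2 ^ ((j + S : Fin n) : ℕ) = x ^ 2 ^ ((j : ℕ) + s) := fun x j => by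
    rw [Fin.val_add, hS, Fin.val_ofNat, Nat.add_mod_mod, pow_two_pow_mod hn]
  set v : Fin n → F := fun l => a (l - S) ^ 2 ^ s with hv
  have hexp : ∀ x : F, σ x ^ 2 ^ s = ∑ l, v l * x ^ 2 ^ (l : ℕ) := by
    intro x
    haveI : Fact (Nat.Prime 2) := ⟨Nat.prime_two⟩
    rw [ha, sum_pow_char_pow 2 s univ]
    refine Fintype.sum_equiv (Equiv.addRight S) _ _ fun j => ?_
    rw [Equiv.coe_addRight, hper]
    simp only [hv, add_sub_cancel_right, mul_pow, ← pow_mul, ← pow_add]
  set T : Fin n → Fin n → F := fun i l => if l = i + S then c i else 0 with hT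
  obtain ⟨hsym, hdiag⟩ := quad_eq_zero hn (C := fun i l => a i * v l - T i l) (fun x => by
    have h2 := sub_eq_zero.2 (h x)
    rw [form, hexp, ha, hc, Finset.sum_mul_sum] at h2
    simp only [sub_mul, sum_sub_distrib]
    rw [← h2]
    congr 1
    · exact sum_congr rfl fun i _ => sum_congr rfl fun l _ => by ring
    · refine sum_congr rfl fun i _ => ?_
      rw [Finset.sum_eq_single (i + S) (fun l _ hl => by rw [hT]; simp [hl]) (by simp)]
      simp only [hT, if_pos, form, mul_pow, hper]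
      rw [← pow_mul x, ← pow_add, pow_add 2 (i : ℕ) s]
      ring)
  have hS0 : ∀ i : Fin n, i ≠ i + S := fun i e => hs (by
    have h1 : S = 0 := add_left_cancel (e.symm.trans (add_zero i).symm)
    have h2 := congrArg Fin.val h1
    rw [hS, Fin.val_ofNat, Fin.val_zero] at h2
    exact Nat.dvd_of_mod_eq_zero h2)
  have hdis : ∀ i, a i ≠ 0 → v i = 0 := fun i hi => by
    have h1 := hdiag i
    simp only [hT, if_neg (hS0 i), sub_zero] at h1
    exact (mul_eq_zero.1 h1).resolve_left hi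
  have hone : ∀ i j, a i ≠ 0 → a j ≠ 0 → j + S + S = i ∨ j = i := by
    intro i j hi hj
    by_contra hne
    push Not at hne
    have hl : v (j + S) ≠ 0 := by simp [hv, hj]
    have haj : a (j + S) = 0 := by by_contra h0; exact hl (hdis _ h0)
    have h1 := hsym i (j + S)
    simp only [hT, haj, zero_mul, zero_sub] at h1
    rw [if_neg (fun e => hne.2 (add_right_cancel e)), if_neg (fun e => hne.1 e.symm)] at h1
    simp at h1
    rcases h1 with h1 | h1
    · exact hi h1
    · exact hl h1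
  have huniq : ∀ i j, a i ≠ 0 → a j ≠ 0 → i = j := by
    intro i j hi hj
    by_contra hij
    have e1 := (hone i j hi hj).resolve_right (Ne.symm hij)
    have e2 := (hone j i hj hi).resolve_right hij
    have e3 : j + (S + S + (S + S)) = j := by
      calc j + (S + S + (S + S)) = j + S + S + S + S := by abel
        _ = j := by rw [e1, e2]
    have e4 : S + S + (S + S) = 0 := add_eq_left.1 e3
    rcases hs2 with h2 | h4
    · have e5 : S + S = 0 := Fin.ext (by
        rw [Fin.val_add, hS, Fin.val_ofNat, Fin.val_zero, ← Nat.add_mod, ← two_mul]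
        exact Nat.mod_eq_zero_of_dvd h2)
      exact hij (by rw [← e1, add_assoc, e5, add_zero])
    · refine h4 (Nat.dvd_of_mod_eq_zero ?_)
      have e6 := congrArg Fin.val e4
      simp only [Fin.val_add, hS, Fin.val_ofNat, Fin.val_zero, ← Nat.add_mod] at e6
      rw [show 4 * s = s + s + (s + s) by ring]
      exact e6
  obtain ⟨i, hi⟩ : ∃ i, a i ≠ 0 := by
    by_contra h0
    push Not at h0
    exact hσ (AddMonoidHom.ext fun x => by simp [ha, h0])
  have hσ' : ∀ x, σ x = a i * x ^ 2 ^ (i : ℕ) := fun x => by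
    rw [ha, Finset.sum_eq_single i (fun j _ hj => by
      rw [show a j = 0 by by_contra h0; exact hj (huniq j i h0 hi), zero_mul]) (by simp)]
  refine ⟨a i, i, i.2, hi, hσ', fun x => ?_⟩
  rw [← h, hσ', form_mul]
  congr 1
  simp only [form, mul_pow]
  rw [← pow_mul x, ← pow_mul x, mul_comm (2 ^ (i : ℕ)) (2 ^ s)]

/-- `x ↦ x ^ (1 + 2 ^ s)` is injective when `1 + 2 ^ s` is prime to `q - 1`. -/
theorem form_injective {s : ℕ} (hco : (2 ^ n - 1).Coprime (1 + 2 ^ s)) : Function.Injective (form (F := F) s) := by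
  intro x y e
  by_cases hx : x = 0
  · subst hx
    by_contra hy
    exact form_ne_zero (Ne.symm hy) (by rw [← e]; simp [form])
  by_cases hy : y = 0
  · subst hy
    exact absurd (e.trans (by simp [form])) (form_ne_zero hx)
  have hpow : ∀ z : F, form s z = z ^ (1 + 2 ^ s) := fun z => by rw [form, pow_add, pow_one]
  rw [hpow, hpow] at e
  have h := (powCoprime (G := Fˣ) (n := 1 + 2 ^ s) (by rw [Nat.card_units, hn]; exact hco)).injective
    (a₁ := Units.mk0 x hx) (a₂ := Units.mk0 y hy) (Units.ext (by simpa using e))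
  simpa using congrArg Units.val h

/-- An additive map fixing an injective form is the identity. -/
theorem eq_id_of_form {s : ℕ} (hco : (2 ^ n - 1).Coprime (1 + 2 ^ s)) (σ : F →+ F)
    (h : ∀ x, form s (σ x) = form s x) (x : F) : σ x = x := form_injective hn hco (h x)

/-- With `n = 2 r`, the maps preserving the norm are `x ↦ a x` and `x ↦ a x ^ q`, `N a = 1`. -/
theorem norm_isometry {r : ℕ} (hr : n = 2 * r) (σ : F →+ F) (h : ∀ x, form r (σ x) = form r x) :
    ∃ a : F, form r a = 1 ∧ ((∀ x, σ x = a * x) ∨ ∀ x, σ x = a * x ^ 2 ^ r) := by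
  have hr0 : 0 < r := by have := n_pos hn; omega
  have hσ : σ ≠ 0 := fun e => form_ne_zero (s := r) (one_ne_zero (α := F)) (by rw [← h, e]; simp [form])
  obtain ⟨a, i, hi, -, hlin, hτ⟩ := semilinear hn (s := r) (fun hd => by
      have := Nat.le_of_dvd hr0 hd
      omega) (Or.inl ⟨1, by omega⟩) σ (AddMonoidHom.id F) hσ h
  have ha : form r a = 1 := by
    have h1 := hτ 1
    simpa [form] using h1.symm
  refine ⟨a, ha, ?_⟩
  have hfix : ∀ x : Fˣ, x ^ (2 ^ i + 2 ^ (i + r)) = x ^ (1 + 2 ^ r) := fun x => by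
    have h1 := hτ x
    rw [ha, one_mul, AddMonoidHom.id_apply] at h1
    simp only [form, mul_pow, ← pow_mul, ← pow_add] at h1
    refine Units.ext ?_
    rw [Units.val_pow_eq_pow_val, Units.val_pow_eq_pow_val, pow_add (x : F) 1, pow_one, h1, Nat.add_comm r i]
  obtain ⟨g, hg⟩ := IsCyclic.exists_ofOrder_eq_natCard (α := Fˣ)
  rw [Nat.card_units, hn] at hg
  have hmod := pow_eq_pow_iff_modEq.1 (hfix g)
  rw [hg] at hmod
  have hA := Nat.two_pow_pos r
  have hsq : 2 ^ n = 2 ^ r * 2 ^ r := by rw [hr, two_mul, pow_add]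
  rcases Nat.lt_or_ge i r with hlt | hge
  · refine Or.inl fun x => ?_
    have hlt' : 2 ^ i + 2 ^ (i + r) < 2 ^ n - 1 ∨ r = 1 := by
      by_cases h1 : r = 1
      · exact Or.inr h1
      have hB : 2 * 2 ^ i ≤ 2 ^ r := by rw [← pow_succ']; exact Nat.pow_le_pow_right two_pos hlt
      have h4 : 4 ≤ 2 ^ r := (Nat.pow_le_pow_right two_pos (show 2 ≤ r by omega) : 2 ^ 2 ≤ 2 ^ r)
      refine Or.inl ?_
      rw [hsq, pow_add]
      have := Nat.mul_le_mul_right (2 ^ r) hB
      have := Nat.mul_le_mul_right (2 ^ r) h4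
      have := Nat.two_pow_pos i
      nlinarith [Nat.sub_add_cancel (Nat.one_le_iff_ne_zero.2 (Nat.mul_ne_zero hA.ne' hA.ne'))]
    rcases hlt' with hlt' | h1
    · have h2 : 1 + 2 ^ r < 2 ^ n - 1 := by
        have : 2 ^ i + 2 ^ (i + r) ≥ 1 + 2 ^ r := by
          have := Nat.one_le_two_pow (n := i)
          have := Nat.pow_le_pow_right two_pos (Nat.le_add_left r i)
          omega
        omega
      have e := Nat.ModEq.eq_of_lt_of_lt hmod hlt' h2
      have hi0 : i = 0 := by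
        by_contra hne
        have h3 : 2 ∣ 2 ^ i + 2 ^ (i + r) := dvd_add (dvd_pow_self 2 hne) (dvd_pow_self 2 (by omega))
        have h4 : 2 ∣ 2 ^ r := dvd_pow_self 2 hr0.ne'
        omega
      rw [hlin, hi0, pow_zero, pow_one]
    · rw [hlin, show i = 0 by omega, pow_zero, pow_one]
  · refine Or.inr fun x => ?_
    have hi' : i = r := by
      by_contra hne
      have e1 : 2 ^ i + 2 ^ (i + r) ≡ 2 ^ i + 2 ^ (i - r) [MOD 2 ^ n - 1] := by
        refine Nat.ModEq.add_left _ ?_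
        rw [show i + r = n + (i - r) by omega, pow_add]
        have := (Nat.modEq_sub (Nat.one_le_two_pow (n := n))).mul_right (2 ^ (i - r))
        rwa [one_mul] at this
      have hB : 2 * 2 ^ i ≤ 2 ^ n := by rw [← pow_succ']; exact Nat.pow_le_pow_right two_pos (by omega)
      have hC : 2 * 2 ^ (i - r) ≤ 2 ^ i := by rw [← pow_succ']; exact Nat.pow_le_pow_right two_pos (by omega)
      have h4 : 4 ≤ 2 ^ (i - r) * 2 ^ r := by
        rw [← pow_add]; exact (Nat.pow_le_pow_right two_pos (show 2 ≤ i - r + r by omega) : 2 ^ 2 ≤ _)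
      have h5 : 2 ^ (i - r) * 2 ^ r = 2 ^ i := by rw [← pow_add]; congr 1; omega
      have hlt1 : 2 ^ i + 2 ^ (i - r) < 2 ^ n - 1 := by omega
      have hlt2 : 1 + 2 ^ r < 2 ^ n - 1 := by
        have : 2 ^ r ≤ 2 ^ i := Nat.pow_le_pow_right two_pos hge
        have := Nat.one_le_two_pow (n := i - r)
        omega
      have e := Nat.ModEq.eq_of_lt_of_lt (e1.symm.trans hmod) hlt1 hlt2
      have h6 : 2 ∣ 2 ^ i + 2 ^ (i - r) := dvd_add (dvd_pow_self 2 (by omega)) (dvd_pow_self 2 (by omega))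
      have h7 : 2 ∣ 2 ^ r := dvd_pow_self 2 hr0.ne'
      omega
    rw [hlin, hi']

/-- The elements killed by `c t + (b t) ^ 2 ^ k`, `k` prime to `n`, are at most two. -/
theorem kernel_le_two {k : ℕ} (hk : k.Coprime n) {b c : F} (hne : c ≠ 0 ∨ b ≠ 0) :
    {t : F | c * t + (b * t) ^ 2 ^ k = 0}.ncard ≤ 2 := by
  by_cases hb : b = 0
  · subst hb
    refine le_trans (Set.ncard_le_ncard (t := {0}) (fun t ht => ?_) (Set.toFinite _)) (by simp)
    have h1 : c * t = 0 := by simpa [zero_pow (Nat.two_pow_pos k).ne'] using ht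
    exact (mul_eq_zero.1 h1).resolve_left (hne.resolve_right (by simp))
  have hkey : ∀ t u : F, t ≠ 0 → u ≠ 0 → c * t + (b * t) ^ 2 ^ k = 0 → c * u + (b * u) ^ 2 ^ k = 0 → t = u := by
    intro t u ht hu h1 h2
    have e : u * t ^ 2 ^ k = t * u ^ 2 ^ k := by
      refine mul_left_cancel₀ (pow_ne_zero (2 ^ k) hb) ?_
      rw [mul_pow] at h1 h2
      linear_combination u * h1 - t * h2
    have h3 : (u / t) ^ 2 ^ k = u / t := by
      rw [div_pow, div_eq_div_iff (pow_ne_zero _ ht) ht]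
      linear_combination -e
    set v := Units.mk0 (u / t) (div_ne_zero hu ht)
    have hv : v ^ (2 ^ k - 1) = 1 := Units.ext (by
      rw [Units.val_pow_eq_pow_val, Units.val_mk0, Units.val_one]
      refine mul_left_cancel₀ (div_ne_zero hu ht) ?_
      rw [← pow_succ', Nat.sub_add_cancel Nat.one_le_two_pow, h3, mul_one])
    have hd : orderOf v ∣ Nat.gcd (2 ^ k - 1) (2 ^ n - 1) := Nat.dvd_gcd (orderOf_dvd_of_pow_eq_one hv)
      (by rw [← hn, ← Nat.card_units]; exact orderOf_dvd_natCard v)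
    rw [Nat.pow_sub_one_gcd_pow_sub_one, hk, pow_one, show (2 : ℕ) - 1 = 1 from rfl, Nat.dvd_one,
      orderOf_eq_one_iff] at hd
    exact ((div_eq_one_iff_eq ht).1 (by simpa [v] using congrArg Units.val hd)).symm
  by_cases h : ∃ t0 : F, t0 ≠ 0 ∧ c * t0 + (b * t0) ^ 2 ^ k = 0
  · obtain ⟨t0, h0, h1⟩ := h
    refine le_trans (Set.ncard_le_ncard (t := {0, t0}) (fun t ht => ?_) (Set.toFinite _))
      ((Set.ncard_insert_le _ _).trans (by simp))
    by_cases h2 : t = 0
    · exact Or.inl h2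
    · exact Or.inr (hkey t t0 h2 h0 ht h1)
  · push Not at h
    refine le_trans (Set.ncard_le_ncard (t := {0}) (fun t ht => ?_) (Set.toFinite _)) (by simp)
    by_contra h2
    exact h t h2 ht

/-- Some element is moved by the Frobenius power `k`. -/
theorem exists_moved {k : ℕ} (hk : ¬ n ∣ k) : ∃ x : F, x ^ 2 ^ k ≠ x := by
  by_contra h
  push Not at h
  refine hk (Nat.dvd_of_mod_eq_zero (pow_two_pow_inj hn (Nat.mod_lt _ (n_pos hn)) (n_pos hn) fun x => Units.ext ?_))
  rw [Units.val_pow_eq_pow_val, Units.val_pow_eq_pow_val, pow_two_pow_mod hn, h, pow_zero, pow_one]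

/-- With `n = 2 r`, the polar of the norm vanishes only on points of a line over the subfield. -/
theorem norm_polar_eq_zero {r : ℕ} (_hr : n = 2 * r) {x y : F} (hx : x ≠ 0) :
    x * y ^ 2 ^ r + x ^ 2 ^ r * y = 0 ↔ ∃ l : F, l ^ 2 ^ r = l ∧ y = l * x := by
  constructor
  · intro h
    refine ⟨y / x, ?_, (div_mul_cancel₀ y hx).symm⟩
    rw [div_pow, div_eq_div_iff (pow_ne_zero _ hx) hx]
    linear_combination h - (CharTwo.two_eq_zero (R := F)) * (x ^ 2 ^ r * y)
  · rintro ⟨l, hl, rfl⟩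
    rw [mul_pow, hl]
    linear_combination (CharTwo.two_eq_zero (R := F)) * (x * l * x ^ 2 ^ r)

/-- With `n = 2 r`, the norm is onto the subfield. -/
theorem exists_norm_eq {r : ℕ} (hr : n = 2 * r) {t : F} (ht : t ^ 2 ^ r = t) : ∃ z : F, form r z = t := by
  by_cases h0 : t = 0
  · exact ⟨0, by simp [form, h0]⟩
  obtain ⟨g, hg⟩ := IsCyclic.exists_ofOrder_eq_natCard (α := Fˣ)
  rw [Nat.card_units, hn] at hg
  have hmem : Units.mk0 t h0 ∈ Submonoid.powers g := by
    rw [(IsOfFinOrder.mem_powers_iff_mem_zpowers (isOfFinOrder_of_finite g))]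
    have htop : Subgroup.zpowers g = ⊤ := Subgroup.eq_top_of_card_eq _ (by rw [Nat.card_zpowers, hg, Nat.card_units, hn])
    rw [htop]; exact Subgroup.mem_top _
  obtain ⟨j, hj⟩ := hmem
  have hfix : g ^ (j * 2 ^ r) = g ^ j := by
    rw [pow_mul]; simp only [hj]; exact Units.ext (by simpa using ht)
  have hm : 2 ^ n - 1 ∣ j * (2 ^ r - 1) := by
    rw [Nat.mul_sub, mul_one, ← hg]
    exact (Nat.modEq_iff_dvd' (Nat.le_mul_of_pos_right j (Nat.two_pow_pos r))).1
      (pow_eq_pow_iff_modEq.1 hfix).symm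
  have hfac : 2 ^ n - 1 = (1 + 2 ^ r) * (2 ^ r - 1) := by
    rw [hr, two_mul, pow_add, add_mul, one_mul, Nat.mul_sub, mul_one]
    have := Nat.le_mul_of_pos_right (2 ^ r) (Nat.two_pow_pos r)
    have := Nat.one_le_two_pow (n := r)
    omega
  rw [hfac] at hm
  have hpos : 0 < 2 ^ r - 1 := by
    have : 2 ^ 1 ≤ 2 ^ r := Nat.pow_le_pow_right two_pos (show 1 ≤ r by have := n_pos hn; omega)
    omega
  obtain ⟨i, hi⟩ := Nat.dvd_of_mul_dvd_mul_right hpos hm
  refine ⟨((g ^ i : Fˣ) : F), ?_⟩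
  have e : ((g ^ j : Fˣ) : F) = t := by simp only [hj]; rfl
  rw [← e, hi, mul_comm, pow_mul, Units.val_pow_eq_pow_val (g ^ i), pow_add, pow_one]
  rfl

omit hn in
/-- The torus weights `2 ^ i + 2 ^ j` do not vanish modulo `2 ^ n - 1`, `n ≥ 3`. -/
theorem not_dvd_weight {n i j : ℕ} (hn : 3 ≤ n) (hi : i < n) (hj : j < n) : ¬ 2 ^ n - 1 ∣ 2 ^ i + 2 ^ j := by
  intro hd
  have hi2 : 2 * 2 ^ i ≤ 2 ^ n := by rw [← pow_succ']; exact Nat.pow_le_pow_right two_pos hi
  have hj2 : 2 * 2 ^ j ≤ 2 ^ n := by rw [← pow_succ']; exact Nat.pow_le_pow_right two_pos hj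
  have h8 : 8 ≤ 2 ^ n := (Nat.pow_le_pow_right two_pos hn : 2 ^ 3 ≤ 2 ^ n)
  have hpi := Nat.two_pow_pos i
  have hpj := Nat.two_pow_pos j
  obtain ⟨c, hc⟩ := hd
  rcases c with _ | _ | c
  · omega
  · rcases Nat.eq_zero_or_pos i with h0 | h0
    · subst h0
      rcases Nat.eq_zero_or_pos j with h1 | h1
      · subst h1; omega
      · have h4 : 2 ^ j = 2 ^ n - 2 := by omega
        omega
    · rcases Nat.eq_zero_or_pos j with h1 | h1
      · subst h1; omega
      · have h2 : 2 ∣ 2 ^ i := dvd_pow_self 2 h0.ne'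
        have h3 : 2 ∣ 2 ^ j := dvd_pow_self 2 h1.ne'
        have h4 : 2 ∣ 2 ^ n := dvd_pow_self 2 (by omega)
        omega
  · have h5 : 2 * (2 ^ n - 1) ≤ (2 ^ n - 1) * (c + 1 + 1) := by
      rw [mul_comm 2]; exact Nat.mul_le_mul_left _ (by omega)
    omega

omit hn in
/-- The same modulo `(2 ^ n - 1) / 3`, `n ≥ 6` even. -/
theorem not_dvd_weight_three {n k M : ℕ} (hn : 6 ≤ n) (hk : k < n) (hM : 3 * M = 2 ^ n - 1) : ¬ M ∣ 2 ^ k + 1 := by
  intro hd
  have h64 : 64 ≤ 2 ^ n := (Nat.pow_le_pow_right two_pos hn : 2 ^ 6 ≤ 2 ^ n)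
  have h2k : 2 ^ (2 * k) - 1 = (2 ^ k + 1) * (2 ^ k - 1) := by
    rw [two_mul, pow_add, add_mul, one_mul, Nat.mul_sub, mul_one]
    have := Nat.le_mul_of_pos_right (2 ^ k) (Nat.two_pow_pos k)
    have := Nat.one_le_two_pow (n := k)
    omega
  have hg : M ∣ 2 ^ Nat.gcd (2 * k) n - 1 := by
    rw [← Nat.pow_sub_one_gcd_pow_sub_one]
    exact Nat.dvd_gcd (h2k ▸ hd.mul_right _) (hM ▸ dvd_mul_left _ _)
  obtain ⟨d, hd2⟩ := Nat.gcd_dvd_right (2 * k) n
  set g := Nat.gcd (2 * k) n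
  rcases Nat.lt_or_ge d 2 with hlt | hge
  · have hd1 : d = 1 := by
      rcases d with _ | _ | d <;> omega
    subst hd1
    have hn2 : n ∣ 2 * k := by rw [hd2, mul_one]; exact Nat.gcd_dvd_left _ _
    obtain ⟨e, he⟩ := hn2
    rcases e with _ | _ | e
    · have hk0 : k = 0 := by omega
      subst hk0
      have := Nat.le_of_dvd (by norm_num) hd
      omega
    · have hkk : 2 ^ n = 2 ^ k * 2 ^ k := by rw [← pow_add]; congr 1; omega
      have h8 : 8 ≤ 2 ^ k := (Nat.pow_le_pow_right two_pos (show 3 ≤ k by omega) : 2 ^ 3 ≤ 2 ^ k)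
      have := Nat.mul_le_mul_right (2 ^ k) h8
      have := Nat.le_of_dvd (by positivity) hd
      omega
    · nlinarith
  · have h2g : 2 * g ≤ n := by rw [hd2, mul_comm]; exact Nat.mul_le_mul_left g hge
    have hsq : 2 ^ g * 2 ^ g ≤ 2 ^ n := by rw [← pow_add]; exact Nat.pow_le_pow_right two_pos (by omega)
    have hg0 : 0 < g := by
      rcases Nat.eq_zero_or_pos g with h0 | h0
      · rw [h0, zero_mul] at hd2; omega
      · exact h0
    have h2 : 2 ≤ 2 ^ g := (Nat.pow_le_pow_right two_pos hg0 : 2 ^ 1 ≤ 2 ^ g)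
    have := Nat.le_of_dvd (by omega) hg
    by_cases h8 : 8 ≤ 2 ^ g
    · have := Nat.mul_le_mul_right (2 ^ g) h8
      omega
    · omega

end Cfsg.Agent.GoodInvol.FieldForms
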