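import Cfsg.Agent.Lib.GoodInvol.BenderCard
import Cfsg.Agent.Lib.GoodInvol.Orbit

/-!
# The parameters of the group induced on the fixed points of an involution

If the induced group has field size `2 ^ r` and Sylow 2-subgroups of order `2 ^ (e * r)`, the involution fixes
`2 ^ (e * r) + 1` points and the elementary subgroup at each has order `2 ^ r`.
-/

set_option autoImplicit false
set_option linter.style.haveILetI false
set_option linter.unusedSectionVars false

namespace Cfsg.Agent.GoodInvol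

open Subgroup MulAction

universe u

variable {G : Type u} [Group G] [Finite G] {Ω : Type u} [MulAction G Ω] [Finite Ω] [FaithfulSMul G Ω] {D : Set G}

/-- The members commuting with `w`, in the centraliser of `w`. -/
def cenD (D : Set G) (w : G) : Set (Subgroup.centralizer ({w} : Set G)) :=
  {c : Subgroup.centralizer ({w} : Set G) | (c : G) ∈ D}

namespace Crit

variable (h : Crit D Ω) (hB : Below.{u} (Nat.card G)) (hgen : closure D = ⊤)
include h hB hgen

/-- The parameters at an involution fixing two points. -/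
theorem exists_fix_params {w : G} (hw : orderOf w = 2) (hbad : ¬ OneFix Ω w) {a : Ω} (ha : w • a = a)
    {T E : Subgroup G} (hT : T ≤ ptC w a) (hE : ESet D w a T E) :
    ∃ r e : ℕ, BenderParams (induced (cenD D w) (fixSub Ω w)) r e ∧
      (fixSet Ω w).ncard = 2 ^ (e * r) + 1 ∧ Nat.card E = 2 ^ r := by
  classical
  haveI : Fact (Nat.Prime 2) := ⟨Nat.prime_two⟩
  haveI : Nonempty Ω := ⟨a⟩
  have hCrit : Crit (cenD D w) (fixSub Ω w) := h.centralizer hw
  have hGoal : Goal (cenD D w) (fixSub Ω w) := goal_centralizer hB h hgen hw ha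
  set aF : fixSub Ω w := ⟨a, ha⟩
  obtain ⟨xF, hax⟩ : ∃ xF : fixSub Ω w, aF ≠ xF := by
    have hb := hbad
    unfold OneFix at hb
    push Not at hb
    obtain ⟨p, q, hp, hq, hpq⟩ := hb
    by_cases hap : a = p
    · exact ⟨⟨q, hq⟩, fun e1 => hpq (hap.symm.trans (congrArg Subtype.val e1))⟩
    · exact ⟨⟨p, hp⟩, fun e1 => hap (congrArg Subtype.val e1)⟩
  set C := Subgroup.centralizer ({w} : Set G) with hC
  set I := induced (cenD D w) (fixSub Ω w) with hIdef
  set π := toPermHom C (fixSub Ω w) with hπ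
  set H := stabilizer I aF with hH
  have hI : ∀ c : C, (c : G) ∈ D → π c ∈ I := fun c hc =>
    mem_map_of_mem π (subset_closure (show c ∈ cenD D w from hc))
  have hord : ∀ (c : C) (hc : (c : G) ∈ D), orderOf (⟨π c, hI c hc⟩ : I) = 2 := fun c hc => by
    refine Invol.order_two_of_sq (Subtype.ext ?_) fun h1 => ?_
    · show π c * π c = 1
      rw [← map_mul, show c * c = 1 from Subtype.ext (Invol.mul_self (h.invol _ hc)), map_one]
    · have h1' : π c = 1 := congrArg Subtype.val h1
      have hfix : ∀ z : fixSub Ω w, c • z = z := fun z => by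
        show π c z = z
        rw [h1', Equiv.Perm.one_apply]
      exact hax (hCrit.unique c hc aF xF (hfix aF) (hfix xF))
  -- members as elements of the centraliser
  have hmemE : ∀ e ∈ E, e ≠ 1 → e ∈ D ∧ Commute e w ∧ e • a = a := fun e he he1 =>
    ⟨(((hE.mem e).1 he).resolve_left he1).1, (mem_ptC.1 (hT (hE.le he))).1, (mem_ptC.1 (hT (hE.le he))).2⟩
  let cl : ∀ e : G, Commute e w → C := fun e he => ⟨e, mem_centralizer_singleton_iff.2 he.eq⟩
  obtain ⟨hse, hcore⟩ := se_induced hCrit hGoal hax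
  have hR : ¬ BrauerSuzuki.RankOne I := by
    intro hR
    obtain ⟨e, he, f, hf, he1, hf1, hef⟩ := hE.two
    obtain ⟨heD, hew, -⟩ := hmemE e he he1
    obtain ⟨hfD, hfw, -⟩ := hmemE f hf hf1
    have hc : Commute (⟨π (cl e hew), hI _ heD⟩ : I) ⟨π (cl f hfw), hI _ hfD⟩ := Subtype.ext (by
      show π (cl e hew) * π (cl f hfw) = π (cl f hfw) * π (cl e hew)
      rw [← map_mul, show cl e hew * cl f hfw = cl f hfw * cl e hew from Subtype.ext (hE.comm e he f hf).eq, map_mul])
    have heq : π (cl e hew) = π (cl f hfw) :=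
      congrArg (fun k : I => (k : Equiv.Perm (fixSub Ω w))) (hR _ _ (hord _ heD) (hord _ hfD) hc)
    refine hef (hE.inj e he f hf fun z hz => ?_)
    exact congrArg Subtype.val (Equiv.congr_fun heq ⟨z, hz⟩)
  obtain ⟨r, e, hP⟩ := exists_params (((induced_outcome hCrit hGoal hax).resolve_left fun e1 => hR e1.1).1)
  obtain ⟨Q, hQ⟩ := SEMain.exists_reg SEMain.stmt hse hcore (SEMain.exists_pair hse hR)
  obtain ⟨S, hS⟩ := hQ.exists_sylow hse
  obtain ⟨hScard, hSsq⟩ := hP.sylow S
  rw [show Nat.card S = Nat.card Q by rw [← hS]] at hScard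
  rw [hS] at hSsq
  have huniq : ∀ P : Subgroup I, IsPGroup 2 P → P ≤ H → P ≤ Q := by
    intro P hP2 hPH
    have hn : P ≤ Subgroup.normalizer (Q : Set I) :=
      hPH.trans ((normal_subgroupOf_iff_le_normalizer hQ.le).1 hQ.norm)
    have h2 := IsPGroup.to_sup_of_normal_right' hP2 hQ.two hn
    have h3 := S.3 h2 (hS ▸ le_sup_right)
    rw [hS] at h3
    exact h3 ▸ le_sup_left
  refine ⟨r, e, hP, ?_, ?_⟩
  · -- the orbit of a second point
    have htr : ∀ z : fixSub Ω w, ∃ g : I, g • aF = z := fun z => by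
      obtain ⟨g, hg, hgz⟩ := hCrit.exists_smul aF z
      exact ⟨⟨π g, mem_map_of_mem _ hg⟩, hgz⟩
    obtain ⟨g1, hg1⟩ := htr xF
    have hg1H : g1 ∉ H := fun e1 => hax ((mem_stabilizer_iff.1 e1).symm.trans hg1)
    let f : Q → ({aF}ᶜ : Set (fixSub Ω w)) := fun q => ⟨(q : I) • xF, fun e1 => by
      have e2 : ((q : I) * g1) • aF = aF := by rw [mul_smul, hg1]; exact e1
      exact hg1H ((Subgroup.mul_mem_cancel_left _ (hQ.le q.2)).1 (mem_stabilizer_iff.2 e2))⟩
    have hf : Function.Bijective f := by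
      refine ⟨fun q q' hqq => ?_, fun z => ?_⟩
      · have e1 : (q : I) • xF = (q' : I) • xF := congrArg Subtype.val hqq
        refine Subtype.ext (inv_mul_eq_one.1 (hQ.reg g1 hg1H _ (mul_mem (inv_mem q.2) q'.2)
          (mem_stabilizer_iff.2 ?_)))
        rw [mul_smul, mul_smul, inv_smul_eq_iff, hg1, mul_smul, inv_smul_eq_iff]
        exact e1.symm
      · obtain ⟨g2, hg2⟩ := htr z.1
        have hg2H : g2 ∉ H := fun e1 => z.2 (hg2.symm.trans (mem_stabilizer_iff.1 e1))
        obtain ⟨q, hq, hqq⟩ := hQ.trans g1 g2 hg1H hg2H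
        refine ⟨⟨q, hq⟩, Subtype.ext ?_⟩
        have h1 : (g2⁻¹ * (q * g1)) • aF = aF := hqq
        rw [mul_smul, mul_smul, inv_smul_eq_iff, hg1, hg2] at h1
        exact h1
    have hc := Nat.card_congr (Equiv.ofBijective f hf)
    rw [hScard, Nat.card_coe_set_eq] at hc
    have hs := Set.ncard_add_ncard_compl ({aF} : Set (fixSub Ω w))
    rw [Set.ncard_singleton, ← hc, show Nat.card (fixSub Ω w) = (fixSet Ω w).ncard from Nat.card_coe_set_eq _] at hs
    omega
  · -- the images of the elementary subgroup are the involutions of the regular subgroup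
    have hEw : ∀ e : E, Commute (e : G) w ∧ (e : G) • a = a := fun e => mem_ptC.1 (hT (hE.le e.2))
    have hmemI : ∀ e : E, π (cl e (hEw e).1) ∈ I := fun e => by
      by_cases he1 : (e : G) = 1
      · rw [show cl (e : G) (hEw e).1 = 1 from Subtype.ext he1, map_one]; exact one_mem I
      · exact hI _ (hmemE e e.2 he1).1
    let F : E → {x : I | x ∈ Q ∧ x * x = 1} := fun e => ⟨⟨_, hmemI e⟩, by
      have hsq : (⟨_, hmemI e⟩ : I) * ⟨_, hmemI e⟩ = 1 := Subtype.ext (by
        show π (cl e (hEw e).1) * π (cl e (hEw e).1) = 1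
        rw [← map_mul, show cl (e : G) (hEw e).1 * cl e (hEw e).1 = 1 from Subtype.ext (hE.sq e e.2), map_one])
      refine ⟨?_, hsq⟩
      refine huniq (zpowers _) ?_ (zpowers_le.2 (mem_stabilizer_iff.2 (Subtype.ext (hEw e).2))) (mem_zpowers _)
      obtain ⟨j, -, hj⟩ := (Nat.dvd_prime_pow Nat.prime_two).1
        (orderOf_dvd_of_pow_eq_one (show (⟨_, hmemI e⟩ : I) ^ 2 ^ 1 = 1 by rw [pow_one, pow_two, hsq]))
      exact IsPGroup.of_card (n := j) (by rw [Nat.card_zpowers, hj])⟩
    have hF : Function.Bijective F := by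
      constructor
      · intro e f hef
        refine Subtype.ext (hE.inj e e.2 f f.2 fun z hz => ?_)
        have h1 : π (cl e (hEw e).1) = π (cl f (hEw f).1) :=
          congrArg (fun k : {x : I | x ∈ Q ∧ x * x = 1} => ((k : I) : Equiv.Perm (fixSub Ω w))) hef
        exact congrArg Subtype.val (Equiv.congr_fun h1 ⟨z, hz⟩)
      · rintro ⟨x, hxQ, hx⟩
        by_cases hx1 : x = 1
        · exact ⟨1, Subtype.ext (Subtype.ext (by
            show π (1 : C) = (x : Equiv.Perm (fixSub Ω w))
            rw [map_one, hx1]; rfl))⟩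
        obtain ⟨e0, he0, -, -, he01, -, -⟩ := hE.two
        obtain ⟨he0D, he0w, -⟩ := hmemE e0 he0 he01
        obtain ⟨g, hg⟩ := isConj_iff.1 (Invol.se_isConj hse (hord (cl e0 he0w) he0D) (Invol.order_two_of_sq hx hx1))
        obtain ⟨k, -, hkg⟩ := mem_map.1 g.2
        have hd : ((k * cl e0 he0w * k⁻¹ : C) : G) ∈ D := h.conj k e0 he0D
        have hdx : π (k * cl e0 he0w * k⁻¹) = (x : Equiv.Perm (fixSub Ω w)) := by
          rw [map_mul, map_mul, map_inv, hkg]
          exact congrArg Subtype.val hg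
        have hdw : Commute ((k * cl e0 he0w * k⁻¹ : C) : G) w :=
          mem_centralizer_singleton_iff.1 (k * cl e0 he0w * k⁻¹).2
        have hda : ((k * cl e0 he0w * k⁻¹ : C) : G) • a = a := by
          have h1 : (x : Equiv.Perm (fixSub Ω w)) aF = aF := hQ.le hxQ
          rw [← hdx] at h1
          exact congrArg Subtype.val h1
        obtain ⟨f, hf, hfD, hfz⟩ := hE.lift _ hd (mem_ptC.2 ⟨hdw, hda⟩)
        refine ⟨⟨f, hf⟩, Subtype.ext (Subtype.ext ?_)⟩
        show π (cl f (hEw ⟨f, hf⟩).1) = (x : Equiv.Perm (fixSub Ω w))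
        rw [← hdx]
        exact Equiv.ext fun z => Subtype.ext (hfz z z.2)
    rw [Nat.card_congr (Equiv.ofBijective F hF), Nat.card_coe_set_eq, hSsq]

end Crit

end Cfsg.Agent.GoodInvol
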