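import Cfsg.Agent.Lib.GoodInvol.Kernel

/-!
# Two commuting involutions with the same fixed points

Let `u` and `v` be commuting involutions with the same set `F` of at least two fixed points, no involution fixing
`F` and a further point. Then the members acting on a moved point as `u` are the lifts of one image and there is
only one lift: `mu = kappa = 1`.
-/

set_option autoImplicit false
set_option linter.style.haveILetI false
set_option linter.unusedSectionVars false

namespace Cfsg.Agent.GoodInvol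

open Subgroup MulAction

universe u v

variable {G : Type u} [Group G] [Finite G] {Ω : Type u} [MulAction G Ω] [Finite Ω] [FaithfulSMul G Ω] {D : Set G}

/-- Two commuting involutions with one fixed point set, which no involution enlarges. -/
structure FourPair (Ω : Type u) [MulAction G Ω] (u v : G) : Prop where
  ou : orderOf u = 2
  ov : orderOf v = 2
  bad : ¬ OneFix Ω u
  comm : Commute u v
  ne : u ≠ v
  fix : ∀ z : Ω, u • z = z ↔ v • z = z
  top : ∀ g : G, orderOf g = 2 → (∀ z : Ω, u • z = z → g • z = z) → ∀ z : Ω, g • z = z → u • z = z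

namespace FourPair

variable {u v : G} (P : FourPair Ω u v) (h : Crit D Ω) (hB : Below.{u} (Nat.card G)) (hgen : closure D = ⊤)
include P h hB hgen

omit hB hgen in
theorem bad_right : ¬ OneFix Ω v := fun hone =>
  P.bad fun p q hp hq => hone p q ((P.fix p).1 hp) ((P.fix q).1 hq)

omit hB hgen in
/-- All members acting at a moved point as `u` or as `v` have the same point. -/
theorem same_centre {y : Ω} (hy : u • y ≠ y) {d d' : G} (hd : d ∈ csig D u y) (hd' : d' ∈ csig D v y)
    {p p' : Ω} (hp : d • p = p) (hp' : d' • p' = p') : p = p' := by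
  classical
  by_contra hne
  obtain ⟨k, hk⟩ := h.odd_product hd.1.1 hd'.1.1 hp hp' hne
  have hcu : Commute v u := P.comm.symm
  have hu : u ∈ fixStab Ω u := fun z hz => hz
  have hv : v ∈ fixStab Ω u := fun z hz => (P.fix z).1 hz
  have hd'u : ∀ z : Ω, u • z = z → u • d' • z = d' • z := fun z hz => by
    rw [P.fix, ← mul_smul, ← hd'.1.2.eq, mul_smul, (P.fix z).1 hz]
  have hcomm' : ∀ g ∈ fixStab Ω u, g * d' * g⁻¹ * d'⁻¹ ∈ fixCore Ω u := by
    have e : fixStab Ω u = fixStab Ω v := by
      ext g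
      exact ⟨fun hg z hz => hg z ((P.fix z).2 hz), fun hg z hz => hg z ((P.fix z).1 hz)⟩
    have e2 : fixCore Ω u = fixCore Ω v := by
      unfold fixCore
      rw [e]
    intro g hg
    rw [e2]
    exact h.commutator_mem_fixCore (P.bad_right h) hd'.1.1 hd'.1.2 (e ▸ hg)
  -- the two members move the orbit of `y` under the core as `u` and `v` do
  have step : ∀ g ∈ fixStab Ω u, ∃ o ∈ fixCore Ω u, (d * d') • g • y = o • g • (v * u) • y := by
    intro g hg
    have h1 : ∃ o ∈ fixCore Ω u, d' • g • y = o • g • v • y := by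
      refine ⟨(g * d' * g⁻¹ * d'⁻¹)⁻¹, inv_mem (hcomm' g hg), ?_⟩
      rw [← hd'.2, ← mul_smul, ← mul_smul, ← mul_smul]
      congr 1
      group
    obtain ⟨o, ho, e1⟩ := h1
    obtain ⟨o', ho', e2⟩ := h.mul_swap_fixCore P.bad hd.1.1 hd.1.2
      (mul_mem (mul_mem (fixCore_le _ ho) hg) hv)
    refine ⟨o' * o, mul_mem ho' ho, ?_⟩
    calc (d * d') • g • y = (d * (o * g * v)) • y := by rw [mul_smul, e1, mul_smul, mul_smul, mul_smul]
      _ = (o' * (o * g * v)) • d • y := by rw [e2, mul_smul]
      _ = (o' * o) • g • (v * u) • y := by rw [hd.2]; simp only [mul_smul]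
  have hpow : ∀ i : ℕ, ∃ o ∈ fixCore Ω u, (d * d') ^ i • y = o • (v * u) ^ i • y := by
    intro i
    induction i with
    | zero => exact ⟨1, one_mem _, by simp⟩
    | succ i ih =>
      obtain ⟨o, ho, e⟩ := ih
      have hvu : (v * u) ^ i ∈ fixStab Ω u := pow_mem (mul_mem hv hu) i
      obtain ⟨o', ho', e'⟩ := step (o * (v * u) ^ i) (mul_mem (fixCore_le _ ho) hvu)
      refine ⟨o' * o, mul_mem ho' ho, ?_⟩
      rw [pow_succ' (d * d'), mul_smul ((d * d') : G), e, ← mul_smul o, e', pow_succ (v * u)]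
      simp only [mul_smul]
  obtain ⟨o, ho, e⟩ := hpow (orderOf (d * d'))
  have huu := Invol.mul_self P.ou
  have hvv := Invol.mul_self P.ov
  have hvusq : v * u * (v * u) = 1 := by
    rw [mul_assoc, ← mul_assoc u, P.comm.eq, mul_assoc v u u, huu, mul_one, hvv]
  have hvu1 : v * u ≠ 1 := fun e1 => P.ne (by
    rw [eq_inv_of_mul_eq_one_left e1, Invol.inv_self P.ou])
  rw [pow_orderOf_eq_one, one_smul, hk, pow_succ, pow_mul, pow_two, hvusq, one_pow, one_mul, ← mul_smul] at e
  -- an element of even order in the stabiliser of `y`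
  set g := o * (v * u) with hg
  have hgΔ : g ∈ fixStab Ω u := mul_mem (fixCore_le _ ho) (mul_mem hv hu)
  have hgy : g • y = y := e.symm
  have hodd : Odd (orderOf g) := by
    rw [← Nat.not_even_iff_odd]
    intro hev
    set t := g ^ (orderOf g / 2) with ht
    have ht2 : orderOf t = 2 := by
      rw [ht, orderOf_pow' _ (by have := orderOf_pos g; obtain ⟨m, hm⟩ := hev; omega)]
      obtain ⟨m, hm⟩ := hev
      have := orderOf_pos g
      rw [show orderOf g / 2 = m by omega, hm, Nat.gcd_eq_right (Dvd.intro 2 (by ring)), ← two_mul,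
        Nat.mul_div_cancel _ (by omega : 0 < m)]
    exact hy (P.top t ht2 (fun z hz => (pow_mem hgΔ _ : t ∈ fixStab Ω u) z hz) y
      (MulAction.mem_stabilizer_iff.1 ((stabilizer G y).pow_mem (mem_stabilizer_iff.2 hgy) _)))
  obtain ⟨m, hm⟩ := hodd
  have hk' : ∀ i : ℕ, ∃ r ∈ fixCore Ω u, g ^ i = r * (v * u) ^ i := by
    intro i
    induction i with
    | zero => exact ⟨1, one_mem _, by simp⟩
    | succ i ih =>
      obtain ⟨r, hr, e⟩ := ih
      refine ⟨r * ((v * u) ^ i * o * ((v * u) ^ i)⁻¹),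
        mul_mem hr (fixCore_conj_fixStab (pow_mem (mul_mem hv hu) i) ho), ?_⟩
      rw [pow_succ, e, hg, pow_succ]
      group
  obtain ⟨r, hr, er⟩ := hk' (orderOf g)
  rw [pow_orderOf_eq_one, hm, pow_succ, pow_mul, pow_two, hvusq, one_pow, one_mul] at er
  have hmem : v * u ∈ fixCore Ω u := by
    rw [eq_inv_of_mul_eq_one_right er.symm]
    exact inv_mem hr
  exact Nat.not_even_iff_odd.2 (odd_fixCore u) (Invol.even_of_invol_mem (Invol.order_two_of_sq hvusq hvu1) hmem)

/-- The members acting at a moved point as `u` act alike on the fixed points. -/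
theorem csig_subset_kap {y : Ω} (hy : u • y ≠ y) {d : G} (hd : d ∈ csig D u y) :
    csig D u y ⊆ kap D Ω u d := by
  haveI : Nonempty Ω := ⟨y⟩
  intro c hc
  have hvy : v • y ≠ y := fun e => hy ((P.fix y).2 e)
  obtain ⟨e0, he0, he0y⟩ := h.exists_at y
  obtain ⟨d', hd', hd'v, hd'y, -⟩ :=
    h.exists_partner P.ov (fun hv => P.bad_right h (h.oneFix_of_mem hv)) he0 he0y hvy
  have hsig : d' ∈ csig D v y := ⟨⟨hd', hd'v⟩, hd'y⟩
  obtain ⟨p, hp⟩ := h.exists_fix (h.invol c hc.1.1)
  obtain ⟨q, hq⟩ := h.exists_fix (h.invol d hd.1.1)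
  obtain ⟨r, hr⟩ := h.exists_fix (h.invol d' hd')
  have hpq : p = q := (P.same_centre h hy hc hsig hp hr).trans (P.same_centre h hy hd hsig hq hr).symm
  subst hpq
  exact ⟨hc.1, h.act_eq_of_odd hB hgen P.ou P.bad hc.1 hd.1 hp hq
    (h.odd_mul_swap (Ne.symm hy) ⟨hc.1.1, hc.2⟩ ⟨hd.1.1, hd.2⟩)⟩

/-- They are all the lifts of one image. -/
theorem csig_eq_kap {y : Ω} (hy : u • y ≠ y) {d : G} (hd : d ∈ csig D u y) : csig D u y = kap D Ω u d := by
  haveI : Nonempty Ω := ⟨y⟩
  refine Set.eq_of_subset_of_ncard_le (P.csig_subset_kap h hB hgen hy hd) ?_ (Set.toFinite _)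
  obtain ⟨p, hp⟩ := h.exists_fix (h.invol d hd.1.1)
  exact h.card_kap_le_csig hB hgen P.ou P.bad (h.fix_of_cmem hd.1 hp) hy hd.1

/-- An element of the core commuting with a member fixes the points moved by it as by `u`. -/
theorem core_fix {b : G} (hb : b ∈ cmem D u) {o : G} (ho : o ∈ fixCore Ω u) (hob : Commute o b)
    (hou : Commute o u) {y : Ω} (hy : u • y ≠ y) (hby : b • y = u • y) : o • y = y :=
  h.core_fix hB hgen P.ou P.bad hb ho hob hou hy hby

end FourPair

end Cfsg.Agent.GoodInvol
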