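import Cfsg.Agent.Lib.GoodInvol.FourOne

/-!
# Two commuting involutions with the same fixed points: equal fixed sets

With such a pair every involution fixing two points including `a` fixes as many points as the pair.
-/

set_option autoImplicit false
set_option linter.style.haveILetI false
set_option linter.unusedSectionVars false

namespace Cfsg.Agent.GoodInvol

open Subgroup MulAction

universe u v

variable {G : Type u} [Group G] [Finite G] {Ω : Type u} [MulAction G Ω] [Finite Ω] [FaithfulSMul G Ω] {D : Set G}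

namespace FourPair

variable {u v : G} (P : FourPair Ω u v) (h : Crit D Ω) (hB : Below.{u} (Nat.card G)) (hgen : closure D = ⊤)
include P h hB hgen

/-- At such a pair one member acts at a moved point as `w`, for every involution `w` fixing two points and `a`. -/
theorem card_csig_of_fix {a : Ω} (ha : u • a = a) {T E : Subgroup G} (hT : T ≤ ptC u a) (hE : ESet D u a T E)
    {w : G} (hw : orderOf w = 2) (hwbad : ¬ OneFix Ω w) (hwa : w • a = a) {x : Ω} (hx : w • x ≠ x) :
    (cdat D w a).ncard = Nat.card E - 1 ∧ (csig D w x).ncard = 1 := by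
  have hm : (dat D a).ncard = Nat.card E - 1 := by
    rw [P.dat_eq h hB hgen ha hT hE, Set.ncard_sdiff_singleton_of_mem (one_mem E), ← Nat.card_coe_set_eq]
    rfl
  have hc : cdat D w a = dat D a := by
    ext c
    refine ⟨fun hc => hc.1, fun hc => ⟨hc, ?_⟩⟩
    have hcE : c ∈ E := by
      have := hc
      rw [P.dat_eq h hB hgen ha hT hE] at this
      exact this.1
    exact (P.commute_eset h hB hgen ha hT hE hw hwbad hwa hcE).symm
  refine ⟨by rw [hc, hm], ?_⟩
  have := h.card_dat_eq hB hgen hw hwbad hwa hx
  rw [hc, h.card_dat x a] at this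
  exact (Nat.eq_of_mul_eq_mul_right (h.odd a).pos ((one_mul _).trans this)).symm

/-- Every involution fixing two points and `a` fixes as many points as `u`. -/
theorem card_fixSet_eq {a : Ω} (ha : u • a = a) {T E : Subgroup G} (hT : T ≤ ptC u a) (hE : ESet D u a T E)
    {w : G} (hw : orderOf w = 2) (hwbad : ¬ OneFix Ω w) (hwa : w • a = a) :
    (fixSet Ω w).ncard = (fixSet Ω u).ncard := by
  obtain ⟨y, hy⟩ := P.exists_moved h
  obtain ⟨x, hx⟩ : ∃ x : Ω, w • x ≠ x := by
    by_contra! hall
    exact Invol.ne_one hw (FaithfulSMul.eq_of_smul_eq_smul (α := Ω) fun z => by rw [hall z, one_smul])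
  obtain ⟨hNw, hμw⟩ := P.card_csig_of_fix h hB hgen ha hT hE hw hwbad hwa hx
  obtain ⟨hNu, hμu⟩ := P.card_csig_of_fix h hB hgen ha hT hE P.ou P.bad ha hy
  have c1 := h.card_moved_eq hB hgen P.ou P.bad ha hy
  have c2 := h.card_moved_eq hB hgen hw hwbad hwa hx
  rw [hμu, mul_one, hNu] at c1
  rw [hμw, mul_one, hNw] at c2
  have n1 := Set.ncard_add_ncard_compl (fixSet Ω u)
  have n2 := Set.ncard_add_ncard_compl (fixSet Ω w)
  rw [c1, ← n2, c2] at n1
  have hmono : StrictMono fun f : ℕ => f + f * (Nat.card E - 1) * (f - 1) := by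
    refine strictMono_nat_of_lt_succ fun f => ?_
    have : f * (Nat.card E - 1) * (f - 1) ≤ (f + 1) * (Nat.card E - 1) * (f + 1 - 1) :=
      Nat.mul_le_mul (Nat.mul_le_mul_right _ (Nat.le_succ f)) (by omega)
    show f + f * (Nat.card E - 1) * (f - 1) < f + 1 + (f + 1) * (Nat.card E - 1) * (f + 1 - 1)
    omega
  exact (hmono.injective n1).symm

end FourPair

end Cfsg.Agent.GoodInvol
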