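import Cfsg.Agent.Lib.GoodInvol.Four

/-!
# Two commuting involutions with the same fixed points: one lift, one swapper

With such a pair the lift of an image is unique and exactly one member acts at a moved point as `u`; so the members
at a fixed point `a` are the non-trivial elements of the elementary subgroup, which the stabiliser of `a`
normalises and every involution fixing two points including `a` centralises.
-/

set_option autoImplicit false
set_option linter.style.haveILetI false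
set_option linter.unusedSectionVars false

namespace Cfsg.Agent.GoodInvol

open Subgroup MulAction

universe u v

variable {G : Type u} [Group G] [Finite G] {Ω : Type u} [MulAction G Ω] [Finite Ω] [FaithfulSMul G Ω] {D : Set G}

namespace FourPair

variable {u v : G} (P : FourPair Ω u v) (h : Crit D Ω) (hB : Below.{u} (Nat.card G)) (hgen : closure D = ⊤)
include P h hB hgen

/-- An image has one lift. -/
theorem kap_eq {d e : G} (hd : d ∈ cmem D u) (he : e ∈ kap D Ω u d) : e = d := by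
  classical
  have hodd := h.odd_mul_kap P.bad hd.1 he.1.1 he.2
  obtain ⟨n, hn⟩ := h.exists_pow_conj he.1.1 hd.1 hodd
  have hcd : ∀ c : G, c ∈ cmem D u → ∀ c' ∈ kap D Ω u c, c' * c ∈ fixStab Ω u := fun c hc c' hc' z hz => by
    rw [mul_smul, hc'.2 _ (by rw [← mul_smul, ← hc.2.eq, mul_smul, hz] : u • c • z = c • z), ← mul_smul,
      Invol.mul_self (h.invol c hc.1), one_smul]
  set g := e * d with hg
  have hgu : Commute g u := he.1.2.mul_left hd.2
  have hgΔ : g ∈ fixStab Ω u := hcd d hd e he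
  have hgcore : g ∈ fixCore Ω u := by
    have h1 := h.commutator_mem_fixCore P.bad hd.1 hd.2 (pow_mem hgΔ n : g ^ n ∈ fixStab Ω u)
    rwa [hn, Invol.inv_self (h.invol d hd.1)] at h1
  suffices hfix : g = 1 by
    rw [hg] at hfix
    rw [eq_inv_of_mul_eq_one_left hfix, Invol.inv_self (h.invol d hd.1)]
  refine FaithfulSMul.eq_of_smul_eq_smul (α := Ω) fun y => ?_
  rw [one_smul]
  by_cases hy : u • y = y
  · exact hgΔ y hy
  obtain ⟨f, hf, hfy⟩ := h.exists_at y
  obtain ⟨b, hb, hbu, hby, -⟩ := h.exists_partner P.ou (fun hu => P.bad (h.oneFix_of_mem hu)) hf hfy hy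
  have hbm : b ∈ cmem D u := ⟨hb, hbu⟩
  have hbs : b ∈ csig D u y := ⟨hbm, hby⟩
  set b' := g * b * g⁻¹ with hb'def
  have hb' : b' ∈ kap D Ω u b := by
    refine ⟨⟨h.conj g b hb, (hgu.mul_left hbm.2).mul_left hgu.inv_left⟩, fun z hz => ?_⟩
    have e1 : g⁻¹ • z = z := (inv_mem hgΔ : g⁻¹ ∈ fixStab Ω u) z hz
    have hbz : u • b • z = b • z := by rw [← mul_smul, ← hbm.2.eq, mul_smul, hz]
    rw [hb'def, mul_smul, mul_smul, e1, hgΔ _ hbz]
  have hb'y : b' • y = u • y := by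
    rw [← P.csig_eq_kap h hB hgen hy hbs] at hb'
    exact hb'.2
  obtain ⟨m, hm⟩ := h.exists_pow_conj hb'.1.1 hb (h.odd_mul_kap P.bad hb hb'.1.1 hb'.2)
  set s := (b' * b) ^ m with hs
  have hsu : Commute s u := (hb'.1.2.mul_left hbm.2).pow_left m
  have hscore : s ∈ fixCore Ω u := by
    refine pow_mem ?_ m
    have h1 := h.commutator_mem_fixCore P.bad hb hbm.2 hgΔ
    rwa [Invol.inv_self (h.invol b hb)] at h1
  have hsy : s • y = y := by
    refine MulAction.mem_stabilizer_iff.1 (pow_mem (?_ : b' * b ∈ stabilizer G y) m)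
    show (b' * b) • y = y
    rw [mul_smul, hby, ← mul_smul, hb'.1.2.eq, mul_smul, hb'y, ← mul_smul, Invol.mul_self P.ou, one_smul]
  have hg0 : Commute (s⁻¹ * g) b := by
    show s⁻¹ * g * b = b * (s⁻¹ * g)
    calc s⁻¹ * g * b = s⁻¹ * (g * b * g⁻¹) * g := by group
      _ = s⁻¹ * (s * b * s⁻¹) * g := by rw [← hb'def, ← hm]
      _ = _ := by group
  have h0 := P.core_fix h hB hgen hbm (mul_mem (inv_mem hscore) hgcore) hg0 (hsu.inv_left.mul_left hgu) hy hby
  rw [mul_smul, inv_smul_eq_iff, hsy] at h0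
  exact h0

/-- One member acts at a moved point as `u`. -/
theorem card_csig {y : Ω} (hy : u • y ≠ y) : (csig D u y).ncard = 1 := by
  obtain ⟨f, hf, hfy⟩ := h.exists_at y
  obtain ⟨b, hb, hbu, hby, -⟩ := h.exists_partner P.ou (fun hu => P.bad (h.oneFix_of_mem hu)) hf hfy hy
  rw [P.csig_eq_kap h hB hgen hy (d := b) ⟨⟨hb, hbu⟩, hby⟩]
  refine Set.ncard_eq_one.2 ⟨b, Set.eq_singleton_iff_unique_mem.2
    ⟨⟨⟨hb, hbu⟩, fun _ _ => rfl⟩, fun c hc => P.kap_eq h hB hgen ⟨hb, hbu⟩ hc⟩⟩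

omit hB hgen in
theorem exists_moved : ∃ y : Ω, u • y ≠ y := by
  by_contra! hall
  exact Invol.ne_one P.ou (FaithfulSMul.eq_of_smul_eq_smul (α := Ω) fun z => by rw [hall z, one_smul])

/-- The members at a fixed point `a` of `u` are the non-trivial elements of the elementary subgroup. -/
theorem dat_eq {a : Ω} (ha : u • a = a) {T E : Subgroup G} (hT : T ≤ ptC u a) (hE : ESet D u a T E) :
    dat D a = (E : Set G) \ {1} := by
  classical
  have hEd : (E : Set G) \ {1} ⊆ dat D a := fun e he =>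
    ⟨(((hE.mem e).1 he.1).resolve_left he.2).1, (mem_ptC.1 (hT (hE.le he.1))).2⟩
  refine (Set.eq_of_subset_of_ncard_le hEd ?_ (Set.toFinite _)).symm
  obtain ⟨y, hy⟩ := P.exists_moved h
  obtain ⟨d, hd, hdu⟩ := Set.nonempty_of_ncard_ne_zero (h.odd_cdat P.ou ha).pos.ne'
  have hk : (kap D Ω u d).ncard = 1 := Set.ncard_eq_one.2 ⟨d, Set.eq_singleton_iff_unique_mem.2
    ⟨⟨⟨hd.1, hdu⟩, fun _ _ => rfl⟩, fun c hc => P.kap_eq h hB hgen ⟨hd.1, hdu⟩ hc⟩⟩
  rw [h.card_dat a y, h.card_dat_eq hB hgen P.ou P.bad ha hy, P.card_csig h hB hgen hy, one_mul,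
    h.card_cdat_kap hB hgen P.ou P.bad ha hE hT (d := d) ⟨hd.1, hdu⟩, hk, mul_one,
    Set.ncard_sdiff_singleton_of_mem (one_mem E), ← Nat.card_coe_set_eq]
  rfl

/-- The stabiliser of `a` normalises the elementary subgroup. -/
theorem conj_mem_eset {a : Ω} (ha : u • a = a) {T E : Subgroup G} (hT : T ≤ ptC u a) (hE : ESet D u a T E)
    {g : G} (hg : g • a = a) {e : G} (he : e ∈ E) : g * e * g⁻¹ ∈ E := by
  by_cases he1 : e = 1
  · rw [he1, mul_one, mul_inv_cancel]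
    exact one_mem E
  have hd : e ∈ dat D a := by
    rw [P.dat_eq h hB hgen ha hT hE]
    exact ⟨he, he1⟩
  have : g * e * g⁻¹ ∈ dat D a := ⟨h.conj g e hd.1, by
    rw [mul_smul, mul_smul, inv_smul_eq_iff.2 hg.symm, hd.2, hg]⟩
  rw [P.dat_eq h hB hgen ha hT hE] at this
  exact this.1

omit hB hgen in
theorem two_pow_sub_dvd {r s : ℕ} (hs : 0 < s) (hsr : s < r) (hr : r ≤ 2 * s)
    (hd : 2 ^ s - 1 ∣ 2 ^ r - 1) : r = 2 * s := by
  have h1 : 2 ^ r - 1 = 2 ^ (r - s) * (2 ^ s - 1) + (2 ^ (r - s) - 1) := by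
    have h2 : 2 ^ (r - s) * 2 ^ s = 2 ^ r := by rw [← pow_add, Nat.sub_add_cancel hsr.le]
    have h3 : 2 ^ (r - s) ≤ 2 ^ (r - s) * 2 ^ s := Nat.le_mul_of_pos_right _ (by positivity)
    have h4 : 1 ≤ 2 ^ (r - s) := Nat.one_le_two_pow
    rw [Nat.mul_sub, mul_one]
    omega
  rw [h1, Nat.dvd_add_right (dvd_mul_left _ _)] at hd
  have h5 : 2 ≤ 2 ^ (r - s) := by
    calc 2 = 2 ^ 1 := rfl
      _ ≤ _ := Nat.pow_le_pow_right two_pos (by omega)
  have h6 := Nat.le_of_dvd (by omega) hd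
  have h7 : s ≤ r - s := (Nat.pow_le_pow_iff_right (le_refl 2)).1 (by
    have := Nat.one_le_two_pow (n := s)
    omega)
  omega

omit P h hB hgen in
/-- The counts at two involutions of elementary subgroups `q` and `q0` with `q = q0 * q0` are incompatible. -/
theorem count_false {q0 H H0 : ℕ} (hq0 : 3 ≤ q0) (hH : 0 < H) (hpow : H0 ≤ q0 * H ∨ 2 * (q0 * H) ≤ H0)
    (he : (H : ℤ) * (H * ((q0 : ℤ) * q0) - H + (q0 : ℤ) * q0) * ((q0 : ℤ) + 1) =
      (H0 : ℤ) * (H0 * ((q0 : ℤ) - 1) + 2 * q0)) : False := by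
  have hq : (3 : ℤ) ≤ q0 := by exact_mod_cast hq0
  have hH1 : (1 : ℤ) ≤ H := by exact_mod_cast hH
  have hH0 : (0 : ℤ) ≤ H0 := Int.natCast_nonneg _
  have hq1 : (0 : ℤ) ≤ (q0 : ℤ) - 1 := by linarith
  rcases hpow with hp | hp
  · have hp' : (H0 : ℤ) ≤ q0 * H := by exact_mod_cast hp
    have h1 : (H0 : ℤ) * (H0 * ((q0 : ℤ) - 1) + 2 * q0) ≤ q0 * H * (q0 * H * ((q0 : ℤ) - 1) + 2 * q0) := by
      refine mul_le_mul hp' ?_ ?_ (by positivity)
      · nlinarith
      · nlinarith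
    have h2 : (q0 : ℤ) * H * (q0 * H * ((q0 : ℤ) - 1) + 2 * q0) <
        (H : ℤ) * (H * ((q0 : ℤ) * q0) - H + (q0 : ℤ) * q0) * ((q0 : ℤ) + 1) := by
      have e : (H : ℤ) * (H * ((q0 : ℤ) * q0) - H + (q0 : ℤ) * q0) * ((q0 : ℤ) + 1) -
          (q0 : ℤ) * H * (q0 * H * ((q0 : ℤ) - 1) + 2 * q0) =
          (H : ℤ) * H * (2 * ((q0 : ℤ) * q0) - q0 - 1) + (q0 : ℤ) * q0 * H * ((q0 : ℤ) - 1) := by ring
      have hpos : (0 : ℤ) < (H : ℤ) * H * (2 * ((q0 : ℤ) * q0) - q0 - 1) + (q0 : ℤ) * q0 * H * ((q0 : ℤ) - 1) := by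
        have a1 : (0 : ℤ) < 2 * ((q0 : ℤ) * q0) - q0 - 1 := by nlinarith
        have a2 : (0 : ℤ) < (H : ℤ) * H := by nlinarith
        have a3 : (0 : ℤ) ≤ (q0 : ℤ) * q0 * H * ((q0 : ℤ) - 1) := by positivity
        nlinarith [mul_pos a2 a1]
      linarith
    linarith
  · have hp' : 2 * ((q0 : ℤ) * H) ≤ H0 := by exact_mod_cast hp
    have h1 : 2 * ((q0 : ℤ) * H) * (2 * ((q0 : ℤ) * H) * ((q0 : ℤ) - 1) + 2 * q0) ≤
        (H0 : ℤ) * (H0 * ((q0 : ℤ) - 1) + 2 * q0) := by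
      refine mul_le_mul hp' ?_ ?_ hH0
      · nlinarith
      · positivity
    have h2 : (H : ℤ) * (H * ((q0 : ℤ) * q0) - H + (q0 : ℤ) * q0) * ((q0 : ℤ) + 1) <
        2 * ((q0 : ℤ) * H) * (2 * ((q0 : ℤ) * H) * ((q0 : ℤ) - 1) + 2 * q0) := by
      have e : 2 * ((q0 : ℤ) * H) * (2 * ((q0 : ℤ) * H) * ((q0 : ℤ) - 1) + 2 * q0) -
          (H : ℤ) * (H * ((q0 : ℤ) * q0) - H + (q0 : ℤ) * q0) * ((q0 : ℤ) + 1) =
          (q0 : ℤ) * q0 * H * ((H : ℤ) * (3 * q0 - 5) - (q0 : ℤ) + 3) + (H : ℤ) * H * (q0 + 1) := by ring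
      have a1 : (0 : ℤ) ≤ (H : ℤ) * (3 * q0 - 5) - (q0 : ℤ) + 3 := by nlinarith
      have a2 : (0 : ℤ) < (H : ℤ) * H * (q0 + 1) := by positivity
      have a3 : (0 : ℤ) ≤ (q0 : ℤ) * q0 * H := by positivity
      nlinarith [mul_nonneg a3 a1]
    linarith

/-- Every involution fixing two points including `a` centralises the elementary subgroup at `a`. -/
theorem commute_eset {a : Ω} (ha : u • a = a) {T E : Subgroup G} (hT : T ≤ ptC u a) (hE : ESet D u a T E)
    {w : G} (hw : orderOf w = 2) (hwbad : ¬ OneFix Ω w) (hwa : w • a = a) {e : G} (he : e ∈ E) : Commute w e := by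
  classical
  haveI : Fact (Nat.Prime 2) := ⟨Nat.prime_two⟩
  set C0 := E ⊓ Subgroup.centralizer ({w} : Set G) with hC0
  suffices hle : Nat.card E ≤ Nat.card C0 by
    have := eq_of_le_of_card_ge (inf_le_left : C0 ≤ E) hle
    exact (mem_centralizer_singleton_iff.1 (mem_inf.1 (this.ge he)).2 : e * w = w * e).symm
  by_contra! hlt
  have hww := Invol.mul_self hw
  have hdat := P.dat_eq h hB hgen ha hT hE
  have hm : (dat D a).ncard = Nat.card E - 1 := by
    rw [hdat, Set.ncard_sdiff_singleton_of_mem (one_mem E), ← Nat.card_coe_set_eq]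
    rfl
  have hcd : cdat D w a = (C0 : Set G) \ {1} := by
    ext c
    show c ∈ dat D a ∧ Commute c w ↔ c ∈ C0 ∧ c ∉ ({1} : Set G)
    rw [hdat]
    exact ⟨fun hc => ⟨mem_inf.2 ⟨hc.1.1, mem_centralizer_singleton_iff.2 hc.2.eq⟩, hc.1.2⟩,
      fun hc => ⟨⟨(mem_inf.1 hc.1).1, hc.2⟩, mem_centralizer_singleton_iff.1 (mem_inf.1 hc.1).2⟩⟩
  have hN0 : (cdat D w a).ncard = Nat.card C0 - 1 := by
    rw [hcd, Set.ncard_sdiff_singleton_of_mem (one_mem C0), ← Nat.card_coe_set_eq]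
    rfl
  -- the squares bound the index
  have hwE : ∀ x ∈ E, w * x * w ∈ E := fun x hx => by
    have := P.conj_mem_eset h hB hgen ha hT hE hwa hx
    rwa [Invol.inv_self hw] at this
  let φ : E →* C0 :=
    { toFun := fun x => ⟨x * (w * x * w), mem_inf.2 ⟨mul_mem x.2 (hwE x x.2),
        mem_centralizer_singleton_iff.2 (by
          calc (x : G) * (w * x * w) * w = (x : G) * (w * x) * (w * w) := by group
            _ = (w * w) * x * (w * x) := by rw [hww, mul_one, one_mul]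
            _ = w * ((w * x * w) * x) := by group
            _ = w * ((x : G) * (w * x * w)) := by rw [(hE.comm x x.2 _ (hwE x x.2)).eq])⟩⟩
      map_one' := Subtype.ext (by show (1 : G) * (w * 1 * w) = 1; rw [mul_one, one_mul, hww])
      map_mul' := fun x y => Subtype.ext (by
        show (x : G) * y * (w * (x * y) * w) = x * (w * x * w) * (y * (w * y * w))
        calc (x : G) * y * (w * (x * y) * w) = x * y * (w * x * (w * w) * y * w) := by rw [hww]; group
          _ = x * ((y : G) * (w * x * w)) * (w * y * w) := by group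
          _ = x * ((w * x * w) * y) * (w * y * w) := by rw [(hE.comm y y.2 _ (hwE x x.2)).eq]
          _ = _ := by group) }
  have hker : Nat.card φ.ker ≤ Nat.card C0 := by
    refine Nat.card_le_card_of_injective (fun x : φ.ker => (⟨((x : E) : G), mem_inf.2 ⟨(x : E).2, ?_⟩⟩ : C0))
      fun x y hxy => Subtype.ext (Subtype.ext (by exact congrArg (fun c : C0 => (c : G)) hxy))
    have e1 : ((x : E) : G) * (w * (x : E) * w) = 1 := congrArg Subtype.val x.2
    have e2 : w * ((x : E) : G) * w = (x : E) := by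
      rw [← inv_eq_of_mul_eq_one_right e1, inv_eq_of_mul_eq_one_right (hE.sq _ (x : E).2)]
    refine mem_centralizer_singleton_iff.2 ?_
    calc ((x : E) : G) * w = (w * (x : E) * w) * w := by rw [e2]
      _ = w * (x : E) := by rw [mul_assoc _ w w, hww, mul_one]
  have hidx : φ.ker.index ≤ Nat.card C0 := by
    rw [Subgroup.index_ker]
    exact Nat.card_le_card_of_injective _ Subtype.val_injective
  have hsq : Nat.card E ≤ Nat.card C0 * Nat.card C0 := by
    rw [← φ.ker.card_mul_index]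
    exact Nat.mul_le_mul hker hidx
  -- powers of two
  have hE2 : IsPGroup 2 E := fun x => ⟨1, Subtype.ext (by simpa [pow_two] using hE.sq _ x.2)⟩
  obtain ⟨r, hr⟩ := IsPGroup.iff_card.1 hE2
  obtain ⟨s, hs⟩ := IsPGroup.iff_card.1 (hE2.to_le (inf_le_left : C0 ≤ E))
  have hs1 : 0 < s := by
    rcases Nat.eq_zero_or_pos s with rfl | hs0
    · have := (h.odd_cdat hw hwa).pos
      rw [hN0, hs] at this
      simp at this
    · exact hs0
  obtain ⟨x, hx⟩ : ∃ x : Ω, w • x ≠ x := by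
    by_contra! hall
    exact Invol.ne_one hw (FaithfulSMul.eq_of_smul_eq_smul (α := Ω) fun z => by rw [hall z, one_smul])
  have hmw := h.card_dat_eq hB hgen hw hwbad hwa hx
  rw [h.card_dat x a, hm, hN0, hr, hs] at hmw
  rw [hr, hs] at hlt
  have hsr : s < r := (Nat.pow_lt_pow_iff_right (le_refl 2)).1 hlt
  rw [hr, hs, ← pow_add] at hsq
  have hrs := P.two_pow_sub_dvd h hs1 hsr (by
    have := (Nat.pow_le_pow_iff_right (le_refl 2)).1 hsq
    omega) ⟨_, by rw [hmw, mul_comm]⟩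
  subst hrs
  set Q0 := 2 ^ s with hQ0
  have hQQ : 2 ^ (2 * s) = Q0 * Q0 := by rw [hQ0, two_mul, pow_add]
  have hQ2 : 2 ≤ Q0 := by
    calc 2 = 2 ^ 1 := rfl
      _ ≤ _ := Nat.pow_le_pow_right two_pos hs1
  set μw := (csig D w x).ncard with hμw
  have hμ : μw = Q0 + 1 := by
    have e : Q0 * Q0 - 1 = (Q0 + 1) * (Q0 - 1) := by
      obtain ⟨j, hj⟩ := Nat.exists_eq_add_of_le (show 1 ≤ Q0 by omega)
      rw [hj, Nat.add_sub_cancel_left, show (1 + j) * (1 + j) = 1 + (1 + j + 1) * j by ring, Nat.add_sub_cancel_left]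
    rw [hQQ, e] at hmw
    exact (Nat.eq_of_mul_eq_mul_right (by omega) hmw).symm
  -- three elements in the centraliser of `w`
  have hQ3 : 3 ≤ Q0 := by
    obtain ⟨T', hT'⟩ : ∃ T' : Sylow 2 (ptC w a), True := ⟨Classical.arbitrary _, trivial⟩
    obtain ⟨E', hE'⟩ := h.exists_eset hB hgen hw hwbad hwa T'
    obtain ⟨b, hb, c, hc, hb1, hc1, hbc⟩ := hE'.two
    have hsub : ({b, c} : Set G) ⊆ cdat D w a := by
      rintro z (rfl | rfl)
      · obtain ⟨x, -, rfl⟩ := hE'.le hb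
        exact ⟨⟨(((hE'.mem _).1 hb).resolve_left hb1).1, (mem_ptC.1 x.2).2⟩, (mem_ptC.1 x.2).1⟩
      · obtain ⟨x, -, rfl⟩ := hE'.le hc
        exact ⟨⟨(((hE'.mem _).1 hc).resolve_left hc1).1, (mem_ptC.1 x.2).2⟩, (mem_ptC.1 x.2).1⟩
    have := Set.ncard_le_ncard hsub (Set.toFinite _)
    rw [Set.ncard_pair hbc, hN0, hs] at this
    omega
  obtain ⟨y, hy⟩ := P.exists_moved h
  obtain ⟨i, hi⟩ := h.exists_fix_pow hB hgen P.ou P.bad
  obtain ⟨j, hj⟩ := h.exists_fix_pow hB hgen hw hwbad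
  have c1 := h.card_moved_eq hB hgen P.ou P.bad ha hy
  have c2 := h.card_moved_eq hB hgen hw hwbad hwa hx
  have hNu : (cdat D u a).ncard = Q0 * Q0 - 1 := by
    have := h.card_dat_eq hB hgen P.ou P.bad ha hy
    rw [h.card_dat y a, hm, hr, hQQ, P.card_csig h hB hgen hy, one_mul] at this
    exact this.symm
  rw [P.card_csig h hB hgen hy, mul_one, hNu, hi, Nat.add_sub_cancel] at c1
  rw [hN0, hs, ← hμw, hμ, hj, Nat.add_sub_cancel] at c2
  have n1 := Set.ncard_add_ncard_compl (fixSet Ω u)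
  have n2 := Set.ncard_add_ncard_compl (fixSet Ω w)
  rw [hi, c1, ← n2, hj] at n1
  refine count_false (q0 := Q0) (H := 2 ^ i) (H0 := 2 ^ j) hQ3 (by positivity) ?_ ?_
  · rw [hQ0, ← pow_add, ← pow_succ']
    rcases Nat.lt_or_ge (s + i) j with hlt' | hge
    · exact Or.inr (Nat.pow_le_pow_right two_pos hlt')
    · exact Or.inl (Nat.pow_le_pow_right two_pos hge)
  · have c2' : ((((fixSet Ω w)ᶜ.ncard * (Q0 + 1) : ℕ)) : ℤ) = (((2 ^ j + 1) * (Q0 - 1) * 2 ^ j : ℕ) : ℤ) := by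
      rw [c2]
    have n1' : ((2 ^ i + 1 + (2 ^ i + 1) * (Q0 * Q0 - 1) * 2 ^ i : ℕ) : ℤ) =
        ((2 ^ j + 1 + (fixSet Ω w)ᶜ.ncard : ℕ) : ℤ) := by rw [n1]
    have hQ1 : 1 ≤ Q0 := by omega
    have hQQ1 : 1 ≤ Q0 * Q0 := Nat.mul_pos (by omega) (by omega)
    push_cast [Nat.cast_sub hQ1, Nat.cast_sub hQQ1] at c2' n1' ⊢
    linear_combination ((Q0 : ℤ) + 1) * n1' + c2'

end FourPair

end Cfsg.Agent.GoodInvol
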