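import Cfsg.Agent.Lib.GoodInvol.GateTop
import Cfsg.Agent.Lib.GoodInvol.CaseBU3Small
import Cfsg.Agent.Lib.GoodInvol.CaseBLarge.Main

/-!
# The gate
-/

set_option autoImplicit false

namespace Cfsg.Agent.GoodInvol

universe u

/-- The consequences of the good involution theorem hold. -/
theorem gate : GateCons.Gate.{u} := gate_of_caseB smallStmt_three largeStmt

end Cfsg.Agent.GoodInvol
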