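import Cfsg.Agent.Lib.GoodInvol.CaseAFinal
import Cfsg.Agent.Lib.GoodInvol.CaseBSz

/-!
# The gate from the remaining cases
-/

set_option autoImplicit false

namespace Cfsg.Agent.GoodInvol

universe u

/-- The gate from the two unitary cases of Case B. -/
theorem gate_of_caseB (hU : SmallStmt.{u} 3) (hUL : LargeStmt.{u}) : GateCons.Gate.{u} :=
  gate_of caseAStmt (caseBStmt_of smallStmt_two hU hUL)

end Cfsg.Agent.GoodInvol
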