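import Cfsg.Agent.Lib.GoodInvol.Swappers
import Mathlib.GroupTheory.PGroup

/-!
# Two-groups and partners

A two-group fixes a point and centralises a member there; an involution outside the class moving the point of a
member has a unique partner in the class.
-/

set_option autoImplicit false
set_option linter.style.haveILetI false
set_option linter.unusedSectionVars false

namespace Cfsg.Agent.GoodInvol

open Subgroup MulAction

universe u v

variable {G : Type u} [Group G] [Finite G] {D : Set G} {Ω : Type v} [MulAction G Ω]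

namespace Crit

variable (h : Crit D Ω)
include h

/-- A two-group fixes a point. -/
theorem exists_fix_of_pGroup [Finite Ω] [Nonempty Ω] {P : Subgroup G} (hP : IsPGroup 2 P) :
    ∃ x : Ω, ∀ g ∈ P, g • x = x := by
  haveI : Fact (Nat.Prime 2) := ⟨Nat.prime_two⟩
  obtain ⟨x, hx⟩ := hP.nonempty_fixed_point_of_prime_not_dvd_card Ω
    fun h2 => Nat.not_even_iff_odd.2 h.odd_card (even_iff_two_dvd.2 h2)
  exact ⟨x, fun g hg => hx ⟨g, hg⟩⟩

/-- Every involution fixes a point. -/
theorem exists_fix [Finite Ω] [Nonempty Ω] {u : G} (hu : orderOf u = 2) : ∃ x : Ω, u • x = x := by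
  obtain ⟨x, hx⟩ := h.exists_fix_of_pGroup (P := zpowers u)
    (IsPGroup.of_card (n := 1) (by rw [Nat.card_zpowers, hu, pow_one]))
  exact ⟨x, hx u (mem_zpowers u)⟩

/-- A two-group fixing a point centralises a member there. -/
theorem exists_centralized {P : Subgroup G} (hP : IsPGroup 2 P) {x : Ω} (hPx : ∀ g ∈ P, g • x = x) :
    ∃ d ∈ dat D x, ∀ g ∈ P, Commute g d := by
  haveI : Fact (Nat.Prime 2) := ⟨Nat.prime_two⟩
  letI : MulAction P (dat D x) :=
    { smul := fun g d => ⟨(g : G) * d * (g : G)⁻¹, h.conj g d d.2.1, by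
        rw [mul_smul, mul_smul, inv_smul_eq_iff.2 (hPx g g.2).symm, d.2.2, hPx g g.2]⟩
      one_smul := fun d => Subtype.ext (show (1 : G) * d * (1 : G)⁻¹ = d by group)
      mul_smul := fun a b d => Subtype.ext
        (show (a : G) * b * d * ((a : G) * b)⁻¹ = a * ((b : G) * d * (b : G)⁻¹) * (a : G)⁻¹ by group) }
  have hodd : Odd (Nat.card (dat D x)) := by
    rw [Nat.card_coe_set_eq]
    exact h.odd x
  obtain ⟨d, hd⟩ := hP.nonempty_fixed_point_of_prime_not_dvd_card (dat D x)
    fun h2 => Nat.not_even_iff_odd.2 hodd (even_iff_two_dvd.2 h2)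
  exact ⟨d, d.2, fun g hg => mul_inv_eq_iff_eq_mul.1 (congrArg Subtype.val (hd ⟨g, hg⟩))⟩

/-- An involution fixing two points is outside the class. -/
theorem not_mem_of_two_fixed {u : G} {x y : Ω} (hx : u • x = x) (hy : u • y = y) (hxy : x ≠ y) : u ∉ D :=
  fun hu => hxy (h.unique u hu x y hx hy)

/-- The partner of an involution outside the class at a member whose point it moves. -/
theorem exists_partner {u d : G} (hu : orderOf u = 2) (huD : u ∉ D) (hd : d ∈ D) {x : Ω} (hdx : d • x = x)
    (hux : u • x ≠ x) :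
    ∃ d' ∈ D, d' * u = u * d' ∧ d' • x = u • x ∧ orderOf (u * d') = 2 ∧ Commute d (u * d') ∧
      (u * d') • x = x ∧ ∀ d'' ∈ D, d'' * u = u * d'' → Commute d (u * d'') → d'' = d' := by
  have h2d := h.invol d hd
  have huu := Invol.inv_self hu
  have hev : Even (orderOf (u * d)) := by
    rw [← Nat.not_odd_iff_even]
    intro hodd
    obtain ⟨g, -, hg⟩ := Invol.conj_of_odd hu h2d hodd
    refine huD ?_
    rw [show u = g⁻¹ * d * g⁻¹⁻¹ by rw [← hg]; group]
    exact h.conj g⁻¹ d hd
  have hd1 : u * d * u⁻¹ ∈ D := h.conj u d hd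
  have hd1x : (u * d * u⁻¹) • (u • x) = u • x := by rw [mul_smul, mul_smul, inv_smul_smul, hdx]
  have hodd : Odd (orderOf (u * d * u⁻¹ * d)) := h.odd_product hd1 hd hd1x hdx hux
  have h4 : ¬ 4 ∣ orderOf (u * d) := by
    intro h4
    have hsq : u * d * u⁻¹ * d = (u * d) ^ 2 := by rw [huu, pow_two, mul_assoc (u * d)]
    rw [hsq, orderOf_pow] at hodd
    obtain ⟨k, hk⟩ := h4
    rw [hk, show Nat.gcd (4 * k) 2 = 2 from Nat.gcd_eq_right ⟨2 * k, by ring⟩,
      show 4 * k / 2 = 2 * k by omega] at hodd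
    exact Nat.not_even_iff_odd.2 hodd (even_two_mul k)
  obtain ⟨hcu, hcd⟩ := Invol.half_commute hu h2d hev
  have hc2 := Invol.half_order hu h2d hev (orderOf_pos _)
  obtain ⟨g, -, hg⟩ := Invol.conj_y_mul_half hu h2d hev h4
  set c := (u * d) ^ (orderOf (u * d) / 2)
  have hd' : u * c ∈ D := hg ▸ h.conj g d hd
  have huc : u * (u * c) = c := by rw [← mul_assoc, Invol.mul_self hu, one_mul]
  have hcx : c • x = x := h.unique d hd _ _ (by rw [← mul_smul, ← hcd.eq, mul_smul, hdx]) hdx
  have hswap : ∀ e ∈ D, e * u = u * e → Commute d (u * e) →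
      e ∈ swap D x (u • x) ∧ e * d * e = u * d * u := by
    intro e he heu hde
    have hfix : (u * e) • x = x := h.unique d hd _ _ (by rw [← mul_smul, hde.eq, mul_smul, hdx]) hdx
    have hee := Invol.mul_self (h.invol e he)
    refine ⟨⟨he, ?_⟩, ?_⟩
    · calc e • x = (u * (u * e)) • x := by rw [← mul_assoc, Invol.mul_self hu, one_mul]
        _ = u • x := by rw [mul_smul, hfix]
    · have hsq : (u * e) * (u * e) = 1 := by
        rw [mul_assoc, ← mul_assoc e, heu, mul_assoc u e, hee, mul_one, Invol.mul_self hu]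
      calc e * d * e = u * ((u * e) * d * (u * e)) * u := by
            rw [show e * d * e = (u * u) * e * d * e * (u * u) by rw [Invol.mul_self hu]; group]
            rw [show (u * u) * e * d * e * (u * u) = u * ((u * e) * d * (e * u)) * u by group, heu]
        _ = u * (d * ((u * e) * (u * e))) * u := by rw [← hde.eq, mul_assoc d]
        _ = u * d * u := by rw [hsq, mul_one]
  refine ⟨u * c, hd', ?_, by rw [mul_smul, hcx], by rw [huc]; exact hc2, by rw [huc]; exact hcd.symm,
    by rw [huc]; exact hcx, fun e he heu hde => ?_⟩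
  · rw [mul_assoc, hcu.eq]
  · have hcu' : u * c * u = u * (u * c) := by rw [mul_assoc, hcu.eq]
    obtain ⟨h1, e1⟩ := hswap e he heu hde
    obtain ⟨h2, e2⟩ := hswap (u * c) hd' hcu' (by rw [huc]; exact hcd.symm)
    exact h.swap_inj (Ne.symm hux) h1 h2 ⟨hd, hdx⟩ (e1.trans e2.symm)

end Crit

end Cfsg.Agent.GoodInvol
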