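import Cfsg.Agent.Lib.GoodInvol.Basic
import Cfsg.Agent.Lib.SEMain.Proof
import Cfsg.Agent.Lib.SEMain.Bender

/-!
# The induction on one-point involutions

The statement `Goal`, its reduction to a faithful situation generated by `D` with an involution fixing two
points, and what it gives for the group induced on the points: a strongly embedded point stabiliser, hence
one involution at each point or a Bender group.
-/

set_option autoImplicit false
set_option linter.style.haveILetI false
set_option linter.unusedSectionVars false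

namespace Cfsg.Agent.GoodInvol

open Subgroup MulAction

universe u

/-- An element of the group generated by `D` acting as an involution fixes one point at most. -/
def Goal {G : Type u} [Group G] (D : Set G) (Ω : Type u) [MulAction G Ω] : Prop :=
  ∀ g ∈ closure D, (∀ x : Ω, g • g • x = x) → ∀ x y : Ω, g • x = x → g • y = y → x ≠ y → ∀ z : Ω, g • z = z

/-- `Goal` for all groups of smaller order. -/
def Below (n : ℕ) : Prop :=
  ∀ (G : Type u) [Group G] [Finite G] (D : Set G) (Ω : Type u) [MulAction G Ω] [Finite Ω],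
    Nat.card G < n → Crit D Ω → Goal D Ω

variable {G : Type u} [Group G] [Finite G] {D : Set G} {Ω : Type u} [MulAction G Ω] [Finite Ω]

/-- The situation restricts to a subgroup containing `D`. -/
theorem Crit.restrict (h : Crit D Ω) {K : Subgroup G} (hD : D ⊆ K) : Crit {d : K | (d : G) ∈ D} Ω where
  invol d hd := by rw [← Subgroup.orderOf_coe]; exact h.invol _ hd
  conj g d hd := h.conj g _ hd
  unique d hd := h.unique _ hd
  prod d hd e he hde hne := h.prod _ hd _ he (congrArg Subtype.val hde) fun e' => hne (Subtype.ext e')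
  odd x := by
    have e : {d ∈ {d : K | (d : G) ∈ D} | d • x = x} = Subtype.val ⁻¹' {d ∈ D | d • x = x} := rfl
    rw [e, Set.ncard_preimage_of_injective_subset_range Subtype.val_injective
      fun d hd => ⟨⟨d, hD hd.1⟩, rfl⟩]
    exact h.odd x

/-- The statement follows from the faithful case generated by `D`. -/
theorem goal_of_step
    (step : ∀ (G : Type u) [Group G] [Finite G] (D : Set G) (Ω : Type u) [MulAction G Ω] [Finite Ω]
      [FaithfulSMul G Ω], Below.{u} (Nat.card G) → Crit D Ω → closure D = ⊤ →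
      ∀ u : G, orderOf u = 2 → ∀ x y : Ω, u • x = x → u • y = y → x ≠ y → False) :
    ∀ n, Below.{u} n := by
  intro n
  induction n using Nat.strong_induction_on with
  | _ n ih =>
  intro G _ _ D Ω _ _ hn h
  have hB : Below.{u} (Nat.card G) := ih _ hn
  intro g hg hg2 x y hx hy hxy
  by_cases hK : closure D = ⊤
  swap
  · have hlt : Nat.card (closure D) < Nat.card G := lt_of_le_of_ne (card_le_card_group _) fun e =>
      hK (eq_top_of_card_eq _ e)
    refine hB (closure D) _ Ω hlt (h.restrict subset_closure) ⟨g, hg⟩ ?_ hg2 x y hx hy hxy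
    have e : closure ((closure D).subtype ⁻¹' D) = ⊤ := closure_closure_coe_preimage
    exact e.symm ▸ mem_top _
  set N := (toPermHom G Ω).ker with hN
  letI : MulAction (G ⧸ N) Ω := MulAction.compHom Ω (QuotientGroup.kerLift (toPermHom G Ω))
  have hq : ∀ (k : G) (z : Ω), (k : G ⧸ N) • z = k • z := fun _ _ => rfl
  by_cases hN1 : N = ⊥
  swap
  · have hlt : Nat.card (G ⧸ N) < Nat.card G := by
      rw [← index_eq_card, ← N.card_mul_index]
      exact lt_mul_of_one_lt_left (Nat.pos_of_ne_zero N.index_ne_zero_of_finite)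
        (Finite.one_lt_card_iff_nontrivial.2 ((nontrivial_iff_ne_bot N).2 hN1))
    intro z
    have h1 : (g : G ⧸ N) ∈ closure ((fun k : G => (k : G ⧸ N)) '' D) := by
      have h2 := mem_map_of_mem (QuotientGroup.mk' N) hg
      rwa [MonoidHom.map_closure] at h2
    have h3 := hB (G ⧸ N) _ Ω hlt (h.quotient N hq ⟨x, y, hxy⟩) (g : G ⧸ N) h1
      (fun w => by rw [hq, hq]; exact hg2 w) x y (by rw [hq]; exact hx) (by rw [hq]; exact hy) hxy z
    rwa [hq] at h3
  haveI : FaithfulSMul G Ω := ⟨fun {a c} hac => inv_mul_eq_one.1 (mem_bot.1 (hN1 ▸ (by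
    rw [hN, MonoidHom.mem_ker]
    refine Equiv.ext fun z => ?_
    show (a⁻¹ * c) • z = z
    rw [mul_smul, ← hac, inv_smul_smul] : a⁻¹ * c ∈ N)))⟩
  intro z
  by_cases hg1 : g = 1
  · rw [hg1, one_smul]
  exact (step G D Ω hB h hK g (Invol.order_two_of_sq
    (FaithfulSMul.eq_of_smul_eq_smul (α := Ω) fun w => by rw [mul_smul, one_smul]; exact hg2 w) hg1)
    x y hx hy hxy).elim

/-- In the minimal situation an involution fixing two points has a proper centraliser. -/
theorem card_centralizer_lt [FaithfulSMul G Ω] (h : Crit D Ω) (hD : closure D = ⊤) {u : G}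
    (hu : orderOf u = 2) {x : Ω} (hx : u • x = x) :
    Nat.card (Subgroup.centralizer ({u} : Set G)) < Nat.card G := by
  refine lt_of_le_of_ne (card_le_card_group _) fun e => Invol.ne_one hu ?_
  have htop := eq_top_of_card_eq _ e
  refine FaithfulSMul.eq_of_smul_eq_smul (α := Ω) fun z => ?_
  obtain ⟨g, -, hg⟩ := h.exists_smul x z
  rw [one_smul, ← hg, ← mul_smul, ← mem_centralizer_singleton_iff.1 (htop.symm ▸ mem_top g :
    g ∈ Subgroup.centralizer ({u} : Set G)), mul_smul, hx]

/-- The statement at the fixed points of an involution, from the induction hypothesis. -/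
theorem goal_centralizer [FaithfulSMul G Ω] (hB : Below.{u} (Nat.card G)) (h : Crit D Ω)
    (hD : closure D = ⊤) {u : G} (hu : orderOf u = 2) {x : Ω} (hx : u • x = x) :
    Goal {d : Subgroup.centralizer ({u} : Set G) | (d : G) ∈ D} (fixSub Ω u) :=
  hB _ _ _ (card_centralizer_lt h hD hu hx) (h.centralizer hu)

/-- The group induced on the points by the group generated by `D`. -/
noncomputable def induced (D : Set G) (Ω : Type u) [MulAction G Ω] : Subgroup (Equiv.Perm Ω) :=
  (closure D).map (toPermHom G Ω)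

theorem induced_eq_closure (D : Set G) : induced D Ω = closure (toPermHom G Ω '' D) :=
  MonoidHom.map_closure _ _

variable (h : Crit D Ω) (hG : Goal D Ω)
include h hG

/-- The induced group has a strongly embedded point stabiliser with trivial core. -/
theorem se_induced {a b : Ω} (hab : a ≠ b) :
    Cfsg.IsStronglyEmbedded (stabilizer (induced D Ω) a) ∧ (stabilizer (induced D Ω) a).normalCore = ⊥ := by
  have htr : ∀ x : Ω, ∃ g : induced D Ω, g • a = x := fun x => by
    obtain ⟨g, hg, hgx⟩ := h.exists_smul a x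
    exact ⟨⟨_, mem_map_of_mem _ hg⟩, hgx⟩
  refine ⟨⟨fun e => ?_, ?_, fun g hg => ?_⟩, ?_⟩
  · obtain ⟨g, hg⟩ := htr b
    exact hab ((mem_stabilizer_iff.1 (e ▸ mem_top g)).symm.trans hg)
  · obtain ⟨d, hd, hda⟩ := h.exists_at a
    refine Invol.even_of_invol_mem (t := (⟨_, mem_map_of_mem _ (subset_closure hd)⟩ : induced D Ω)) ?_
      (mem_stabilizer_iff.2 hda)
    refine Invol.order_two_of_sq (Subtype.ext (Equiv.ext fun z => ?_)) fun e => hab ?_
    · show d • d • z = z
      rw [← mul_smul, Invol.mul_self (h.invol d hd), one_smul]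
    · have he : ∀ z : Ω, d • z = z := fun z => congrArg (fun k : induced D Ω => (k : Equiv.Perm Ω) z) e
      exact h.unique d hd a b (he a) (he b)
  · rw [← Nat.not_even_iff_odd]
    intro hev
    obtain ⟨t, ht, ht2⟩ := Invol.exists_invol hev
    obtain ⟨h1, h2⟩ := mem_inf.1 ht
    rw [← stabilizer_smul_eq_stabilizer_map_conj] at h2
    obtain ⟨k, hk, hkt⟩ := mem_map.1 t.2
    have hall : ∀ z : Ω, k • z = (t : Equiv.Perm Ω) z := fun z =>
      congrArg (fun f : Equiv.Perm Ω => f z) hkt
    refine Invol.ne_one ht2 (Subtype.ext (Equiv.ext fun z => ?_))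
    rw [← hall]
    refine hG k hk (fun w => ?_) a (g • a) ((hall a).trans h1) ((hall _).trans h2)
      (fun e => hg (mem_stabilizer_iff.2 e.symm)) z
    rw [hall, hall]
    exact congrArg (fun f : induced D Ω => (f : Equiv.Perm Ω) w) (Invol.mul_self ht2)
  · rw [eq_bot_iff]
    intro k hk
    refine Subtype.ext (Equiv.ext fun z => ?_)
    obtain ⟨g, rfl⟩ := htr z
    have h1 : (g⁻¹ * k * g⁻¹⁻¹) • a = a := hk g⁻¹
    rw [inv_inv, mul_smul, mul_smul, inv_smul_eq_iff] at h1
    exact h1

omit h hG in
/-- A group isomorphic to a Bender group is one. -/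
theorem isBender_congr {K L : Type u} [Group K] [Group L] (e : K ≃* L) (hK : SEBender.IsBender K) :
    SEBender.IsBender L := by
  rcases hK with ⟨F, i1, i2, hn, ⟨f⟩⟩ | ⟨F, i1, i2, m, hm, hF, ⟨f⟩⟩ | ⟨F, i1, i2, n, hn, hF, ⟨f⟩⟩
  · exact Or.inl ⟨F, i1, i2, hn, ⟨e.symm.trans f⟩⟩
  · exact Or.inr (Or.inl ⟨F, i1, i2, m, hm, hF, ⟨e.symm.trans f⟩⟩)
  · exact Or.inr (Or.inr ⟨F, i1, i2, n, hn, hF, ⟨e.symm.trans f⟩⟩)

/-- The induced group has one involution in each centraliser and an odd normal subgroup covering it, or it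
is a Bender group with a regular normal 2-subgroup of the point stabiliser. -/
theorem induced_outcome {a b : Ω} (hab : a ≠ b) :
    (BrauerSuzuki.RankOne (induced D Ω) ∧ Cfsg.oddCore (induced D Ω) ⊔ stabilizer (induced D Ω) a = ⊤) ∨
      (SEBender.IsBender (induced D Ω) ∧ ∃ Q, SEMain.Reg (stabilizer (induced D Ω) a) Q) := by
  obtain ⟨hse, hcore⟩ := se_induced h hG hab
  by_cases hR : BrauerSuzuki.RankOne (induced D Ω)
  · exact Or.inl ⟨hR, SEMain.sup_eq_top hR hse⟩
  have hp := SEMain.exists_pair hse hR
  obtain ⟨L, hL, hodd, hB⟩ := SEMain.exists_bender SEMain.stmt hse hcore hp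
  have htop : L = ⊤ := by
    refine eq_top_iff.2 fun t _ => ?_
    have hmem : ∀ d ∈ D, ∀ hd : toPermHom G Ω d ∈ induced D Ω, (⟨_, hd⟩ : induced D Ω) ∈ L := by
      intro d hd hd'
      have h1 : orderOf (QuotientGroup.mk' L (⟨_, hd'⟩ : induced D Ω)) ∣ 2 := orderOf_dvd_of_pow_eq_one (by
        rw [← map_pow, show (⟨_, hd'⟩ : induced D Ω) ^ 2 = 1 from Subtype.ext (by
          show toPermHom G Ω d ^ 2 = 1
          rw [← map_pow, pow_two, Invol.mul_self (h.invol d hd), map_one]), map_one])
      exact (QuotientGroup.eq_one_iff _).1 (orderOf_eq_one_iff.1 (Nat.eq_one_of_dvd_coprimes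
        (Nat.coprime_two_left.2 hodd) h1 (orderOf_dvd_natCard _)))
    have key : ∀ k (hk : k ∈ closure D), (⟨toPermHom G Ω k, mem_map_of_mem _ hk⟩ : induced D Ω) ∈ L := by
      intro k hk
      induction hk using Subgroup.closure_induction with
      | mem d hd => exact hmem d hd _
      | one =>
        convert one_mem L using 1
        exact Subtype.ext (map_one _)
      | mul c e hc he ihc ihe =>
        convert mul_mem ihc ihe using 1
        exact Subtype.ext (map_mul (toPermHom G Ω) c e)
      | inv c hc ihc =>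
        convert inv_mem ihc using 1
        exact Subtype.ext (map_inv (toPermHom G Ω) c)
    obtain ⟨k, hk, hkt⟩ := mem_map.1 t.2
    rw [show t = ⟨toPermHom G Ω k, mem_map_of_mem _ hk⟩ from Subtype.ext hkt.symm]
    exact key k hk
  subst htop
  exact Or.inr ⟨isBender_congr topEquiv hB, SEMain.exists_reg SEMain.stmt hse hcore hp⟩

end Cfsg.Agent.GoodInvol
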