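import Cfsg.Agent.Lib.GoodInvol.LocalKernel
import Cfsg.Agent.Lib.GoodInvol.Outer

/-!
# The regular 2-subgroup and the torus of the group generated by the members commuting with an involution

Every field of `Local` except the statement on the orbit of two elementary subgroups, which is a hypothesis here.
-/

set_option autoImplicit false
set_option linter.style.haveILetI false
set_option linter.unusedSectionVars false

namespace Cfsg.Agent.GoodInvol

open Subgroup MulAction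

universe u

variable {G : Type u} [Group G] [Finite G] {Ω : Type u} [MulAction G Ω] [Finite Ω] [FaithfulSMul G Ω] {D : Set G}

theorem map_eq_one_of {M N : Type*} [Group M] [Group N] (f : M →* N) {m : M} (hm : m = 1) : f m = 1 := by
  rw [hm, map_one]

/-- The index of the pointwise stabiliser in a subgroup of `genC` is the order of the image. -/
theorem relIndex_fixStab {u : G} {X : Subgroup G} (hX : X ≤ genC D u) :
    (fixStab Ω u).relIndex X = Nat.card ((genHom D Ω u).comp (inclusion hX)).range := by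
  rw [← index_ker, relIndex]
  congr 1
  ext g
  rw [mem_subgroupOf, MonoidHom.mem_ker, MonoidHom.comp_apply, genHom_eq_one_iff]
  rfl

/-- For a cyclic subgroup it is the order of the image of the generator. -/
theorem relIndex_fixStab_zpowers {u : G} (c : genC D u) :
    (fixStab Ω u).relIndex (zpowers (c : G)) = orderOf (genHom D Ω u c) := by
  have hX : zpowers (c : G) ≤ genC D u := zpowers_le.2 c.2
  rw [relIndex_fixStab hX, ← Nat.card_zpowers]
  congr 1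
  have : ((genHom D Ω u).comp (inclusion hX)).range = zpowers (genHom D Ω u c) := by
    ext y
    constructor
    · rintro ⟨⟨g, hg⟩, rfl⟩
      obtain ⟨i, rfl⟩ := hg
      refine ⟨i, ?_⟩
      rw [MonoidHom.comp_apply, show inclusion hX ⟨(c : G) ^ i, i, rfl⟩ = c ^ i from Subtype.ext (by simp),
        map_zpow]
    · rintro ⟨i, rfl⟩
      refine ⟨⟨(c : G) ^ i, i, rfl⟩, ?_⟩
      rw [MonoidHom.comp_apply, show inclusion hX ⟨(c : G) ^ i, i, rfl⟩ = c ^ i from Subtype.ext (by simp),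
        map_zpow]
  rw [this]

section

variable {u : G}

-- the group, the induced group and the homomorphism between them
local notation "L" => genC D u
local notation "ℐ" => induced (cenD D u) (fixSub Ω u)
local notation "ψ" => genHom D Ω u

set_option maxHeartbeats 1600000 in
/-- The data at `a` and `x`, given the orbit statement. -/
theorem Crit.exists_local_of (h : Crit D Ω) (hB : Below.{u} (Nat.card G)) (hgen : closure D = ⊤)
    (hu : orderOf u = 2) (hbad : ¬ OneFix Ω u) {a x : Ω} (ha : u • a = a) (hx : u • x = x) (hxa : x ≠ a)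
    (T : Sylow 2 (ptC u a)) {E : Subgroup G}
    (hE : ESet D u a ((T : Subgroup (ptC u a)).map (ptC u a).subtype) E)
    (hspan : ∀ r e, BenderParams (induced (cenD D u) (fixSub Ω u)) r e → e ≠ 3 → ∀ T' E' : Subgroup G,
      T' ≤ ptC u x → ESet D u x T' E' →
      ∀ z : Ω, u • z = z → ∃ g ∈ closure ((E : Set G) ∪ (E' : Set G)), g • a = z) :
    ∃ (Q K K1 : Subgroup G) (r e : ℕ),
      Local D u a x ((T : Subgroup (ptC u a)).map (ptC u a).subtype) E Q K K1 r e := by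
  classical
  haveI : Fact (Nat.Prime 2) := ⟨Nat.prime_two⟩
  set T' := (T : Subgroup (ptC u a)).map (ptC u a).subtype with hT'
  have hTC : T' ≤ ptC u a := map_subtype_le _
  have hT2 : IsPGroup 2 T' := T.2.map _
  have hI := h.isBender_induced hB hgen hu hbad ha hE
  have hBF := h.borel_induced hB hgen hu hbad ha hE
  obtain ⟨r, ee, hP, hTF⟩ := exists_torus_facts hI
  obtain ⟨r', e', hP', hfix', hqE'⟩ := h.exists_fix_params hB hgen hu hbad ha hTC hE
  obtain ⟨rfl, rfl⟩ := hP.unique hP'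
  have hee : ee = 1 ∨ ee = 2 ∨ ee = 3 := by
    rcases hP.dvd with ⟨h1, -⟩ | ⟨h1, -⟩ | ⟨h1, -⟩ <;> omega
  have hodd_r : ee = 2 → Odd r := fun h2 => by
    rcases hP.dvd with ⟨h1, -⟩ | ⟨-, hr, -⟩ | ⟨h1, -⟩
    · omega
    · exact hr
    · omega
  obtain ⟨S, hS⟩ := h.exists_sylow_genC hB hgen hu hbad ha T
  set Pb := S.mapSurjective (genHom_surjective (D := D) (Ω := Ω) u) with hPb
  obtain ⟨hPcard, -⟩ := hP.sylow Pb
  have hTA := hTF Pb
  set aF : fixSub Ω u := ⟨a, ha⟩ with haF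
  set xF : fixSub Ω u := ⟨x, hx⟩ with hxF
  have hax : aF ≠ xF := fun e => hxa (congrArg Subtype.val e).symm
  have hCrit : Crit (cenD D u) (fixSub Ω u) := h.centralizer hu
  have hGoal : Goal (cenD D u) (fixSub Ω u) := goal_centralizer hB h hgen hu ha
  have hker := h.genC_inf_fixStab_le hB hgen hu hbad
  have hkerodd : Odd (Nat.card (kerCore Ω u)) := odd_kerCore (Ω := Ω) u
  have hker2 : ∀ g : G, g ∈ L → (∀ z : Ω, u • z = z → g • z = z) → ∀ k, orderOf g = 2 ^ k → g = 1 := by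
    intro g hg hfix k hk
    exact orderOf_eq_one_iff.1 (Nat.eq_one_of_dvd_coprimes (Nat.Coprime.pow_left k
      (Nat.coprime_two_left.2 hkerodd)) (by rw [hk]) (Subgroup.orderOf_dvd_natCard _ (hker ⟨hg, hfix⟩)))
  have hTker : ∀ g : G, g ∈ T' → g ∈ L → (∀ z : Ω, u • z = z → g • z = z) → g = 1 := by
    intro g hgT hg hfix
    obtain ⟨k, hk⟩ := IsPGroup.iff_orderOf.1 hT2 ⟨g, hgT⟩
    exact hker2 g hg hfix k (by rwa [Subgroup.orderOf_mk] at hk)
  have hTa : ∀ g ∈ T', g • a = a := fun g hg => (mem_ptC.1 (hTC hg)).2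
  -- the regular subgroup
  set Q := T' ⊓ L with hQdef
  have hSQ : ∀ g : L, g ∈ (S : Subgroup L) ↔ (g : G) ∈ Q := fun g => by
    rw [hS]; exact ⟨fun h1 => ⟨h1, g.2⟩, fun h1 => h1.1⟩
  have hQPb : ∀ y (hy : y ∈ Q), ψ ⟨y, hy.2⟩ ∈ (Pb : Subgroup ℐ) := fun y hy =>
    mem_map_of_mem ψ ((hSQ ⟨y, hy.2⟩).2 hy)
  have hPbQ : ∀ p ∈ (Pb : Subgroup ℐ), ∃ y, ∃ hy : y ∈ Q, ψ ⟨y, hy.2⟩ = p := by
    rintro p ⟨g, hg, rfl⟩
    exact ⟨g, (hSQ g).1 hg, rfl⟩
  have hQinj : ∀ y ∈ Q, ∀ z ∈ Q, (∀ p : Ω, u • p = p → y • p = z • p) → y = z := fun y hy z hz he =>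
    inv_mul_eq_one.1 (hTker _ (T'.mul_mem (T'.inv_mem hy.1) hz.1) ((genC D u).mul_mem ((genC D u).inv_mem hy.2) hz.2)
      fun p hp => by rw [mul_smul, ← he p hp, inv_smul_smul])
  have hQcard : Nat.card Q = 2 ^ (ee * r) := by
    rw [← hPcard]
    refine Nat.card_eq_of_bijective (fun y : Q => (⟨ψ ⟨y, y.2.2⟩, hQPb y y.2⟩ : (Pb : Subgroup ℐ)))
      ⟨fun y z e => Subtype.ext (hQinj y y.2 z z.2 (genHom_eq_iff.1 (congrArg Subtype.val e))), fun p => ?_⟩
    obtain ⟨y, hy, e⟩ := hPbQ p p.2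
    exact ⟨⟨y, hy⟩, Subtype.ext e⟩
  have hEL : ∀ z ∈ E, z ∈ L := fun z hz => by
    by_cases hz1 : z = 1
    · rw [hz1]; exact one_mem _
    · exact mem_genC_of_cmem ⟨(((hE.mem z).1 hz).resolve_left hz1).1, (mem_ptC.1 (hTC (hE.le hz))).1⟩
  have hEQ : E ≤ Q := fun z hz => ⟨hE.le hz, hEL z hz⟩
  have hmemE : ∀ y ∈ Q, (∀ p : Ω, u • p = p → y • y • p = p) → y ∈ E := fun y hy hy2 => by
    obtain ⟨z, hz, hzz⟩ := h.exists_eset_act hB hgen hu hbad ha hTC hE hy.2 (hTa y hy.1) hy2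
    rwa [hQinj y hy z (hEQ hz) fun p hp => (hzz p hp).symm]
  have hsq : ∀ y ∈ Q, y * y ∈ E := fun y hy => by
    refine hmemE _ (mul_mem hy hy) fun p hp => ?_
    have h1 := hTA.sq _ (hQPb y hy)
    rw [← map_mul, ← map_mul] at h1
    rw [← mul_smul]
    exact genHom_eq_one_iff.1 h1 p hp
  have hcomm : ∀ y ∈ Q, ∀ z ∈ Q, y * z * y⁻¹ * z⁻¹ ∈ E := fun y hy z hz => by
    refine hmemE _ (mul_mem (mul_mem (mul_mem hy hz) (inv_mem hy)) (inv_mem hz)) fun p hp => ?_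
    have h1 := hTA.comm2 _ (hQPb y hy) _ (hQPb z hz)
    simp only [← map_inv, ← map_mul] at h1
    rw [← mul_smul]
    exact genHom_eq_one_iff.1 h1 p hp
  have hmem1 : ∀ y ∈ Q, y * y = 1 → y ∈ E := fun y hy hy1 => hmemE y hy fun p _ => by
    rw [← mul_smul, hy1, one_smul]
  have hcen : ∀ z ∈ E, ∀ y ∈ Q, Commute z y := fun z hz y hy => by
    have hc := hBF.central Pb (ψ ⟨z, hEL z hz⟩) (hQPb z (hEQ hz))
      (by rw [← map_mul]; exact (map_eq_one_of ψ (Subtype.ext (hE.sq z hz))))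
      (ψ ⟨y, hy.2⟩) (hQPb y hy)
    have h1 : ψ (⟨z, hEL z hz⟩ * ⟨y, hy.2⟩) = ψ (⟨y, hy.2⟩ * ⟨z, hEL z hz⟩) := by
      rw [map_mul, map_mul]; exact hc.eq
    exact hQinj _ (mul_mem (hEQ hz) hy) _ (mul_mem hy (hEQ hz)) (genHom_eq_iff.1 h1)
  -- no element of `L` fixes two points and acts as an involution
  have hinv : ∀ g : G, g ∈ L → g • a = a → g • x = x → (∀ p : Ω, u • p = p → g • g • p = p) →
      ∀ p : Ω, u • p = p → g • p = p := by
    intro g hg hga hgx hg2 p hp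
    obtain ⟨z, hz, hzz⟩ := h.exists_eset_act hB hgen hu hbad ha hTC hE hg hga hg2
    by_cases hz1 : z = 1
    · rw [← hzz p hp, hz1, one_smul]
    · exfalso
      exact hxa (h.unique z (((hE.mem z).1 hz).resolve_left hz1).1 x a ((hzz x hx).trans hgx)
        ((hzz a ha).trans hga))
  have hfixpow : ∀ g : G, g • a = a → ∀ n : ℕ, (g ^ n) • a = a := fun g hga n =>
    (stabilizer G a).pow_mem hga n
  -- a 2-element fixing two points acts trivially
  have htwo : ∀ (k : ℕ) (g : G), g ∈ L → g • a = a → g • x = x → (∀ p : Ω, u • p = p → (g ^ 2 ^ k) • p = p) →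
      ∀ p : Ω, u • p = p → g • p = p := by
    intro k
    induction k with
    | zero => intro g _ _ _ hg p hp; simpa using hg p hp
    | succ k ih =>
      intro g hg hga hgx hgk
      refine ih g hg hga hgx (hinv _ (pow_mem hg _) (hfixpow g hga _) ((stabilizer G x).pow_mem hgx _) ?_)
      intro p hp
      rw [← mul_smul, ← pow_add, show 2 ^ k + 2 ^ k = 2 ^ (k + 1) by ring]
      exact hgk p hp
  have hoddfix : ∀ g : G, g ∈ L → g • a = a → g • x = x → Odd (orderOf g) := by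
    intro g hg hga hgx
    obtain ⟨k, m, hm, hk⟩ := Nat.exists_eq_two_pow_mul_odd (orderOf_pos g).ne'
    have h1 : g ^ m = 1 := by
      refine hker2 _ (pow_mem hg m) (htwo k _ (pow_mem hg m) (hfixpow g hga m) ((stabilizer G x).pow_mem hgx m)
        fun p _ => by rw [← pow_mul, mul_comm, ← hk, pow_orderOf_eq_one, one_smul]) k ?_
      rw [orderOf_pow' _ hm.pos.ne', hk, Nat.gcd_eq_right (dvd_mul_left _ _), Nat.mul_div_cancel _ hm.pos]
    exact hm.of_dvd_nat (orderOf_dvd_of_pow_eq_one h1)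
  have hQfix : ∀ y ∈ Q, y • x = x → y = 1 := fun y hy hyx => by
    obtain ⟨k, hk⟩ := IsPGroup.iff_orderOf.1 hT2 ⟨y, hy.1⟩
    rw [Subgroup.orderOf_mk] at hk
    exact hTker y hy.1 hy.2 (htwo k y hy.2 (hTa y hy.1) hyx fun p _ => by rw [← hk, pow_orderOf_eq_one, one_smul])
  have hQF : ∀ y ∈ Q, ∀ p : Ω, u • p = p → u • y • p = y • p := fun y hy p hp => by
    rw [← mul_smul, ← (commute_of_genC hy.2).eq, mul_smul, hp]
  have hreg : ∀ z : Ω, u • z = z → z ≠ a → ∃! y, y ∈ Q ∧ y • x = z := by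
    let f : Q → (fixSet Ω u \ {a} : Set Ω) := fun y => ⟨(y : G) • x, hQF y y.2 x hx, fun e =>
      hxa (MulAction.injective (y : G) ((show (y : G) • x = a from e).trans (hTa y y.2.1).symm))⟩
    have hf : Function.Injective f := fun y z e => by
      have h1 : (y : G) • x = (z : G) • x := congrArg Subtype.val e
      refine Subtype.ext (inv_mul_eq_one.1 (hQfix _ (mul_mem (inv_mem y.2) z.2) ?_))
      rw [mul_smul, ← h1, inv_smul_smul]
    have hfb : Function.Bijective f := by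
      rw [Nat.bijective_iff_injective_and_card]
      refine ⟨hf, ?_⟩
      rw [hQcard, Nat.card_coe_set_eq, Set.ncard_sdiff_singleton_of_mem (show a ∈ fixSet Ω u from ha), hfix',
        Nat.add_sub_cancel]
    intro z hz hza
    obtain ⟨y, hy⟩ := hfb.2 ⟨z, hz, hza⟩
    refine ⟨y, ⟨y.2, congrArg Subtype.val hy⟩, fun y' hy' => ?_⟩
    exact congrArg Subtype.val (hf (a₁ := ⟨y', hy'.1⟩) (a₂ := y)
      (Subtype.ext (hy'.2.trans (congrArg Subtype.val hy).symm)))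
  have hexQ : ∀ g : G, Commute g u → g • a = a → ∃ y ∈ Q, y • x = g • x := fun g hgu hga => by
    obtain ⟨y, hy, -⟩ := hreg (g • x) (by rw [← mul_smul, ← hgu.eq, mul_smul, hx]) fun e =>
      hxa (MulAction.injective g (e.trans hga.symm))
    exact ⟨y, hy⟩
  -- the stabiliser normalises the Sylow subgroup
  set H := stabilizer ℐ aF with hH
  have hψa : ∀ g : L, ψ g ∈ H ↔ (g : G) • a = a := fun g =>
    ⟨fun e => congrArg Subtype.val (show (genAct D Ω u g) aF = aF from e),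
      fun e => show (genAct D Ω u g) aF = aF from Subtype.ext e⟩
  have hPH : (Pb : Subgroup ℐ) ≤ H := fun p hp => by
    obtain ⟨y, hy, rfl⟩ := hPbQ p hp
    exact (hψa _).2 (hTa y hy.1)
  have hnorm : H ≤ normalizer ((Pb : Subgroup ℐ) : Set ℐ) := by
    obtain ⟨hse, hcore⟩ := se_induced hCrit hGoal hax
    have hR : ¬ BrauerSuzuki.RankOne ℐ := by
      intro hR
      obtain ⟨d, hd, c, hc, hd1, hc1, hne⟩ := hE.two
      have ho : ∀ (z : G) (hz : z ∈ E) (hz1 : z ≠ 1), orderOf (ψ ⟨z, hEL z hz⟩) = 2 :=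
        fun z hz hz1 => Invol.order_two_of_sq
          (by rw [← map_mul]; exact map_eq_one_of ψ (Subtype.ext (hE.sq z hz)))
          fun e1 => hz1 (hE.inj z hz 1 (one_mem _) fun y hy => by
            rw [one_smul]; exact genHom_eq_one_iff.1 e1 y hy)
      refine hne (hE.inj d hd c hc (genHom_eq_iff.1 (hR _ _ (ho d hd hd1) (ho c hc hc1) ?_)))
      exact Commute.map (show Commute (⟨d, hEL d hd⟩ : L) ⟨c, hEL c hc⟩ from Subtype.ext (hE.comm d hd c hc).eq) ψ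
    obtain ⟨Q0, hQ0⟩ := SEMain.exists_reg SEMain.stmt hse hcore (SEMain.exists_pair hse hR)
    have hn : H ≤ Subgroup.normalizer (Q0 : Set ℐ) := (normal_subgroupOf_iff_le_normalizer hQ0.le).1 hQ0.norm
    have h2 := IsPGroup.to_sup_of_normal_right' Pb.2 hQ0.two (hPH.trans hn)
    have h3 : Q0 ≤ (Pb : Subgroup ℐ) := (Pb.3 h2 le_sup_left) ▸ le_sup_right
    obtain ⟨S0, hS0⟩ := hQ0.exists_sylow hse
    have h4 : (Pb : Subgroup ℐ) = Q0 := hS0 ▸ S0.3 Pb.2 (hS0 ▸ h3)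
    rwa [h4]
  have hnormH : normalizer ((Pb : Subgroup ℐ) : Set ℐ) ≤ H := by
    intro c hc
    obtain ⟨g, rfl⟩ := genHom_surjective (D := D) (Ω := Ω) u c
    by_contra hga
    rw [hψa] at hga
    obtain ⟨z, hz, -, -, hz1, -, -⟩ := hE.two
    obtain ⟨y, hy, e⟩ := hPbQ _ ((mem_normalizer_iff.1 (inv_mem hc) (ψ ⟨z, hEL z hz⟩)).1 (hQPb z (hEQ hz)))
    rw [inv_inv, ← map_inv, ← map_mul, ← map_mul] at e
    have hza : z • (g : G) • a = (g : G) • a := by
      have h1 := genHom_eq_iff.1 e a ha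
      rw [hTa y hy.1] at h1
      have h2 : a = (((g : G))⁻¹ * z * (g : G)) • a := h1
      conv_rhs => rw [h2]
      rw [mul_smul, mul_smul, smul_inv_smul]
    exact hga (h.unique z (((hE.mem z).1 hz).resolve_left hz1).1 _ _ hza (hTa z (hE.le hz)))
  -- a generator of the two point stabiliser
  obtain ⟨c0, hc0, hgen0⟩ := hTA.cyclic
  obtain ⟨g0, rfl⟩ := genHom_surjective (D := D) (Ω := Ω) u c0
  have hg0a : (g0 : G) • a = a := (hψa g0).1 (hnormH hc0)
  obtain ⟨y0, hy0, hy0x⟩ := hexQ g0 (commute_of_genC g0.2) hg0a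
  set g1 : L := ⟨y0, hy0.2⟩⁻¹ * g0 with hg1
  have hg1a : (g1 : G) • a = a := by
    show (y0⁻¹ * (g0 : G)) • a = a
    rw [mul_smul, hg0a, inv_smul_eq_iff, hTa y0 hy0.1]
  have hg1x : (g1 : G) • x = x := by
    show (y0⁻¹ * (g0 : G)) • x = x
    rw [mul_smul, ← hy0x, inv_smul_smul]
  have hg1N : ψ g1 ∈ normalizer ((Pb : Subgroup ℐ) : Set ℐ) := hnorm ((hψa g1).2 hg1a)
  have hgen1 : ∀ g : L, (g : G) • a = a → (g : G) • x = x → ∃ i : ℕ, ψ g = ψ g1 ^ i := by
    intro g hga hgx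
    obtain ⟨i, hi⟩ := hgen0 (ψ g) (hnorm ((hψa g).2 hga))
    refine ⟨i, ?_⟩
    have hii : ∀ i : ℕ, (ψ g1 ^ i)⁻¹ * ψ g0 ^ i ∈ (Pb : Subgroup ℐ) := by
      intro i
      induction i with
      | zero => simp
      | succ i ih =>
        rw [show (ψ g1 ^ (i + 1))⁻¹ * ψ g0 ^ (i + 1) =
          (ψ g1)⁻¹ * ((ψ g1 ^ i)⁻¹ * ψ g0 ^ i) * (ψ g1)⁻¹⁻¹ * ((ψ g1)⁻¹ * ψ g0) by rw [pow_succ, pow_succ]; group]
        refine mul_mem ((mem_normalizer_iff.1 (inv_mem hg1N) _).1 ih) ?_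
        have e : (ψ g1)⁻¹ * ψ g0 = (ψ g0)⁻¹ * ψ ⟨y0, hy0.2⟩ * (ψ g0)⁻¹⁻¹ := by
          rw [hg1, map_mul, map_inv]; group
        rw [e]
        exact (mem_normalizer_iff.1 (inv_mem hc0) _).1 (hQPb y0 hy0)
    have h1 : (ψ g1 ^ i)⁻¹ * ψ g ∈ (Pb : Subgroup ℐ) := by
      have := mul_mem (hii i) hi
      rwa [show (ψ g1 ^ i)⁻¹ * ψ g0 ^ i * ((ψ g0 ^ i)⁻¹ * ψ g) = (ψ g1 ^ i)⁻¹ * ψ g by group] at this
    obtain ⟨y, hy, e⟩ := hPbQ _ h1
    rw [← map_pow, ← map_inv, ← map_mul] at e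
    have hyx : y • x = x := (genHom_eq_iff.1 e x hx).trans (by
      show (((g1 : G) ^ i)⁻¹ * (g : G)) • x = x
      rw [mul_smul, hgx, inv_smul_eq_iff]
      exact ((stabilizer G x).pow_mem hg1x i).symm)
    rw [show (⟨y, hy.2⟩ : L) = 1 from Subtype.ext (hQfix y hy hyx), map_one, map_mul, map_inv, map_pow] at e
    exact (inv_mul_eq_one.1 e.symm).symm
  -- lifted to an element normalising `Q`
  set M1 : Subgroup L := (Pb : Subgroup ℐ).comap ψ with hM1
  have hSM : (S : Subgroup L) ≤ M1 := fun g hg => ⟨g, hg, rfl⟩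
  have hgSM : ((g1 • S : Sylow 2 L) : Subgroup L) ≤ M1 := by
    intro g hg
    rw [Sylow.coe_subgroup_smul, Subgroup.mem_pointwise_smul_iff_inv_smul_mem, ← map_inv, MulAut.smul_def,
      MulAut.conj_apply, inv_inv] at hg
    have h1 := hSM hg
    show ψ g ∈ (Pb : Subgroup ℐ)
    have h2 := (mem_normalizer_iff.1 hg1N _).1 h1
    rw [← map_inv, ← map_mul, ← map_mul] at h2
    rwa [show g1 * (g1⁻¹ * g * g1) * g1⁻¹ = g by group] at h2
  obtain ⟨m, hm⟩ := MulAction.exists_smul_eq M1 ((g1 • S).subtype hgSM) (S.subtype hSM)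
  have hmS : ∀ g : L, g ∈ (S : Subgroup L) ↔ ((m : L) * g1) * g * ((m : L) * g1)⁻¹ ∈ (S : Subgroup L) := by
    have hm' : ∀ k : M1, k ∈ ((S.subtype hSM : Sylow 2 M1) : Subgroup M1) ↔
        m⁻¹ * k * m ∈ (((g1 • S).subtype hgSM : Sylow 2 M1) : Subgroup M1) := fun k => by
      rw [← hm, Sylow.coe_subgroup_smul, Subgroup.mem_pointwise_smul_iff_inv_smul_mem, ← map_inv, MulAut.smul_def,
        MulAut.conj_apply, inv_inv]
    intro g
    constructor
    · intro hg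
      have hgg : g1 * g * g1⁻¹ ∈ ((g1 • S : Sylow 2 L) : Subgroup L) := by
        rw [Sylow.coe_subgroup_smul, Subgroup.mem_pointwise_smul_iff_inv_smul_mem, ← map_inv, MulAut.smul_def,
          MulAut.conj_apply, inv_inv, show g1⁻¹ * (g1 * g * g1⁻¹) * g1 = g by group]
        exact hg
      have hkM : g1 * g * g1⁻¹ ∈ M1 := hgSM hgg
      have h1 := (hm' (m * ⟨_, hkM⟩ * m⁻¹)).2 (by
        rw [show m⁻¹ * (m * ⟨g1 * g * g1⁻¹, hkM⟩ * m⁻¹) * m = ⟨g1 * g * g1⁻¹, hkM⟩ by group]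
        exact hgg)
      rw [show (m : L) * g1 * g * ((m : L) * g1)⁻¹ = ((m * ⟨g1 * g * g1⁻¹, hkM⟩ * m⁻¹ : M1) : L) by
        simp only [Subgroup.coe_mul, Subgroup.coe_inv]; group]
      exact h1
    · intro hg
      have h1 := (hm' ⟨_, hSM hg⟩).1 hg
      have h2 : ((g1 • S : Sylow 2 L) : Subgroup L) = (S : Subgroup L).map (MulAut.conj g1).toMonoidHom := rfl
      have h3 : ((m⁻¹ * ⟨_, hSM hg⟩ * m : M1) : L) ∈ ((g1 • S : Sylow 2 L) : Subgroup L) := h1
      rw [Sylow.coe_subgroup_smul, Subgroup.mem_pointwise_smul_iff_inv_smul_mem, ← map_inv, MulAut.smul_def,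
        MulAut.conj_apply, inv_inv] at h3
      simpa [mul_assoc] using h3
  obtain ⟨y1, hy1, hy1e⟩ := hPbQ (ψ (m : L)) m.2
  set δ : L := ⟨y1, hy1.2⟩⁻¹ * (m : L) with hδ
  have hδ1 : ψ δ = 1 := by rw [hδ, map_mul, map_inv, hy1e, inv_mul_cancel]
  set g2 : L := δ * g1 with hg2
  have hg2Q : ∀ y : G, (g2 : G) * y * (g2 : G)⁻¹ ∈ Q ↔ y ∈ Q := by
    have key : ∀ g : L, g ∈ (S : Subgroup L) ↔ g2 * g * g2⁻¹ ∈ (S : Subgroup L) := fun g => by
      have hyS : (⟨y1, hy1.2⟩ : L) ∈ (S : Subgroup L) := (hSQ _).2 hy1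
      rw [hmS g, show g2 * g * g2⁻¹ = (⟨y1, hy1.2⟩ : L)⁻¹ * ((m : L) * g1 * g * ((m : L) * g1)⁻¹) * ⟨y1, hy1.2⟩ by
        rw [hg2, hδ]; group]
      rw [Subgroup.mul_mem_cancel_right _ hyS, Subgroup.mul_mem_cancel_left _ (inv_mem hyS)]
    intro y
    constructor
    · intro hy
      have hyL : y ∈ L := by
        have := (genC D u).mul_mem ((genC D u).mul_mem ((genC D u).inv_mem g2.2) hy.2) g2.2
        rwa [show (g2 : G)⁻¹ * ((g2 : G) * y * (g2 : G)⁻¹) * (g2 : G) = y by group] at this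
      exact (hSQ ⟨y, hyL⟩).1 ((key _).2 ((hSQ (g2 * ⟨y, hyL⟩ * g2⁻¹)).2 hy))
    · intro hy
      exact (hSQ (g2 * ⟨y, hy.2⟩ * g2⁻¹)).1 ((key _).1 ((hSQ ⟨y, hy.2⟩).2 hy))
  have hg2ψ : ψ g2 = ψ g1 := by rw [hg2, map_mul, hδ1, one_mul]
  -- centralising the pointwise part
  set W := wker Ω u T' with hW
  have hWQ : ∀ w ∈ W, ∀ y ∈ Q, Commute w y := by
    intro w hw y hy
    have hwu := (mem_ptC.1 (hTC hw.1)).1
    have h1 : w * y * w⁻¹ * y⁻¹ = 1 := hTker _
      (T'.mul_mem (T'.mul_mem (T'.mul_mem hw.1 hy.1) (T'.inv_mem hw.1)) (T'.inv_mem hy.1))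
      ((genC D u).mul_mem (h.conj_genC hwu hy.2) ((genC D u).inv_mem hy.2)) fun p hp => ?_
    · exact mul_inv_eq_iff_eq_mul.1 (mul_inv_eq_one.1 h1)
    have hyp := hQF _ (inv_mem hy) p hp
    rw [mul_smul, mul_smul, mul_smul, inv_smul_eq_iff.2 (hw.2 _ hyp).symm, smul_inv_smul, hw.2 p hp]
  set A : Set G := {c | c ∈ L ∧ (∀ p : Ω, u • p = p → c • p = (g2 : G) • p) ∧ ∀ y, c * y * c⁻¹ ∈ Q ↔ y ∈ Q}
    with hA
  have hAodd : Odd A.ncard := by
    set K0 : Subgroup G := (L ⊓ fixStab Ω u) ⊓ normalizer (Q : Set G) with hK0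
    have e : A = (fun c => (g2 : G) * c) '' (K0 : Set G) := by
      ext c
      constructor
      · rintro ⟨hcL, hcF, hcQ⟩
        refine ⟨(g2 : G)⁻¹ * c, ⟨⟨(genC D u).mul_mem ((genC D u).inv_mem g2.2) hcL, fun p hp => by
          rw [mul_smul, hcF p hp, inv_smul_smul]⟩, mem_normalizer_iff.2 fun y => ?_⟩, mul_inv_cancel_left _ c⟩
        rw [show (g2 : G)⁻¹ * c * y * ((g2 : G)⁻¹ * c)⁻¹ = (g2 : G)⁻¹ * (c * y * c⁻¹) * (g2 : G) by group,
          ← hg2Q ((g2 : G)⁻¹ * (c * y * c⁻¹) * (g2 : G)),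
          show (g2 : G) * ((g2 : G)⁻¹ * (c * y * c⁻¹) * (g2 : G)) * (g2 : G)⁻¹ = c * y * c⁻¹ by group, hcQ]
      · rintro ⟨k, ⟨⟨hkL, hkF⟩, hkQ⟩, rfl⟩
        refine ⟨(genC D u).mul_mem g2.2 hkL, fun p hp => by rw [mul_smul, hkF p hp], fun y => ?_⟩
        rw [show (g2 : G) * k * y * ((g2 : G) * k)⁻¹ = (g2 : G) * (k * y * k⁻¹) * (g2 : G)⁻¹ by group, hg2Q]
        exact (mem_normalizer_iff.1 hkQ y).symm
    rw [e, Set.ncard_image_of_injective _ (mul_right_injective _), ← Nat.card_coe_set_eq]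
    exact hkerodd.of_dvd_nat (card_dvd_of_le (inf_le_left.trans hker))
  obtain ⟨k, hkA, hkW⟩ : ∃ k ∈ A, ∀ w ∈ W, Commute k w := by
    have hmap : ∀ w : W, ∀ c ∈ A, (w : G) * c * (w : G)⁻¹ ∈ A := by
      intro w c hc
      have hwu := (mem_ptC.1 (hTC w.2.1)).1
      refine ⟨h.conj_genC hwu hc.1, fun p hp => ?_, fun y => ?_⟩
      · rw [mul_smul, mul_smul, inv_smul_eq_iff.2 (w.2.2 p hp).symm, w.2.2 _ (by
          rw [← mul_smul, ← (commute_of_genC hc.1).eq, mul_smul, hp]), hc.2.1 p hp]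
      · have hwy : ∀ y, (w : G) * y * (w : G)⁻¹ ∈ Q ↔ y ∈ Q := fun y => by
          constructor
          · intro hy
            have := (hWQ _ (inv_mem w.2) _ hy).eq
            rwa [show y = (w : G)⁻¹ * ((w : G) * y * (w : G)⁻¹) * (w : G) by group, this,
              show (w : G) * y * (w : G)⁻¹ * (w : G)⁻¹ * (w : G) = (w : G) * y * (w : G)⁻¹ by group]
          · intro hy
            rw [(hWQ _ w.2 _ hy).eq, mul_inv_cancel_right]
            exact hy
        rw [show (w : G) * c * (w : G)⁻¹ * y * ((w : G) * c * (w : G)⁻¹)⁻¹ =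
          (w : G) * (c * ((w : G)⁻¹ * y * (w : G)) * c⁻¹) * (w : G)⁻¹ by group, hwy, hc.2.2,
          ← hwy ((w : G)⁻¹ * y * (w : G)), show (w : G) * ((w : G)⁻¹ * y * (w : G)) * (w : G)⁻¹ = y by group]
    letI : MulAction W A :=
      { smul := fun w c => ⟨(w : G) * c * (w : G)⁻¹, hmap w c c.2⟩
        one_smul := fun c => Subtype.ext (show ((1 : W) : G) * c * ((1 : W) : G)⁻¹ = c by simp)
        mul_smul := fun v w c => Subtype.ext (show ((v * w : W) : G) * c * ((v * w : W) : G)⁻¹ =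
          (v : G) * ((w : G) * c * (w : G)⁻¹) * (v : G)⁻¹ by simp [mul_assoc]) }
    obtain ⟨c, hc⟩ := (hT2.to_le (show W ≤ T' from inf_le_left)).nonempty_fixed_point_of_prime_not_dvd_card A (by
      rw [Nat.card_coe_set_eq]
      exact fun hd => Nat.not_even_iff_odd.2 hAodd (even_iff_two_dvd.2 hd))
    exact ⟨c, c.2, fun w hw => (mul_inv_eq_iff_eq_mul.1 (congrArg Subtype.val (hc ⟨w, hw⟩))).symm⟩
  obtain ⟨hkL, hkF, hkQ⟩ := hkA
  set kL : L := ⟨k, hkL⟩ with hkLdef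
  have hkψ : ψ kL = ψ g1 := (genHom_eq_iff.2 hkF).trans hg2ψ
  have hka : k • a = a := (genHom_eq_iff.1 hkψ a ha).trans hg1a
  have hkx : k • x = x := (genHom_eq_iff.1 hkψ x hx).trans hg1x
  have hgen2 : ∀ g : L, (g : G) • a = a → (g : G) • x = x → ∃ i : ℕ, ψ g = ψ kL ^ i := fun g h1 h2 => by
    obtain ⟨i, hi⟩ := hgen1 g h1 h2
    exact ⟨i, by rw [hi, hkψ]⟩
  have hkodd : Odd (orderOf k) := hoddfix k hkL hka hkx
  have hkZ : ∀ c ∈ zpowers k, c ∈ L ∧ c • a = a ∧ c • x = x := fun c hc =>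
    ⟨(zpowers_le.2 hkL) hc, (zpowers_le.2 (mem_stabilizer_iff.2 hka) : zpowers k ≤ stabilizer G a) hc,
      (zpowers_le.2 (mem_stabilizer_iff.2 hkx) : zpowers k ≤ stabilizer G x) hc⟩
  have hZQ : ∀ c ∈ zpowers k, ∀ y, c * y * c⁻¹ ∈ Q ↔ y ∈ Q := fun c hc y => by
    have : zpowers k ≤ normalizer (Q : Set G) := zpowers_le.2 (mem_normalizer_iff.2 fun y => (hkQ y).symm)
    exact (mem_normalizer_iff.1 (this hc) y).symm
  have hZE : ∀ c ∈ zpowers k, ∀ y, c * y * c⁻¹ ∈ E ↔ y ∈ E := fun c hc y => by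
    have key : ∀ c ∈ zpowers k, ∀ y ∈ E, c * y * c⁻¹ ∈ E := fun c hc y hy =>
      hmem1 _ ((hZQ c hc y).2 (hEQ hy)) (by
        rw [show c * y * c⁻¹ * (c * y * c⁻¹) = c * (y * y) * c⁻¹ by group, hE.sq y hy]; group)
    refine ⟨fun hy => ?_, key c hc y⟩
    have := key c⁻¹ (inv_mem hc) _ hy
    rwa [inv_inv, show c⁻¹ * (c * y * c⁻¹) * c = y by group] at this
  have hZW : ∀ c ∈ zpowers k, ∀ w ∈ W, Commute c w := fun c hc w hw => by
    obtain ⟨i, rfl⟩ := hc
    exact (hkW w hw).zpow_left i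
  -- fixed point freeness
  have hZpf : ∀ (c : G) (hc : c ∈ zpowers k), ∀ z ∈ E, z ≠ 1 → Commute c z →
      (ee = 3 → ψ ⟨c, (hkZ c hc).1⟩ ^ (2 ^ r - 1) = 1) → c ∈ kerCore Ω u := by
    intro c hc z hz hz1 hcz he
    obtain ⟨hcL, hca, hcx⟩ := hkZ c hc
    have h1 : ψ ⟨c, hcL⟩ ∈ (Pb : Subgroup ℐ) := hTA.fpf _ (hnorm ((hψa ⟨c, hcL⟩).2 hca)) (ψ ⟨z, hEL z hz⟩)
      (hQPb z (hEQ hz)) (fun e1 => hz1 (hE.inj z hz 1 (one_mem _) fun y hy => by
        rw [one_smul]; exact genHom_eq_one_iff.1 e1 y hy))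
      (by rw [← map_mul]; exact map_eq_one_of ψ (Subtype.ext (hE.sq z hz)))
      (Commute.map (show Commute (⟨c, hcL⟩ : L) ⟨z, hEL z hz⟩ from Subtype.ext hcz.eq) ψ)
      fun h3 => by rw [he h3]; exact one_mem _
    obtain ⟨y, hy, e⟩ := hPbQ _ h1
    have h2 := genHom_eq_iff.1 e
    have hy1 := hQfix y hy ((h2 x hx).trans hcx)
    exact hker ⟨hcL, fun p hp => by rw [← h2 p hp]; show y • p = p; rw [hy1, one_smul]⟩
  have hZpfQ : ∀ c ∈ zpowers k, ∀ y ∈ Q, y ∉ E → c * y * c⁻¹ * y⁻¹ ∈ E → c ∈ kerCore Ω u := by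
    intro c hc y hy hyE hcy
    obtain ⟨hcL, hca, hcx⟩ := hkZ c hc
    have h1 : ψ ⟨c, hcL⟩ ∈ (Pb : Subgroup ℐ) := hTA.fpfQ _ (hnorm ((hψa ⟨c, hcL⟩).2 hca)) (ψ ⟨y, hy.2⟩)
      (hQPb y hy) (fun e1 => hyE (hmemE y hy fun p hp => by
        rw [← map_mul] at e1
        rw [← mul_smul]; exact genHom_eq_one_iff.1 e1 p hp))
      (by
        rw [← map_inv, ← map_inv, ← map_mul, ← map_mul, ← map_mul, ← map_mul]
        exact map_eq_one_of ψ (Subtype.ext (hE.sq _ hcy)))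
    obtain ⟨y', hy', e⟩ := hPbQ _ h1
    have h2 := genHom_eq_iff.1 e
    have hy1 := hQfix y' hy' ((h2 x hx).trans hcx)
    exact hker ⟨hcL, fun p hp => by rw [← h2 p hp]; show y' • p = p; rw [hy1, one_smul]⟩
  -- transitivity
  have hkerE : ∀ (c : G), c ∈ L → (∀ z, c * z * c⁻¹ ∈ E ↔ z ∈ E) → (∀ p : Ω, u • p = p → c • p = p) →
      ∀ z ∈ E, Commute c z := fun c hcL hcE hfix z hz => by
    refine mul_inv_eq_iff_eq_mul.1 (hE.inj _ ((hcE z).2 hz) z hz fun p hp => ?_)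
    have h1 : u • z • p = z • p := hQF z (hEQ hz) p hp
    rw [mul_smul, mul_smul, inv_smul_eq_iff.2 (hfix p hp).symm, hfix _ h1]
  have htrans : ∀ z ∈ E, ∀ z' ∈ E, z ≠ 1 → z' ≠ 1 → ∃ i : ℕ, k ^ i * z * (k ^ i)⁻¹ = z' := by
    intro z hz z' hz' hz1 hz'1
    obtain ⟨hse, -⟩ := se_induced hCrit hGoal hax
    have ho : ∀ z (hz : z ∈ E), z ≠ 1 → orderOf (ψ ⟨z, hEL z hz⟩) = 2 := fun z hz hz1 =>
      Invol.order_two_of_sq (by rw [← map_mul]; exact map_eq_one_of ψ (Subtype.ext (hE.sq z hz)))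
        fun e1 => hz1 (hE.inj z hz 1 (one_mem _) fun y hy => by rw [one_smul]; exact genHom_eq_one_iff.1 e1 y hy)
    obtain ⟨c, hc⟩ := isConj_iff.1 (Invol.se_isConj hse (ho z hz hz1) (ho z' hz' hz'1))
    obtain ⟨g, rfl⟩ := genHom_surjective (D := D) (Ω := Ω) u c
    rw [← map_inv, ← map_mul, ← map_mul] at hc
    have hga : (g : G) • a = a := by
      refine h.unique z' (((hE.mem z').1 hz').resolve_left hz'1).1 _ _ ?_ (hTa z' (hE.le hz'))
      have h1 := genHom_eq_iff.1 hc ((g : G) • a) (by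
        rw [← mul_smul, ← (commute_of_genC g.2).eq, mul_smul, ha])
      change ((g : G) * z * (g : G)⁻¹) • (g : G) • a = z' • (g : G) • a at h1
      rw [← h1, mul_smul, mul_smul, inv_smul_smul, hTa z (hE.le hz)]
    obtain ⟨y, hy, hyx⟩ := hexQ g (commute_of_genC g.2) hga
    set g' : L := ⟨y, hy.2⟩⁻¹ * g with hg'
    obtain ⟨i, hi⟩ := hgen2 g' (by
      show (y⁻¹ * (g : G)) • a = a
      rw [mul_smul, hga, inv_smul_eq_iff, hTa y hy.1]) (by
      show (y⁻¹ * (g : G)) • x = x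
      rw [mul_smul, ← hyx, inv_smul_smul])
    refine ⟨i, hE.inj _ ((hZE _ (pow_mem (mem_zpowers k) i) z).2 hz) z' hz' ?_⟩
    refine (genHom_eq_iff (Ω := Ω) (g := kL ^ i * ⟨z, hEL z hz⟩ * (kL ^ i)⁻¹) (g' := ⟨z', hEL z' hz'⟩)).1 ?_
    have e1 : ψ g = ψ ⟨y, hy.2⟩ * ψ kL ^ i := by rw [← hi, hg', map_mul, map_inv, mul_inv_cancel_left]
    rw [← hc, map_mul, map_mul, map_inv, map_pow]
    simp only [map_mul, map_inv, e1]
    have e2 : Commute (ψ ⟨y, hy.2⟩) (ψ kL ^ i * ψ ⟨z, hEL z hz⟩ * (ψ kL ^ i)⁻¹) := by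
      rw [← map_pow, ← map_inv, ← map_mul, ← map_mul]
      refine Commute.map ?_ ψ
      exact Subtype.ext (hcen _ ((hZE _ (pow_mem (mem_zpowers k) i) z).2 hz) y hy).symm.eq
    calc ψ kL ^ i * ψ ⟨z, hEL z hz⟩ * (ψ kL ^ i)⁻¹
        = ψ ⟨y, hy.2⟩ * (ψ kL ^ i * ψ ⟨z, hEL z hz⟩ * (ψ kL ^ i)⁻¹) * (ψ ⟨y, hy.2⟩)⁻¹ := by
          rw [e2.eq, mul_inv_cancel_right]
      _ = _ := by group
  obtain ⟨z0, hz0, -, -, hz01, -, -⟩ := hE.two
  set qm := 2 ^ r - 1 with hqm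
  have hqm0 : 0 < qm := by
    have : 2 ^ 2 ≤ 2 ^ r := Nat.pow_le_pow_right two_pos hP.two_le
    omega
  have hEcard : ((E : Set G) \ {1}).ncard = qm := by
    rw [Set.ncard_sdiff_singleton_of_mem (one_mem E), ← Nat.card_coe_set_eq, hqm, ← hqE']
    rfl
  have hleast : ∀ i : ℕ, 0 < i → Commute (k ^ i) z0 → qm ≤ i := by
    intro i hi hc
    rw [← hEcard]
    calc ((E : Set G) \ {1}).ncard
        ≤ ((fun j => k ^ j * z0 * (k ^ j)⁻¹) '' Set.Iio i).ncard := by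
          refine Set.ncard_le_ncard ?_ (Set.toFinite _)
          rintro z ⟨hz, hz1⟩
          obtain ⟨j, hj⟩ := htrans z0 hz0 z hz hz01 hz1
          refine ⟨j % i, Nat.mod_lt _ hi, ?_⟩
          show k ^ (j % i) * z0 * (k ^ (j % i))⁻¹ = z
          rw [← hj]
          conv_rhs => rw [← Nat.mod_add_div j i, pow_add, pow_mul,
            show k ^ (j % i) * (k ^ i) ^ (j / i) * z0 * (k ^ (j % i) * (k ^ i) ^ (j / i))⁻¹ =
              k ^ (j % i) * ((k ^ i) ^ (j / i) * z0 * ((k ^ i) ^ (j / i))⁻¹) * (k ^ (j % i))⁻¹ by group,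
            mul_inv_eq_iff_eq_mul.2 (hc.pow_left (j / i)).eq]
      _ ≤ (Set.Iio i).ncard := Set.ncard_image_le (Set.toFinite _)
      _ = i := by simp [← Nat.card_coe_set_eq]
  have hkq : Commute (k ^ qm) z0 := by
    letI : MulAction (zpowers k) G := MulAction.compHom G ((MulAut.conj : G →* MulAut G).comp (zpowers k).subtype)
    have hs : ∀ (g : zpowers k) (v : G), g • v = (g : G) * v * (g : G)⁻¹ := fun _ _ => rfl
    have horb : MulAction.orbit (zpowers k) z0 = (E : Set G) \ {1} := by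
      ext v
      constructor
      · rintro ⟨g, rfl⟩
        show (g : G) * z0 * (g : G)⁻¹ ∈ _
        exact ⟨(hZE _ g.2 z0).2 hz0, fun e => hz01 (conj_eq_one_iff.1 (show (g : G) * z0 * (g : G)⁻¹ = 1 from e))⟩
      · rintro ⟨hv, hv1⟩
        obtain ⟨j, hj⟩ := htrans z0 hz0 v hv hz01 hv1
        exact ⟨⟨k ^ j, pow_mem (mem_zpowers k) j⟩, hj⟩
    haveI : (MulAction.stabilizer (zpowers k) z0).Normal := ⟨fun n hn g => by
      obtain ⟨i, hi⟩ := g.2
      obtain ⟨j, hj⟩ := n.2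
      have : g * n = n * g := Subtype.ext (by
        show (g : G) * (n : G) = (n : G) * (g : G)
        rw [← hi, ← hj]; exact (Commute.refl k).zpow_zpow i j)
      rwa [this, mul_inv_cancel_right]⟩
    have h1 := Subgroup.pow_index_mem (MulAction.stabilizer (zpowers k) z0) ⟨k, mem_zpowers k⟩
    rw [MulAction.index_stabilizer, horb, hEcard, mem_stabilizer_iff, hs] at h1
    exact mul_inv_eq_iff_eq_mul.1 h1
  have hdvdq : ∀ i : ℕ, Commute (k ^ i) z0 → qm ∣ i := by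
    intro i hi
    refine Nat.dvd_of_mod_eq_zero (Nat.eq_zero_of_not_pos fun hpos => ?_)
    have h1 : Commute (k ^ (i % qm)) z0 := by
      rw [show k ^ (i % qm) = k ^ i * ((k ^ qm) ^ (i / qm))⁻¹ by
        rw [eq_mul_inv_iff_mul_eq, ← pow_mul, ← pow_add, Nat.mod_add_div]]
      exact hi.mul_left (hkq.pow_left _).inv_left
    exact absurd (hleast _ hpos h1) (Nat.not_le.2 (Nat.mod_lt _ hqm0))
  have hkqE : ∀ z ∈ E, Commute (k ^ qm) z := by
    intro z hz
    by_cases hz1 : z = 1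
    · rw [hz1]; exact Commute.one_right _
    obtain ⟨i, rfl⟩ := htrans z0 hz0 z hz hz01 hz1
    exact (((Commute.refl k).pow_pow qm i).mul_right hkq).mul_right ((Commute.refl k).pow_pow qm i).inv_right
  set t := orderOf (ψ kL) with ht
  have hψpow : ∀ i : ℕ, ψ ⟨k ^ i, (pow_mem hkL i)⟩ = ψ kL ^ i := fun i => by
    rw [← map_pow]; exact congrArg ψ (Subtype.ext rfl)
  have htdvd : qm ∣ t := by
    refine hdvdq t (hkerE _ (pow_mem hkL t) (fun z => hZE _ (pow_mem (mem_zpowers k) t) z) ?_ z0 hz0)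
    exact genHom_eq_one_iff.1 (show ψ ⟨k ^ t, pow_mem hkL t⟩ = 1 by rw [hψpow, ht, pow_orderOf_eq_one])
  obtain ⟨mm, hmm⟩ := htdvd
  have ht0 : 0 < t := orderOf_pos _
  have hmm0 : 0 < mm := Nat.pos_of_ne_zero fun e => by rw [hmm, e, mul_zero] at ht0; exact lt_irrefl _ ht0
  have hm1 : ee ≠ 3 → mm = 1 := fun he => by
    have h1 := hZpf (k ^ qm) (pow_mem (mem_zpowers k) qm) z0 hz0 hz01 hkq fun h3 => absurd h3 he
    have h2 : ψ ⟨k ^ qm, pow_mem hkL qm⟩ = 1 := genHom_eq_one_iff.2 (fixCore_le _ (mem_kerCore.1 h1).1)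
    rw [hψpow] at h2
    have h3 := Nat.le_of_dvd hqm0 (orderOf_dvd_of_pow_eq_one h2)
    rw [← ht, hmm] at h3
    have : mm ≤ 1 := Nat.le_of_mul_le_mul_left (h3.trans_eq (mul_one _).symm) hqm0
    omega
  set K := zpowers (k ^ mm) with hK
  set K1 : Subgroup G := if ee = 3 then zpowers (k ^ qm) else ⊥ with hK1
  have hKk : K ≤ zpowers k := zpowers_le.2 (pow_mem (mem_zpowers k) mm)
  have hK1k : K1 ≤ zpowers k := by
    rw [hK1]; split
    · exact zpowers_le.2 (pow_mem (mem_zpowers k) qm)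
    · exact bot_le
  have hKKk : K ⊔ K1 ≤ zpowers k := sup_le hKk hK1k
  have hKpf : ∀ c ∈ K, ∀ z ∈ E, z ≠ 1 → Commute c z → c ∈ kerCore Ω u := by
    intro c hc z hz hz1 hcz
    refine hZpf c (hKk hc) z hz hz1 hcz fun _ => ?_
    obtain ⟨i, hi⟩ := hc
    have e : (⟨c, (hkZ c (hKk ⟨i, hi⟩)).1⟩ : L) = (kL ^ mm) ^ i := Subtype.ext (by simp [← hi, kL])
    rw [e, map_zpow, map_pow, ← zpow_natCast, ← zpow_mul, mul_comm i, zpow_mul, zpow_natCast, ← pow_mul,
      mul_comm mm, ← hmm, ht, pow_orderOf_eq_one, one_zpow]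
  have hKcard : (fixStab Ω u).relIndex K = qm := by
    have := relIndex_fixStab_zpowers (Ω := Ω) (kL ^ mm)
    rw [show ((kL ^ mm : L) : G) = k ^ mm by simp [kL]] at this
    rw [hK, this, map_pow, orderOf_pow' _ hmm0.ne', ← ht, hmm, Nat.gcd_eq_right (dvd_mul_left _ _),
      Nat.mul_div_cancel _ hmm0]
  have hKtrans : ∀ z ∈ E, ∀ z' ∈ E, z ≠ 1 → z' ≠ 1 → ∃ c ∈ K, c * z * c⁻¹ = z' := by
    -- the images of `z` under `qm` powers of `k ^ mm` are distinct
    intro z hz z' hz' hz1 hz'1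
    let f : Fin qm → ((E : Set G) \ {1} : Set G) := fun j => ⟨(k ^ mm) ^ (j : ℕ) * z * ((k ^ mm) ^ (j : ℕ))⁻¹,
      (hZE _ (pow_mem (pow_mem (mem_zpowers k) mm) _) z).2 hz,
      fun e => hz1 (conj_eq_one_iff.1 (show (k ^ mm) ^ (j : ℕ) * z * ((k ^ mm) ^ (j : ℕ))⁻¹ = 1 from e))⟩
    have key : ∀ i j : Fin qm, (i : ℕ) ≤ j → f i = f j → i = j := by
      intro i j hij e
      have e1 : (k ^ mm) ^ (i : ℕ) * z * ((k ^ mm) ^ (i : ℕ))⁻¹ = (k ^ mm) ^ (j : ℕ) * z * ((k ^ mm) ^ (j : ℕ))⁻¹ :=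
        congrArg Subtype.val e
      obtain ⟨d, hd⟩ := Nat.exists_eq_add_of_le hij
      rw [hd, pow_add] at e1
      have hc : Commute ((k ^ mm) ^ d) z := mul_inv_eq_iff_eq_mul.1 (by
        refine mul_left_cancel (a := (k ^ mm) ^ (i : ℕ)) (mul_right_cancel (b := ((k ^ mm) ^ (i : ℕ))⁻¹) ?_)
        rw [e1]; group)
      have h1 := hKpf _ (pow_mem (mem_zpowers _) d) z hz hz1 hc
      have h2 : ψ (kL ^ mm) ^ d = 1 := by
        rw [← map_pow]
        refine genHom_eq_one_iff.2 fun p hp => ?_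
        show (((kL ^ mm) ^ d : L) : G) • p = p
        rw [show (((kL ^ mm) ^ d : L) : G) = (k ^ mm) ^ d by simp [kL]]
        exact fixCore_le _ (mem_kerCore.1 h1).1 p hp
      have h3 : qm ∣ d := by
        have := orderOf_dvd_of_pow_eq_one h2
        rwa [map_pow, orderOf_pow' _ hmm0.ne', ← ht, hmm, Nat.gcd_eq_right (dvd_mul_left _ _),
          Nat.mul_div_cancel _ hmm0] at this
      have hd0 : d = 0 := Nat.eq_zero_of_dvd_of_lt h3 (by have := j.2; omega)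
      exact Fin.ext (by omega)
    have hf : Function.Bijective f := by
      rw [Nat.bijective_iff_injective_and_card]
      refine ⟨fun i j e => ?_, by rw [Nat.card_eq_fintype_card, Fintype.card_fin, Nat.card_coe_set_eq, hEcard]⟩
      rcases le_total (i : ℕ) j with hij | hij
      · exact key i j hij e
      · exact (key j i hij e.symm).symm
    obtain ⟨j, hj⟩ := hf.2 ⟨z', hz', hz'1⟩
    exact ⟨_, pow_mem (mem_zpowers _) _, congrArg Subtype.val hj⟩
  have hHcard : Nat.card (normalizer ((Pb : Subgroup ℐ) : Set ℐ)) = 2 ^ (ee * r) * t := by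
    have e : normalizer ((Pb : Subgroup ℐ) : Set ℐ) = H := le_antisymm hnormH hnorm
    rw [e, ← Nat.card_congr (MulAction.orbitProdStabilizerEquivGroup H xF), Nat.card_prod]
    congr 1
    · have horb : MulAction.orbit H xF = ({aF}ᶜ : Set (fixSub Ω u)) := by
        ext z
        constructor
        · rintro ⟨c, rfl⟩ e1
          exact hax (MulAction.injective (c : ℐ) ((mem_stabilizer_iff.1 c.2).trans
            (show (c : ℐ) • xF = aF from e1).symm))
        · intro hz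
          obtain ⟨y, ⟨hy, hyz⟩, -⟩ := hreg z z.2 fun e1 => hz (Subtype.ext e1)
          exact ⟨⟨_, hPH (hQPb y hy)⟩, Subtype.ext hyz⟩
      rw [horb, Nat.card_coe_set_eq, Set.ncard_compl, Set.ncard_singleton,
        show Nat.card (fixSub Ω u) = (fixSet Ω u).ncard from Nat.card_coe_set_eq _, hfix', Nat.add_sub_cancel]
    · rw [ht, ← Nat.card_zpowers, ← card_map_of_injective (K := MulAction.stabilizer H xF) (subtype_injective H)]
      congr 2
      ext c
      constructor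
      · rintro ⟨d, hd, rfl⟩
        obtain ⟨g, hg⟩ := genHom_surjective (D := D) (Ω := Ω) u (d : ℐ)
        have hga : (g : G) • a = a := (hψa g).1 (by rw [hg]; exact d.2)
        have hd' : (d : ℐ) • xF = xF := hd
        have hgx : (g : G) • x = x := congrArg Subtype.val (show genAct D Ω u g xF = xF by
          have e1 : genAct D Ω u g = ((d : ℐ) : Equiv.Perm (fixSub Ω u)) := congrArg Subtype.val hg
          rw [e1]; exact hd')
        obtain ⟨i, hi⟩ := hgen2 g hga hgx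
        exact ⟨(i : ℤ), by show ψ kL ^ (i : ℤ) = _; rw [zpow_natCast, ← hi, hg]; rfl⟩
      · rintro ⟨i, rfl⟩
        obtain ⟨-, hca, hcx⟩ := hkZ (k ^ i) ⟨i, rfl⟩
        have e1 : ψ kL ^ i = ψ (kL ^ i) := (map_zpow ψ kL i).symm
        refine ⟨⟨ψ kL ^ i, by rw [e1, hψa]; simpa [kL] using hca⟩, ?_, rfl⟩
        show (ψ kL ^ i) • xF = xF
        rw [e1]
        exact Subtype.ext (show ((kL ^ i : L) : G) • x = x by simpa [kL] using hcx)
  have hK1card : ee = 3 → ∃ g : ℕ, g ∣ 3 ∧ (fixStab Ω u).relIndex K1 * g = 2 ^ r + 1 := by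
    intro he
    obtain ⟨g, hg3, hgc⟩ := hTA.norm_card he
    refine ⟨g, hg3, ?_⟩
    have := relIndex_fixStab_zpowers (Ω := Ω) (kL ^ qm)
    rw [show ((kL ^ qm : L) : G) = k ^ qm by simp [kL]] at this
    rw [hK1, if_pos he, this, map_pow, orderOf_pow' _ hqm0.ne', ← ht, hmm, Nat.gcd_eq_right (dvd_mul_right _ _),
      Nat.mul_div_cancel_left _ hqm0]
    rw [hHcard, he, hmm, mul_assoc, show 2 ^ (2 * r) - 1 = qm * (2 ^ r + 1) by
      rw [hqm, mul_comm 2 r, pow_mul, mul_comm]; simpa using Nat.sq_sub_sq (2 ^ r) 1] at hgc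
    refine Nat.eq_of_mul_eq_mul_left hqm0 (Nat.eq_of_mul_eq_mul_left (by positivity : 0 < 2 ^ (3 * r)) ?_)
    rw [← hgc]; ring
  have hgencard : ee ≠ 3 → (fixStab Ω u).relIndex L = (2 ^ (ee * r) + 1) * 2 ^ (ee * r) * (2 ^ r - 1) := by
    intro he
    have e : ((genHom D Ω u).comp (inclusion (le_refl L))).range = ⊤ := MonoidHom.range_eq_top.2 fun c => by
      obtain ⟨g, rfl⟩ := genHom_surjective (D := D) (Ω := Ω) u c
      exact ⟨g, rfl⟩
    rw [relIndex_fixStab (le_refl L), e, card_top]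
    show Nat.card ℐ = _
    rw [← Nat.card_congr (MulAction.orbitProdStabilizerEquivGroup ℐ aF), Nat.card_prod, mul_assoc]
    congr 1
    · rw [show MulAction.orbit ℐ aF = Set.univ from Set.eq_univ_iff_forall.2 fun z => by
          obtain ⟨g, hg, hgz⟩ := hCrit.exists_smul aF z
          exact ⟨⟨_, mem_map_of_mem _ hg⟩, hgz⟩,
        Nat.card_coe_set_eq, Set.ncard_univ, show Nat.card (fixSub Ω u) = (fixSet Ω u).ncard from
          Nat.card_coe_set_eq _, hfix']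
    · rw [show stabilizer ℐ aF = normalizer ((Pb : Subgroup ℐ) : Set ℐ) from le_antisymm hnorm hnormH, hHcard,
        hmm, hm1 he, mul_one]
  have hQ1 : ee = 1 → Q ≤ E := fun he =>
    (eq_of_le_of_card_ge hEQ (by rw [hQcard, hqE', he, one_mul])).ge
  have hcent : ee ≠ 3 → ∀ g ∈ ptC u a, (∀ z ∈ E, Commute g z) →
      ∃ y ∈ Q, ∀ z : Ω, u • z = z → g • z = y • z := by
    intro he g hg hgE
    obtain ⟨hgu, hga⟩ := mem_ptC.1 hg
    obtain ⟨y, hy, hyx⟩ := hexQ g hgu hga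
    refine ⟨y, hy, fun z hz => ?_⟩
    set g' := y⁻¹ * g with hg'
    have hg'u : Commute g' u := (commute_of_genC hy.2).inv_left.mul_left hgu
    have hg'a : g' • a = a := by rw [hg', mul_smul, hga, inv_smul_eq_iff, hTa y hy.1]
    have hg'x : g' • x = x := by rw [hg', mul_smul, ← hyx, inv_smul_smul]
    have hg'E : ∀ z ∈ E, Commute g' z := fun z hz => (hcen z hz y hy).symm.inv_left.mul_left (hgE z hz)
    suffices hfix : ∀ p : Ω, u • p = p → g' • p = p by
      have := hfix z hz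
      rw [hg', mul_smul, inv_smul_eq_iff] at this
      exact this
    intro p hp
    rcases hee with h1 | h2 | h3
    · by_cases hpa : p = a
      · rw [hpa, hg'a]
      · obtain ⟨y', ⟨hy', rfl⟩, -⟩ := hreg p hp hpa
        rw [← mul_smul, (hg'E y' (hQ1 h1 hy')).eq, mul_smul, hg'x]
    · set c : Equiv.Perm (fixSub Ω u) := fixAct u a ⟨g', mem_ptC.2 ⟨hg'u, hg'a⟩⟩ with hc
      have hcI : ∀ l : L, c * genAct D Ω u l * c⁻¹ = genAct D Ω u ⟨g' * l * g'⁻¹, h.conj_genC hg'u l.2⟩ := fun l => by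
        rw [mul_inv_eq_iff_eq_mul]
        refine Equiv.ext fun q => Subtype.ext ?_
        rw [Equiv.Perm.mul_apply, Equiv.Perm.mul_apply, hc, fixAct_apply, genAct_apply, genAct_apply, fixAct_apply]
        show g' • (l : G) • (q : Ω) = (g' * (l : G) * g'⁻¹) • g' • (q : Ω)
        simp only [← mul_smul, mul_assoc, inv_mul_cancel, mul_one]
      have hcN : c ∈ normalizer (ℐ : Set (Equiv.Perm (fixSub Ω u))) := by
        refine mem_normalizer_iff.2 fun i => ⟨fun hi => ?_, fun hi => ?_⟩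
        · obtain ⟨l, hl⟩ := genHom_surjective (D := D) (Ω := Ω) u ⟨i, hi⟩
          rw [show i = genAct D Ω u l from (congrArg Subtype.val hl).symm, hcI]
          exact (ψ _).2
        · obtain ⟨l, hl⟩ := genHom_surjective (D := D) (Ω := Ω) u ⟨_, hi⟩
          set l' : L := ⟨g'⁻¹ * l * g'⁻¹⁻¹, h.conj_genC hg'u.inv_left l.2⟩
          have e1 : c * genAct D Ω u l' * c⁻¹ = genAct D Ω u l := by
            rw [hcI]; exact congrArg _ (Subtype.ext (show g' * (g'⁻¹ * (l : G) * g'⁻¹⁻¹) * g'⁻¹ = l by group))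
          have e2 : genAct D Ω u l = c * i * c⁻¹ := congrArg Subtype.val hl
          rw [e2] at e1
          rw [← mul_left_cancel (mul_right_cancel e1)]
          exact (ψ l').2
      set α : MulAut ℐ := (induced (cenD D u) (fixSub Ω u)).normalizerMonoidHom ⟨c, hcN⟩ with hα
      have hαapp : ∀ l : L, ((α (ψ l) : ℐ) : Equiv.Perm (fixSub Ω u)) =
          genAct D Ω u ⟨g' * l * g'⁻¹, h.conj_genC hg'u l.2⟩ := fun l => hcI l
      obtain ⟨v, hv, hαv⟩ := hTA.aut h2 α fun s hs hs2 => by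
        obtain ⟨y', hy', rfl⟩ := hPbQ s hs
        have hyE : y' ∈ E := hmemE y' hy' fun p hp => by
          rw [← map_mul] at hs2
          rw [← mul_smul]; exact genHom_eq_one_iff.1 hs2 p hp
        refine Subtype.ext ((hαapp _).trans (congrArg _ (Subtype.ext ?_)))
        exact mul_inv_eq_iff_eq_mul.2 (hg'E y' hyE).eq
      have h1 : ((v : Equiv.Perm (fixSub Ω u)))⁻¹ * c = 1 := eq_one_of_comm hCrit hGoal hax fun i hi => by
        have h2' : (v : Equiv.Perm (fixSub Ω u)) * i * (v : Equiv.Perm (fixSub Ω u))⁻¹ = c * i * c⁻¹ :=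
          congrArg (fun f : MulAut ℐ => ((f ⟨i, hi⟩ : ℐ) : Equiv.Perm (fixSub Ω u))) hαv.symm
        calc (v : Equiv.Perm (fixSub Ω u))⁻¹ * c * i = (v : Equiv.Perm (fixSub Ω u))⁻¹ * (c * i * c⁻¹) * c := by group
          _ = i * ((v : Equiv.Perm (fixSub Ω u))⁻¹ * c) := by rw [← h2']; group
      have hcv := inv_mul_eq_one.1 h1
      obtain ⟨y', hy', rfl⟩ := hPbQ v hv
      have e3 : ∀ q : fixSub Ω u, g' • (q : Ω) = y' • (q : Ω) := fun q => by
        have e4 : ((c q : fixSub Ω u) : Ω) = y' • (q : Ω) := by rw [← hcv]; rfl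
        rw [hc, fixAct_apply] at e4
        exact e4
      have hy1 := hQfix y' hy' ((e3 xF).symm.trans hg'x)
      exact (e3 ⟨p, hp⟩).trans (show y' • p = p by rw [hy1, one_smul])
    · exact absurd h3 he
  have hinner : ee ≠ 3 → ∀ g ∈ L, g • a = a → ∀ z ∈ E, z ≠ 1 → Commute g z →
      ∃ y ∈ Q, ∀ z' : Ω, u • z' = z' → g • z' = y • z' := by
    intro he g hg hga z hz hz1 hgz
    obtain ⟨y, hy, hyx⟩ := hexQ g (commute_of_genC hg) hga
    refine ⟨y, hy, fun p hp => ?_⟩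
    have hg' : y⁻¹ * g ∈ L := (genC D u).mul_mem ((genC D u).inv_mem hy.2) hg
    obtain ⟨i, hi⟩ := hgen2 ⟨_, hg'⟩ (by
      show (y⁻¹ * g) • a = a
      rw [mul_smul, hga, inv_smul_eq_iff, hTa y hy.1]) (by
      show (y⁻¹ * g) • x = x
      rw [mul_smul, ← hyx, inv_smul_smul])
    rw [← hψpow] at hi
    have h1 := genHom_eq_iff.1 hi
    have hc : Commute (k ^ i) z := by
      refine mul_inv_eq_iff_eq_mul.1 (hE.inj _ ((hZE _ (pow_mem (mem_zpowers k) i) z).2 hz) z hz fun q hq => ?_)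
      have hki : u • (k ^ i)⁻¹ • q = (k ^ i)⁻¹ • q := by
        rw [← mul_smul, ← (commute_of_genC ((genC D u).inv_mem (pow_mem hkL i))).eq, mul_smul, hq]
      rw [mul_smul, mul_smul]
      set q' := (k ^ i)⁻¹ • q with hq'
      have e1 : (y⁻¹ * g) • q' = q := (h1 q' hki).trans (smul_inv_smul _ _)
      have e2 : u • z • q' = z • q' := hQF z (hEQ hz) q' hki
      rw [← (show (y⁻¹ * g) • z • q' = (k ^ i) • z • q' from h1 _ e2), ← mul_smul,
        show y⁻¹ * g * z = z * (y⁻¹ * g) from ((hcen z hz y hy).symm.inv_left.mul_left hgz).eq, mul_smul, e1]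
    have h2 := hZpf (k ^ i) (pow_mem (mem_zpowers k) i) z hz hz1 hc fun h3 => absurd h3 he
    have h3 := (h1 p hp).trans (fixCore_le _ (mem_kerCore.1 h2).1 p hp)
    rw [show g = y * (y⁻¹ * g) from (mul_inv_cancel_left y g).symm, mul_smul]
    exact congrArg (y • ·) h3
  have hcenter : ee ≠ 3 → ∀ y ∈ Q, (∀ z ∈ Q, Commute y z) → y ∈ E := fun he y hy hyc => by
    refine hmemE y hy fun p hp => ?_
    have h1 : ψ ⟨y, hy.2⟩ * ψ ⟨y, hy.2⟩ = 1 := hTA.center he _ (hQPb y hy) fun c hc => by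
      obtain ⟨z, hz, rfl⟩ := hPbQ c hc
      exact Commute.map (show Commute (⟨y, hy.2⟩ : L) ⟨z, hz.2⟩ from Subtype.ext (hyc z hz).eq) ψ
    rw [← map_mul] at h1
    rw [← mul_smul]
    exact genHom_eq_one_iff.1 h1 p hp
  have hcsq : ee = 2 → ∀ y ∈ Q, ∀ z ∈ Q, y ∉ E → z ∉ E → Commute y z → y * y = z * z := fun he y hy z hz hyE hzE hyz => by
    have h1 : ψ ⟨y, hy.2⟩ * ψ ⟨y, hy.2⟩ = ψ ⟨z, hz.2⟩ * ψ ⟨z, hz.2⟩ := hTA.comm_sq he _ (hQPb y hy) _ (hQPb z hz)
      (fun e1 => hyE (hmemE y hy fun p hp => by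
        rw [← map_mul] at e1
        rw [← mul_smul]; exact genHom_eq_one_iff.1 e1 p hp))
      (fun e1 => hzE (hmemE z hz fun p hp => by
        rw [← map_mul] at e1
        rw [← mul_smul]; exact genHom_eq_one_iff.1 e1 p hp))
      (Commute.map (show Commute (⟨y, hy.2⟩ : L) ⟨z, hz.2⟩ from Subtype.ext hyz.eq) ψ)
    rw [← map_mul, ← map_mul] at h1
    exact hQinj _ (mul_mem hy hy) _ (mul_mem hz hz) (genHom_eq_iff.1 h1)
  have hc3 : ee = 3 → ∀ y ∈ Q, y ∉ E → (∃ z ∈ Q, ¬ Commute y z) ∧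
      ∀ z ∈ Q, ∀ w ∈ Q, Commute y z → Commute y w → Commute z w := fun he y hy hyE => by
    obtain ⟨⟨c, hc, hyc⟩, htr⟩ := hTA.comm3 he _ (hQPb y hy) fun e1 => hyE (hmemE y hy fun p hp => by
      rw [← map_mul] at e1
      rw [← mul_smul]; exact genHom_eq_one_iff.1 e1 p hp)
    have hmap : ∀ v w : L, Commute (v : G) w → Commute (ψ v) (ψ w) := fun v w e =>
      (show Commute v w from Subtype.ext e.eq).map ψ
    refine ⟨?_, fun z hz w hw h1 h2 => ?_⟩
    · obtain ⟨z, hz, rfl⟩ := hPbQ c hc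
      exact ⟨z, hz, fun h1 => hyc (hmap ⟨y, hy.2⟩ ⟨z, hz.2⟩ h1)⟩
    · have h3 := (htr _ (hQPb z hz) _ (hQPb w hw) (hmap ⟨y, hy.2⟩ ⟨z, hz.2⟩ h1) (hmap ⟨y, hy.2⟩ ⟨w, hw.2⟩ h2)).eq
      rw [← map_mul, ← map_mul] at h3
      exact hQinj _ (mul_mem hz hw) _ (mul_mem hw hz) (genHom_eq_iff.1 h3)
  have hKfull : ∀ g ∈ L, g • a = a → g • x = x → ∃ c ∈ K,
      ∀ z ∈ E, ∀ p : Ω, u • p = p → (g * z * g⁻¹) • p = (c * z * c⁻¹) • p := by
    intro g hg hga hgx
    obtain ⟨i, hi⟩ := hgen2 ⟨g, hg⟩ hga hgx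
    have hki : (k ^ i) ∈ zpowers k := pow_mem (mem_zpowers k) i
    obtain ⟨c, hc, hcz⟩ := hKtrans z0 hz0 _ ((hZE _ hki z0).2 hz0) hz01 fun e1 => hz01 (conj_eq_one_iff.1 e1)
    have hcomm : Commute c (k ^ i) := by
      obtain ⟨j, rfl⟩ := hKk hc
      exact ((Commute.refl k).zpow_left j).pow_right i
    refine ⟨c, hc, fun z hz p hp => ?_⟩
    have e2 : c * z * c⁻¹ = k ^ i * z * (k ^ i)⁻¹ := by
      rcases eq_or_ne z 1 with rfl | hz1
      · group
      obtain ⟨c', hc', rfl⟩ := hKtrans z0 hz0 z hz hz01 hz1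
      have hcc : Commute c c' ∧ Commute (k ^ i) c' := by
        obtain ⟨j, rfl⟩ := hKk hc
        obtain ⟨j', rfl⟩ := hKk hc'
        exact ⟨(Commute.refl k).zpow_zpow j j', ((Commute.refl k).pow_left i).zpow_right j'⟩
      calc c * (c' * z0 * c'⁻¹) * c⁻¹ = (c * c') * z0 * (c * c')⁻¹ := by group
        _ = c' * (c * z0 * c⁻¹) * c'⁻¹ := by rw [hcc.1.eq]; group
        _ = (c' * k ^ i) * z0 * (c' * k ^ i)⁻¹ := by rw [hcz]; group
        _ = (k ^ i * c') * z0 * (k ^ i * c')⁻¹ := by rw [hcc.2.eq]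
        _ = _ := by group
    rw [e2]
    refine (genHom_eq_iff (Ω := Ω) (g := (⟨g, hg⟩ : L) * ⟨z, hEL z hz⟩ * (⟨g, hg⟩ : L)⁻¹)
      (g' := kL ^ i * ⟨z, hEL z hz⟩ * (kL ^ i)⁻¹)).1 ?_ p hp
    simp only [map_mul, map_inv, map_pow, hi]
  exact ⟨Q, K, K1, r, ee,
    { two_le := hP.two_le
      e_cases := hee
      odd_r := hodd_r
      card_fix := hfix'
      card_eset := hqE'
      kernel_le := hker
      Q_eq := rfl
      card_Q := hQcard
      eset_le := hEQ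
      sq := hsq
      comm := hcomm
      cen := hcen
      mem_eset := hmem1
      center := hcenter
      comm_sq := hcsq
      comm3 := hc3
      reg := hreg
      Q_wker := hWQ
      K_le := hKk.trans (zpowers_le.2 hkL)
      K_fix := fun c hc => (hkZ c (hKk hc)).2
      K_odd := by
        rw [hK, Nat.card_zpowers]
        exact hkodd.of_dvd_nat (orderOf_pow_dvd mm)
      K_comm := fun c hc d hd => by
        obtain ⟨i, rfl⟩ := hKKk hc
        obtain ⟨j, rfl⟩ := hKKk hd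
        exact (Commute.refl k).zpow_zpow i j
      K_normE := fun c hc => hZE c (hKKk hc)
      K_normQ := fun c hc => hZQ c (hKKk hc)
      K_wker := fun c hc => hZW c (hKKk hc)
      K_trans := hKtrans
      K_fpf := hKpf
      K_card := hKcard
      K_full := hKfull
      K_fpfQ := fun c hc => hZpfQ c (hKKk hc)
      K1_le := hK1k.trans (zpowers_le.2 hkL)
      K1_fix := fun c hc => (hkZ c (hK1k hc)).2
      K1_odd := by
        rw [hK1]; split
        · rw [Nat.card_zpowers]; exact hkodd.of_dvd_nat (orderOf_pow_dvd qm)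
        · rw [Subgroup.card_bot]; exact odd_one
      K1_eset := fun c hc z hz => by
        rw [hK1] at hc
        split at hc
        · obtain ⟨i, rfl⟩ := hc; exact (hkqE z hz).zpow_left i
        · rw [mem_bot.1 hc]; exact Commute.one_left z
      K1_card := hK1card
      cent := hcent
      inner := hinner
      gen_card := hgencard
      span := fun he => hspan r ee hP he }⟩

end

end Cfsg.Agent.GoodInvol
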