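import Cfsg.Agent.Lib.GoodInvol.CaseBL2.Main
import Cfsg.Agent.Lib.GoodInvol.Companion.Main
import Cfsg.Agent.Lib.GoodInvol.Four

/-!
# Without pairs with one fixed point set

An involution fixing all points of one with two fixed points fixes no further point, so two commuting ones form a
pair.  If there is no pair and the fixed points form a projective line, the pointwise part of `T` is `⟨w⟩` and
no other involution commuting with `w` fixes two of its fixed points: the case of type L2 is impossible.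
-/

set_option autoImplicit false
set_option linter.style.haveILetI false
set_option linter.unusedSectionVars false

namespace Cfsg.Agent.GoodInvol

open Subgroup MulAction

universe u

variable {G : Type u} [Group G] [Finite G] {Ω : Type u} [MulAction G Ω] [Finite Ω] [FaithfulSMul G Ω] {D : Set G}

/-- No two commuting involutions have one set of at least two fixed points. -/
def NoPairs (G : Type u) [Group G] (Ω : Type u) [MulAction G Ω] : Prop :=
  ∀ u v : G, orderOf u = 2 → ¬ OneFix Ω u → orderOf v = 2 → Commute u v →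
    (∀ z : Ω, u • z = z → v • z = z) → v = u

namespace Crit

variable (h : Crit D Ω) (hB : Below.{u} (Nat.card G)) (hgen : closure D = ⊤)
include h hB hgen

/-- An involution fixing the fixed points of one with two of them fixes no others. -/
theorem fix_eq_of_invol {u g : G} (hu : orderOf u = 2) (hub : ¬ OneFix Ω u) (hg : orderOf g = 2)
    (hsub : ∀ z : Ω, u • z = z → g • z = z) : ∀ z : Ω, g • z = z → u • z = z := by
  by_cases hev : Even (orderOf (g * u))
  · obtain ⟨hcg, hcu⟩ := Invol.half_commute hg hu hev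
    set c := (g * u) ^ (orderOf (g * u) / 2) with hc
    have hc2 : orderOf c = 2 := Invol.half_order hg hu hev (orderOf_pos _)
    have hcfix : ∀ z : Ω, u • z = z → c • z = z := fun z hz => by
      have h1 : g * u ∈ stabilizer G z := by
        show (g * u) • z = z
        rw [mul_smul, hz, hsub z hz]
      exact mem_stabilizer_iff.1 (pow_mem h1 _)
    have hcb : ¬ OneFix Ω c := fun hone => hub fun p q hp hq => hone p q (hcfix p hp) (hcfix q hq)
    have hgb : ¬ OneFix Ω g := fun hone => hub fun p q hp hq => hone p q (hsub p hp) (hsub q hq)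
    have hceq := h.fix_eq_of_subset hB hgen hu hub hc2 hcb hcu.symm hcfix
    intro z hz
    exact hceq z (h.fix_eq_of_subset hB hgen hc2 hcb hg hgb hcg (fun y hy => hsub y (hceq y hy)) z hz)
  · obtain ⟨n, hn⟩ := Invol.exists_sqrt (Nat.not_even_iff_odd.1 hev)
    have huu := Invol.mul_self hu
    have h1 := Invol.zpow_mul_conj (x := u) (a := g * u) (by
      rw [mul_inv_rev, Invol.inv_self hu, Invol.inv_self hg, mul_assoc u _ u, mul_assoc g u u, huu, mul_one]) (n : ℤ)
    rw [zpow_natCast, show (2 : ℤ) * (n : ℤ) = ((n * 2 : ℕ) : ℤ) by push_cast; ring, zpow_natCast, pow_mul, hn,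
      mul_assoc g u u, huu, mul_one] at h1
    set k := (g * u) ^ n with hk
    have hkfix : ∀ z : Ω, u • z = z → k • z = z := fun z hz => by
      have h2 : g * u ∈ stabilizer G z := by
        show (g * u) • z = z
        rw [mul_smul, hz, hsub z hz]
      exact mem_stabilizer_iff.1 (pow_mem h2 _)
    intro z hz
    rw [← h1, mul_smul, mul_smul] at hz
    have h2 : u • k⁻¹ • z = k⁻¹ • z := eq_inv_smul_iff.2 hz
    have h3 := hkfix _ h2
    rw [smul_inv_smul] at h3
    rw [h3]
    exact h2

/-- Commuting involutions with nested fixed point sets form a pair. -/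
theorem fourPair {u v : G} (hu : orderOf u = 2) (hub : ¬ OneFix Ω u) (hv : orderOf v = 2) (huv : Commute u v)
    (hne : u ≠ v) (hsub : ∀ z : Ω, u • z = z → v • z = z) : FourPair Ω u v :=
  ⟨hu, hv, hub, huv, hne, fun z => ⟨hsub z, h.fix_eq_of_invol hB hgen hu hub hv hsub z⟩,
    fun _ hg hgF => h.fix_eq_of_invol hB hgen hu hub hg hgF⟩

/-- Without pairs there are no two commuting ones with one fixed point set. -/
theorem noPairs_of_not (hno : ∀ u v : G, ¬ FourPair Ω u v) : NoPairs G Ω := fun u v hu hub hv huv hsub => by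
  by_contra hne
  exact hno u v (h.fourPair hB hgen hu hub hv huv (Ne.symm hne) hsub)

/-- The pointwise part is `⟨w⟩` for type L2. -/
theorem wker_line (hno : NoPairs G Ω) {w : G} (hw : orderOf w = 2) (hbad : ¬ OneFix Ω w) {a : Ω} (ha : w • a = a)
    {T E : Subgroup G} (hT2 : IsPGroup 2 T) (hT : T ≤ ptC w a) (hE : ESet D w a T E)
    (hf : (fixSet Ω w).ncard = Nat.card E + 1) : ∀ x ∈ wker Ω w T, x = 1 ∨ x = w := by
  classical
  haveI : Fact (Nat.Prime 2) := ⟨Nat.prime_two⟩
  intro x hx
  obtain ⟨e, he, -, -, he1, -, -⟩ := hE.two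
  have hew : Commute e w := (mem_ptC.1 (hT (hE.le he))).1
  have hea : e • a = a := (mem_ptC.1 (hT (hE.le he))).2
  have heD : e ∈ D := (((hE.mem e).1 he).resolve_left he1).1
  obtain ⟨g, ⟨hgN, hga⟩, hgw⟩ := h.exists_conj_coset hB hgen hw hbad ha hT hE he
  have hga' : g • a = a := hga
  obtain ⟨x0, hx0, hx0a⟩ : ∃ x0 : Ω, w • x0 = x0 ∧ x0 ≠ a := by
    have hb := hbad
    unfold OneFix at hb
    push Not at hb
    obtain ⟨p, q, hp, hq, hpq⟩ := hb
    by_cases hpa : p = a
    · exact ⟨q, hq, fun e => hpq (hpa.trans e.symm)⟩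
    · exact ⟨p, hp, hpa⟩
  set y := g * x * g⁻¹ with hy
  obtain ⟨hxw, hxa⟩ := mem_ptC.1 (hT hx.1)
  have hya : y • a = a := by rw [hy, mul_smul, mul_smul, inv_smul_eq_iff.2 hga'.symm, hxa, hga']
  have hyE : ∀ f ∈ E, Commute y f := fun f hf => by
    have hf' : g⁻¹ * f * g ∈ E := (hgN.1 _).1 (by rwa [show g * (g⁻¹ * f * g) * g⁻¹ = f by group])
    have hc := h.commute_wker_eset hbad hT2 hT hE hx hf'
    show g * x * g⁻¹ * f = f * (g * x * g⁻¹)
    calc g * x * g⁻¹ * f = g * (x * (g⁻¹ * f * g)) * g⁻¹ := by group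
      _ = g * ((g⁻¹ * f * g) * x) * g⁻¹ := by rw [hc.eq]
      _ = _ := by group
  have hywe : Commute y (w * e) := by
    have h1 := hxw.map (MulAut.conj g)
    simp only [MulAut.conj_apply] at h1
    rwa [hgw] at h1
  have hyw : Commute y w := by
    have h1 := hywe.mul_right (hyE e he)
    rwa [mul_assoc, hE.sq e he, mul_one] at h1
  -- the action on the fixed points
  have hfree : ∀ f ∈ E, ∀ z : Ω, z ≠ a → f • z = z → f = 1 := fun f hf z hza hfz => by
    rcases (hE.mem f).1 hf with h1 | ⟨hfD, hfT⟩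
    · exact h1
    · exact absurd (h.unique f hfD z a hfz (mem_ptC.1 (hT hfT)).2) hza
  have hsm : ∀ c : G, Commute c w → ∀ z : Ω, w • z = z → w • c • z = c • z := fun c hc z hz => by
    rw [← mul_smul, ← hc.eq, mul_smul, hz]
  have hinj : Set.InjOn (fun f : G => f • x0) (E : Set G) := fun f hf f' hf' e1 => by
    have h1 : (f'⁻¹ * f) • x0 = x0 := by rw [mul_smul, show f • x0 = f' • x0 from e1, inv_smul_smul]
    exact (inv_mul_eq_one.1 (hfree _ (mul_mem (inv_mem hf') hf) x0 hx0a h1)).symm
  have horb : (fun f : G => f • x0) '' (E : Set G) = fixSet Ω w \ {a} := by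
    refine Set.eq_of_subset_of_ncard_le ?_ ?_ (Set.toFinite _)
    · rintro _ ⟨f, hf, rfl⟩
      exact ⟨hsm f (mem_ptC.1 (hT (hE.le hf))).1 x0 hx0,
        fun e1 => hx0a (MulAction.injective f ((e1 : f • x0 = a).trans (mem_ptC.1 (hT (hE.le hf))).2.symm))⟩
    · rw [hinj.ncard_image, Set.ncard_sdiff_singleton_of_mem (show a ∈ fixSet Ω w from ha), hf, Nat.add_sub_cancel]
      exact le_of_eq (Nat.card_coe_set_eq (E : Set G))
  have hyx : y • x0 ∈ fixSet Ω w \ {a} := ⟨hsm y hyw x0 hx0, fun e1 => hx0a (MulAction.injective y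
    ((e1 : y • x0 = a).trans hya.symm))⟩
  rw [← horb] at hyx
  obtain ⟨f0, hf0, hf0y : f0 • x0 = y • x0⟩ := hyx
  have hy2fix : ∀ z : Ω, w • z = z → (y * y) • z = z := fun z hz => by
    by_cases hza : z = a
    · rw [hza, mul_smul, hya, hya]
    have hzm : z ∈ fixSet Ω w \ {a} := ⟨hz, hza⟩
    rw [← horb] at hzm
    obtain ⟨f, hf, rfl⟩ := hzm
    show (y * y) • f • x0 = f • x0
    rw [← mul_smul, ((hyE f hf).mul_left (hyE f hf)).eq, mul_smul, mul_smul y y, ← hf0y, ← mul_smul y f0,
      (hyE f0 hf0).eq, mul_smul, ← hf0y, ← mul_smul f0, hE.sq f0 hf0, one_smul]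
  -- `y ^ 2` is one
  have hy2 : y * y = 1 := by
    by_contra hne
    obtain ⟨k, hk⟩ := IsPGroup.iff_orderOf.1 hT2 ⟨x, hx.1⟩
    rw [Subgroup.orderOf_mk] at hk
    have hyord : orderOf (y * y) ∣ 2 ^ k := by
      refine orderOf_dvd_of_pow_eq_one ?_
      rw [(Commute.refl y).mul_pow, hy, conj_pow, ← hk, pow_orderOf_eq_one]
      group
    obtain ⟨i, -, hi⟩ := (Nat.dvd_prime_pow Nat.prime_two).1 hyord
    rcases i with _ | i
    · exact hne (orderOf_eq_one_iff.1 (by rw [hi, pow_zero]))
    have hc2 : orderOf ((y * y) ^ 2 ^ i) = 2 := by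
      rw [orderOf_pow' _ (by positivity), hi, Nat.gcd_eq_right (pow_dvd_pow 2 (Nat.le_succ i)), pow_succ,
        Nat.mul_div_cancel_left _ (by positivity)]
    set c := (y * y) ^ 2 ^ i with hc
    have hcfix : ∀ z : Ω, w • z = z → c • z = z := fun z hz =>
      mem_stabilizer_iff.1 (pow_mem (show y * y ∈ stabilizer G z from hy2fix z hz) _)
    have hcw : c = w := hno w c hw hbad hc2 ((hyw.mul_left hyw).pow_left _).symm hcfix
    have hwe : ∀ z : Ω, (w * e) • z = z → w • z = z := fun z hz => by
      have hgz : (g⁻¹ * (w * e) * g) • g⁻¹ • z = g⁻¹ • z := by rw [mul_smul, smul_inv_smul, mul_smul, hz]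
      rw [← hgw, show g⁻¹ * (g * w * g⁻¹) * g = w by group] at hgz
      have hxz := hx.2 _ hgz
      have hyz : y • z = z := by rw [hy, mul_smul, mul_smul, hxz, smul_inv_smul]
      rw [← hcw]
      exact mem_stabilizer_iff.1 (pow_mem (show y * y ∈ stabilizer G z by
        show (y * y) • z = z
        rw [mul_smul, hyz, hyz]) _)
    have hvb : ¬ OneFix Ω (w * e) := h.not_oneFix_mul hw hbad heD hew
    refine hvb fun p q hp hq => h.unique e heD p q ?_ ?_
    · have h1 := hwe p hp
      rw [mul_smul] at hp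
      exact MulAction.injective w (hp.trans h1.symm)
    · have h1 := hwe q hq
      rw [mul_smul] at hq
      exact MulAction.injective w (hq.trans h1.symm)
  have hx2 : x * x = 1 := by
    have h1 : g * (x * x) * g⁻¹ = 1 := by rw [← hy2, hy]; group
    exact conj_eq_one_iff.1 h1
  by_cases hx1 : x = 1
  · exact Or.inl hx1
  · exact Or.inr (hno w x hw hbad (Invol.order_two_of_sq hx2 hx1) hxw.symm hx.2)

/-- Without pairs, type L2 is impossible. -/
theorem line_false_of_noPairs (hno : NoPairs G Ω) {w : G} (hw : orderOf w = 2) (hbad : ¬ OneFix Ω w) {a : Ω}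
    (ha : w • a = a) (T : Sylow 2 (ptC w a)) {E : Subgroup G}
    (hE : ESet D w a ((T : Subgroup (ptC w a)).map (ptC w a).subtype) E)
    (hf : (fixSet Ω w).ncard = Nat.card E + 1)
    (hdvd : ∀ z : Ω, z ≠ a → Nat.card E * ((fixSet Ω w).ncard - 1) ∣ (orbit (stabilizer G a) z).ncard) : False :=
  h.line_false hB hgen hw hbad ha T hE hf hdvd
    (h.wker_line hB hgen hno hw hbad ha (T.2.map _) (map_subtype_le _) hE hf)
    fun v hv hvw hva ⟨x, hxa, hx, hvx⟩ => hno w v hw hbad hv hvw.symm
      (h.companion_linear hB hgen hw hv hvw.symm (Ne.symm hxa) ha hx hva hvx (map_subtype_le _) hE hf)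

end Crit

end Cfsg.Agent.GoodInvol
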