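import Mathlib.GroupTheory.Coset.Card
import Mathlib.LinearAlgebra.Dual.Lemmas
import Mathlib.LinearAlgebra.Dimension.Free
import Mathlib.LinearAlgebra.FiniteDimensional.Basic
import Mathlib.Algebra.Field.ZMod
import Mathlib.Tactic.LinearCombination
import Mathlib.Tactic.NormNum
import Mathlib.Data.ZMod.Basic
import Mathlib.Algebra.Module.ZMod
import Mathlib.Data.Set.Card
import Mathlib.GroupTheory.PGroup

/-!
# Counting square roots of one

In a 2-group `X` with a central elementary subgroup `E` of order `2 ^ r` containing the squares and commutators, and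
`|X| >= 2 ^ (3 r + 1)`, the number of elements of square one is a multiple of `2 ^ (r + 1)`: the sums of `lam (x * x)`
over `X`, for the characters `lam` of `E`, have square zero or `|X|` times the order of a radical containing `E`.
-/

set_option autoImplicit false
set_option linter.style.haveILetI false
set_option linter.unusedSectionVars false
set_option linter.deprecated false

namespace Cfsg.Agent.GoodInvol.SquareCount

open Subgroup

universe u

variable {G : Type u} [Group G]

/-- The sign of a bit. -/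
def sgn (a : ZMod 2) : ℤ := if a = 0 then 1 else -1

theorem sgn_add : ∀ a b : ZMod 2, sgn (a + b) = sgn a * sgn b := by decide

theorem sgn_zero : sgn 0 = 1 := rfl

/-- The sum of a sign character over a finite group. -/
theorem sum_sgn {H : Type*} [Group H] [Fintype H] (f : H → ZMod 2) (hf : ∀ a b, f (a * b) = f a + f b) :
    ∑ x, sgn (f x) = (Fintype.card H : ℤ) ∨ ∑ x, sgn (f x) = 0 := by
  by_cases h : ∀ x, f x = 0
  · left
    simp [h, sgn_zero]
  · right
    push Not at h
    obtain ⟨x0, hx0⟩ := h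
    have h1 : sgn (f x0) = -1 := by rw [sgn, if_neg hx0]
    have h2 : ∑ x, sgn (f x) = sgn (f x0) * ∑ x, sgn (f x) := by
      rw [Finset.mul_sum]
      refine (Fintype.sum_equiv (Equiv.mulLeft x0) _ _ fun x => ?_).symm
      rw [Equiv.coe_mulLeft, hf, sgn_add]
    rw [h1] at h2
    omega

/-- The number of elements of square one. -/
theorem two_pow_dvd [Finite G] {X E : Subgroup G} {r n : ℕ} (hEX : E ≤ X) (hE : Nat.card E = 2 ^ r)
    (hEsq : ∀ z ∈ E, z * z = 1) (hcen : ∀ z ∈ E, ∀ x ∈ X, Commute z x) (hX : Nat.card X = 2 ^ n)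
    (hn : 3 * r + 1 ≤ n) (hsq : ∀ x ∈ X, x * x ∈ E)
    (hcomm : ∀ x ∈ X, ∀ y ∈ X, x * y * x⁻¹ * y⁻¹ ∈ E) :
    2 ^ (r + 1) ∣ {x | x ∈ X ∧ x * x = 1}.ncard := by
  classical
  haveI : IsMulCommutative E := ⟨⟨fun a b => Subtype.ext (hcen a a.2 b (hEX b.2))⟩⟩
  letI : CommGroup E := IsMulCommutative.instCommGroup
  let V := Additive E
  letI : Module (ZMod 2) V := AddCommGroup.zmodModule (n := 2) fun x => by
    rw [two_nsmul]
    exact Additive.toMul.injective (Subtype.ext (hEsq _ (Additive.toMul x).2))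
  haveI : Finite V := inferInstanceAs (Finite (Additive E))
  haveI : Fact (Nat.Prime 2) := ⟨Nat.prime_two⟩
  haveI : Module.Finite (ZMod 2) V := Module.Finite.of_finite
  haveI : Fintype X := Fintype.ofFinite X
  haveI : Finite (V →ₗ[ZMod 2] ZMod 2) := Finite.of_injective _ DFunLike.coe_injective
  haveI : Fintype (V →ₗ[ZMod 2] ZMod 2) := Fintype.ofFinite _
  have hdual : Nat.card (V →ₗ[ZMod 2] ZMod 2) = 2 ^ r := by
    rw [← hE, show Nat.card E = Nat.card V from rfl]
    exact (Nat.card_congr (Module.finBasis (ZMod 2) V).toDualEquiv.toEquiv).symm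
  let sqE : X → V := fun x => Additive.ofMul ⟨(x : G) * x, hsq x x.2⟩
  let cm : X → X → V := fun x y => Additive.ofMul ⟨(x : G)⁻¹ * y * x * (y : G)⁻¹, by
    have h := hcomm _ (X.inv_mem x.2) _ y.2
    rwa [inv_inv] at h⟩
  have hmul : ∀ x y : X, sqE (x * y) = sqE x + cm x y + sqE y := fun x y => by
    refine Additive.toMul.injective (Subtype.ext ?_)
    show (x : G) * y * ((x : G) * y) = (x : G) * x * ((x : G)⁻¹ * y * x * (y : G)⁻¹) * ((y : G) * y)
    group
  have hcm1 : ∀ a b y : X, cm (a * b) y = cm a y + cm b y := fun a b y => by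
    refine Additive.toMul.injective (Subtype.ext ?_)
    show ((a : G) * b)⁻¹ * y * ((a : G) * b) * (y : G)⁻¹ =
      ((a : G)⁻¹ * y * a * (y : G)⁻¹) * ((b : G)⁻¹ * y * b * (y : G)⁻¹)
    have h : (a : G)⁻¹ * y * a * (y : G)⁻¹ ∈ E := (Additive.toMul (cm a y)).2
    calc ((a : G) * b)⁻¹ * y * ((a : G) * b) * (y : G)⁻¹
        = (b : G)⁻¹ * ((a : G)⁻¹ * y * a * (y : G)⁻¹) * b * ((b : G)⁻¹ * y * b * (y : G)⁻¹) := by group
      _ = _ := by rw [mul_assoc (b : G)⁻¹, (hcen _ h b b.2).eq, inv_mul_cancel_left]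
  have hcm2 : ∀ x a b : X, cm x (a * b) = cm x a + cm x b := fun x a b => by
    refine Additive.toMul.injective (Subtype.ext ?_)
    show (x : G)⁻¹ * ((a : G) * b) * x * ((a : G) * b)⁻¹ =
      ((x : G)⁻¹ * a * x * (a : G)⁻¹) * ((x : G)⁻¹ * b * x * (b : G)⁻¹)
    have h : (x : G)⁻¹ * b * x * (b : G)⁻¹ ∈ E := (Additive.toMul (cm x b)).2
    calc (x : G)⁻¹ * ((a : G) * b) * x * ((a : G) * b)⁻¹
        = (x : G)⁻¹ * a * x * ((x : G)⁻¹ * b * x * (b : G)⁻¹) * (a : G)⁻¹ := by group
      _ = _ := by rw [mul_assoc _ _ (a : G)⁻¹, (hcen _ h _ (X.inv_mem a.2)).eq, ← mul_assoc]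
  -- one character
  have hS : ∀ l : V →ₗ[ZMod 2] ZMod 2, (2 : ℤ) ^ (2 * r + 1) ∣ ∑ x : X, sgn (l (sqE x)) := by
    intro l
    let Rad : Subgroup X :=
      { carrier := {y | ∀ x, l (cm x y) = 0}
        one_mem' := fun x => by
          rw [show cm x 1 = 0 from Additive.toMul.injective (Subtype.ext (by
            show (x : G)⁻¹ * 1 * x * (1 : G)⁻¹ = 1; simp)), map_zero]
        mul_mem' := fun {a b} ha hb x => by rw [hcm2, map_add, ha x, hb x, add_zero]
        inv_mem' := fun {a} ha x => by
          have h := congrArg l (hcm2 x a a⁻¹)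
          rw [map_add, ha x, zero_add, mul_inv_cancel, show cm x 1 = 0 from Additive.toMul.injective (Subtype.ext (by
            show (x : G)⁻¹ * 1 * x * (1 : G)⁻¹ = 1; simp)), map_zero] at h
          exact h.symm }
    haveI : Fintype Rad := Fintype.ofFinite Rad
    have hinner : ∀ y : X, ∑ x : X, sgn (l (cm x y)) = if y ∈ Rad then (Fintype.card X : ℤ) else 0 := by
      intro y
      split_ifs with hy
      · rw [Finset.sum_eq_card_nsmul (b := (1 : ℤ)) fun x _ => by rw [hy x, sgn_zero]]
        simp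
      · rcases sum_sgn (fun x : X => l (cm x y)) (fun a b => by rw [hcm1, map_add]) with h | h
        · exfalso
          refine hy fun x => ?_
          by_contra hne
          have hlt : ∑ x : X, sgn (l (cm x y)) < ∑ _x : X, (1 : ℤ) := by
            refine Finset.sum_lt_sum (fun z _ => ?_) ⟨x, Finset.mem_univ x, ?_⟩
            · rw [sgn]; split_ifs <;> norm_num
            · rw [sgn, if_neg hne]; norm_num
          simp [h] at hlt
        · exact h
    set S := ∑ x : X, sgn (l (sqE x)) with hSdef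
    have hsquare : S * S = (Fintype.card X : ℤ) * ∑ y : Rad, sgn (l (sqE (y : X))) := by
      calc S * S = ∑ x : X, ∑ y : X, sgn (l (sqE x)) * sgn (l (sqE (x * y))) := by
            rw [hSdef, Finset.sum_mul_sum]
            refine Finset.sum_congr rfl fun x _ => ?_
            exact (Fintype.sum_equiv (Equiv.mulLeft x) _ _ fun y => rfl).symm
        _ = ∑ x : X, ∑ y : X, sgn (l (sqE y)) * sgn (l (cm x y)) := by
            refine Finset.sum_congr rfl fun x _ => Finset.sum_congr rfl fun y _ => ?_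
            rw [hmul, map_add, map_add, sgn_add, sgn_add]
            have h : sgn (l (sqE x)) * sgn (l (sqE x)) = 1 := by rw [sgn]; split_ifs <;> norm_num
            linear_combination sgn (l (cm x y)) * sgn (l (sqE y)) * h
        _ = ∑ y : X, sgn (l (sqE y)) * ∑ x : X, sgn (l (cm x y)) := by
            rw [Finset.sum_comm]
            simp only [Finset.mul_sum]
        _ = _ := by
            simp only [hinner, mul_ite, mul_zero]
            rw [← Finset.sum_filter, Finset.mul_sum]
            rw [Finset.sum_subtype (p := (· ∈ Rad)) _ (fun y => by simp)]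
            exact Finset.sum_congr rfl fun y _ => mul_comm _ _
    have hrad : (2 : ℤ) ^ r ∣ ∑ y : Rad, sgn (l (sqE (y : X))) := by
      rcases sum_sgn (fun y : Rad => l (sqE (y : X))) (fun a b => by
        show l (sqE ((a : X) * b)) = _
        rw [hmul, map_add, map_add, b.2 (a : X), add_zero]) with h | h
      · rw [h]
        have hle : E.subgroupOf X ≤ Rad := fun z hz x => by
          have hz' : (z : G) ∈ E := mem_subgroupOf.1 hz
          rw [show cm x z = 0 from Additive.toMul.injective (Subtype.ext (by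
            show (x : G)⁻¹ * z * x * (z : G)⁻¹ = 1
            rw [mul_assoc _ (z : G) (x : G), (hcen _ hz' x x.2).eq, inv_mul_cancel_left, mul_inv_cancel])), map_zero]
        have h1 := card_dvd_of_le hle
        rw [Nat.card_congr (subgroupOfEquivOfLe hEX).toEquiv, hE, Nat.card_eq_fintype_card (α := Rad)] at h1
        exact_mod_cast h1
      · rw [h]; exact dvd_zero _
    have h4 : (2 : ℤ) ^ (4 * r + 1) ∣ S * S := by
      rw [hsquare, ← Nat.card_eq_fintype_card, hX]
      refine (pow_dvd_pow 2 (show 4 * r + 1 ≤ n + r by omega)).trans ?_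
      rw [pow_add]
      exact mul_dvd_mul (by push_cast; exact dvd_rfl) hrad
    by_cases h0 : S = 0
    · rw [h0]; exact dvd_zero _
    obtain ⟨k, c, hc, hk⟩ := Nat.exists_eq_two_pow_mul_odd (n := S.natAbs) (by simpa using h0)
    have h5 : 2 ^ (4 * r + 1) ∣ S.natAbs * S.natAbs := by
      rw [← Int.natAbs_mul]
      have := Int.natAbs_dvd_natAbs.2 h4
      simpa [Int.natAbs_pow] using this
    rw [hk, show 2 ^ k * c * (2 ^ k * c) = 2 ^ (2 * k) * (c * c) by rw [two_mul, pow_add]; ring] at h5
    have h6 : 4 * r + 1 ≤ 2 * k := by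
      have h7 := (Nat.Coprime.pow_left (4 * r + 1) (Nat.coprime_two_left.2 (hc.mul hc))).dvd_of_dvd_mul_right h5
      exact (Nat.pow_dvd_pow_iff_le_right (by norm_num)).1 h7
    refine Int.dvd_natAbs.1 ?_
    rw [hk]
    push_cast
    exact dvd_mul_of_dvd_left (pow_dvd_pow 2 (by omega)) _
  -- orthogonality
  have horth : ∀ v : V, ∑ l : V →ₗ[ZMod 2] ZMod 2, sgn (l v) = if v = 0 then (2 : ℤ) ^ r else 0 := by
    intro v
    split_ifs with hv
    · subst hv
      simp only [map_zero, sgn_zero, Finset.sum_const, Finset.card_univ, nsmul_eq_mul, mul_one]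
      rw [← Nat.card_eq_fintype_card, hdual]
      push_cast
      rfl
    · obtain ⟨l0, hl0⟩ := Module.Projective.exists_dual_ne_zero (ZMod 2) hv
      have h1 : sgn (l0 v) = -1 := by rw [sgn, if_neg hl0]
      have h2 : ∑ l : V →ₗ[ZMod 2] ZMod 2, sgn (l v) = sgn (l0 v) * ∑ l : V →ₗ[ZMod 2] ZMod 2, sgn (l v) := by
        rw [Finset.mul_sum]
        refine (Fintype.sum_equiv (Equiv.addLeft l0) _ _ fun l => ?_).symm
        rw [Equiv.coe_addLeft, LinearMap.add_apply, sgn_add]
      rw [h1] at h2
      omega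
  have htot : (2 : ℤ) ^ (2 * r + 1) ∣ ∑ l : V →ₗ[ZMod 2] ZMod 2, ∑ x : X, sgn (l (sqE x)) :=
    Finset.dvd_sum fun l _ => hS l
  rw [Finset.sum_comm] at htot
  simp only [horth] at htot
  rw [Finset.sum_ite, Finset.sum_const_zero, add_zero, Finset.sum_const, nsmul_eq_mul] at htot
  have hcard : (Finset.univ.filter fun x : X => sqE x = 0).card = {x | x ∈ X ∧ x * x = 1}.ncard := by
    rw [← Set.ncard_coe_finset, ← Set.ncard_image_of_injective _ Subtype.val_injective]
    congr 1
    ext x
    simp only [Finset.coe_filter, Finset.mem_univ, true_and, Set.mem_image, Set.mem_setOf_eq]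
    constructor
    · rintro ⟨y, hy, rfl⟩
      exact ⟨y.2, congrArg Subtype.val (congrArg Additive.toMul hy)⟩
    · rintro ⟨hx, h1⟩
      exact ⟨⟨x, hx⟩, Additive.toMul.injective (Subtype.ext h1), rfl⟩
  rw [hcard, show (2 : ℤ) ^ (2 * r + 1) = 2 ^ (r + 1) * 2 ^ r by rw [← pow_add]; ring_nf] at htot
  have h8 := (mul_dvd_mul_iff_right (pow_ne_zero r (two_ne_zero (α := ℤ)))).1 htot
  exact_mod_cast h8

end Cfsg.Agent.GoodInvol.SquareCount
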