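import Cfsg.Agent.Lib.GoodInvol.FieldForms

/-!
The field half of the three transfer cases: singular vectors of `sq (a, t, y) = (a + α) t + g y + B (t, y)` and
the additive maps preserving the polar of the norm up to an additive factor.
-/

set_option autoImplicit false
set_option linter.unusedSectionVars false
set_option linter.style.haveILetI false

namespace Cfsg.Agent.GoodInvol.Singular

open Finset FieldForms

variable {F : Type*} [Field F] [Finite F] [CharP F 2] {n r : ℕ}

/-- The polar of the norm. -/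
def polar (r : ℕ) (x y : F) : F := x * y ^ 2 ^ r + x ^ 2 ^ r * y

theorem polar_self (x : F) : polar r x x = 0 := by
  rw [polar, mul_comm (x ^ 2 ^ r), CharTwo.add_self_eq_zero]

theorem form_add (x y : F) : form r (x + y) = form r x + form r y + polar r x y := by
  simp only [form, polar, add_pow_two_pow]; ring

theorem polar_smul {l : F} (hl : l ^ 2 ^ r = l) (x y : F) : polar r (l * x) y = l * polar r x y := by
  simp only [polar, mul_pow, hl]; ring

theorem polar_comm (x y : F) : polar r x y = polar r y x := by simp only [polar]; ring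

theorem form_eq_zero {x : F} (h : form r x = 0) : x = 0 := by
  by_contra h0
  exact form_ne_zero h0 h

theorem form_zero : form r (0 : F) = 0 := by simp [form]

/-- The square of the vector `(a, t, y)` in the unitary case. -/
def usq (r : ℕ) (α a t y : F) : F := (a + α) * t + form r y

/-- The commutator pairing of two such vectors. -/
def ubil (r : ℕ) (a t y a' t' y' : F) : F := a * t' + a' * t + polar r y y'

theorem usq_add (α a t y a' t' y' : F) :
    usq r α (a + a') (t + t') (y + y') = usq r α a t y + usq r α a' t' y' + ubil r a t y a' t' y' := by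
  simp only [usq, ubil, form_add]; ring

/-- Candidates: `a = 1` and `y = 0` or `α = 0`. -/
theorem unitary_candidate {α t y a' t' y' : F} (hc : y = 0 ∨ α = 0) (hv : usq r α 1 t y = 0)
    (ha' : a' = 0 ∨ a' = 1) (hb : ubil r 1 t y a' t' y' = 0) (hw : usq r α a' t' y' = 0) :
    (a' = 0 ∧ t' = 0 ∧ y' = 0) ∨ (a' = 1 ∧ t' = t ∧ y' = y) := by
  have h2 := CharTwo.two_eq_zero (R := F)
  simp only [usq] at hv hw
  simp only [ubil, one_mul] at hb
  rcases hc with rfl | rfl
  · have hp : polar r (0 : F) y' = 0 := by simp [polar]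
    rw [hp, add_zero] at hb
    rw [form_zero, add_zero] at hv
    rcases ha' with rfl | rfl
    · have ht : t' = 0 := by linear_combination hb
      subst ht
      exact Or.inl ⟨rfl, rfl, form_eq_zero (r := r) (by simpa using hw)⟩
    · have ht : t' = t := by linear_combination hb - t * h2
      subst ht
      exact Or.inr ⟨rfl, rfl, form_eq_zero (r := r) (by linear_combination hw - hv)⟩
  · rcases ha' with rfl | rfl
    · have hy : y' = 0 := form_eq_zero (r := r) (by simpa using hw)
      subst hy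
      have hp : polar r y (0 : F) = 0 := by simp [polar]
      exact Or.inl ⟨rfl, by linear_combination hb - hp, rfl⟩
    · have hy : y + y' = 0 := form_eq_zero (r := r) (by rw [form_add]; linear_combination hv + hw + hb - t * h2 - t' * h2)
      have hy' : y' = y := by linear_combination hy - y * h2
      subst hy'
      exact Or.inr ⟨rfl, by linear_combination hb - t * h2 - polar_self (r := r) y', rfl⟩

section
variable (hn : Nat.card F = 2 ^ n) (hr : n = 2 * r)
include hn hr

theorem exists_fixed_ne (h2 : 2 ≤ r) : ∃ s : F, s ^ 2 ^ r = s ∧ s ≠ 0 ∧ s ≠ 1 := by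
  obtain ⟨g, hg⟩ := IsCyclic.exists_ofOrder_eq_natCard (α := Fˣ)
  rw [Nat.card_units, hn] at hg
  refine ⟨form r (g : F), ?_, form_ne_zero g.ne_zero, fun e => ?_⟩
  · have h1 : (g : F) ^ 2 ^ (r + r) = g := by
      rw [← two_mul, ← hr, ← hn]
      haveI := Fintype.ofFinite F
      rw [Nat.card_eq_fintype_card, FiniteField.pow_card]
    rw [form, mul_pow, ← pow_mul, ← pow_add 2, h1, mul_comm]
  · have h1 : orderOf g ∣ 1 + 2 ^ r := orderOf_dvd_of_pow_eq_one (Units.ext (by
      rw [Units.val_pow_eq_pow_val, pow_add, pow_one]; exact e))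
    have h4 : 4 ≤ 2 ^ r := (Nat.pow_le_pow_right two_pos h2 : 2 ^ 2 ≤ 2 ^ r)
    have h5 := Nat.le_of_dvd (by omega) h1
    rw [hg, hr, two_mul, pow_add] at h5
    have := Nat.mul_le_mul_right (2 ^ r) h4
    omega

theorem exists_trace_eq {z : F} (hz : z ^ 2 ^ r = z) : ∃ m : F, m + m ^ 2 ^ r = z := by
  obtain ⟨x, hx⟩ := exists_moved hn (k := r) (fun hd => by
    have := Nat.le_of_dvd (Nat.pos_of_ne_zero fun h0 => by have := n_pos hn; omega) hd
    have := n_pos hn
    omega)
  have hd : x + x ^ 2 ^ r ≠ 0 := fun h0 => hx (by linear_combination h0 - x * CharTwo.two_eq_zero (R := F))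
  have hp : (x ^ 2 ^ r) ^ 2 ^ r = x := by
    rw [← pow_mul, ← pow_add, ← two_mul, ← hr, ← hn]
    haveI := Fintype.ofFinite F
    rw [Nat.card_eq_fintype_card, FiniteField.pow_card]
  refine ⟨z * x / (x + x ^ 2 ^ r), ?_⟩
  rw [div_pow, mul_pow, hz, add_pow_two_pow, hp, add_comm (x ^ 2 ^ r) x, ← add_div, ← mul_add,
    mul_div_assoc, div_self hd, mul_one]

/-- All other singular vectors have a second singular vector in their perp. -/
theorem unitary_not_candidate (h2 : 2 ≤ r) {α a t y : F} (hα : α ^ 2 ^ r = α) (ht : t ^ 2 ^ r = t)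
    (ha : a = 0 ∨ (a = 1 ∧ y ≠ 0 ∧ α ≠ 0)) (hne : ¬ (a = 0 ∧ t = 0 ∧ y = 0)) (hv : usq r α a t y = 0) :
    ∃ t' y' : F, t' ^ 2 ^ r = t' ∧ ubil r a t y 0 t' y' = 0 ∧ usq r α 0 t' y' = 0 ∧
      ¬ (t' = 0 ∧ y' = 0) ∧ ¬ (a = 0 ∧ t' = t ∧ y' = y) := by
  have h2' := CharTwo.two_eq_zero (R := F)
  simp only [usq] at hv ⊢
  rcases ha with rfl | ⟨rfl, hy, hα0⟩
  · obtain ⟨s, hs, hs0, hs1⟩ := exists_fixed_ne hn hr h2
    refine ⟨s ^ 2 * t, s * y, by rw [mul_pow, ht, ← pow_mul, mul_comm 2, pow_mul, hs], ?_, ?_, ?_, ?_⟩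
    · rw [ubil, polar_comm, polar_smul hs, polar_self]; ring
    · rw [form_mul, show form r s = s * s by rw [form, hs]]
      linear_combination s ^ 2 * hv
    · rintro ⟨e1, e2⟩
      exact hne ⟨rfl, (mul_eq_zero.1 e1).resolve_left (pow_ne_zero 2 hs0), (mul_eq_zero.1 e2).resolve_left hs0⟩
    · rintro ⟨-, e1, e2⟩
      have e3 : (s - 1) * y = 0 := by linear_combination e2
      have hy : y = 0 := (mul_eq_zero.1 e3).resolve_left (sub_ne_zero.2 hs1)
      have e4 : (s - 1) ^ 2 * t = 0 := by linear_combination e1 + (1 - s) * t * h2'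
      exact hne ⟨rfl, (mul_eq_zero.1 e4).resolve_left (pow_ne_zero 2 (sub_ne_zero.2 hs1)), hy⟩
  · obtain ⟨m, hm⟩ := exists_trace_eq hn hr (z := α⁻¹) (by rw [inv_pow, hα])
    have hm0 : m ≠ 0 := by
      rintro rfl
      simp [zero_pow (Nat.two_pow_pos r).ne'] at hm
      exact hα0 hm.symm
    refine ⟨polar r y (m⁻¹ * y), m⁻¹ * y, ?_, ?_, ?_, ?_, fun e => one_ne_zero e.1⟩
    · have hq : ∀ x : F, (x ^ 2 ^ r) ^ 2 ^ r = x := fun x => by
        rw [← pow_mul, ← pow_add, ← two_mul, ← hr, ← hn]
        haveI := Fintype.ofFinite F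
        rw [Nat.card_eq_fintype_card, FiniteField.pow_card]
      simp only [polar, add_pow_two_pow, mul_pow, hq]; ring
    · rw [ubil, zero_mul, add_zero, one_mul, CharTwo.add_self_eq_zero]
    · have hm' : α * (m + m ^ 2 ^ r) = 1 := by rw [hm, mul_inv_cancel₀ hα0]
      simp only [form, polar, mul_pow, inv_pow]
      have h3 : m ^ 2 ^ r ≠ 0 := pow_ne_zero _ hm0
      field_simp
      linear_combination (y * y ^ 2 ^ r) * hm' + (y * y ^ 2 ^ r) * h2'
    · rintro ⟨-, e⟩
      exact hy ((mul_eq_zero.1 e).resolve_left (inv_ne_zero hm0))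

/-- An injective additive map carrying the polar of the norm to an additive function of itself is semilinear
over the subfield. -/
theorem polar_semilinear (σ τ : F →+ F) (hσ : Function.Injective σ)
    (h : ∀ x y, polar r (σ x) (σ y) = τ (polar r x y)) :
    ∃ i : ℕ, i < n ∧ ∀ l x : F, l ^ 2 ^ r = l → σ (l * x) = l ^ 2 ^ i * σ x := by
  classical
  haveI : NeZero n := ⟨(n_pos hn).ne'⟩
  obtain ⟨a, ha⟩ := exists_lin hn σ
  obtain ⟨c, hc⟩ := exists_lin hn τ
  set S : Fin n := Fin.ofNat n r with hS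
  have hS2 : S + S = 0 := Fin.ext (by
    rw [Fin.val_add, hS, Fin.val_ofNat, Fin.val_zero, ← Nat.add_mod, ← two_mul, ← hr, Nat.mod_self])
  have hper : ∀ (x : F) (j : Fin n), x ^ 2 ^ ((j + S : Fin n) : ℕ) = x ^ 2 ^ ((j : ℕ) + r) := fun x j => by
    rw [Fin.val_add, hS, Fin.val_ofNat, Nat.add_mod_mod, pow_two_pow_mod hn]
  set v : Fin n → F := fun l => a (l + S) ^ 2 ^ r with hv
  have hexp : ∀ x : F, σ x ^ 2 ^ r = ∑ l, v l * x ^ 2 ^ (l : ℕ) := by
    intro x
    haveI : Fact (Nat.Prime 2) := ⟨Nat.prime_two⟩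
    rw [ha, sum_pow_char_pow 2 r univ]
    refine Fintype.sum_equiv (Equiv.addRight S) _ _ fun j => ?_
    rw [Equiv.coe_addRight, hper]
    simp only [hv, add_assoc, hS2, add_zero, mul_pow, ← pow_mul, ← pow_add]
  set T : Fin n → Fin n → F := fun i l => if l = i + S then c i + c l else 0 with hT
  set C : Fin n → Fin n → F := fun i l => a i * v l + v i * a l - T i l with hC
  have hC0 : ∀ x y : F, ∑ i, (∑ l, C i l * y ^ 2 ^ (l : ℕ)) * x ^ 2 ^ (i : ℕ) = 0 := by
    intro x y
    have h1 : polar r (σ x) (σ y) = ∑ i, (∑ l, (a i * v l + v i * a l) * y ^ 2 ^ (l : ℕ)) * x ^ 2 ^ (i : ℕ) := by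
      rw [polar, hexp, hexp, ha, ha]
      simp only [sum_mul, add_mul, sum_add_distrib]
      congr 1 <;> exact sum_congr rfl fun i _ => (mul_sum ..).trans (sum_congr rfl fun l _ => by ring)
    have h2 : τ (polar r x y) = ∑ i, (∑ l, T i l * y ^ 2 ^ (l : ℕ)) * x ^ 2 ^ (i : ℕ) := by
      have e1 : ∀ i : Fin n, ∑ l, T i l * y ^ 2 ^ (l : ℕ) = (c i + c (i + S)) * y ^ 2 ^ ((i + S : Fin n) : ℕ) :=
        fun i => by
          rw [Finset.sum_eq_single (i + S) (fun l _ hl => by rw [hT]; simp [hl]) (by simp)]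
          simp [hT]
      simp only [e1, add_mul, sum_add_distrib]
      rw [hc]
      simp only [polar, add_pow_two_pow, mul_add, sum_add_distrib]
      congr 1
      · refine sum_congr rfl fun i _ => ?_
        rw [hper, mul_pow, ← pow_mul y, ← pow_add, add_comm r]; ring
      · refine Fintype.sum_equiv (Equiv.addRight S) _ _ fun i => ?_
        rw [Equiv.coe_addRight, add_assoc, hS2, add_zero, hper, mul_pow, ← pow_mul x, ← pow_add, add_comm r]; ring
    have h3 := sub_eq_zero.2 (h x y)
    rw [h1, h2, ← sum_sub_distrib] at h3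
    rw [← h3]
    refine sum_congr rfl fun i _ => ?_
    simp only [hC, sub_mul, sum_sub_distrib]
  have hC1 : ∀ i l, C i l = 0 := fun i l => lin_eq_zero hn (fun y => lin_eq_zero hn (hC0 · y) i) l
  have hrel : ∀ i m, m ≠ i → a i * a m ^ 2 ^ r = a (i + S) ^ 2 ^ r * a (m + S) := by
    intro i m hm
    have h1 := hC1 i (m + S)
    simp only [hC, hT, hv, add_assoc, hS2, add_zero, if_neg (fun e => hm (add_right_cancel e)), sub_zero] at h1
    linear_combination h1 - a (i + S) ^ 2 ^ r * a (m + S) * CharTwo.two_eq_zero (R := F)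
  obtain ⟨i, hi⟩ : ∃ i, a i ≠ 0 := by
    by_contra h0
    push Not at h0
    exact one_ne_zero (hσ (show σ (1 : F) = σ 0 by simp [ha, h0]))
  by_cases hsupp : ∀ j, a j ≠ 0 → j = i ∨ j = i + S
  · refine ⟨i, i.2, fun l x hl => ?_⟩
    rw [ha, ha, mul_sum]
    refine sum_congr rfl fun j _ => ?_
    by_cases hj : a j = 0
    · simp [hj]
    have hlj : l ^ 2 ^ (j : ℕ) = l ^ 2 ^ (i : ℕ) := by
      rcases hsupp j hj with rfl | rfl
      · rfl
      · rw [hper, pow_add, mul_comm, pow_mul, hl]
    rw [mul_pow, hlj]; ring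
  · exfalso
    push Not at hsupp
    obtain ⟨j, hj, hji, hjiS⟩ := hsupp
    have hne : ∀ x y, a x ≠ 0 → a y ≠ 0 → y ≠ x → a (x + S) ≠ 0 ∧ a (y + S) ≠ 0 := by
      intro x y hx hy hxy
      have h1 := hrel x y hxy
      have h2 : a x * a y ^ 2 ^ r ≠ 0 := mul_ne_zero hx (pow_ne_zero _ hy)
      rw [h1] at h2
      exact ⟨fun e => h2 (by simp [e, zero_pow (Nat.two_pow_pos r).ne']), fun e => h2 (by simp [e])⟩
    obtain ⟨hiS, hjS⟩ := hne i j hi hj hji
    set u := a i ^ 2 ^ r / a (i + S) with hu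
    have hu0 : u ≠ 0 := div_ne_zero (pow_ne_zero _ hi) hiS
    have hall : ∀ m, a m ^ 2 ^ r = u * a (m + S) := by
      have hA : ∀ x m, a x ≠ 0 → a (x + S) ≠ 0 → m ≠ x + S →
          a m ^ 2 ^ r * a (x + S) = a x ^ 2 ^ r * a (m + S) := by
        intro x m hx hxS hm
        have h1 := hrel (x + S) m hm
        simp only [add_assoc, hS2, add_zero] at h1
        linear_combination h1
      intro m
      rw [hu, eq_comm, div_mul_eq_mul_div, div_eq_iff hiS]
      by_cases hm : m = i + S
      · subst hm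
        have e1 := hA j (i + S) hj hjS (fun e => hji.symm (add_right_cancel e))
        have e2 := hA i j hi hiS hjiS
        simp only [add_assoc, hS2, add_zero] at e1 ⊢
        apply mul_left_cancel₀ hjS
        linear_combination (-(a (i + S))) * e1 + a i * (-e2)
      · exact (hA i m hi hiS hm).symm
    have himg : ∀ x, (σ x) ^ 2 ^ r = u * σ x := fun x => by
      rw [hexp, ha, mul_sum]
      refine sum_congr rfl fun l _ => ?_
      rw [show v l = u * a l by
        show a (l + S) ^ 2 ^ r = _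
        rw [hall, add_assoc, hS2, add_zero]]
      ring
    obtain ⟨z, hz⟩ := (Finite.injective_iff_surjective.1 hσ) 1
    have h1 := himg z
    rw [hz, one_pow, mul_one] at h1
    obtain ⟨g, hg⟩ := exists_moved hn (k := r) (fun hd => by
      have := Nat.le_of_dvd (Nat.pos_of_ne_zero fun h0 => by have := n_pos hn; omega) hd
      have := n_pos hn
      omega)
    obtain ⟨w, hw⟩ := (Finite.injective_iff_surjective.1 hσ) g
    have h4 := himg w
    rw [hw, ← h1, one_mul] at h4
    exact hg h4

end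

/-- The square of the vector `(a, t, y)` in the Suzuki case. -/
def ssq (k e : ℕ) (α b a t y : F) : F := (a + α) * t + form k y + (b * t * y) ^ 2 ^ e

theorem ssq_smul (hn : Nat.card F = 2 ^ n) {k e : ℕ} (hk : k = e + 1) (hd : n ∣ k + e) (α b a t y l : F) :
    ssq k e α b a (form k l * t) (l * y) = form k l * ssq k e α b a t y := by
  have h1 : l ^ 2 ^ (k + e) = l := by
    obtain ⟨c, hc⟩ := hd
    rw [← pow_two_pow_mod hn, hc, Nat.mul_mod_right, pow_zero, pow_one]
  have h2 : (form k l * l) ^ 2 ^ e = form k l := by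
    simp only [form, mul_pow, ← pow_mul, ← pow_add, h1]
    rw [hk, pow_succ 2, mul_two, pow_add]
    ring
  simp only [ssq, form_mul]
  rw [show b * (form k l * t) * (l * y) = (form k l * l) * (b * t * y) by ring, mul_pow (form k l * l), h2]
  ring

theorem ncard_le_of_ker {G : Type*} [AddCommGroup G] [Finite G] (L : G →+ G) (d : G) {m : ℕ}
    (h : {t : G | L t = 0}.ncard ≤ m) : {t : G | L t = d}.ncard ≤ m := by
  by_cases he : ∃ t0, L t0 = d
  · obtain ⟨t0, h0⟩ := he
    refine le_trans (Set.ncard_le_ncard_of_injOn (fun t => t - t0) (fun t ht => ?_)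
      (fun x _ y _ e => sub_left_injective e) (Set.toFinite _)) h
    simp only [Set.mem_ofPred_eq] at ht ⊢
    rw [map_sub, ht, h0, sub_self]
  · rw [show {t : G | L t = d} = ∅ from Set.eq_empty_iff_forall_notMem.2 fun t ht => he ⟨t, ht⟩]
    simp

/-- In the Suzuki case there are at most two torus orbits of singular vectors over each `a`. -/
theorem suzuki_count (hn : Nat.card F = 2 ^ n) {k e : ℕ} (he : e.Coprime n) (α b a : F) :
    {p : F × F | p ≠ 0 ∧ ssq k e α b a p.1 p.2 = 0}.ncard ≤ 2 * (Nat.card F - 1) := by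
  classical
  haveI := Fintype.ofFinite F
  set P := {p : F × F | p ≠ 0 ∧ ssq k e α b a p.1 p.2 = 0} with hP
  have hz : (({0} : Set F)ᶜ).ncard = Nat.card F - 1 := by
    rw [Set.ncard_compl, Set.ncard_singleton]
  let L : F → (F →+ F) := fun y => AddMonoidHom.mk' (fun t => (a + α) * t + ((b * y) * t) ^ 2 ^ e)
    fun t t' => by simp only [mul_add, add_pow_two_pow]; ring
  have hmem : ∀ t y, (t, y) ∈ P → y ≠ 0 → L y t = form k y := fun t y hp hy => by
    have h1 := hp.2
    simp only [ssq] at h1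
    show (a + α) * t + ((b * y) * t) ^ 2 ^ e = form k y
    rw [show b * y * t = b * t * y by ring]
    linear_combination h1 - form k y * CharTwo.two_eq_zero (R := F)
  have hfib : ∀ y : F, y ≠ 0 → {t : F | (t, y) ∈ P}.ncard ≤ {t : F | L y t = form k y}.ncard := fun y hy =>
    Set.ncard_le_ncard (fun t ht => hmem t y ht hy) (Set.toFinite _)
  have hsum : P.ncard = ∑ y : F, {t : F | (t, y) ∈ P}.ncard := by
    rw [Set.ncard_eq_toFinset_card', Finset.card_eq_sum_card_fiberwise (f := Prod.snd) (t := univ) (fun _ _ => mem_univ _)]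
    refine sum_congr rfl fun y _ => ?_
    rw [← Set.ncard_coe_finset]
    refine Set.ncard_congr (fun p _ => p.1) (fun p hp => ?_) (fun p q hp hq epq => ?_) fun t ht => ⟨(t, y), ?_, rfl⟩
    · simp only [coe_filter, Set.mem_toFinset, Set.mem_ofPred_eq] at hp ⊢
      rw [← hp.2]; exact hp.1
    · simp only [coe_filter, Set.mem_toFinset, Set.mem_ofPred_eq] at hp hq
      exact Prod.ext epq (hp.2.trans hq.2.symm)
    · simp only [coe_filter, Set.mem_toFinset, Set.mem_ofPred_eq] at ht ⊢
      exact ⟨ht, trivial⟩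
  have hN : (univ.erase (0 : F)).card = Nat.card F - 1 := by
    rw [card_erase_of_mem (mem_univ _), card_univ, Nat.card_eq_fintype_card]
  rw [hsum, ← Finset.add_sum_erase univ _ (mem_univ (0 : F))]
  by_cases hc : a + α = 0
  · have h0 : {t : F | (t, (0 : F)) ∈ P}.ncard ≤ Nat.card F - 1 := by
      refine le_trans (Set.ncard_le_ncard (fun t ht => ?_) (Set.toFinite _)) hz.le
      intro e0
      exact ht.1 (by simp only [Set.mem_singleton_iff] at e0; subst e0; rfl)
    have h1 : ∀ y ∈ univ.erase (0 : F), {t : F | (t, y) ∈ P}.ncard ≤ 1 := fun y hy => by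
      have hy0 := (mem_erase.1 hy).1
      refine (Set.ncard_le_one (Set.toFinite _)).2 fun s hs t ht => ?_
      have e1 := hmem s y hs hy0
      have e2 := hmem t y ht hy0
      change (a + α) * s + ((b * y) * s) ^ 2 ^ e = _ at e1
      change (a + α) * t + ((b * y) * t) ^ 2 ^ e = _ at e2
      rw [hc, zero_mul, zero_add] at e1 e2
      haveI : Fact (Nat.Prime 2) := ⟨Nat.prime_two⟩
      have e3 := iterateFrobenius_inj F 2 e (a₁ := b * y * s) (a₂ := b * y * t)
        (by simpa [iterateFrobenius_def] using e1.trans e2.symm)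
      have hby : b * y ≠ 0 := fun h0 => form_ne_zero hy0 (by rw [← e1, h0, zero_mul, zero_pow (Nat.two_pow_pos e).ne'])
      exact mul_left_cancel₀ hby e3
    have h2 := Finset.sum_le_sum h1
    rw [sum_const, smul_eq_mul, mul_one, hN] at h2
    omega
  · have h0 : {t : F | (t, (0 : F)) ∈ P}.ncard = 0 := by
      refine (Set.ncard_eq_zero (Set.toFinite _)).2 (Set.eq_empty_iff_forall_notMem.2 fun t ht => ?_)
      obtain ⟨h1, h2⟩ := ht
      simp [ssq, form_zero, zero_pow (Nat.two_pow_pos e).ne', hc] at h2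
      exact h1 (by rw [h2]; rfl)
    have h1 : ∀ y ∈ univ.erase (0 : F), {t : F | (t, y) ∈ P}.ncard ≤ 2 := fun y hy =>
      le_trans (hfib y (mem_erase.1 hy).1)
        (ncard_le_of_ker (L y) _ (kernel_le_two hn he (b := b * y) (Or.inl hc)))
    have h2 := Finset.sum_le_sum h1
    rw [sum_const, smul_eq_mul, hN] at h2
    omega

end Cfsg.Agent.GoodInvol.Singular
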