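import Cfsg.Agent.Lib.GoodInvol.CaseBUnitary

/-!
# The orbit of the involution on the vectors without a bound on the two-subgroups, unitary type

The stabiliser of the coset of `u` has odd order modulo the kernel, so the two-part of the normaliser is the one of
the orbit. The elements squaring to one lie in few cosets: each fixed coset without an involution gives `q + 1` others.
With the two tori an orbit of size divisible by four has `q` cosets, all fixed, or `q ^ 2`.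
-/

set_option autoImplicit false
set_option linter.style.haveILetI false
set_option linter.unusedSectionVars false

namespace Cfsg.Agent.GoodInvol

open Subgroup MulAction

universe u

variable {G : Type u} [Group G] [Finite G] {M X T E : Subgroup G} {u : G}

namespace XCfg

variable (h : XCfg M X T E u)

/-- The coset of `u`. -/
def uVec (h : XCfg M X T E u) : XVec X E := QuotientGroup.mk (⟨u, h.u_X⟩ : X)

/-- The orbit of the coset of `u`. -/
def gammaSet (h : XCfg M X T E u) : Set (XVec X E) := Set.range fun g : xNorm M X E => xPerm M X E g h.uVec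

theorem mem_gammaSet {y : X} (hy : (QuotientGroup.mk y : XVec X E) ∈ h.gammaSet) :
    ∃ g ∈ xNorm M X E, (g * u * g⁻¹)⁻¹ * y ∈ E := by
  obtain ⟨g, hg⟩ := hy
  exact ⟨g, g.2, xVec_eq_iff.1 ((xPerm_mk g (y := (⟨u, h.u_X⟩ : X))
    (z := ⟨_, (Subgroup.mem_normalizer_iff.1 (mem_inf.1 (mem_inf.1 g.2).1).2 _).1 h.u_X⟩) rfl).symm.trans hg)⟩

theorem sq_of_gammaSet {y : X} (hy : (QuotientGroup.mk y : XVec X E) ∈ h.gammaSet) : (y : G) * y = 1 := by
  obtain ⟨g, hg, he⟩ := h.mem_gammaSet hy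
  set w := g * u * g⁻¹ with hw
  have hwX : w ∈ X := (Subgroup.mem_normalizer_iff.1 (mem_inf.1 (mem_inf.1 hg).1).2 _).1 h.u_X
  have hw2 : w * w = 1 := by
    rw [hw, show g * u * g⁻¹ * (g * u * g⁻¹) = g * (u * u) * g⁻¹ by group,
      show u * u = 1 by rw [← pow_two, ← h.ou, pow_orderOf_eq_one], mul_one, mul_inv_cancel]
  rw [show (y : G) = w * (w⁻¹ * y) from (mul_inv_cancel_left w _).symm,
    (h.E_cen _ he w hwX).mul_mul_mul_comm, hw2, h.E_sq _ he, mul_one]

include h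

/-- Only odd elements fix the coset of `u`. -/
theorem odd_stab : Odd (Nat.card (stabilizer (xPerm M X E).range h.uVec)) := by
  classical
  haveI : Fact (Nat.Prime 2) := ⟨Nat.prime_two⟩
  rw [← Nat.not_even_iff_odd, even_iff_two_dvd]
  intro h2
  obtain ⟨⟨⟨_, g, rfl⟩, hfix⟩, ho⟩ := exists_prime_orderOf_dvd_card' 2 h2
  rw [← Subgroup.orderOf_coe, ← Subgroup.orderOf_coe] at ho
  change orderOf (xPerm M X E g) = 2 at ho
  change xPerm M X E g h.uVec = h.uVec at hfix
  obtain ⟨n, m, hm, hn⟩ := Nat.exists_eq_two_pow_mul_odd (orderOf_pos g).ne'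
  have hsame : xPerm M X E (g ^ m) = xPerm M X E g := by
    rw [map_pow, ← pow_mod_orderOf, ho, Nat.odd_iff.1 hm, pow_one]
  set g' : G := ((g ^ m : xNorm M X E) : G) with hg'
  have hg'2 : IsPGroup 2 (zpowers g') := IsPGroup.of_card (n := n) (by
    rw [Nat.card_zpowers, hg', Subgroup.orderOf_coe, orderOf_pow' _ hm.pos.ne', hn,
      Nat.gcd_eq_right (dvd_mul_left _ _), Nat.mul_div_cancel _ hm.pos])
  have hg'N : g' ∈ Subgroup.normalizer (X : Set G) := (mem_inf.1 (mem_inf.1 (g ^ m).2).1).2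
  let F : Subgroup G := ((stabilizer (xPerm M X E).range h.uVec).comap (xPerm M X E).rangeRestrict).map
    (xNorm M X E).subtype
  have hXF : X ≤ F := fun c hc => ⟨⟨c, h.X_le_xNorm hc⟩, by
    show xPerm M X E ⟨c, _⟩ h.uVec = h.uVec
    rw [MonoidHom.mem_ker.1 ((mem_ker_xPerm (⟨c, h.X_le_xNorm hc⟩ : xNorm M X E)).2 (h.X_le_xKer hc))]
    rfl, rfl⟩
  have hgF : g' ∈ F := ⟨g ^ m, by
    show xPerm M X E (g ^ m) h.uVec = h.uVec
    rw [hsame, hfix], rfl⟩
  have hle := h.le_of_fix (R := X ⊔ zpowers g') (sup_le h.X_le_xNorm (zpowers_le.2 (g ^ m).2))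
    (IsPGroup.to_sup_of_normal_left' h.X_two hg'2 (zpowers_le.2 hg'N)) le_sup_left fun k hk => by
      obtain ⟨k', hk', rfl⟩ := (sup_le hXF (zpowers_le.2 hgF)) hk
      exact xVec_eq_iff.1 ((xPerm_mk k' (y := (⟨u, h.u_X⟩ : X))
        (z := ⟨_, (Subgroup.mem_normalizer_iff.1 (mem_inf.1 (mem_inf.1 k'.2).1).2 _).1 h.u_X⟩) rfl).symm.trans
          hk').symm
  have h1 := MonoidHom.mem_ker.1 ((mem_ker_xPerm (g ^ m)).2 (h.X_le_xKer (hle (mem_sup_right (mem_zpowers _)))))
  rw [hsame] at h1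
  rw [h1, orderOf_one] at ho
  norm_num at ho

theorem card_range_eq : Nat.card (xPerm M X E).range =
    h.gammaSet.ncard * Nat.card (stabilizer (xPerm M X E).range h.uVec) := by
  have horb : MulAction.orbit (xPerm M X E).range h.uVec = h.gammaSet := by
    ext p
    exact ⟨fun ⟨⟨_, g, rfl⟩, hp⟩ => ⟨g, hp⟩, fun ⟨g, hp⟩ => ⟨⟨_, g, rfl⟩, hp⟩⟩
  rw [← horb, ← Nat.card_coe_set_eq, Nat.card_congr (orbitEquivQuotientStabilizer _ h.uVec),
    ← Subgroup.index_eq_card, Subgroup.index_mul_card]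

theorem pow_dvd_range {k : ℕ} : 2 ^ k ∣ Nat.card (xPerm M X E).range ↔ 2 ^ k ∣ h.gammaSet.ncard := by
  rw [h.card_range_eq]
  exact ⟨fun e => (Nat.Coprime.pow_left k (Nat.coprime_two_left.2 h.odd_stab)).dvd_of_dvd_mul_right e,
    fun e => e.mul_right _⟩

/-- The two-subgroups of the normaliser. -/
theorem card_two_group_le {k : ℕ} (hk : ¬ 2 ^ (k + 1) ∣ h.gammaSet.ncard) {R : Subgroup G} (hR : R ≤ xNorm M X E)
    (hR2 : IsPGroup 2 R) : Nat.card R ≤ Nat.card X * 2 ^ k := by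
  classical
  haveI : Fact (Nat.Prime 2) := ⟨Nat.prime_two⟩
  set S := (X ⊔ R).subgroupOf (xNorm M X E) with hS
  have hle : X ⊔ R ≤ xNorm M X E := sup_le h.X_le_xNorm hR
  have hRN : R ≤ Subgroup.normalizer (X : Set G) := fun g hg => (mem_inf.1 (mem_inf.1 (hR hg)).1).2
  have h2 : IsPGroup 2 (X ⊔ R : Subgroup G) := IsPGroup.to_sup_of_normal_left' h.X_two hR2 hRN
  have h2S : IsPGroup 2 S := h2.comap_subtype
  obtain ⟨i, hi⟩ := IsPGroup.iff_card.1 (h2S.map (xPerm M X E))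
  have hi' : 2 ^ i ∣ h.gammaSet.ncard := h.pow_dvd_range.1 (hi ▸ Subgroup.card_dvd_of_le (Subgroup.map_le_range _ S))
  have hik : i ≤ k := by
    by_contra hlt
    exact hk ((pow_dvd_pow 2 (by omega)).trans hi')
  have hker : Nat.card ↥(S ⊓ (xPerm M X E).ker) ≤ Nat.card X := by
    rw [← Subgroup.card_map_of_injective (K := S ⊓ (xPerm M X E).ker) (xNorm M X E).subtype_injective]
    refine Subgroup.card_le_of_le (h.le_of_fix (map_subtype_le _) ((h2S.to_le inf_le_left).map _)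
      (fun c hc => ⟨⟨c, h.X_le_xNorm hc⟩, ⟨mem_subgroupOf.2 (mem_sup_left hc), (mem_ker_xPerm _).2 (h.X_le_xKer hc)⟩,
        rfl⟩) ?_)
    rintro _ ⟨g, hg, rfl⟩
    exact ((mem_ker_xPerm g).1 hg.2).2 u h.u_X
  have h3 : Nat.card S = Nat.card ↥(S ⊓ (xPerm M X E).ker) * Nat.card (S.map (xPerm M X E)) := by
    have e1 := ((xPerm M X E).ker.subgroupOf S).card_mul_index
    rw [← Subgroup.relIndex, Subgroup.relIndex_ker] at e1
    rw [← e1, ← Subgroup.inf_subgroupOf_left, Nat.card_congr (Subgroup.subgroupOfEquivOfLe inf_le_left).toEquiv]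
  calc Nat.card R ≤ Nat.card (X ⊔ R : Subgroup G) := Subgroup.card_le_of_le le_sup_right
    _ = Nat.card S := (Nat.card_congr (Subgroup.subgroupOfEquivOfLe hle).toEquiv).symm
    _ ≤ Nat.card X * 2 ^ k := by
      rw [h3, hi]
      exact Nat.mul_le_mul hker (Nat.pow_le_pow_right two_pos hik)

/-- A largest two-subgroup of the normaliser. -/
theorem exists_two_group {k : ℕ} (hk : 2 ^ k ∣ h.gammaSet.ncard) (hk' : ¬ 2 ^ (k + 1) ∣ h.gammaSet.ncard) :
    ∃ S : Subgroup G, S ≤ xNorm M X E ∧ IsPGroup 2 S ∧ X ≤ S ∧ Nat.card S = Nat.card X * 2 ^ k := by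
  classical
  haveI : Fact (Nat.Prime 2) := ⟨Nat.prime_two⟩
  obtain ⟨c, hc⟩ := IsPGroup.iff_card.1 h.X_two
  have hdvd : 2 ^ (c + k) ∣ Nat.card (xNorm M X E) := by
    rw [← Subgroup.card_mul_index (xPerm M X E).ker, Subgroup.index_ker, pow_add]
    refine Nat.mul_dvd_mul ?_ (h.pow_dvd_range.2 hk)
    rw [← hc, ← Nat.card_congr (Subgroup.subgroupOfEquivOfLe h.X_le_xNorm).toEquiv]
    exact Subgroup.card_dvd_of_le fun g hg => (mem_ker_xPerm g).2 (h.X_le_xKer hg)
  obtain ⟨S, hS⟩ := Sylow.exists_subgroup_card_pow_prime 2 hdvd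
  set S' := S.map (xNorm M X E).subtype with hS'
  have hS2 : IsPGroup 2 S' := (IsPGroup.of_card hS).map _
  have hle : S' ≤ xNorm M X E := map_subtype_le _
  have hcard : Nat.card S' = Nat.card X * 2 ^ k := by
    rw [hS', Subgroup.card_map_of_injective (xNorm M X E).subtype_injective, hS, hc, pow_add]
  have hSN : S' ≤ Subgroup.normalizer (X : Set G) := fun g hg => (mem_inf.1 (mem_inf.1 (hle hg)).1).2
  have h2 : IsPGroup 2 (X ⊔ S' : Subgroup G) := IsPGroup.to_sup_of_normal_left' h.X_two hS2 hSN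
  have heq : S' = X ⊔ S' := Subgroup.eq_of_le_of_card_ge le_sup_right
    ((h.card_two_group_le hk' (sup_le h.X_le_xNorm hle) h2).trans hcard.ge)
  exact ⟨S', hle, hS2, by rw [heq]; exact le_sup_left, hcard⟩

/-- An orbit of size divisible by four: `q` fixed cosets or `q ^ 2`. -/
theorem gamma_cases {Q : Subgroup G} {K K1 K0 : Subgroup G} {r g3 m : ℕ} (hr : 2 ≤ r) (hg3 : g3 = 1 ∨ g3 = 3)
    (hE : Nat.card E = 2 ^ r) (hP : PureCfg M X E u K K1 r) (hK0 : K0 ≤ xNorm M X E)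
    (hK0stab : ∀ k ∈ K0, ∀ y ∈ fixCos X E K1, k * y * k⁻¹ ∈ fixCos X E K1)
    (hm : (xKer M X E).relIndex K0 = m) (hm0 : g3 * m + 1 = 2 ^ r * 2 ^ r)
    (hfree : ∀ k ∈ K0, ∀ y ∈ X, y⁻¹ * (k * y * k⁻¹) ∈ E → k ∈ xKer M X E ∨ y ∈ fixCos X E K1)
    (hEQ : E ≤ Q) (hdec : ∀ y ∈ X, ∃ c ∈ fixCos X E K1, ∃ z ∈ Q, y = c * z)
    (hcomm : ∀ c ∈ fixCos X E K1, ∀ z ∈ Q, Commute c z) (hinv : ∀ z ∈ Q, z * z = 1 → z ∈ E)
    (hroots : ∀ e ∈ E, e ≠ 1 → {z | z ∈ Q ∧ z * z = e}.ncard = 2 ^ r * (2 ^ r + 1))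
    (h4 : 4 ∣ Nat.card (xPerm M X E).range) :
    (h.gammaSet.ncard = 2 ^ r * 2 ^ r) ∨ (h.gammaSet.ncard = 2 ^ r ∧
      ∀ g ∈ xNorm M X E, g * u * g⁻¹ ∈ fixCos X E K1) := by
  classical
  haveI := h.normal_sub
  set ψ := xPerm M X E with hψ
  set q := 2 ^ r with hq
  set v := h.uVec with hv
  set Γ := h.gammaSet with hΓ
  set C := fixCos X E K1 with hC
  set Cs : Set (XVec X E) := QuotientGroup.mk '' {y : X | (y : G) ∈ C} with hCs
  have hCmul : ∀ c ∈ C, ∀ e ∈ E, c * e ∈ C := by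
    intro c hc e he
    refine ⟨mul_mem hc.1 (h.E_le_X he), fun k hk => ?_⟩
    rw [show (c * e)⁻¹ * (k * (c * e) * k⁻¹) = e⁻¹ * (c⁻¹ * (k * c * k⁻¹)) * (k * e * k⁻¹) by group,
      (hP.K1_cen k hk e he).eq, mul_inv_cancel_right]
    exact mul_mem (mul_mem (inv_mem he) (hc.2 k hk)) he
  have hmemCs : ∀ y : X, (QuotientGroup.mk y : XVec X E) ∈ Cs ↔ (y : G) ∈ C := fun y =>
    ⟨fun ⟨z, hz, e⟩ => by
      have := hCmul _ hz _ (xVec_eq_iff.1 e)
      rwa [mul_inv_cancel_left] at this, fun hy => ⟨y, hy, rfl⟩⟩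
  have huC : u ∈ C := ⟨h.u_X, fun k hk => by
    rw [(hP.K1_comm k hk).eq, mul_inv_cancel_right, inv_mul_cancel]; exact one_mem E⟩
  have hvΓ : v ∈ Γ := ⟨1, by show ψ 1 v = v; rw [map_one]; rfl⟩
  have hvCs : v ∈ Cs := (hmemCs _).2 huC
  -- tori
  have hker : ψ.ker = (xKer M X E).subgroupOf (xNorm M X E) :=
    Subgroup.ext fun a => (mem_ker_xPerm a).trans Subgroup.mem_subgroupOf.symm
  have hcardK : ∀ L : Subgroup G, L ≤ xNorm M X E →
      Nat.card ((L.subgroupOf (xNorm M X E)).map ψ) = (xKer M X E).relIndex L := fun L hL => by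
    rw [← Subgroup.relIndex_ker, hker, Subgroup.relIndex_subgroupOf hL]
  have hmove : ∀ (k : xNorm M X E) (p : XVec X E), p ∈ Γ → ψ k p ∈ Γ := by
    rintro k _ ⟨g, rfl⟩
    exact ⟨k * g, by show ψ (k * g) v = ψ k (ψ g v); rw [map_mul]; rfl⟩
  have hconjX : ∀ (a : xNorm M X E) (y : X), (a : G) * y * (a : G)⁻¹ ∈ X := fun a y =>
    (Subgroup.mem_normalizer_iff.1 (mem_inf.1 (mem_inf.1 a.2).1).2 _).1 y.2
  have hCs_move : ∀ L : Subgroup G, L ≤ xNorm M X E → (∀ k ∈ L, ∀ y ∈ C, k * y * k⁻¹ ∈ C) →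
      ∀ k ∈ (L.subgroupOf (xNorm M X E)).map ψ, ∀ p : XVec X E, k p ∈ Cs ↔ p ∈ Cs := by
    rintro L - hst _ ⟨k, hk, rfl⟩ p
    induction p using QuotientGroup.induction_on with
    | _ y =>
      rw [xPerm_mk k (z := ⟨_, hconjX k y⟩) rfl, hmemCs, hmemCs]
      refine ⟨fun e => ?_, fun e => hst k hk _ e⟩
      have := hst _ (inv_mem hk) _ e
      simpa [mul_assoc] using this
  -- the fixed part
  set P := Γ ∩ Cs with hPdef
  have hPK : 2 ^ r - 1 ∣ P.ncard - 1 := by
    set KK := (K.subgroupOf (xNorm M X E)).map ψ with hKK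
    have hKv : ∀ p ∈ KK, p v = v := by
      rintro _ ⟨k, hk, rfl⟩
      exact xPerm_mk k (show (k : G) * u * (k : G)⁻¹ = u by rw [(hP.K_comm k hk).eq, mul_inv_cancel_right])
    let TT := {p : XVec X E // p ∈ P ∧ p ≠ v}
    letI : MulAction KK TT :=
      { smul := fun k p => ⟨(k : Equiv.Perm (XVec X E)) p.1, ⟨by
          obtain ⟨k', -, e⟩ := k.2
          rw [← e]
          exact ⟨hmove k' _ p.2.1.1, (hCs_move K hP.K_le hP.K_stab _ (e ▸ k.2) _).2 p.2.1.2⟩,
          fun e => p.2.2 ((k : Equiv.Perm (XVec X E)).injective (e.trans (hKv _ k.2).symm))⟩⟩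
        one_smul := fun p => Subtype.ext rfl
        mul_smul := fun k k' p => Subtype.ext rfl }
    have hfr := BlockFix.card_dvd_of_free (K := KK) (T := TT) fun p t e => by
      obtain ⟨k, hk, hkp⟩ := p.2
      obtain ⟨y, hy⟩ := QuotientGroup.mk_surjective (t : XVec X E)
      have e1 : ψ k (QuotientGroup.mk y) = QuotientGroup.mk y := by
        rw [hy, hkp]; exact congrArg Subtype.val e
      have e2 := xVec_eq_iff.1 ((xPerm_mk k (y := y) (z := ⟨_, hconjX k y⟩) rfl).symm.trans e1).symm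
      refine Subtype.ext ?_
      rcases hP.K_free (k : G) hk _ y.2 e2 with h1 | h1 | h1
      · rw [← hkp]; exact (mem_ker_xPerm k).2 h1
      · obtain ⟨g, hg, he⟩ := h.mem_gammaSet (hy.symm ▸ t.2.1.1 : (QuotientGroup.mk y : XVec X E) ∈ Γ)
        refine absurd ?_ h.u_notin
        have := mul_mem h1 (inv_mem he)
        rw [mul_inv_rev, inv_inv, mul_inv_cancel_left] at this
        exact (Subgroup.mem_normalizer_iff.1 (mem_inf.1 hg).2 u).2 this
      · exact absurd (hy.symm.trans (xVec_eq_iff.2 h1).symm) t.2.2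
    have hTT : Nat.card TT = P.ncard - 1 := by
      rw [← Set.ncard_sdiff_singleton_of_mem (show v ∈ P from ⟨hvΓ, hvCs⟩), ← Nat.card_coe_set_eq]; rfl
    rwa [hTT, hcardK K hP.K_le, hP.K_card] at hfr
  -- the free part
  have hRK : m ∣ (Γ \ Cs).ncard := by
    set KK := (K0.subgroupOf (xNorm M X E)).map ψ with hKK
    let TT := {p : XVec X E // p ∈ Γ \ Cs}
    letI : MulAction KK TT :=
      { smul := fun k p => ⟨(k : Equiv.Perm (XVec X E)) p.1, by
          obtain ⟨k', -, e⟩ := k.2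
          rw [← e]
          exact ⟨hmove k' _ p.2.1, fun hc => p.2.2 ((hCs_move K0 hK0 hK0stab _ (e ▸ k.2) _).1 hc)⟩⟩
        one_smul := fun p => Subtype.ext rfl
        mul_smul := fun k k' p => Subtype.ext rfl }
    have hfr := BlockFix.card_dvd_of_free (K := KK) (T := TT) fun p t e => by
      obtain ⟨k, hk, hkp⟩ := p.2
      obtain ⟨y, hy⟩ := QuotientGroup.mk_surjective (t : XVec X E)
      have e1 : ψ k (QuotientGroup.mk y) = QuotientGroup.mk y := by
        rw [hy, hkp]; exact congrArg Subtype.val e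
      have e2 := xVec_eq_iff.1 ((xPerm_mk k (y := y) (z := ⟨_, hconjX k y⟩) rfl).symm.trans e1).symm
      refine Subtype.ext ?_
      rcases hfree (k : G) hk _ y.2 e2 with h1 | h1
      · rw [← hkp]; exact (mem_ker_xPerm k).2 h1
      · exact absurd (hy ▸ (hmemCs y).2 h1) t.2.2
    have hTT : Nat.card TT = (Γ \ Cs).ncard := by rw [← Nat.card_coe_set_eq]
    rwa [hTT, hcardK K0 hK0, hm] at hfr
  -- elements squaring to one
  set π : X → XVec X E := QuotientGroup.mk with hπ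
  have hfib : ∀ A : Set (XVec X E), (π ⁻¹' A).ncard = q * A.ncard := fun A => by
    rw [← Nat.card_coe_set_eq, Nat.card_congr (QuotientGroup.preimageMkEquivSubgroupProdSet _ _),
      Nat.card_prod, Nat.card_congr (Subgroup.subgroupOfEquivOfLe h.E_le_X).toEquiv, hE, Nat.card_coe_set_eq]
  set A := {y : X | (y : G) ∈ C ∧ (y : G) * y = 1} with hA
  set B := {y : X | (y : G) ∈ C ∧ (y : G) * y ≠ 1} with hB
  have hAB : A.ncard + B.ncard = 2 * q * q := by
    rw [← Set.ncard_union_eq (Set.disjoint_left.2 fun y hy hy' => hy'.2 hy.2) (Set.toFinite _) (Set.toFinite _),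
      show A ∪ B = {y : X | (y : G) ∈ C} by ext y; simp only [hA, hB, Set.mem_union, Set.mem_ofPred_eq]; tauto,
      ← Set.ncard_image_of_injective _ Subtype.coe_injective,
      show ((↑) '' {y : X | (y : G) ∈ C} : Set G) = C by
        ext y; exact ⟨fun ⟨z, hz, e⟩ => e ▸ hz, fun hy => ⟨⟨y, hy.1⟩, hy, rfl⟩⟩,
      hP.ncard_fix, hE]
  have hA1 : q * (P.ncard + 1) ≤ A.ncard := by
    have hnot : (QuotientGroup.mk (1 : X) : XVec X E) ∉ P := fun e => by
      obtain ⟨g, hg, he⟩ := h.mem_gammaSet e.1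
      rw [OneMemClass.coe_one, mul_one, inv_mem_iff] at he
      exact h.u_notin ((Subgroup.mem_normalizer_iff.1 (mem_inf.1 hg).2 u).2 he)
    rw [← Set.ncard_insert_of_notMem hnot (Set.toFinite _), ← hfib]
    refine Set.ncard_le_ncard (fun y hy => ?_) (Set.toFinite _)
    rcases hy with hy | hy
    · have hyE : (y : G) ∈ E := by
        have := xVec_eq_iff.1 (show (QuotientGroup.mk (1 : X) : XVec X E) = QuotientGroup.mk y from hy.symm)
        simpa using this
      exact ⟨(hmemCs y).1 (hy ▸ ⟨1, by simpa [hC, fixCos] using one_mem X, rfl⟩), h.E_sq _ hyE⟩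
    · exact ⟨(hmemCs y).1 hy.2, h.sq_of_gammaSet hy.1⟩
  have hfree' : (π ⁻¹' (Γ \ Cs)).ncard * q ≤ B.ncard * (q * (q + 1)) := by
    choose c hc z hz hcz using fun y : X => hdec y y.2
    let P2 := (b : B) × {w : G | w ∈ Q ∧ w * w = ((b : X) : G) * (b : X)}
    have hsum : Nat.card P2 = B.ncard * (q * (q + 1)) := by
      haveI := Fintype.ofFinite B
      rw [Nat.card_sigma, Finset.sum_congr rfl (g := fun _ => q * (q + 1)) fun b _ => ?_, Finset.sum_const,
        Finset.card_univ, ← Nat.card_eq_fintype_card, Nat.card_coe_set_eq, smul_eq_mul]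
      rw [Nat.card_coe_set_eq]
      exact hroots _ (h.X_sq _ (b : X).2) b.2.2
    have hkey : ∀ (y : (π ⁻¹' (Γ \ Cs) : Set X)) (e : E),
        c (y : X) * e ∈ C ∧ (z (y : X) * e) * (z (y : X) * e) = c (y : X) * e * (c (y : X) * e) ∧
          z (y : X) * e ∈ Q ∧ c (y : X) * e * (c (y : X) * e) ≠ 1 := by
      intro y e
      have hcy := hc (y : X)
      have hzy := hz (y : X)
      have h1 : ∀ w, Commute (e : G) w → w * e * (w * e) = w * w := fun w hw => by
        rw [hw.mul_mul_mul_comm, h.E_sq _ e.2, mul_one]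
      have hez : Commute (e : G) (z (y : X)) := by
        refine h.E_cen _ e.2 _ ?_
        have := mul_mem (inv_mem hcy.1) (y : X).2
        rwa [hcz (y : X), inv_mul_cancel_left] at this
      rw [h1 _ (h.E_cen _ e.2 _ hcy.1), h1 _ hez]
      have h2 : c (y : X) * c (y : X) * (z (y : X) * z (y : X)) = 1 := by
        rw [← (hcomm _ hcy _ hzy).symm.mul_mul_mul_comm, ← hcz]
        exact h.sq_of_gammaSet y.2.1
      have h3 : z (y : X) * z (y : X) = c (y : X) * c (y : X) := by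
        rw [eq_inv_of_mul_eq_one_left h2]
        exact (inv_eq_of_mul_eq_one_left (h.E_sq _ (by
          have := h.X_sq _ hcy.1
          have e2 := eq_inv_of_mul_eq_one_left h2
          rw [e2, inv_mem_iff] at this
          exact this))).symm
      refine ⟨hCmul _ hcy _ e.2, h3, Q.mul_mem hzy (hEQ e.2), fun h5 => y.2.2 ?_⟩
      refine (hmemCs (y : X)).2 ?_
      rw [hcz (y : X)]
      exact hCmul _ hcy _ (hinv _ hzy (h3.trans h5))
    let f : (π ⁻¹' (Γ \ Cs) : Set X) × E → P2 := fun p =>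
      ⟨⟨⟨c (p.1 : X) * p.2, (hkey p.1 p.2).1.1⟩, (hkey p.1 p.2).1, (hkey p.1 p.2).2.2.2⟩,
        ⟨z (p.1 : X) * p.2, (hkey p.1 p.2).2.2.1, (hkey p.1 p.2).2.1⟩⟩
    have hf : Function.Injective f := by
      rintro ⟨y, e⟩ ⟨y', e'⟩ he
      have e1 : c (y : X) * e = c (y' : X) * e' := congrArg (fun p : P2 => (((p.1 : X)) : G)) he
      have e2 : z (y : X) * (e : G) = z (y' : X) * e' := congrArg (fun p : P2 => (p.2 : G)) he
      have hprod : ∀ (y : X) (e : E), c y * e * (z y * e) = (y : G) := fun y e => by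
        rw [(h.E_cen _ e.2 (z y) (by
          have := mul_mem (inv_mem (hc y).1) y.2
          rwa [hcz y, inv_mul_cancel_left] at this)).mul_mul_mul_comm, h.E_sq _ e.2, mul_one, ← hcz]
      have hyy : (y : X) = y' := Subtype.ext (by rw [← hprod _ e, ← hprod _ e', e1, e2])
      obtain rfl : y = y' := Subtype.ext hyy
      exact Prod.ext rfl (Subtype.ext (mul_left_cancel e1))
    have := Nat.card_le_card_of_injective f hf
    rwa [Nat.card_prod, Nat.card_coe_set_eq, hE, hsum] at this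
  rw [hfib] at hfree'
  -- the numbers
  have hsplit : Γ.ncard = P.ncard + (Γ \ Cs).ncard := (Set.ncard_inter_add_ncard_sdiff_eq_ncard Γ Cs (Set.toFinite _)).symm
  have hP1 : 0 < P.ncard := (Set.ncard_pos (Set.toFinite P)).2 ⟨v, hvΓ, hvCs⟩
  have h4' : 4 ∣ Γ.ncard := (h.pow_dvd_range (k := 2)).1 (by simpa using h4)
  have hq4 : 4 ∣ q := Dvd.intro_left (2 ^ (r - 2)) (Nat.pow_sub_mul_pow 2 hr)
  have hq0 : 4 ≤ q := Nat.le_of_dvd (Nat.two_pow_pos r) hq4
  have hne : P.ncard < 2 * q - 1 := by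
    by_contra hle
    have h1 : q * (2 * q) ≤ A.ncard := (Nat.mul_le_mul_left q (by omega)).trans hA1
    have hB0 : B = ∅ := (Set.ncard_eq_zero (Set.toFinite B)).1 (by
      have : q * (2 * q) = 2 * q * q := by ring
      omega)
    obtain ⟨c, hc, hcu⟩ := hP.moved
    have hsq : ∀ y ∈ C, y * y = 1 := fun y hy => by
      by_contra hy1
      exact (Set.eq_empty_iff_forall_notMem.1 hB0) ⟨y, hy.1⟩ ⟨hy, hy1⟩
    have hcuC : c * u ∈ C := ⟨mul_mem hc.1 h.u_X, fun k hk => by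
      have e : (c * u)⁻¹ * (k * (c * u) * k⁻¹) = u⁻¹ * (c⁻¹ * (k * c * k⁻¹)) * (k * u * k⁻¹) := by group
      rw [e, (hP.K1_comm k hk).eq, mul_inv_cancel_right, mul_assoc,
        (h.E_cen _ (hc.2 k hk) u h.u_X).eq, inv_mul_cancel_left]
      exact hc.2 k hk⟩
    refine hcu ?_
    show c * u = u * c
    calc c * u = (c * u)⁻¹ := eq_inv_of_mul_eq_one_left (hsq _ hcuC)
      _ = u * c := by
        rw [mul_inv_rev, inv_eq_of_mul_eq_one_left (hsq c hc),
          inv_eq_of_mul_eq_one_left (show u * u = 1 by rw [← pow_two, ← h.ou, pow_orderOf_eq_one])]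
  obtain ⟨j, hj⟩ := hPK
  rw [← hq] at hj
  have hj1 : j ≤ 1 := by
    by_contra hj2
    have := Nat.mul_le_mul_left (q - 1) (show 2 ≤ j by omega)
    omega
  obtain ⟨s, hs⟩ := hRK
  have hB1 : B.ncard ≤ q * (2 * q - 1 - P.ncard) := by
    rw [Nat.mul_sub, Nat.mul_sub, mul_one, show q * (2 * q) = 2 * q * q by ring]
    have : q * (P.ncard + 1) = q * P.ncard + q := by ring
    omega
  have hs1 : (Γ \ Cs).ncard ≤ (2 * q - 1 - P.ncard) * (q + 1) := by
    refine Nat.le_of_mul_le_mul_left (?_ : q * q * (Γ \ Cs).ncard ≤ q * q * _) (by positivity)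
    calc q * q * (Γ \ Cs).ncard = q * (Γ \ Cs).ncard * q := by ring
      _ ≤ B.ncard * (q * (q + 1)) := hfree'
      _ ≤ q * (2 * q - 1 - P.ncard) * (q * (q + 1)) := Nat.mul_le_mul_right _ hB1
      _ = _ := by ring
  have hqq : 4 ∣ q * q := hq4.mul_right q
  rw [hs] at hs1
  rw [hsplit, hs] at h4'
  interval_cases j
  · -- only the coset of `u` is fixed
    left
    rw [hsplit, hs, show P.ncard = 1 by omega]
    have e : (2 * q - 1 - P.ncard) * (q + 1) = 2 * (g3 * m) := by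
      rw [show 2 * q - 1 - P.ncard = 2 * (q - 1) by omega, mul_assoc]
      congr 1
      obtain ⟨q', hq'⟩ : ∃ q', q = q' + 1 := ⟨q - 1, by omega⟩
      rw [hq'] at hm0 ⊢
      rw [Nat.add_sub_cancel]
      have : (q' + 1) * (q' + 1) = q' * (q' + 1 + 1) + 1 := by ring
      omega
    rw [e, show 2 * (g3 * m) = m * (2 * g3) by ring] at hs1
    rw [show P.ncard = 1 by omega] at h4'
    have hm1 : 0 < m := by rcases hg3 with rfl | rfl <;> omega
    have hs2 : s ≤ 2 * g3 := Nat.le_of_mul_le_mul_left hs1 hm1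
    rcases hg3 with rfl | rfl <;> interval_cases s <;> omega
  · -- all fixed cosets
    right
    have e : (2 * q - 1 - P.ncard) * (q + 1) = g3 * m := by
      rw [show 2 * q - 1 - P.ncard = q - 1 by omega]
      obtain ⟨q', hq'⟩ : ∃ q', q = q' + 1 := ⟨q - 1, by omega⟩
      rw [hq'] at hm0 ⊢
      rw [Nat.add_sub_cancel]
      have : (q' + 1) * (q' + 1) = q' * (q' + 1 + 1) + 1 := by ring
      omega
    rw [e, mul_comm g3] at hs1
    have hm1 : 0 < m := by rcases hg3 with rfl | rfl <;> omega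
    have hs2 : s ≤ g3 := Nat.le_of_mul_le_mul_left hs1 hm1
    have hs0 : s = 0 := by
      rw [show P.ncard = q by omega] at h4'
      rcases hg3 with rfl | rfl <;> interval_cases s <;> omega
    subst hs0
    have hsub : Γ ⊆ Cs := by
      rw [mul_zero] at hs
      exact Set.sdiff_eq_empty.1 ((Set.ncard_eq_zero (Set.toFinite _)).1 hs)
    refine ⟨by rw [hsplit, hs]; omega, fun g hg => ?_⟩
    exact (hmemCs ⟨_, hconjX ⟨g, hg⟩ ⟨u, h.u_X⟩⟩).1 (hsub ⟨⟨g, hg⟩, xPerm_mk _ rfl⟩)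

end XCfg

end Cfsg.Agent.GoodInvol
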