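import Cfsg.Agent.Lib.GoodInvol.U3Count
import Cfsg.Agent.Lib.GoodInvol.LemmaT.CosetTrans

/-!
# The orbit of `q` fixed cosets, unitary type

The fixed cosets split as a subgroup `L` inverted by `u` and the coset `u L`, which is the orbit. Squaring carries
`L / E` onto `E`, so the coset translations give elements centralising `E` moving `u` all over `u L`; a largest
two-subgroup consists of them, and by the lemma on the action on `Q` of those fixing the cosets of `E` in `Q` too.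
-/

set_option autoImplicit false
set_option linter.style.haveILetI false
set_option linter.unusedSectionVars false

namespace Cfsg.Agent.GoodInvol

open Subgroup MulAction

universe u

variable {G : Type u} [Group G] [Finite G] {M X T E : Subgroup G} {u : G}

/-- `g` fixes the coset `y E`. -/
def FixCoset (E : Subgroup G) (g y : G) : Prop := y⁻¹ * (g * y * g⁻¹) ∈ E

/-- The elements of the normaliser fixing the cosets of the members of a set. -/
def clsStab (M X E : Subgroup G) (A : Set G) : Subgroup G where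
  carrier := {g | g ∈ xNorm M X E ∧ ∀ y ∈ A, FixCoset E g y}
  one_mem' := ⟨one_mem _, fun y _ => by simp [FixCoset]⟩
  mul_mem' := by
    intro g k hg hk
    refine ⟨mul_mem hg.1 hk.1, fun y hy => ?_⟩
    have h2 := (Subgroup.mem_normalizer_iff.1 (mem_inf.1 hg.1).2 _).1 (hk.2 y hy)
    have h1 := mul_mem (hg.2 y hy) h2
    rwa [show y⁻¹ * (g * y * g⁻¹) * (g * (y⁻¹ * (k * y * k⁻¹)) * g⁻¹) = y⁻¹ * (g * k * y * (g * k)⁻¹) by group] at h1
  inv_mem' := by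
    intro g hg
    refine ⟨inv_mem hg.1, fun y hy => ?_⟩
    have h2 := (Subgroup.mem_normalizer_iff.1 (mem_inf.1 (inv_mem hg.1)).2 _).1 (inv_mem (hg.2 y hy))
    rwa [show g⁻¹ * (y⁻¹ * (g * y * g⁻¹))⁻¹ * g⁻¹⁻¹ = y⁻¹ * (g⁻¹ * y * g⁻¹⁻¹) by group] at h2

theorem clsStab_conj {A : Set G} (hA : ∀ n ∈ xNorm M X E, ∀ y ∈ A, n * y * n⁻¹ ∈ A) {n g : G}
    (hn : n ∈ xNorm M X E) (hg : g ∈ clsStab M X E A) : n * g * n⁻¹ ∈ clsStab M X E A := by
  refine ⟨mul_mem (mul_mem hn hg.1) (inv_mem hn), fun y hy => ?_⟩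
  have h1 := hg.2 _ (hA _ (inv_mem hn) y hy)
  have h2 := (Subgroup.mem_normalizer_iff.1 (mem_inf.1 hn).2 _).1 h1
  rwa [show n * ((n⁻¹ * y * n⁻¹⁻¹)⁻¹ * (g * (n⁻¹ * y * n⁻¹⁻¹) * g⁻¹)) * n⁻¹
    = y⁻¹ * (n * g * n⁻¹ * y * (n * g * n⁻¹)⁻¹) by group] at h2

/-- The data of the case. -/
structure LambdaCfg (M X T E : Subgroup G) (u : G) (Q C0 K : Subgroup G) (r : ℕ) : Prop where
  cfg : XCfg M X T E u
  two_le : 2 ≤ r
  card_E : Nat.card E = 2 ^ r
  card_C0 : Nat.card C0 = 2 * 2 ^ r * 2 ^ r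
  C0_le : C0 ≤ X
  u_C0 : u ∈ C0
  E_le_C0 : E ≤ C0
  E_le_Q : E ≤ Q
  Q_le : Q ≤ X
  Q_u : ∀ z ∈ Q, Commute z u
  dec : ∀ y ∈ X, ∃ c ∈ C0, ∃ z ∈ Q, y = c * z
  comm : ∀ c ∈ C0, ∀ z ∈ Q, Commute c z
  C0_inf : ∀ z ∈ Q, z ∈ C0 → z ∈ E
  center : ∀ z ∈ Q, (∀ w ∈ Q, Commute z w) → z ∈ E
  K_le : K ≤ xNorm M X E
  K_comm : ∀ k ∈ K, Commute k u
  K_abel : ∀ k ∈ K, ∀ l ∈ K, Commute k l
  K_odd : Odd (Nat.card K)
  K_card : (xKer M X E).relIndex K = 2 ^ r - 1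
  K_free : ∀ k ∈ K, ∀ y ∈ X, FixCoset E k y → k ∈ xKer M X E ∨ y ∈ E ∨ u⁻¹ * y ∈ E
  K_stab : ∀ k ∈ K, ∀ c ∈ C0, k * c * k⁻¹ ∈ C0
  K_trans : ∀ e ∈ E, ∀ f ∈ E, e ≠ 1 → f ≠ 1 → ∃ k ∈ K, k * e * k⁻¹ = f
  K_norm : ∀ g ∈ xNorm M X E, Commute g u → ∀ k ∈ K,
    ∃ k' ∈ K, ∀ e ∈ E, g * (k * e * k⁻¹) * g⁻¹ = k' * (g * e * g⁻¹) * k'⁻¹
  gamma : (cfg.gammaSet).ncard = 2 ^ r
  sub : ∀ g ∈ xNorm M X E, g * u * g⁻¹ ∈ C0

namespace LambdaCfg

variable {Q C0 K : Subgroup G} {r : ℕ} (P : LambdaCfg M X T E u Q C0 K r)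
include P

theorem conjX {g y : G} (hg : g ∈ xNorm M X E) (hy : y ∈ X) : g * y * g⁻¹ ∈ X :=
  (Subgroup.mem_normalizer_iff.1 (mem_inf.1 (mem_inf.1 hg).1).2 _).1 hy

theorem conjE {g y : G} (hg : g ∈ xNorm M X E) (hy : y ∈ E) : g * y * g⁻¹ ∈ E :=
  (Subgroup.mem_normalizer_iff.1 (mem_inf.1 hg).2 _).1 hy

theorem u_sq : u * u = 1 := by rw [← pow_two, ← P.cfg.ou, pow_orderOf_eq_one]

theorem u_inv : u⁻¹ = u := inv_eq_of_mul_eq_one_right P.u_sq

/-- The commutator of `u` with a fixed coset gives all of `E`. -/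
theorem exists_comm {e : G} (he : e ∈ E) : ∃ c ∈ C0, c * u * c⁻¹ = u * e := by
  obtain ⟨y, hy, hye⟩ := P.cfg.trans e he
  obtain ⟨c, hc, z, hz, rfl⟩ := P.dec y hy
  refine ⟨c, hc, ?_⟩
  rw [← hye, show c * z * u * (c * z)⁻¹ = c * (z * u * z⁻¹) * c⁻¹ by group, (P.Q_u z hz).eq, mul_inv_cancel_right]

theorem one_lt : 1 < 2 ^ r - 1 := by
  have : 2 ^ 2 ≤ 2 ^ r := Nat.pow_le_pow_right two_pos P.two_le
  omega

theorem exists_k0 : ∃ k ∈ K, k ∉ xKer M X E := by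
  by_contra! hle
  have := P.K_card
  rw [Subgroup.relIndex_eq_one.2 hle] at this
  exact absurd this P.one_lt.ne

/-- The subgroup inverted by `u`. -/
theorem exists_lambda : ∃ L : Subgroup G, E ≤ L ∧ L ≤ C0 ∧ Nat.card L = 2 ^ r * 2 ^ r ∧ u ∉ L ∧
    (∀ k ∈ K, ∀ l ∈ L, k * l * k⁻¹ ∈ L) ∧ ∀ c ∈ C0, c ∈ L ∨ u * c ∈ L := by
  classical
  haveI := P.cfg.normal_sub
  obtain ⟨k0, hk0, hk0X⟩ := P.exists_k0
  have hk0N := P.K_le hk0
  let π : X →* XVec X E := QuotientGroup.mk' (E.subgroupOf X)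
  have hcomm : ∀ p p' : XVec X E, p * p' = p' * p := fun p p' => by
    induction p using QuotientGroup.induction_on with
    | _ y =>
      induction p' using QuotientGroup.induction_on with
      | _ z =>
        rw [← QuotientGroup.mk_mul, ← QuotientGroup.mk_mul]
        refine xVec_eq_iff.2 ?_
        have := P.cfg.comm_mem (inv_mem z.2) (inv_mem y.2)
        simpa [mul_assoc] using this
  let φ : C0 →* XVec X E := MonoidHom.mk'
    (fun c => (π ⟨(c : G), P.C0_le c.2⟩)⁻¹ * π ⟨k0 * c * k0⁻¹, P.conjX hk0N (P.C0_le c.2)⟩) fun a b => by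
      have e1 : (⟨((a * b : C0) : G), P.C0_le (a * b).2⟩ : X) =
          ⟨(a : G), P.C0_le a.2⟩ * ⟨(b : G), P.C0_le b.2⟩ := rfl
      have e2 : (⟨k0 * ((a * b : C0) : G) * k0⁻¹, P.conjX hk0N (P.C0_le (a * b).2)⟩ : X) =
          ⟨k0 * a * k0⁻¹, P.conjX hk0N (P.C0_le a.2)⟩ * ⟨k0 * b * k0⁻¹, P.conjX hk0N (P.C0_le b.2)⟩ :=
        Subtype.ext (by simp [mul_assoc])
      have hm : ∀ A B C D : XVec X E, (A * B)⁻¹ * (C * D) = A⁻¹ * C * (B⁻¹ * D) := fun A B C D => by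
        rw [mul_inv_rev, hcomm B⁻¹ A⁻¹, mul_assoc, mul_assoc, ← mul_assoc B⁻¹, hcomm B⁻¹ C, mul_assoc]
      rw [e1, e2, map_mul, map_mul]
      exact hm _ _ _ _
  have hφ : ∀ c : C0, φ c = π (⟨(c : G)⁻¹ * (k0 * c * k0⁻¹),
      mul_mem (inv_mem (P.C0_le c.2)) (P.conjX hk0N (P.C0_le c.2))⟩ : X) := fun c => by
    show (π _)⁻¹ * π _ = _
    rw [← map_inv, ← map_mul]
    rfl
  set L0 : Subgroup X := φ.range.comap π with hL0
  set L := L0.map X.subtype with hL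
  have hmemL : ∀ y, y ∈ L ↔ ∃ c ∈ C0, ((c⁻¹ * (k0 * c * k0⁻¹))⁻¹ * y) ∈ E := by
    intro y
    constructor
    · rintro ⟨y, ⟨c, hc⟩, rfl⟩
      exact ⟨c, c.2, xVec_eq_iff.1 ((hφ c).symm.trans hc)⟩
    · rintro ⟨c, hc, he⟩
      have hyX : y ∈ X := by
        have := mul_mem (mul_mem (inv_mem (P.C0_le hc)) (P.conjX hk0N (P.C0_le hc))) (P.cfg.E_le_X he)
        rwa [mul_inv_cancel_left] at this
      exact ⟨⟨y, hyX⟩, ⟨⟨c, hc⟩, (hφ _).trans (xVec_eq_iff.2 he)⟩, rfl⟩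
  have himg : ((fun c : C0 => (c : G)) '' (φ.ker : Set C0)) = (E : Set G) ∪ (fun f => u * f) '' (E : Set G) := by
    ext c
    constructor
    · rintro ⟨c, hc, rfl⟩
      rw [SetLike.mem_coe, MonoidHom.mem_ker, hφ, QuotientGroup.mk'_apply, QuotientGroup.eq_one_iff,
        mem_subgroupOf] at hc
      rcases (P.K_free k0 hk0 c (P.C0_le c.2) hc).resolve_left hk0X with h1 | h1
      · exact Or.inl h1
      · exact Or.inr ⟨_, h1, mul_inv_cancel_left _ _⟩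
    · intro hc
      have hcC : c ∈ C0 := by
        rcases hc with hc | ⟨f, hf, rfl⟩
        · exact P.E_le_C0 hc
        · exact mul_mem P.u_C0 (P.E_le_C0 hf)
      refine ⟨⟨c, hcC⟩, ?_, rfl⟩
      rw [SetLike.mem_coe, MonoidHom.mem_ker, hφ, QuotientGroup.mk'_apply, QuotientGroup.eq_one_iff, mem_subgroupOf]
      show c⁻¹ * (k0 * c * k0⁻¹) ∈ E
      rcases hc with hc | ⟨f, hf, rfl⟩
      · exact mul_mem (inv_mem hc) (P.conjE hk0N hc)
      · rw [show k0 * (u * f) * k0⁻¹ = (k0 * u * k0⁻¹) * (k0 * f * k0⁻¹) by group, (P.K_comm k0 hk0).eq,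
          mul_inv_cancel_right, mul_inv_rev, mul_assoc, inv_mul_cancel_left]
        exact mul_mem (inv_mem hf) (P.conjE hk0N hf)
  have hkc : Nat.card φ.ker = 2 * 2 ^ r := by
    rw [← SetLike.coe_sort_coe, Nat.card_coe_set_eq, ← Set.ncard_image_of_injective _ Subtype.coe_injective, himg,
      Set.ncard_union_eq (Set.disjoint_left.2 ?_) (Set.toFinite _) (Set.toFinite _),
      Set.ncard_image_of_injective _ (mul_right_injective u), ← Nat.card_coe_set_eq,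
      show Nat.card (E : Set G) = 2 ^ r from P.card_E, two_mul]
    rintro _ hw ⟨f, hf, rfl⟩
    exact P.cfg.u_notin ((E.mul_mem_cancel_right hf).1 hw)
  have hrc : Nat.card φ.range = 2 ^ r := by
    have h1 := φ.ker.card_mul_index
    rw [Subgroup.index_ker, hkc, P.card_C0] at h1
    exact Nat.eq_of_mul_eq_mul_left (by positivity) h1
  have hLc : Nat.card L = 2 ^ r * 2 ^ r := by
    rw [hL, Subgroup.card_map_of_injective X.subtype_injective]
    have h1 := (E.subgroupOf X).card_mul_index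
    show Nat.card ↥(φ.range.comap π) = _
    have h2 : Nat.card ↥(φ.range.comap π) = Nat.card π.ker * Nat.card φ.range := by
      rw [← Subgroup.card_mul_index (π.ker.subgroupOf (φ.range.comap π)),
        Nat.card_congr (Subgroup.subgroupOfEquivOfLe (MonoidHom.ker_le_comap π φ.range)).toEquiv]
      congr 1
      rw [← Subgroup.relIndex, Subgroup.relIndex_ker,
        Subgroup.map_comap_eq_self_of_surjective (QuotientGroup.mk'_surjective _)]
    rw [h2, hrc, QuotientGroup.ker_mk', Nat.card_congr (Subgroup.subgroupOfEquivOfLe P.cfg.E_le_X).toEquiv, P.card_E]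
  have hEL : E ≤ L := fun e he => (hmemL e).2 ⟨1, one_mem _, by simpa using he⟩
  have hLC : L ≤ C0 := fun y hy => by
    obtain ⟨c, hc, he⟩ := (hmemL y).1 hy
    have := mul_mem (mul_mem (inv_mem hc) (P.K_stab k0 hk0 c hc)) (P.E_le_C0 he)
    rwa [mul_inv_cancel_left] at this
  have huL : u ∉ L := by
    intro hu
    obtain ⟨c, hc, he⟩ := (hmemL u).1 hu
    set f := (c⁻¹ * (k0 * c * k0⁻¹))⁻¹ * u with hf
    have hc1 : k0 * c * k0⁻¹ = c * u * f⁻¹ := by rw [hf]; group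
    have hn : ∀ n : ℕ, ∃ e ∈ E, k0 ^ n * c * (k0 ^ n)⁻¹ = c * u ^ n * e := by
      intro n
      induction n with
      | zero => exact ⟨1, one_mem E, by simp⟩
      | succ n ih =>
        obtain ⟨e, he', hne⟩ := ih
        refine ⟨f⁻¹ * (k0 * e * k0⁻¹), mul_mem (inv_mem he) (P.conjE hk0N he'), ?_⟩
        have hup : k0 * u ^ n * k0⁻¹ = u ^ n := by rw [((P.K_comm k0 hk0).pow_right n).eq, mul_inv_cancel_right]
        calc k0 ^ (n + 1) * c * (k0 ^ (n + 1))⁻¹ = k0 * (k0 ^ n * c * (k0 ^ n)⁻¹) * k0⁻¹ := by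
              rw [pow_succ']; group
          _ = (k0 * c * k0⁻¹) * (k0 * u ^ n * k0⁻¹) * (k0 * e * k0⁻¹) := by rw [hne]; group
          _ = c * u * (f⁻¹ * u ^ n) * (k0 * e * k0⁻¹) := by rw [hc1, hup]; group
          _ = c * u ^ (n + 1) * (f⁻¹ * (k0 * e * k0⁻¹)) := by
            rw [((P.cfg.E_cen _ (inv_mem he) u P.cfg.u_X).pow_right n).eq, pow_succ']; group
    have hodd : Odd (orderOf k0) := P.K_odd.of_dvd_nat (Subgroup.orderOf_dvd_natCard _ hk0)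
    obtain ⟨e, he', hne⟩ := hn (orderOf k0)
    obtain ⟨j, hj⟩ := hodd
    rw [pow_orderOf_eq_one, inv_one, one_mul, mul_one, hj, pow_succ, pow_mul, pow_two, P.u_sq, one_pow, one_mul,
      mul_assoc, left_eq_mul] at hne
    exact P.cfg.u_notin ((E.mul_mem_cancel_right he').1 (hne ▸ one_mem E))
  refine ⟨L, hEL, hLC, hLc, huL, fun k hk l hl => ?_, fun c hc => ?_⟩
  · obtain ⟨c, hc, he⟩ := (hmemL l).1 hl
    refine (hmemL _).2 ⟨k * c * k⁻¹, P.K_stab k hk c hc, ?_⟩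
    have := P.conjE (P.K_le hk) he
    have hkk := (P.K_abel k hk k0 hk0)
    rwa [show k * ((c⁻¹ * (k0 * c * k0⁻¹))⁻¹ * l) * k⁻¹ =
      ((k * c * k⁻¹)⁻¹ * ((k * k0) * c * (k * k0)⁻¹))⁻¹ * (k * l * k⁻¹) by group, hkk.eq,
      show (k0 * k) * c * (k0 * k)⁻¹ = k0 * (k * c * k⁻¹) * k0⁻¹ by group] at this
  · have hi : (L.subgroupOf C0).index = 2 := by
      have e := (L.subgroupOf C0).card_mul_index
      rw [Nat.card_congr (Subgroup.subgroupOfEquivOfLe hLC).toEquiv, hLc, P.card_C0] at e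
      exact Nat.eq_of_mul_eq_mul_left (show 0 < 2 ^ r * 2 ^ r by positivity) (by rw [e]; ring)
    by_cases hcL : c ∈ L
    · exact Or.inl hcL
    · exact Or.inr ((Subgroup.mul_mem_iff_of_index_two hi (a := (⟨u, P.u_C0⟩ : C0)) (b := ⟨c, hc⟩)).2
        (iff_of_false huL hcL))

end LambdaCfg

end Cfsg.Agent.GoodInvol
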