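import Cfsg.Agent.Lib.GoodInvol.U3Count
import Cfsg.Agent.Lib.GoodInvol.CaseBUnitaryTorus

/-!
# The two-subgroup of the unitary type as the fixed part times `Q`

An element of the torus part centralising `E`, outside the kernel, fixes the cosets of the fixed part and moves all
classes of `Q` outside `E`. So the fixed part centralises `Q`, meets it in `E` and gives `X` with it; the torus is
transitive on the squares of `Q`, so each involution of `E` has `q (q + 1)` roots there.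
-/

set_option autoImplicit false
set_option linter.style.haveILetI false
set_option linter.unusedSectionVars false

namespace Cfsg.Agent.GoodInvol

open Subgroup MulAction

universe u

variable {G : Type u} [Group G] [Finite G] {Ω : Type u} [MulAction G Ω] [Finite Ω] {D : Set G}

namespace BaseCfg

variable {u : G} {a x : Ω} {T : Sylow 2 (ptC u a)} {E Q K K1 : Subgroup G} {r : ℕ}
  (B : BaseCfg D u a x T E Q K K1 r 3)

variable [FaithfulSMul G Ω] {X Kp K1p K0 : Subgroup G} {m g3 : ℕ}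
  (hX : XCfg (stabilizer G a) X (tSub T) E u)
  (hK : TorusCfg (stabilizer G a) X (tSub T) E u Kp K1p K0 r m g3)
include B hX

theorem Q_le_X : Q ≤ X := B.hL.Q_le.trans hX.T_le

/-- An element of the normaliser commuting with `u` normalises `Q`. -/
theorem Q_norm (h : Crit D Ω) {g : G} (hg : g ∈ xNorm (stabilizer G a) X E) (hgu : Commute g u) {y : G}
    (hy : y ∈ Q) : g * y * g⁻¹ ∈ Q := by
  have hyT := B.hL.Q_le hy
  refine B.hL.mem_Q.2 ⟨(hX.mem_T _).2 ⟨?_, (hgu.mul_left (B.mem_u hyT)).mul_left hgu.inv_left⟩,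
    h.conj_genC hgu (B.hL.Q_gen hy)⟩
  exact (mem_normalizer_iff.1 (mem_inf.1 (mem_inf.1 hg).1).2 y).1 (B.Q_le_X hX hy)

omit hX in
/-- The centre of `Q`. -/
theorem centre_Q : ∀ y ∈ Q, (∀ z ∈ Q, Commute y z) → y ∈ E := fun y hy hc =>
  B.hpolar3 y hy 1 (one_mem E) fun z hz => Or.inl (by rw [(hc z hz).symm.eq, mul_inv_cancel_right, mul_inv_cancel])

include hK

omit B in
/-- The fixed part is a subgroup. -/
theorem exists_fixSub : ∃ C0 : Subgroup G, ∀ c, c ∈ C0 ↔ c ∈ fixCos X E K1p := by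
  refine ⟨
    { carrier := fixCos X E K1p
      one_mem' := ⟨one_mem _, fun k _ => by simp⟩
      mul_mem' := fun {c d} hc hd => ⟨mul_mem hc.1 hd.1, fun k hk => ?_⟩
      inv_mem' := fun {c} hc => ⟨inv_mem hc.1, fun k hk => ?_⟩ }, fun c => Iff.rfl⟩
  · have h1 := mul_mem (hc.2 k hk) (hd.2 k hk)
    rwa [show (c * d)⁻¹ * (k * (c * d) * k⁻¹) = d⁻¹ * (c⁻¹ * (k * c * k⁻¹)) * d * (d⁻¹ * (k * d * k⁻¹)) by group,
      mul_assoc d⁻¹ _ d, (hX.E_cen _ (hc.2 k hk) d hd.1).eq, inv_mul_cancel_left]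
  · have hf := inv_mem (hc.2 k hk)
    have h1 : c * (c⁻¹ * (k * c * k⁻¹))⁻¹ * c⁻¹ ∈ E := by
      rwa [(hX.E_cen _ hf c hc.1).symm.eq, mul_inv_cancel_right]
    rwa [show c⁻¹⁻¹ * (k * c⁻¹ * k⁻¹) = c * (c⁻¹ * (k * c * k⁻¹))⁻¹ * c⁻¹ by group]

/-- The fixed part meets `Q` in `E`. -/
theorem mem_eset_of_fix {y : G} (hy : y ∈ Q) (hyC : y ∈ fixCos X E K1p) : y ∈ E := by
  refine (hK.fix_T y hyC (B.hL.Q_le hy)).resolve_right fun h1 => B.u_notMem ?_
  exact inv_mem_iff.1 ((Q.mul_mem_cancel_right hy).1 (B.hL.eset_le h1))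

/-- The fixed part centralises `Q`. -/
theorem commute_fix (h : Crit D Ω) : ∀ c ∈ fixCos X E K1p, ∀ z ∈ Q, Commute c z := by
  classical
  obtain ⟨k, hk, hk'⟩ : ∃ k ∈ K1p, k ∉ xKer (stabilizer G a) X E := by
    by_contra! hall
    have h1 := hK.K1_card
    rw [Subgroup.relIndex_eq_one.2 hall, mul_one] at h1
    have h4 : 4 ≤ 2 ^ r := B.four_le
    rcases hK.g3_cases with e | e <;> omega
  have hkN := hK.K1_le hk
  have hku := hK.K0_comm k (hK.K1_le_K0 hk)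
  have hkQ : ∀ z ∈ Q, z⁻¹ * (k * z * k⁻¹) ∈ Q := fun z hz =>
    Q.mul_mem (Q.inv_mem hz) (B.Q_norm hX h hkN hku hz)
  -- every class is one of these
  let f : Q ⧸ E.subgroupOf Q → Q ⧸ E.subgroupOf Q := fun p =>
    QuotientGroup.mk ⟨(p.out : G)⁻¹ * (k * p.out * k⁻¹), hkQ _ p.out.2⟩
  have hf : Function.Injective f := by
    intro p p' e
    rw [← p.out_eq', ← p'.out_eq', QuotientGroup.eq, mem_subgroupOf]
    set z := (p.out : G) with hz
    set z' := (p'.out : G) with hz'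
    have he : (z⁻¹ * (k * z * k⁻¹))⁻¹ * (z'⁻¹ * (k * z' * k⁻¹)) ∈ E := mem_subgroupOf.1 (QuotientGroup.eq.1 e)
    show z⁻¹ * z' ∈ E
    by_contra hd
    have hdQ : z⁻¹ * z' ∈ Q := Q.mul_mem (Q.inv_mem p.out.2) p'.out.2
    set w := z⁻¹ * (k * z * k⁻¹)
    set w' := z'⁻¹ * (k * z' * k⁻¹)
    have h1 : (z⁻¹ * z')⁻¹ * (k * (z⁻¹ * z') * k⁻¹) ∈ E := by
      rw [show (z⁻¹ * z')⁻¹ * (k * (z⁻¹ * z') * k⁻¹) =
        ((z⁻¹ * z')⁻¹ * w⁻¹ * (z⁻¹ * z')⁻¹⁻¹ * w⁻¹⁻¹) * (w⁻¹ * w') by simp only [w, w']; group]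
      exact E.mul_mem (B.hL.comm _ (Q.inv_mem hdQ) _ (Q.inv_mem (hkQ _ p.out.2))) he
    rcases hK.hfree k (hK.K1_le_K0 hk) _ (B.Q_le_X hX hdQ) h1 with h2 | h2
    · exact hk' h2
    · exact hd (B.mem_eset_of_fix hX hK hdQ h2)
  intro c hc z hz
  obtain ⟨p, hp⟩ := (Finite.injective_iff_surjective.1 hf) (QuotientGroup.mk ⟨z, hz⟩)
  set t := (p.out : G) with ht
  have he : (t⁻¹ * (k * t * k⁻¹))⁻¹ * z ∈ E := mem_subgroupOf.1 (QuotientGroup.eq.1 hp)
  rw [show z = t⁻¹ * (k * t * k⁻¹) * ((t⁻¹ * (k * t * k⁻¹))⁻¹ * z) by group]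
  refine Commute.mul_right ?_ (hX.E_cen _ he c hc.1).symm
  set w := t⁻¹ * (k * t * k⁻¹) with hw
  have hQX := B.Q_le_X hX
  have htQ : t ∈ Q := p.out.2
  have hcm := hX.comm_mem hc.1 (hQX htQ)
  have e1 := (hK.K1_cen k hk _ hcm).eq
  have hfc := hX.E_cen _ (hc.2 k hk)
  set f' := c⁻¹ * (k * c * k⁻¹) with hf'
  have hkc : k * c * k⁻¹ = c * f' := (mul_inv_cancel_left _ _).symm
  have hkt : k * t * k⁻¹ = t * w := (mul_inv_cancel_left _ _).symm
  have e2 : k * (c * t * c⁻¹ * t⁻¹) * k⁻¹ = c * (t * w) * c⁻¹ * (t * w)⁻¹ := by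
    rw [show k * (c * t * c⁻¹ * t⁻¹) * k⁻¹ = (k * c * k⁻¹) * (k * t * k⁻¹) * (k * c * k⁻¹)⁻¹ * (k * t * k⁻¹)⁻¹ by group,
      hkc, hkt, show c * f' * (t * w) * (c * f')⁻¹ = c * (f' * (t * w) * f'⁻¹) * c⁻¹ by group,
      (hfc _ (mul_mem (hQX htQ) (hQX (hkQ t htQ)))).eq, mul_inv_cancel_right]
  rw [e1, mul_inv_cancel_right,
    show c * (t * w) * c⁻¹ * (t * w)⁻¹ = (c * t * c⁻¹ * t⁻¹) * (t * (c * w * c⁻¹ * w⁻¹) * t⁻¹) by group] at e2
  exact mul_inv_eq_iff_eq_mul.1 (mul_inv_eq_one.1 (conj_eq_one_iff.1 (mul_eq_left.1 e2.symm)))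

/-- `X` is the fixed part times `Q`. -/
theorem exists_dec (hcardX : Nat.card X = 2 * 2 ^ r * 2 ^ r * 2 ^ r * 2 ^ r) :
    ∀ y ∈ X, ∃ c ∈ fixCos X E K1p, ∃ z ∈ Q, y = c * z := by
  classical
  obtain ⟨C0, hC0⟩ := exists_fixSub hX hK
  have hQX := B.Q_le_X hX
  let f : C0 × (Q ⧸ E.subgroupOf Q) → X := fun p =>
    ⟨(p.1 : G) * (p.2.out : G), mul_mem ((hC0 _).1 p.1.2).1 (hQX p.2.out.2)⟩
  have hf : Function.Injective f := by
    rintro ⟨c, p⟩ ⟨c', p'⟩ e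
    have e' : (c : G) * (p.out : G) = (c' : G) * (p'.out : G) := congrArg Subtype.val e
    have h1 : (c' : G)⁻¹ * c = (p'.out : G) * (p.out : G)⁻¹ := by
      rw [eq_mul_inv_iff_mul_eq, mul_assoc, e', inv_mul_cancel_left]
    have hE : (p'.out : G) * (p.out : G)⁻¹ ∈ E :=
      B.mem_eset_of_fix hX hK (Q.mul_mem p'.out.2 (Q.inv_mem p.out.2))
        (h1 ▸ (hC0 _).1 (C0.mul_mem (C0.inv_mem c'.2) c.2))
    have hpp : p = p' := by
      rw [← p.out_eq', ← p'.out_eq', QuotientGroup.eq, mem_subgroupOf]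
      show (p.out : G)⁻¹ * (p'.out : G) ∈ E
      rwa [show (p.out : G)⁻¹ * (p'.out : G) = (p.out : G)⁻¹ * ((p'.out : G) * (p.out : G)⁻¹) * p.out by group,
        mul_assoc, (B.hL.cen _ hE _ p.out.2).eq, inv_mul_cancel_left]
    subst hpp
    exact Prod.ext (Subtype.ext (mul_right_cancel e')) rfl
  have hb : Function.Bijective f := by
    rw [Nat.bijective_iff_injective_and_card]
    refine ⟨hf, ?_⟩
    have h1 := Subgroup.card_eq_card_quotient_mul_card_subgroup (E.subgroupOf Q)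
    rw [B.hL.card_Q, Nat.card_congr (Subgroup.subgroupOfEquivOfLe B.hL.eset_le).toEquiv, B.hL.card_eset] at h1
    have h2 : Nat.card C0 = 2 * 2 ^ r * 2 ^ r := by
      rw [← SetLike.coe_sort_coe, Nat.card_coe_set_eq,
        show (C0 : Set G) = fixCos X E K1p from Set.ext hC0, hK.ncard_fix, B.hL.card_eset]
    rw [Nat.card_prod, h2, hcardX]
    rw [show 2 ^ (3 * r) = 2 ^ r * 2 ^ r * 2 ^ r by rw [← pow_add, ← pow_add]; ring_nf] at h1
    have h3 : Nat.card (Q ⧸ E.subgroupOf Q) = 2 ^ r * 2 ^ r :=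
      Nat.eq_of_mul_eq_mul_right (Nat.two_pow_pos r) h1.symm
    rw [h3]
    ring
  intro y hy
  obtain ⟨⟨c, p⟩, e⟩ := hb.2 ⟨y, hy⟩
  exact ⟨c, (hC0 _).1 c.2, p.out, p.out.2, (congrArg Subtype.val e).symm⟩

/-- The fixed part is the centraliser of `Q` in `X`. -/
theorem mem_fix_iff (h : Crit D Ω) (hcardX : Nat.card X = 2 * 2 ^ r * 2 ^ r * 2 ^ r * 2 ^ r) {y : G} :
    y ∈ fixCos X E K1p ↔ y ∈ X ∧ ∀ z ∈ Q, Commute y z := by
  refine ⟨fun hy => ⟨hy.1, B.commute_fix hX hK h y hy⟩, fun ⟨hyX, hy⟩ => ?_⟩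
  obtain ⟨C0, hC0⟩ := exists_fixSub hX hK
  obtain ⟨c, hc, z, hz, rfl⟩ := B.exists_dec hX hK hcardX y hyX
  have hzE : z ∈ E := B.centre_Q z hz fun w hw => by
    rw [show z = c⁻¹ * (c * z) from (inv_mul_cancel_left c z).symm]
    exact (B.commute_fix hX hK h c hc w hw).inv_left.mul_left (hy w hw)
  refine (hC0 _).1 (C0.mul_mem ((hC0 c).2 hc) ((hC0 z).2 ⟨hX.E_le_X hzE, fun k hk => ?_⟩))
  rw [(hK.K1_cen k hk z hzE).eq, mul_inv_cancel_right, inv_mul_cancel]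
  exact one_mem E

/-- The normaliser of `X` commuting with `u` preserves the fixed part. -/
theorem fix_stab (h : Crit D Ω) (hcardX : Nat.card X = 2 * 2 ^ r * 2 ^ r * 2 ^ r * 2 ^ r) :
    ∀ g ∈ xNorm (stabilizer G a) X E, Commute g u → ∀ y ∈ fixCos X E K1p, g * y * g⁻¹ ∈ fixCos X E K1p := by
  intro g hg hgu y hy
  rw [B.mem_fix_iff hX hK h hcardX]
  refine ⟨(mem_normalizer_iff.1 (mem_inf.1 (mem_inf.1 hg).1).2 y).1 hy.1, fun z hz => ?_⟩
  have h1 := (B.commute_fix hX hK h y hy _ (B.Q_norm hX h (inv_mem hg) hgu.inv_left hz)).eq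
  calc g * y * g⁻¹ * z = g * (y * (g⁻¹ * z * g⁻¹⁻¹)) * g⁻¹ := by group
    _ = g * (g⁻¹ * z * g⁻¹⁻¹ * y) * g⁻¹ := by rw [h1]
    _ = z * (g * y * g⁻¹) := by group

/-- The fixed cosets of the unitary case. -/
theorem pureCfg (h : Crit D Ω) (hcardX : Nat.card X = 2 * 2 ^ r * 2 ^ r * 2 ^ r * 2 ^ r) :
    PureCfg (stabilizer G a) X E u Kp K1p r where
  K_le := hK.K_le
  K1_le := hK.K1_le
  K_comm k hk := hK.K0_comm k (hK.K_le_K0 hk)
  K1_comm k hk := hK.K0_comm k (hK.K1_le_K0 hk)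
  K1_cen := hK.K1_cen
  K_odd := hK.K0_odd.of_dvd_nat (Subgroup.card_dvd_of_le hK.K_le_K0)
  K_card := hK.K_card
  K_free := hK.K_free
  K_stab := hK.K_stab
  J_fix := by
    intro g0 hg0 hg0u hg0E y hy
    obtain ⟨C0, hC0⟩ := exists_fixSub hX hK
    obtain ⟨c, hc, hcu⟩ := hX.trans _ hg0u
    rw [mul_inv_cancel_left] at hcu
    -- correct it to commute with `u`
    set g := c⁻¹ * g0 with hg
    have hgN : g ∈ xNorm (stabilizer G a) X E :=
      Subgroup.mul_mem _ (Subgroup.inv_mem _ (hX.X_le_xNorm hc)) hg0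
    have hgu : Commute g u := by
      calc g * u = c⁻¹ * (g0 * u * g0⁻¹) * g0 := by rw [hg]; group
        _ = c⁻¹ * (c * u * c⁻¹) * g0 := by rw [hcu]
        _ = u * g := by rw [hg]; group
    have hgE : ∀ e ∈ E, Commute g e := fun e he => ((hX.E_cen e he c hc).symm.inv_left).mul_left (hg0E e he)
    suffices hmain : y⁻¹ * (g * y * g⁻¹) ∈ E by
      set y' := g * y * g⁻¹ with hy'
      have hy'X : y' ∈ X := (mem_normalizer_iff.1 (mem_inf.1 (mem_inf.1 hgN).1).2 y).1 hy.1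
      have h1 := (hX.X_le_xKer hc).2 y' hy'X
      rw [show g0 * y * g0⁻¹ = c * y' * c⁻¹ by rw [hy', hg]; group,
        show y⁻¹ * (c * y' * c⁻¹) = y⁻¹ * y' * (y'⁻¹ * (c * y' * c⁻¹)) by group]
      exact mul_mem hmain h1
    set y' := g * y * g⁻¹ with hy'
    have hy'C := B.fix_stab hX hK h hcardX g hgN hgu y hy
    have hdC : y⁻¹ * y' ∈ fixCos X E K1p :=
      (hC0 _).1 (C0.mul_mem (C0.inv_mem ((hC0 y).2 hy)) ((hC0 y').2 hy'C))
    have hval : u⁻¹ * (y * u * y⁻¹) ∈ E := (hX.X_le_xKer hy.1).2 u hX.u_X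
    have hsame : y' * u * y'⁻¹ = y * u * y⁻¹ := by
      calc y' * u * y'⁻¹ = g * (y * (g⁻¹ * u * g) * y⁻¹) * g⁻¹ := by rw [hy']; group
        _ = g * (u * (u⁻¹ * (y * u * y⁻¹))) * g⁻¹ := by
          rw [show g⁻¹ * u * g = u by rw [mul_assoc, ← hgu.eq, inv_mul_cancel_left], mul_inv_cancel_left]
        _ = y * u * y⁻¹ := by rw [(hgu.mul_right (hgE _ hval)).eq, mul_inv_cancel_right, mul_inv_cancel_left]
    have hdT : y⁻¹ * y' ∈ tSub T := (hX.mem_T _).2 ⟨mul_mem (inv_mem hy.1) hy'C.1, by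
      calc y⁻¹ * y' * u = y⁻¹ * (y' * u * y'⁻¹) * y' := by group
        _ = y⁻¹ * (y * u * y⁻¹) * y' := by rw [hsame]
        _ = u * (y⁻¹ * y') := by group⟩
    refine (hK.fix_T _ hdC hdT).elim id fun h2 => ?_
    -- otherwise `y` commutes with `u`
    have hu2 : u * u = 1 := Invol.mul_self B.hu
    set f := u⁻¹ * (y⁻¹ * y') with hf
    have hy'e : y' = y * u * f := by rw [hf]; group
    have hsq : y' * y' = y * y := by
      rw [hy', show g * y * g⁻¹ * (g * y * g⁻¹) = g * (y * y) * g⁻¹ by group,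
        (hgE _ (hX.X_sq y hy.1)).eq, mul_inv_cancel_right]
    rw [hy'e, (hX.E_cen f h2 (y * u) (mul_mem hy.1 hX.u_X)).mul_mul_mul_comm, hX.E_sq f h2, mul_one] at hsq
    have hyu : Commute y u := by
      have h3 : u * y * u = y := mul_left_cancel (a := y) (by rw [← hsq]; group)
      calc y * u = u * y * u * u := by rw [h3]
        _ = u * y := by rw [mul_assoc, hu2, mul_one]
    have hgy : Commute g y := by
      rcases hK.fix_T y hy ((hX.mem_T y).2 ⟨hy.1, hyu⟩) with h4 | h4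
      · exact hgE y h4
      · rw [show y = u * (u⁻¹ * y) from (mul_inv_cancel_left u y).symm]
        exact hgu.mul_right (hgE _ h4)
    rw [hy', hgy.eq, mul_inv_cancel_right, inv_mul_cancel]
    exact one_mem E
  ncard_fix := hK.ncard_fix
  moved := by
    obtain ⟨z0, hz0, -, -, hz01, -, -⟩ := B.hE.two
    obtain ⟨c, hc, hcu⟩ := hX.trans z0 hz0
    obtain ⟨y, hy, hyc⟩ := hK.fix_cover c hc
    refine ⟨y, hy, fun hyu => hz01 ?_⟩
    have h1 : Commute c u := by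
      rw [show c = y * (y⁻¹ * c) from (mul_inv_cancel_left y c).symm]
      exact hyu.mul_left (B.mem_u hyc)
    rw [h1.eq, mul_inv_cancel_right] at hcu
    exact mul_eq_left.1 hcu.symm

omit hX hK in
/-- Each involution of `E` has `q (q + 1)` roots in `Q`. -/
theorem card_roots : ∀ e ∈ E, e ≠ 1 → {z | z ∈ Q ∧ z * z = e}.ncard = 2 ^ r * (2 ^ r + 1) := by
  classical
  intro e0 he0 he01
  set q := 2 ^ r with hq
  let F := {z : Q // (z : G) ∉ E}
  let sq : F → {e : E // e ≠ 1} := fun z =>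
    ⟨⟨(z.1 : G) * z.1, B.hL.sq _ z.1.2⟩, fun e => z.2 (B.hL.mem_eset _ z.1.2 (congrArg Subtype.val e))⟩
  have hfib : ∀ e : {e : E // e ≠ 1}, Nat.card {z : F // sq z = e} = {z | z ∈ Q ∧ z * z = e0}.ncard := by
    rintro ⟨⟨e, he⟩, he1⟩
    have he1' : e ≠ 1 := fun h => he1 (Subtype.ext h)
    rw [← Nat.card_coe_set_eq]
    obtain ⟨k, hk, hke⟩ := B.hL.K_trans e he e0 he0 he1' he01
    have hinv : ∀ z : G, z * z = e0 → k⁻¹ * z * k * (k⁻¹ * z * k) = e := fun z hz => by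
      rw [show k⁻¹ * z * k * (k⁻¹ * z * k) = k⁻¹ * (z * z) * k by group, hz, ← hke]; group
    have hQinv : ∀ z ∈ Q, k⁻¹ * z * k ∈ Q := fun z hz => by
      have h1 := (B.hL.K_normQ k⁻¹ (inv_mem (mem_sup_left hk)) z).2 hz
      rwa [inv_inv] at h1
    refine Nat.card_congr ⟨fun z => ⟨k * (z.1.1 : G) * k⁻¹, (B.hL.K_normQ k (mem_sup_left hk) _).2 z.1.1.2, ?_⟩,
      fun z => ⟨⟨⟨k⁻¹ * z.1 * k, hQinv _ z.2.1⟩, fun h => ?_⟩, Subtype.ext (Subtype.ext (hinv _ z.2.2))⟩,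
      fun z => ?_, fun z => ?_⟩
    · rw [show k * (z.1.1 : G) * k⁻¹ * (k * (z.1.1 : G) * k⁻¹) = k * ((z.1.1 : G) * z.1.1) * k⁻¹ by group,
        show (z.1.1 : G) * z.1.1 = e from congrArg (fun e : {e : E // e ≠ 1} => (e.1 : G)) z.2, hke]
    · exact he1' ((hinv _ z.2.2).symm.trans (B.hE.sq _ h))
    · exact Subtype.ext (Subtype.ext (Subtype.ext (by group)))
    · exact Subtype.ext (by group)
  have h1 := Nat.card_congr (Equiv.sigmaFiberEquiv sq)
  haveI := Fintype.ofFinite {e : E // e ≠ 1}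
  rw [Nat.card_sigma, Finset.sum_congr rfl fun e _ => hfib e, Finset.sum_const, Finset.card_univ,
    ← Nat.card_eq_fintype_card, smul_eq_mul] at h1
  have hF : Nat.card F + q = q * q * q := by
    have h2 : {z : G | z ∈ Q ∧ z ∉ E}.ncard = Nat.card F := by
      rw [← Nat.card_coe_set_eq]
      exact Nat.card_congr ⟨fun z => ⟨⟨z.1, z.2.1⟩, z.2.2⟩, fun z => ⟨z.1.1, z.1.2, z.2⟩, fun _ => rfl, fun _ => rfl⟩
    have h3 := Set.ncard_sdiff_add_ncard_of_subset (s := (E : Set G)) (t := (Q : Set G)) B.hL.eset_le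
    rw [← Nat.card_coe_set_eq (E : Set G), ← Nat.card_coe_set_eq (Q : Set G), SetLike.coe_sort_coe,
      SetLike.coe_sort_coe, B.hL.card_eset, B.hL.card_Q] at h3
    rw [← h2, show q * q * q = 2 ^ (3 * r) by rw [hq, ← pow_add, ← pow_add]; ring_nf]
    exact h3
  have hE1 : Nat.card {e : E // e ≠ 1} + 1 = q := by
    have h2 := Set.ncard_sdiff_singleton_add_one (s := (Set.univ : Set E)) (Set.mem_univ 1)
    rw [Set.ncard_univ, B.hL.card_eset] at h2
    rw [show ((Set.univ : Set E) \ {1}) = {e | e ≠ 1} by ext; simp, ← Nat.card_coe_set_eq] at h2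
    exact h2
  have hq4 : 4 ≤ q := Nat.pow_le_pow_right two_pos B.hL.two_le
  obtain ⟨m, hm⟩ : ∃ m, q = m + 1 := ⟨q - 1, by omega⟩
  rw [show Nat.card {e : E // e ≠ 1} = m by omega] at h1
  refine Nat.eq_of_mul_eq_mul_left (show 0 < m by omega) (Nat.add_right_cancel (m := q) ?_)
  rw [h1, hF, hm]
  ring

end BaseCfg

end Cfsg.Agent.GoodInvol
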