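import Cfsg.Agent.Lib.GoodInvol.NoPair
import Cfsg.Agent.Lib.GoodInvol.LocalDefs

/-!
# The pointwise part without pairs, types other than unitary

A translate of an element of the pointwise part lies in the pointwise part at `w e`; it commutes with the
regular subgroup, so acts as a central element of it, an element of `E`, and its square fixes both point sets.
-/

set_option autoImplicit false
set_option linter.style.haveILetI false
set_option linter.unusedSectionVars false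

namespace Cfsg.Agent.GoodInvol

open Subgroup MulAction

universe u

variable {G : Type u} [Group G] [Finite G] {Ω : Type u} [MulAction G Ω] [Finite Ω] [FaithfulSMul G Ω] {D : Set G}

namespace Crit

variable (h : Crit D Ω) (hB : Below.{u} (Nat.card G)) (hgen : closure D = ⊤)
include h hB hgen

/-- Only one is a 2-element fixing the points fixed by `w` and those fixed by `w e`. -/
theorem eq_one_of_fix_both (hno : NoPairs G Ω) {w : G} (hw : orderOf w = 2) (hbad : ¬ OneFix Ω w) {e : G}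
    (he : e ∈ D) (hew : Commute e w) {z : G} (h2 : ∃ n : ℕ, orderOf z = 2 ^ n) (hzw : Commute z w)
    (hfix : ∀ p : Ω, w • p = p → z • p = p) (hfix' : ∀ p : Ω, (w * e) • p = p → z • p = p) : z = 1 := by
  obtain ⟨n, hn⟩ := h2
  rcases n with _ | i
  · exact orderOf_eq_one_iff.1 (by rw [hn, pow_zero])
  exfalso
  have hc2 : orderOf (z ^ 2 ^ i) = 2 := by
    rw [orderOf_pow' _ (by positivity), hn, Nat.gcd_eq_right (pow_dvd_pow 2 (Nat.le_succ i)), pow_succ,
      Nat.mul_div_cancel_left _ (by positivity)]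
  have hcw : z ^ 2 ^ i = w := hno w _ hw hbad hc2 (hzw.pow_left _).symm fun p hp =>
    mem_stabilizer_iff.1 (pow_mem (show z ∈ stabilizer G p from hfix p hp) _)
  have hwe : ∀ p : Ω, (w * e) • p = p → w • p = p := fun p hp => by
    rw [← hcw]
    exact mem_stabilizer_iff.1 (pow_mem (show z ∈ stabilizer G p from hfix' p hp) _)
  refine h.not_oneFix_mul hw hbad he hew fun p q hp hq => h.unique e he p q ?_ ?_
  · have h1 := hwe p hp
    rw [mul_smul] at hp
    exact MulAction.injective w (hp.trans h1.symm)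
  · have h1 := hwe q hq
    rw [mul_smul] at hq
    exact MulAction.injective w (hq.trans h1.symm)

/-- A translate of an element of the pointwise part in `T`: it centralises `E` and fixes the points fixed by `w e`. -/
theorem exists_translate_wker {w : G} (hw : orderOf w = 2) (hbad : ¬ OneFix Ω w) {a : Ω} (ha : w • a = a)
    (T : Sylow 2 (ptC w a)) {E : Subgroup G} (hE : ESet D w a ((T : Subgroup (ptC w a)).map (ptC w a).subtype) E)
    {e : G} (he : e ∈ E) {x : G} (hx : x ∈ wker Ω w ((T : Subgroup (ptC w a)).map (ptC w a).subtype)) :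
    ∃ g : G, g * w * g⁻¹ = w * e ∧ g * x * g⁻¹ ∈ (T : Subgroup (ptC w a)).map (ptC w a).subtype ∧
      (∀ f ∈ E, Commute (g * x * g⁻¹) f) ∧ ∀ p : Ω, (w * e) • p = p → (g * x * g⁻¹) • p = p := by
  classical
  haveI : Fact (Nat.Prime 2) := ⟨Nat.prime_two⟩
  set T' := (T : Subgroup (ptC w a)).map (ptC w a).subtype with hT'
  have hT : T' ≤ ptC w a := map_subtype_le _
  have hT2 : IsPGroup 2 T' := T.2.map _
  have hew : Commute e w := (mem_ptC.1 (hT (hE.le he))).1
  obtain ⟨g, ⟨hgN, hga⟩, hgw⟩ := h.exists_conj_coset hB hgen hw hbad ha hT hE he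
  have hga' : g • a = a := hga
  have hgfix : ∀ p : Ω, (w * e) • p = p → w • g⁻¹ • p = g⁻¹ • p := fun p hp => by
    rw [← hgw, mul_smul, mul_smul] at hp
    exact eq_inv_smul_iff.2 hp
  obtain ⟨hxw, hxa⟩ := mem_ptC.1 (hT hx.1)
  obtain ⟨k, hk⟩ := IsPGroup.iff_orderOf.1 hT2 ⟨x, hx.1⟩
  rw [Subgroup.orderOf_mk] at hk
  set y := g * x * g⁻¹ with hy
  have hyord : orderOf y = 2 ^ k := by rw [hy, Invol.order_conj, hk]
  have hya : y • a = a := by rw [hy, mul_smul, mul_smul, inv_smul_eq_iff.2 hga'.symm, hxa, hga']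
  have hyF' : ∀ p : Ω, (w * e) • p = p → y • p = p := fun p hp => by
    rw [hy, mul_smul, mul_smul, hx.2 _ (hgfix p hp), smul_inv_smul]
  have hyE : ∀ f ∈ E, Commute y f := fun f hf => by
    have hf' : g⁻¹ * f * g ∈ E := (hgN.1 _).1 (by rwa [show g * (g⁻¹ * f * g) * g⁻¹ = f by group])
    show g * x * g⁻¹ * f = f * (g * x * g⁻¹)
    calc g * x * g⁻¹ * f = g * (x * (g⁻¹ * f * g)) * g⁻¹ := by group
      _ = g * ((g⁻¹ * f * g) * x) * g⁻¹ := by rw [(h.commute_wker_eset hbad hT2 hT hE hx hf').eq]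
      _ = _ := by group
  have hyw : Commute y w := by
    have h1 := hxw.map (MulAut.conj g)
    simp only [MulAut.conj_apply] at h1
    rw [hgw] at h1
    have h2 := h1.mul_right (hyE e he)
    rwa [mul_assoc w, hE.sq e he, mul_one] at h2
  -- a conjugate of `y` in `T`
  set Nw : Subgroup G := ptC w a ⊓ Subgroup.normalizer (E : Set G) with hNw
  have hTNw : T' ≤ Nw := fun t ht =>
    ⟨hT ht, Subgroup.mem_normalizer_fintype fun z hz => hE.norm t ht z hz⟩
  obtain ⟨TN, hTN⟩ := (hT2.comap_subtype : IsPGroup 2 (T'.subgroupOf Nw)).exists_le_sylow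
  have hTN' : (TN : Subgroup Nw).map Nw.subtype = T' := by
    have h1 := T.3 (((TN.2.map Nw.subtype).comap_subtype) :
      IsPGroup 2 (((TN : Subgroup Nw).map Nw.subtype).subgroupOf (ptC w a))) fun t ht =>
        show ((t : ptC w a) : G) ∈ (TN : Subgroup Nw).map Nw.subtype from
          ⟨⟨t, hTNw ⟨t, ht, rfl⟩⟩, hTN ⟨t, ht, rfl⟩, rfl⟩
    rw [hT', ← h1, ← subgroupOf, subgroupOf_map_subtype, inf_eq_left.2]
    exact (map_subtype_le _).trans inf_le_left
  set Y := (Subgroup.centralizer (E : Set G)).subgroupOf Nw with hY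
  haveI : Y.Normal := ⟨fun z hz n => mem_subgroupOf.2 (mem_centralizer_iff.2 fun f hf => by
    have hf' : (n : G)⁻¹ * f * n ∈ E := by
      have := (mem_normalizer_iff.1 ((Subgroup.normalizer (E : Set G)).inv_mem n.2.2) f).1 hf
      rwa [inv_inv] at this
    show f * ((n : G) * z * (n : G)⁻¹) = (n : G) * z * (n : G)⁻¹ * f
    calc f * ((n : G) * z * (n : G)⁻¹) = n * (((n : G)⁻¹ * f * n) * z) * (n : G)⁻¹ := by group
      _ = n * ((z : G) * ((n : G)⁻¹ * f * n)) * (n : G)⁻¹ := by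
        rw [mem_centralizer_iff.1 (mem_subgroupOf.1 hz) _ hf']
      _ = _ := by group)⟩
  obtain ⟨PY, hPY⟩ := PBasic.exists_sylow_subgroupOf TN Y
  have hyX : y ∈ Nw := ⟨mem_ptC.2 ⟨hyw, hya⟩, Subgroup.mem_normalizer_fintype fun f hf => by
    rw [(hyE f hf).eq, mul_inv_cancel_right]; exact hf⟩
  set y0 : Y := ⟨⟨y, hyX⟩, mem_subgroupOf.2 (mem_centralizer_iff.2 fun f hf => (hyE f hf).symm.eq)⟩
  obtain ⟨P', hP'⟩ := (IsPGroup.of_card (n := k) (by
    rw [Nat.card_zpowers, ← Subgroup.orderOf_coe, ← Subgroup.orderOf_coe]; exact hyord) :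
      IsPGroup 2 (zpowers y0)).exists_le_sylow
  obtain ⟨c, hc⟩ := MulAction.exists_smul_eq Y P' PY
  have hm : c * y0 * c⁻¹ ∈ (PY : Subgroup Y) := by
    rw [← hc, Sylow.coe_subgroup_smul]
    exact ⟨y0, hP' (mem_zpowers y0), rfl⟩
  rw [hPY] at hm
  set cG : G := ((c : Nw) : G) with hcG
  have hcw : Commute cG w := (mem_ptC.1 (c : Nw).2.1).1
  have hcE : ∀ f ∈ E, Commute cG f := fun f hf => (mem_centralizer_iff.1 (mem_subgroupOf.1 c.2) f hf).symm
  set y' := cG * y * cG⁻¹ with hy'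
  have hy'T : y' ∈ T' := by
    rw [← hTN']
    exact ⟨_, hm, rfl⟩
  have hy'E : ∀ f ∈ E, Commute y' f := fun f hf => ((hcE f hf).mul_left (hyE f hf)).mul_left (hcE f hf).inv_left
  have hy'F' : ∀ p : Ω, (w * e) • p = p → y' • p = p := fun p hp => by
    have hcwe : Commute cG⁻¹ (w * e) := hcw.inv_left.mul_right (hcE e he).inv_left
    have h1 : (w * e) • cG⁻¹ • p = cG⁻¹ • p := by rw [← mul_smul, ← hcwe.eq, mul_smul, hp]
    rw [hy', mul_smul, mul_smul, hyF' _ h1, smul_inv_smul]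
  have e1 : cG * g * x * (cG * g)⁻¹ = y' := by rw [hy', hy]; group
  refine ⟨cG * g, ?_, e1.symm ▸ hy'T, fun f hf => e1.symm ▸ hy'E f hf, fun p hp => e1.symm ▸ hy'F' p hp⟩
  rw [show cG * g * w * (cG * g)⁻¹ = cG * (g * w * g⁻¹) * cG⁻¹ by group, hgw,
    (hcw.mul_right (hcE e he)).eq, mul_inv_cancel_right]

/-- The pointwise part is `⟨w⟩`. -/
theorem wker_eq_of_local (hno : NoPairs G Ω) {w : G} (hw : orderOf w = 2) (hbad : ¬ OneFix Ω w) {a x0 : Ω}
    (ha : w • a = a) (T : Sylow 2 (ptC w a)) {E Q K K1 : Subgroup G} {r ε : ℕ}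
    (hE : ESet D w a ((T : Subgroup (ptC w a)).map (ptC w a).subtype) E)
    (hL : Local D w a x0 ((T : Subgroup (ptC w a)).map (ptC w a).subtype) E Q K K1 r ε) (hε : ε ≠ 3) :
    ∀ x ∈ wker Ω w ((T : Subgroup (ptC w a)).map (ptC w a).subtype), x = 1 ∨ x = w := by
  classical
  haveI : Fact (Nat.Prime 2) := ⟨Nat.prime_two⟩
  set T' := (T : Subgroup (ptC w a)).map (ptC w a).subtype with hT'
  have hT : T' ≤ ptC w a := map_subtype_le _
  have hT2 : IsPGroup 2 T' := T.2.map _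
  intro x hx
  have hxw : Commute x w := (mem_ptC.1 (hT hx.1)).1
  obtain ⟨e, he, -, -, he1, -, -⟩ := hE.two
  have hew : Commute e w := (mem_ptC.1 (hT (hE.le he))).1
  have heD : e ∈ D := (((hE.mem e).1 he).resolve_left he1).1
  obtain ⟨g, -, hy'T, hy'E, hy'F'⟩ := h.exists_translate_wker hB hgen hw hbad ha T hE he hx
  set y' := g * x * g⁻¹ with hy'
  obtain ⟨hy'w, -⟩ := mem_ptC.1 (hT hy'T)
  obtain ⟨yq, hyq, hact⟩ := hL.cent hε y' (hT hy'T) fun f hf => hy'E f hf
  obtain ⟨k1, hk1, hyk⟩ := hL.exists_wker_mul hy'T hyq hact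
  have hyqE : yq ∈ E := hL.center hε yq hyq fun z hz => by
    have hzT := hL.Q_le hz
    have hcomm : y' * z * y'⁻¹ * z⁻¹ = yq * z * yq⁻¹ * z⁻¹ := by
      rw [hyk, show yq * k1 * z * (yq * k1)⁻¹ = yq * (k1 * z * k1⁻¹) * yq⁻¹ by group,
        (hL.Q_wker k1 hk1 z hz).eq, mul_inv_cancel_right]
    have hfE : y' * z * y'⁻¹ * z⁻¹ ∈ E := hcomm ▸ hL.comm yq hyq z hz
    have hzwe : Commute z⁻¹ (w * e) :=
      ((mem_ptC.1 (hT hzT)).1.inv_left).mul_right (hL.cen e he z hz).symm.inv_left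
    have h1 : y' * z * y'⁻¹ * z⁻¹ = 1 := by
      rcases (hE.mem _).1 hfE with h1 | ⟨hD, -⟩
      · exact h1
      exfalso
      have hfix : ∀ p : Ω, (w * e) • p = p → (y' * z * y'⁻¹ * z⁻¹) • p = p := fun p hp => by
        have h2 : (w * e) • z⁻¹ • p = z⁻¹ • p := by rw [← mul_smul, ← hzwe.eq, mul_smul, hp]
        have h3 : y'⁻¹ • z⁻¹ • p = z⁻¹ • p := inv_smul_eq_iff.2 (hy'F' _ h2).symm
        rw [mul_smul, mul_smul, mul_smul, h3, smul_inv_smul, hy'F' p hp]
      exact h.not_oneFix_mul hw hbad heD hew fun p q hp hq => h.unique _ hD p q (hfix p hp) (hfix q hq)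
    rw [hcomm, mul_inv_eq_one] at h1
    exact mul_inv_eq_iff_eq_mul.1 h1
  have hk1y : Commute k1 yq := hL.Q_wker k1 hk1 yq hyq
  have hy'2 : y' * y' = k1 * k1 := by
    rw [hyk, mul_assoc, ← mul_assoc k1, hk1y.eq, ← mul_assoc, ← mul_assoc, hE.sq yq hyqE, one_mul]
  have hy'21 : y' * y' = 1 := by
    obtain ⟨n, hn⟩ := IsPGroup.iff_orderOf.1 hT2 ⟨_, T'.mul_mem hy'T hy'T⟩
    rw [Subgroup.orderOf_mk] at hn
    refine h.eq_one_of_fix_both hB hgen hno hw hbad heD hew ⟨n, hn⟩ (hy'w.mul_left hy'w) (fun p hp => ?_) fun p hp => ?_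
    · rw [hy'2, mul_smul, hk1.2 p hp, hk1.2 p hp]
    · rw [mul_smul, hy'F' p hp, hy'F' p hp]
  have hx2 : x * x = 1 := by
    have h1 : g * (x * x) * g⁻¹ = 1 := by
      rw [← hy'21, hy']; group
    exact conj_eq_one_iff.1 h1
  by_cases hx1 : x = 1
  · exact Or.inl hx1
  · exact Or.inr (hno w x hw hbad (Invol.order_two_of_sq hx2 hx1) hxw.symm hx.2)

end Crit

end Cfsg.Agent.GoodInvol
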